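import Mathlib.RingTheory.Jacobson.Ring
import Mathlib.FieldTheory.IsAlgClosed.Basic
import Mathlib.LinearAlgebra.TensorProduct.Basis
import Mathlib.RingTheory.TensorProduct.Maps
import Mathlib.LinearAlgebra.Basis.VectorSpace

/-!
# Nullstellensatz in the form "enough points" for finitely generated algebras over an algebraically
closed field, and tensor products
-/

set_option autoImplicit false

universe u v w

open TensorProduct

namespace Groth.Agent.Sga3B.RG

section Linear

variable {K : Type u} [Field K] {V : Type v} {W : Type w} [AddCommGroup V] [Module K V]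
  [AddCommGroup W] [Module K W]

/-- A tensor killed by `f ⊗ id` for a separating family of functionals `f` is zero. -/
theorem tensor_eq_zero_of_rTensor {F : Set (V →ₗ[K] K)} (hF : ∀ v, (∀ f ∈ F, f v = 0) → v = 0)
    (z : V ⊗[K] W) (hz : ∀ f ∈ F, (TensorProduct.lid K W) (LinearMap.rTensor W f z) = 0) :
    z = 0 := by
  classical
  let b := Module.Basis.ofVectorSpace K W
  apply (TensorProduct.equivFinsuppOfBasisRight (M := V) b).injective
  rw [map_zero]
  ext i
  rw [Finsupp.zero_apply]
  apply hF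
  intro f hf
  have key : ∀ y : V ⊗[K] W, f (TensorProduct.equivFinsuppOfBasisRight b y i) =
      b.repr ((TensorProduct.lid K W) (LinearMap.rTensor W f y)) i := by
    intro y
    induction y with
    | zero => simp
    | add x y hx hy => simp only [map_add, Finsupp.add_apply, hx, hy]
    | tmul x y =>
      rw [TensorProduct.equivFinsuppOfBasisRight_apply_tmul_apply]
      simp [mul_comm]
  rw [key, hz f hf]
  simp

/-- A tensor killed by `f ⊗ g` for separating families of functionals is zero. -/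
theorem tensor_eq_zero_of_forall {F : Set (V →ₗ[K] K)} (hF : ∀ v, (∀ f ∈ F, f v = 0) → v = 0)
    {G : Set (W →ₗ[K] K)} (hG : ∀ v, (∀ f ∈ G, f v = 0) → v = 0)
    (z : V ⊗[K] W) (hz : ∀ f ∈ F, ∀ g ∈ G, LinearMap.mul' K K (TensorProduct.map f g z) = 0) :
    z = 0 := by
  apply tensor_eq_zero_of_rTensor hF
  intro f hf
  apply hG
  intro g hg
  rw [← hz f hf g hg]
  clear hz
  induction z with
  | zero => simp
  | add x y hx hy => simp only [map_add, hx, hy]
  | tmul x y => simp

end Linear

section Alg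

variable {K : Type u} [Field K] [IsAlgClosed K] {B : Type v} [CommRing B] [Algebra K B]
  [Algebra.FiniteType K B]

theorem exists_algHom_of_isMaximal (m : Ideal B) [hm : m.IsMaximal] :
    ∃ f : B →ₐ[K] K, ∀ a, f a = 0 ↔ a ∈ m := by
  let _ : Field (B ⧸ m) := Ideal.Quotient.field m
  have : Algebra.FiniteType K (B ⧸ m) := inferInstance
  have : Module.Finite K (B ⧸ m) := finite_of_finite_type_of_isJacobsonRing K (B ⧸ m)
  have hbij := IsAlgClosed.algebraMap_bijective_of_isIntegral (k := K) (K := B ⧸ m)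
  let e : K ≃ₐ[K] (B ⧸ m) := AlgEquiv.ofBijective (Algebra.ofId K (B ⧸ m)) hbij
  refine ⟨e.symm.toAlgHom.comp (Ideal.Quotient.mkₐ K m), fun a => ?_⟩
  rw [AlgHom.comp_apply]
  change e.symm _ = 0 ↔ _
  rw [map_eq_zero_iff _ e.symm.injective]
  exact Ideal.Quotient.eq_zero_iff_mem

/-- Nullstellensatz: an element outside the radical of `J` does not vanish at some `K`-point of
`V(J)`. -/
theorem exists_algHom_of_notMem_radical {J : Ideal B} {a : B} (ha : a ∉ J.radical) :
    ∃ f : B →ₐ[K] K, (∀ x ∈ J, f x = 0) ∧ f a ≠ 0 := by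
  have hJ : IsJacobsonRing B := isJacobsonRing_of_finiteType (A := K)
  rw [← hJ.out (Ideal.radical_isRadical J), Ideal.jacobson, Ideal.mem_sInf] at ha
  push Not at ha
  obtain ⟨m, ⟨hm1, hm2⟩, hm3⟩ := ha
  obtain ⟨f, hf⟩ := exists_algHom_of_isMaximal (K := K) m
  exact ⟨f, fun x hx => (hf x).2 (hm1 (Ideal.le_radical hx)), fun h => hm3 ((hf a).1 h)⟩

theorem exists_algHom_of_notMem_of_isPrime {J : Ideal B} [hJ : J.IsPrime] {a : B} (ha : a ∉ J) :
    ∃ f : B →ₐ[K] K, (∀ x ∈ J, f x = 0) ∧ f a ≠ 0 :=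
  exists_algHom_of_notMem_radical (by rwa [hJ.radical])

theorem exists_algHom_ne_zero [IsReduced B] {a : B} (ha : a ≠ 0) : ∃ f : B →ₐ[K] K, f a ≠ 0 := by
  obtain ⟨f, -, hf⟩ := exists_algHom_of_notMem_radical (K := K) (J := (⊥ : Ideal B)) (a := a) (by
    intro h
    obtain ⟨n, hn⟩ := h
    exact ha (IsReduced.eq_zero a ⟨n, by simpa using hn⟩))
  exact ⟨f, hf⟩

theorem exists_algHom_of_ne_top {J : Ideal B} (hJ : J ≠ ⊤) :
    ∃ f : B →ₐ[K] K, ∀ x ∈ J, f x = 0 := by
  obtain ⟨f, hf, -⟩ := exists_algHom_of_notMem_radical (K := K) (J := J) (a := 1) (by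
    rwa [← Ideal.eq_top_iff_one, Ideal.radical_eq_top])
  exact ⟨f, hf⟩

/-- Points separate the elements of a reduced algebra. -/
theorem eq_zero_of_forall_algHom [IsReduced B] {a : B} (h : ∀ f : B →ₐ[K] K, f a = 0) : a = 0 := by
  by_contra ha
  obtain ⟨f, hf⟩ := exists_algHom_ne_zero (K := K) ha
  exact hf (h f)

variable {C : Type w} [CommRing C] [Algebra K C]

/-- For a point `f` of `B`, the algebra map `B ⊗ C → C`. -/
noncomputable def evLeft (C : Type w) [CommRing C] [Algebra K C] (f : B →ₐ[K] K) :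
    B ⊗[K] C →ₐ[K] C :=
  (Algebra.TensorProduct.lid K C).toAlgHom.comp (Algebra.TensorProduct.map f (AlgHom.id K C))

omit [IsAlgClosed K] [Algebra.FiniteType K B] in
@[simp] lemma evLeft_tmul (f : B →ₐ[K] K) (b : B) (c : C) : evLeft C f (b ⊗ₜ c) = f b • c := by
  simp [evLeft]

theorem tensor_eq_zero_of_evLeft [IsReduced B] (z : B ⊗[K] C) (hz : ∀ f : B →ₐ[K] K, evLeft C f z = 0) :
    z = 0 := by
  apply tensor_eq_zero_of_rTensor (F := Set.range (fun f : B →ₐ[K] K => f.toLinearMap))
  · intro v hv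
    exact eq_zero_of_forall_algHom (K := K) fun f => hv _ ⟨f, rfl⟩
  · rintro _ ⟨f, rfl⟩
    exact hz f

instance isReduced_tensor [IsReduced B] [IsReduced C] : IsReduced (B ⊗[K] C) := by
  constructor
  rintro z ⟨n, hn⟩
  apply tensor_eq_zero_of_evLeft
  intro f
  apply IsReduced.eq_zero
  exact ⟨n, by rw [← map_pow, hn, map_zero]⟩

/-- For `z ≠ 0` in `B ⊗ C` there is a nonzero `b : B` such that `z` stays nonzero at the points of
`B` where `b` does not vanish. -/
theorem exists_evLeft_ne_zero {z : B ⊗[K] C} (hz : z ≠ 0) :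
    ∃ b : B, b ≠ 0 ∧ ∀ f : B →ₐ[K] K, f b ≠ 0 → evLeft C f z ≠ 0 := by
  classical
  let e := Module.Basis.ofVectorSpace K C
  have h1 : TensorProduct.equivFinsuppOfBasisRight (M := B) e z ≠ 0 := by
    intro h
    exact hz ((TensorProduct.equivFinsuppOfBasisRight (M := B) e).injective (by rw [h, map_zero]))
  obtain ⟨i, hi⟩ := Finsupp.ne_iff.1 h1
  refine ⟨_, hi, fun f hf h0 => hf ?_⟩
  have key : ∀ y : B ⊗[K] C, f (TensorProduct.equivFinsuppOfBasisRight e y i) =
      e.repr (evLeft C f y) i := by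
    intro y
    induction y with
    | zero => simp
    | add x y hx hy => simp only [map_add, Finsupp.add_apply, hx, hy]
    | tmul x y =>
      rw [TensorProduct.equivFinsuppOfBasisRight_apply_tmul_apply]
      simp [mul_comm]
  rw [key, h0]
  simp

/-- The tensor product of two domains over an algebraically closed field, one of them finitely
generated, is a domain. -/
theorem isDomain_tensor [IsDomain B] [IsDomain C] : IsDomain (B ⊗[K] C) := by
  have hnt : Nontrivial (B ⊗[K] C) := by
    obtain ⟨f, -⟩ := exists_algHom_ne_zero (K := K) (one_ne_zero (α := B))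
    exact (evLeft C f).toRingHom.domain_nontrivial
  have : NoZeroDivisors (B ⊗[K] C) := by
    constructor
    intro z y hzy
    by_contra! h
    obtain ⟨b, hb, hb'⟩ := exists_evLeft_ne_zero h.1
    obtain ⟨c, hc, hc'⟩ := exists_evLeft_ne_zero h.2
    obtain ⟨f, hf⟩ := exists_algHom_ne_zero (K := K) (mul_ne_zero hb hc)
    rw [map_mul] at hf
    have h1 := hb' f (left_ne_zero_of_mul hf)
    have h2 := hc' f (right_ne_zero_of_mul hf)
    have h3 : evLeft C f z * evLeft C f y = 0 := by rw [← map_mul, hzy, map_zero]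
    exact (mul_ne_zero h1 h2) h3
  exact NoZeroDivisors.to_isDomain _

end Alg

end Groth.Agent.Sga3B.RG
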