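import Groth.Agent.Sga3B.RG.Coch
import Groth.Agent.Sga3B.RG.Nullst
import Mathlib.RingTheory.HopfAlgebra.Quotient
import Mathlib.RingTheory.Ideal.MinimalPrime.Noetherian
import Mathlib.Algebra.Group.Pointwise.Set.Basic

/-!
# Closed subgroups of the group of points of a Hopf algebra

Dictionary between closed subgroups of `Pt K A` and radical Hopf ideals of `A`.
-/

set_option autoImplicit false

universe u w

open WithConv TensorProduct Coalgebra
open scoped Pointwise

namespace Groth.Agent.Sga3B.RG

variable {K : Type u} [Field K] {A : Type u} [CommRing A] [HopfAlgebra K A]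

section Galois

lemma vanIdeal_anti {H H' : Set (Pt K A)} (h : H ⊆ H') : vanIdeal H' ≤ vanIdeal H :=
  fun _ ha x hx => ha x (h hx)

lemma zeros_anti {J J' : Ideal A} (h : J ≤ J') : (zeros J' : Set (Pt K A)) ⊆ zeros J :=
  fun _ hg a ha => hg a (h ha)

lemma subset_zeros_vanIdeal (H : Set (Pt K A)) : H ⊆ zeros (vanIdeal H) :=
  fun g hg _ ha => ha g hg

lemma le_vanIdeal_zeros (J : Ideal A) : J ≤ vanIdeal (zeros J : Set (Pt K A)) :=
  fun _ ha _ hg => hg _ ha

lemma isCl_zeros (J : Ideal A) : IsCl (zeros J : Set (Pt K A)) :=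
  zeros_anti (le_vanIdeal_zeros J)

lemma IsCl.eq {H : Set (Pt K A)} (h : IsCl H) : zeros (vanIdeal H) = H :=
  Set.Subset.antisymm h (subset_zeros_vanIdeal H)

lemma vanIdeal_zeros_vanIdeal (H : Set (Pt K A)) :
    vanIdeal (zeros (vanIdeal H) : Set (Pt K A)) = vanIdeal H :=
  le_antisymm (vanIdeal_anti (subset_zeros_vanIdeal H)) (le_vanIdeal_zeros _)

lemma IsCl.subset_iff {H H' : Set (Pt K A)} (h : IsCl H') : H ⊆ H' ↔ vanIdeal H' ≤ vanIdeal H :=
  ⟨vanIdeal_anti, fun hle => ((subset_zeros_vanIdeal H).trans (zeros_anti hle)).trans h⟩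

lemma IsCl.ext {H H' : Set (Pt K A)} (h : IsCl H) (h' : IsCl H') (he : vanIdeal H = vanIdeal H') :
    H = H' := by rw [← h.eq, ← h'.eq, he]

lemma isCl_iInter {ι : Sort*} {H : ι → Set (Pt K A)} (h : ∀ i, IsCl (H i)) : IsCl (⋂ i, H i) := by
  intro g hg
  rw [Set.mem_iInter]
  intro i
  exact h i (zeros_anti (vanIdeal_anti (Set.iInter_subset _ i)) hg)

lemma IsCl.inter {H H' : Set (Pt K A)} (h : IsCl H) (h' : IsCl H') : IsCl (H ∩ H') :=
  fun _ hg => ⟨h (zeros_anti (vanIdeal_anti Set.inter_subset_left) hg),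
    h' (zeros_anti (vanIdeal_anti Set.inter_subset_right) hg)⟩

lemma isCl_univ : IsCl (Set.univ : Set (Pt K A)) := Set.subset_univ _

lemma isCl_empty : IsCl (∅ : Set (Pt K A)) := by
  intro g hg
  have h1 : (1 : A) ∈ vanIdeal (∅ : Set (Pt K A)) := fun h hh => hh.elim
  have := hg 1 h1
  rw [show g (1 : A) = 1 from map_one g.ofConv] at this
  exact one_ne_zero this

lemma vanIdeal_union (H H' : Set (Pt K A)) : vanIdeal (H ∪ H') = vanIdeal H ⊓ vanIdeal H' := by
  ext a
  simp only [mem_vanIdeal, Ideal.mem_inf, Set.mem_union, or_imp, forall_and]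

lemma IsCl.union {H H' : Set (Pt K A)} (h : IsCl H) (h' : IsCl H') : IsCl (H ∪ H') := by
  intro g hg
  by_contra hcon
  rw [Set.mem_union, not_or] at hcon
  have h1 : ∃ a ∈ vanIdeal H, g a ≠ 0 := by
    by_contra! hh; exact hcon.1 (h hh)
  have h2 : ∃ a ∈ vanIdeal H', g a ≠ 0 := by
    by_contra! hh; exact hcon.2 (h' hh)
  obtain ⟨a, ha, ha'⟩ := h1
  obtain ⟨b, hb, hb'⟩ := h2
  have := hg (a * b) (by
    rw [vanIdeal_union]
    exact ⟨Ideal.mul_mem_right _ _ ha, Ideal.mul_mem_left _ _ hb⟩)
  rw [show g (a * b) = g a * g b from map_mul g.ofConv a b] at this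
  exact (mul_ne_zero ha' hb') this

lemma isCl_setOf_apply_eq_zero (a : A) : IsCl {g : Pt K A | g a = 0} := by
  intro g hg
  exact hg a fun h hh => hh

lemma vanIdeal_isRadical (H : Set (Pt K A)) : (vanIdeal H).IsRadical := by
  intro a ha h hh
  obtain ⟨n, hn⟩ := ha
  have := hn h hh
  rw [show h (a ^ n) = h a ^ n from map_pow h.ofConv a n] at this
  exact eq_zero_of_pow_eq_zero this

variable [IsAlgClosed K] [Algebra.FiniteType K A]

lemma vanIdeal_zeros (J : Ideal A) : vanIdeal (zeros J : Set (Pt K A)) = J.radical := by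
  apply le_antisymm
  · intro a ha
    by_contra hcon
    obtain ⟨f, hf, hfa⟩ := exists_algHom_of_notMem_radical (K := K) hcon
    exact hfa (ha (toConv f) hf)
  · exact (vanIdeal_isRadical _).radical_le_iff.2 (le_vanIdeal_zeros J)

lemma vanIdeal_univ [IsReduced A] : vanIdeal (Set.univ : Set (Pt K A)) = ⊥ := by
  rw [eq_bot_iff]
  intro a ha
  exact eq_zero_of_forall_algHom (K := K) fun f => ha (toConv f) (Set.mem_univ _)

lemma eq_zero_of_forall_pt [IsReduced A] {a : A} (h : ∀ g : Pt K A, g a = 0) : a = 0 :=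
  eq_zero_of_forall_algHom (K := K) fun f => h (toConv f)

lemma eq_of_forall_pt [IsReduced A] {a b : A} (h : ∀ g : Pt K A, g a = g b) : a = b := by
  rw [← sub_eq_zero]
  apply eq_zero_of_forall_pt (K := K)
  intro g
  rw [show g (a - b) = g a - g b from map_sub g.ofConv a b, h, sub_self]

lemma isConn_univ [IsDomain A] : IsConn (Set.univ : Set (Pt K A)) := by
  rw [IsConn, vanIdeal_univ]
  exact Ideal.isPrime_bot

end Galois

section Translations

lemma rTr_apply_pt (g x : Pt K A) (a : A) : x (rTr g a) = (x * g) a := by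
  rw [Pt.mul_apply]
  change x.ofConv ((Algebra.TensorProduct.rid K K A) (Algebra.TensorProduct.map (AlgHom.id K A)
    g.ofConv (comul (R := K) a))) = _
  induction comul (R := K) a with
  | zero => simp
  | add x y hx hy => simp only [map_add, hx, hy]
  | tmul b c => simp [mul_comm]

lemma lTr_apply_pt (g x : Pt K A) (a : A) : x (lTr g a) = (g⁻¹ * x) a := by
  rw [Pt.mul_apply]
  change x.ofConv ((Algebra.TensorProduct.lid K A) (Algebra.TensorProduct.map
    (g⁻¹).ofConv (AlgHom.id K A) (comul (R := K) a))) = _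
  induction comul (R := K) a with
  | zero => simp
  | add x y hx hy => simp only [map_add, hx, hy]
  | tmul b c => simp

variable [IsAlgClosed K] [Algebra.FiniteType K A] [IsReduced A]

lemma rTr_mul (g h : Pt K A) (a : A) : rTr (g * h) a = rTr g (rTr h a) := by
  apply eq_of_forall_pt (K := K)
  intro x
  simp only [rTr_apply_pt, mul_assoc]

lemma lTr_mul (g h : Pt K A) (a : A) : lTr (g * h) a = lTr g (lTr h a) := by
  apply eq_of_forall_pt (K := K)
  intro x
  simp only [lTr_apply_pt, mul_inv_rev, mul_assoc]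

lemma rTr_one (a : A) : rTr (1 : Pt K A) a = a := by
  apply eq_of_forall_pt (K := K)
  intro x
  simp only [rTr_apply_pt, mul_one]

lemma lTr_one (a : A) : lTr (1 : Pt K A) a = a := by
  apply eq_of_forall_pt (K := K)
  intro x
  simp only [lTr_apply_pt, inv_one, one_mul]

lemma rTr_lTr (g h : Pt K A) (a : A) : rTr g (lTr h a) = lTr h (rTr g a) := by
  apply eq_of_forall_pt (K := K)
  intro x
  simp only [lTr_apply_pt, rTr_apply_pt, mul_assoc]

/-- Right translations as a group homomorphism. -/
noncomputable def rTrHom (K : Type u) [Field K] (A : Type u) [CommRing A] [HopfAlgebra K A]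
    [IsAlgClosed K] [Algebra.FiniteType K A] [IsReduced A] : Pt K A →* (A →ₐ[K] A) where
  toFun := rTr
  map_one' := by ext a; exact rTr_one a
  map_mul' g h := by ext a; exact rTr_mul g h a

/-- Left translations as a group homomorphism. -/
noncomputable def lTrHom (K : Type u) [Field K] (A : Type u) [CommRing A] [HopfAlgebra K A]
    [IsAlgClosed K] [Algebra.FiniteType K A] [IsReduced A] : Pt K A →* (A →ₐ[K] A) where
  toFun := lTr
  map_one' := by ext a; exact lTr_one a
  map_mul' g h := by ext a; exact lTr_mul g h a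

/-- Right translation as a representation of the group of points. -/
noncomputable def rTrRep (K : Type u) [Field K] (A : Type u) [CommRing A] [HopfAlgebra K A]
    [IsAlgClosed K] [Algebra.FiniteType K A] [IsReduced A] : Representation K (Pt K A) A where
  toFun g := (rTr g).toLinearMap
  map_one' := by ext a; exact rTr_one a
  map_mul' g h := by ext a; exact rTr_mul g h a

/-- Left translation as a representation of the group of points. -/
noncomputable def lTrRep (K : Type u) [Field K] (A : Type u) [CommRing A] [HopfAlgebra K A]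
    [IsAlgClosed K] [Algebra.FiniteType K A] [IsReduced A] : Representation K (Pt K A) A where
  toFun g := (lTr g).toLinearMap
  map_one' := by ext a; exact lTr_one a
  map_mul' g h := by ext a; exact lTr_mul g h a

end Translations

section Subgroups

/-- The Zariski closure of a subgroup. -/
noncomputable def clSub (H : Subgroup (Pt K A)) : Subgroup (Pt K A) where
  carrier := zeros (vanIdeal (H : Set (Pt K A)))
  one_mem' := subset_zeros_vanIdeal _ H.one_mem
  inv_mem' := by
    intro x hx a ha
    rw [Pt.inv_apply]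
    apply hx
    intro h hh
    rw [← Pt.inv_apply]
    exact ha _ (H.inv_mem hh)
  mul_mem' := by
    intro y x hy hx a ha
    rw [← rTr_apply_pt]
    apply hy
    intro h hh
    rw [rTr_apply_pt]
    have h1 : (h * x) a = x (lTr h⁻¹ a) := by rw [lTr_apply_pt, inv_inv]
    rw [h1]
    apply hx
    intro h' hh'
    rw [lTr_apply_pt, inv_inv]
    exact ha _ (H.mul_mem hh hh')

lemma le_clSub (H : Subgroup (Pt K A)) : H ≤ clSub H := subset_zeros_vanIdeal _

lemma isCl_clSub (H : Subgroup (Pt K A)) : IsCl (clSub H : Set (Pt K A)) := isCl_zeros _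

lemma vanIdeal_clSub (H : Subgroup (Pt K A)) :
    vanIdeal (clSub H : Set (Pt K A)) = vanIdeal (H : Set (Pt K A)) :=
  vanIdeal_zeros_vanIdeal _

lemma clSub_le {H H' : Subgroup (Pt K A)} (h : H ≤ H') (h' : IsCl (H' : Set (Pt K A))) :
    clSub H ≤ H' := by
  intro g hg
  exact h' (zeros_anti (vanIdeal_anti h) hg)

/-- The vanishing ideal of a subgroup is a Hopf ideal. -/
instance isHopfIdeal_vanIdeal (H : Subgroup (Pt K A)) :
    (vanIdeal (H : Set (Pt K A))).IsHopfIdeal K where
  counit_eq_zero := by
    intro a ha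
    have h1 := ha 1 H.one_mem
    rwa [Pt.one_apply] at h1
  map_mkQ_comul_eq_zero := by
    intro a ha
    set J := vanIdeal (H : Set (Pt K A)) with hJ
    let F : Set ((A ⧸ J.restrictScalars K) →ₗ[K] K) :=
      {f | ∃ h ∈ H, f ∘ₗ (J.restrictScalars K).mkQ = h.ofConv.toLinearMap}
    have hF : ∀ v, (∀ f ∈ F, f v = 0) → v = 0 := by
      intro v hv
      obtain ⟨b, rfl⟩ := (J.restrictScalars K).mkQ_surjective v
      rw [Submodule.mkQ_apply, Submodule.Quotient.mk_eq_zero]
      change b ∈ J
      intro h hh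
      have hle : J.restrictScalars K ≤ LinearMap.ker h.ofConv.toLinearMap := fun c hc => hc h hh
      have := hv ((J.restrictScalars K).liftQ h.ofConv.toLinearMap hle)
        ⟨h, hh, Submodule.liftQ_mkQ _ _ _⟩
      simpa using this
    apply tensor_eq_zero_of_forall hF hF
    rintro f ⟨h, hh, hf⟩ f' ⟨h', hh', hf'⟩
    have key : ∀ z : A ⊗[K] A, LinearMap.mul' K K (TensorProduct.map f f'
        (TensorProduct.map (J.restrictScalars K).mkQ (J.restrictScalars K).mkQ z)) =
        Algebra.TensorProduct.lift h.ofConv h'.ofConv (fun _ _ ↦ .all ..) z := by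
      intro z
      induction z with
      | zero => simp
      | add x y hx hy => simp only [map_add, hx, hy]
      | tmul b c =>
        have e1 : f ((J.restrictScalars K).mkQ b) = h.ofConv b := congr($hf b)
        have e2 : f' ((J.restrictScalars K).mkQ c) = h'.ofConv c := congr($hf' c)
        simp only [TensorProduct.map_tmul, LinearMap.mul'_apply,
          Algebra.TensorProduct.lift_tmul, e1, e2]
    refine (key _).trans ?_
    rw [← Pt.mul_apply]
    exact ha _ (H.mul_mem hh hh')
  antipode_mem := by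
    intro a ha h hh
    rw [← Pt.inv_apply]
    exact ha _ (H.inv_mem hh)

end Subgroups

end Groth.Agent.Sga3B.RG
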