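import Mathlib.LinearAlgebra.LinearIndependent.Basic
import Mathlib.FieldTheory.LinearDisjoint
import Mathlib.RepresentationTheory.Basic
import Mathlib.LinearAlgebra.Dual.Basis

/-!
# Weight decomposition with respect to a family of characters

`σ : D →* (V →ₗ[K] V)` is a representation of a commutative monoid all of whose matrix coefficients
are linear combinations of the pairwise different characters `χ m`, `m : M`.  Then `V` is the direct
sum of the weight spaces; we record the projections.
-/

set_option autoImplicit false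
universe u v w

namespace Groth.Agent.Sga3B.RG.WtDec

variable {K : Type u} [Field K] {V : Type v} [AddCommGroup V] [Module K V]
variable {D : Type*} [CommMonoid D] {M : Type*} (χ : M → D →* K) (σ : D →* (V →ₗ[K] V))

/-- the weight space of `m` -/
def wt (m : M) : Submodule K V where
  carrier := {v | ∀ t, σ t v = χ m t • v}
  add_mem' := by
    intro a b ha hb t
    rw [map_add, ha t, hb t, smul_add]
  zero_mem' := by simp
  smul_mem' := by
    intro c x hx t
    rw [map_smul, hx t, smul_comm]

variable {χ σ}

theorem mem_wt {m : M} {v : V} : v ∈ wt χ σ m ↔ ∀ t, σ t v = χ m t • v := Iff.rfl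

theorem coeff_eq_zero (hχ : Function.Injective χ) (S : Finset M) (c : M → K)
    (h : ∀ t, ∑ m ∈ S, c m * χ m t = 0) : ∀ m ∈ S, c m = 0 := by
  have h1 := (linearIndependent_monoidHom D K).comp χ hχ
  rw [linearIndependent_iff'] at h1
  intro m hm
  refine h1 S c ?_ m hm
  funext t
  simp only [Function.comp_apply, Finset.sum_apply, Pi.smul_apply, smul_eq_mul, Pi.zero_apply]
  exact h t

theorem vec_eq_zero (hχ : Function.Injective χ) (S : Finset M) (u : M → V)
    (h : ∀ t, ∑ m ∈ S, χ m t • u m = 0) : ∀ m ∈ S, u m = 0 := by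
  intro m hm
  rw [← Module.forall_dual_apply_eq_zero_iff K]
  intro f
  refine coeff_eq_zero hχ S (fun m => f (u m)) (fun t => ?_) m hm
  have := congrArg f (h t)
  rw [map_sum, map_zero] at this
  rw [← this]
  refine Finset.sum_congr rfl fun n _ => ?_
  rw [map_smul, smul_eq_mul, mul_comm]

/-- A weight decomposition of the representation `σ`. -/
structure Dec (χ : M → D →* K) (σ : D →* (V →ₗ[K] V)) where
  /-- the (finite) set of possible weights -/
  S : Finset M
  /-- the projections -/
  P : M → (V →ₗ[K] V)
  P_eq_zero : ∀ m, m ∉ S → P m = 0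
  sum_smul : ∀ t v, ∑ m ∈ S, χ m t • P m v = σ t v

namespace Dec

variable (d : Dec χ σ)

theorem sum_P (v : V) : ∑ m ∈ d.S, d.P m v = v := by
  have := d.sum_smul 1 v
  simpa using this

theorem P_comm (hχ : Function.Injective χ) (m : M) (s : D) (v : V) :
    d.P m (σ s v) = χ m s • d.P m v := by
  classical
  by_cases hm : m ∈ d.S
  · rw [← sub_eq_zero]
    refine vec_eq_zero hχ d.S (fun m => d.P m (σ s v) - χ m s • d.P m v) (fun t => ?_) m hm
    simp_rw [smul_sub, Finset.sum_sub_distrib, smul_smul, ← map_mul, d.sum_smul]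
    rw [sub_eq_zero, map_mul]
    rfl
  · rw [d.P_eq_zero m hm]; simp

theorem σ_P (hχ : Function.Injective χ) (m : M) (s : D) (v : V) :
    σ s (d.P m v) = χ m s • d.P m v := by
  classical
  by_cases hm : m ∈ d.S
  · rw [← sub_eq_zero]
    refine vec_eq_zero hχ d.S (fun m => σ s (d.P m v) - χ m s • d.P m v) (fun t => ?_) m hm
    have h1 : ∑ m ∈ d.S, χ m t • σ s (d.P m v) = σ s (σ t v) := by
      rw [← d.sum_smul t v, map_sum]
      exact Finset.sum_congr rfl fun _ _ => (map_smul _ _ _).symm
    simp_rw [smul_sub, Finset.sum_sub_distrib, smul_smul, ← map_mul, d.sum_smul]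
    rw [h1, sub_eq_zero, mul_comm, map_mul]
    rfl
  · rw [d.P_eq_zero m hm]; simp

theorem P_mem (hχ : Function.Injective χ) (m : M) (v : V) : d.P m v ∈ wt χ σ m :=
  fun t => d.σ_P hχ m t v

theorem P_of_mem_of_ne (hχ : Function.Injective χ) {m n : M} {v : V} (hv : v ∈ wt χ σ n)
    (hmn : m ≠ n) : d.P m v = 0 := by
  obtain ⟨t, ht⟩ : ∃ t, χ m t ≠ χ n t := by
    by_contra h
    push Not at h
    exact hmn (hχ (MonoidHom.ext h))
  have h1 := d.P_comm hχ m t v
  rw [hv t, map_smul, ← sub_eq_zero, ← sub_smul] at h1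
  rcases smul_eq_zero.mp h1 with h2 | h2
  · exact absurd (sub_eq_zero.mp h2).symm ht
  · exact h2

theorem P_of_mem (hχ : Function.Injective χ) {m : M} {v : V} (hv : v ∈ wt χ σ m) :
    d.P m v = v := by
  classical
  conv_rhs => rw [← d.sum_P v]
  by_cases hm : m ∈ d.S
  · rw [← Finset.sum_erase_add _ _ hm, Finset.sum_eq_zero, zero_add]
    intro n hn
    exact d.P_of_mem_of_ne hχ hv (Finset.ne_of_mem_erase hn)
  · rw [d.P_eq_zero m hm, Finset.sum_eq_zero]
    · rfl
    · intro n hn
      exact d.P_of_mem_of_ne hχ hv (fun h => hm (h ▸ hn))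

/-- Every nonzero eigenvector is a weight vector for one of the weights in `S`. -/
theorem exists_of_eigen (hχ : Function.Injective χ) {v : V} (hv0 : v ≠ 0) {c : D → K}
    (hv : ∀ t, σ t v = c t • v) : ∃ m ∈ d.S, v ∈ wt χ σ m := by
  classical
  obtain ⟨m, hm, hPm⟩ : ∃ m ∈ d.S, d.P m v ≠ 0 := by
    by_contra h
    push Not at h
    apply hv0
    rw [← d.sum_P v]
    exact Finset.sum_eq_zero h
  refine ⟨m, hm, fun t => ?_⟩
  have h1 := d.P_comm hχ m t v
  rw [hv t, map_smul, ← sub_eq_zero, ← sub_smul] at h1
  rcases smul_eq_zero.mp h1 with h2 | h2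
  · rw [hv t, sub_eq_zero.mp h2]
  · exact absurd h2 hPm

theorem mem_S_of_ne_zero {m : M} {v : V} (h : d.P m v ≠ 0) : m ∈ d.S := by
  by_contra hm
  rw [d.P_eq_zero m hm] at h
  exact h rfl

theorem mem_S_of_mem_wt (hχ : Function.Injective χ) {m : M} {v : V} (hv : v ∈ wt χ σ m)
    (hv0 : v ≠ 0) : m ∈ d.S := by
  apply d.mem_S_of_ne_zero (v := v)
  rwa [d.P_of_mem hχ hv]

end Dec

/-- Existence of the weight decomposition: matrix coefficients are combinations of the `χ m`. -/
theorem exists_dec (hχ : Function.Injective χ) [FiniteDimensional K V]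
    (h : ∀ (f : Module.Dual K V) (v : V), ∃ c : M →₀ K, ∀ t, f (σ t v) = c.sum fun m a => a * χ m t) :
    Nonempty (Dec χ σ) := by
  classical
  let b := Module.finBasis K V
  choose c hc using fun i j => h (b.coord i) (b j)
  let S : Finset M := Finset.univ.biUnion fun i => Finset.univ.biUnion fun j => (c i j).support
  have hS : ∀ i j m, m ∉ S → c i j m = 0 := by
    intro i j m hm
    by_contra hne
    apply hm
    simp only [S, Finset.mem_biUnion, Finset.mem_univ, true_and]
    exact ⟨i, j, Finsupp.mem_support_iff.mpr hne⟩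
  refine ⟨⟨S, fun m => Matrix.toLin b b (Matrix.of fun i j => c i j m), fun m hm => ?_,
    fun t v => ?_⟩⟩
  · have : (Matrix.of fun i j => c i j m) = 0 := by
      ext i j
      exact hS i j m hm
    rw [this, map_zero]
  · have hlin : ∑ m ∈ S, χ m t • (Matrix.toLin b b (Matrix.of fun i j => c i j m)) = σ t := by
      refine b.ext fun j => b.ext_elem fun i => ?_
      have h1 := hc i j t
      rw [Finsupp.sum_of_support_subset (s := S) _ ?_ _ (by simp)] at h1
      · rw [Module.Basis.coord_apply] at h1
        rw [h1]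
        simp only [LinearMap.sum_apply, LinearMap.smul_apply, map_sum, map_smul,
          Finsupp.coe_finsetSum, Finset.sum_apply, Finsupp.smul_apply, smul_eq_mul,
          Matrix.toLin_self]
        refine Finset.sum_congr rfl fun m _ => ?_
        rw [Finset.sum_eq_single i]
        · simp [mul_comm]
        · intro k _ hk
          simp [Finsupp.single_apply, hk]
        · simp
      · intro m hm
        by_contra hne
        exact (Finsupp.mem_support_iff.mp hm) (hS i j m hne)
    have := LinearMap.congr_fun hlin v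
    simpa using this

end Groth.Agent.Sga3B.RG.WtDec
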