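import Groth.Agent.Sga3B.RG.Coch
import Groth.Agent.Sga3B.RG.WtDec

/-!
# Weight decompositions of algebraic representations

* `cochDec`: weights with respect to a cocharacter `lam : A →ₐc[K] K[T;T⁻¹]`;
* `torDec`: weights with respect to a torus `π : A →ₐc[K] MonoidAlgebra K G`;
* `cochOf π l`: the cocharacter of the torus `π` attached to `l : G →* Multiplicative ℤ`.
-/

set_option autoImplicit false

universe u v w

open WithConv TensorProduct Coalgebra
open scoped LaurentPolynomial

namespace Groth.Agent.Sga3B.RG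

variable {K : Type u} [Field K]

section chars

variable (K) in
/-- the characters `t ↦ t ^ n` of `Kˣ` -/
def gmChar (n : ℤ) : Kˣ →* K := (Units.coeHom K).comp (zpowGroupHom n)

@[simp] theorem gmChar_apply (n : ℤ) (t : Kˣ) : gmChar K n t = ((t ^ n : Kˣ) : K) := rfl

theorem exists_zpow_ne_one [Infinite K] {n : ℤ} (hn : n ≠ 0) : ∃ t : Kˣ, t ^ n ≠ 1 := by
  classical
  by_contra h
  push Not at h
  have hn' : 0 < n.natAbs := Int.natAbs_pos.mpr hn
  have h1 : ∀ t : Kˣ, t ^ n.natAbs = 1 := by
    intro t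
    rcases Int.natAbs_eq n with h2 | h2
    · rw [← zpow_natCast, ← h2, h t]
    · have := h t
      rw [h2, zpow_neg, inv_eq_one, zpow_natCast] at this
      exact this
  have hp : (Polynomial.X ^ n.natAbs - 1 : Polynomial K) ≠ 0 := by
    have := Polynomial.X_pow_sub_C_ne_zero hn' (1 : K)
    simpa using this
  have hfin : Set.Finite {x : K | x ≠ 0} := by
    refine Set.Finite.subset ((Polynomial.X ^ n.natAbs - 1 : Polynomial K).rootSet_finite K) ?_
    intro x hx
    rw [Polynomial.mem_rootSet]
    refine ⟨hp, ?_⟩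
    have := h1 (Units.mk0 x hx)
    have h3 := congrArg Units.val this
    rw [Units.val_pow_eq_pow_val, Units.val_mk0, Units.val_one] at h3
    simp [h3]
  have h4 : (Set.univ : Set K).Finite := by
    have : (Set.univ : Set K) = {x : K | x ≠ 0} ∪ {0} := by
      ext x
      simp only [Set.mem_univ, Set.mem_union, Set.mem_ofPred_eq, Set.mem_singleton_iff, true_iff]
      exact (em _).symm
    rw [this]
    exact hfin.union (Set.finite_singleton 0)
  exact Set.infinite_univ h4

theorem gmChar_injective [Infinite K] : Function.Injective (gmChar K) := by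
  intro m n h
  by_contra hne
  obtain ⟨t, ht⟩ := exists_zpow_ne_one (K := K) (sub_ne_zero.mpr hne)
  apply ht
  have h1 : ((t ^ m : Kˣ) : K) = ((t ^ n : Kˣ) : K) := DFunLike.congr_fun h t
  rw [zpow_sub, Units.ext h1, mul_inv_cancel]

variable (K) in
/-- the characters of the diagonalizable group with character group `G` -/
def torChar (G : Type) [CommGroup G] (m : G) : (G →* Kˣ) →* K where
  toFun t := (t m : K)
  map_one' := rfl
  map_mul' _ _ := rfl

@[simp] theorem torChar_apply (G : Type) [CommGroup G] (m : G) (t : G →* Kˣ) :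
    torChar K G m t = (t m : K) := rfl

/-- The point of the torus given by a one-parameter subgroup. -/
def torOf {G : Type} [CommGroup G] (l : G →* Multiplicative ℤ) : Kˣ →* (G →* Kˣ) where
  toFun t := (zpowersHom Kˣ t).comp l
  map_one' := by ext m; simp
  map_mul' s t := by ext m; simp [mul_zpow]

@[simp] theorem torOf_apply {G : Type} [CommGroup G] (l : G →* Multiplicative ℤ) (t : Kˣ) (m : G) :
    torOf l t m = t ^ (l m).toAdd := rfl

theorem torChar_injective [Infinite K] (n : ℕ) :
    Function.Injective (torChar K (Multiplicative (Fin n → ℤ))) := by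
  intro m m' h
  by_contra hne
  obtain ⟨i, hi⟩ : ∃ i, m.toAdd i ≠ m'.toAdd i := by
    by_contra h'
    push Not at h'
    exact hne (Multiplicative.toAdd.injective (funext h'))
  obtain ⟨t, ht⟩ := exists_zpow_ne_one (K := K) (sub_ne_zero.mpr hi)
  apply ht
  let l : Multiplicative (Fin n → ℤ) →* Multiplicative ℤ :=
    AddMonoidHom.toMultiplicative (Pi.evalAddMonoidHom (fun _ : Fin n => ℤ) i)
  have h1 := DFunLike.congr_fun h (torOf l t)
  simp only [torChar_apply, torOf_apply] at h1
  have h2 : t ^ m.toAdd i = t ^ m'.toAdd i := Units.ext h1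
  rw [zpow_sub, h2, mul_inv_cancel]

end chars

variable {A : Type u} [CommRing A] [HopfAlgebra K A]

section cochar

variable {V : Type w} [AddCommGroup V] [Module K V]

theorem gmPt_apply (t : Kˣ) (p : K[T;T⁻¹]) :
    (gmPt t : Pt K K[T;T⁻¹]) p = Finsupp.sum p.coeff fun n a => a * gmChar K n t := by
  change AddMonoidAlgebra.lift K K ℤ _ p = _
  rw [AddMonoidAlgebra.lift_apply]
  rfl

/-- The weight spaces of a cocharacter on a representation. -/
noncomputable abbrev cwt (lam : A →ₐc[K] K[T;T⁻¹]) (ρ : Representation K (Pt K A) V) (n : ℤ) : Submodule K V :=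
  WtDec.wt (gmChar K) (ρ.comp (cochPt lam)) n

theorem mem_cwt {lam : A →ₐc[K] K[T;T⁻¹]} {ρ : Representation K (Pt K A) V} {n : ℤ} {v : V} :
    v ∈ cwt lam ρ n ↔ ∀ t : Kˣ, ρ (cochPt lam t) v = ((t ^ n : Kˣ) : K) • v := Iff.rfl

theorem nonempty_cochDec [FiniteDimensional K V] [Infinite K] (lam : A →ₐc[K] K[T;T⁻¹])
    {ρ : Representation K (Pt K A) V} (hρ : IsAlg ρ) :
    Nonempty (WtDec.Dec (gmChar K) (ρ.comp (cochPt lam))) := by
  refine WtDec.exists_dec gmChar_injective fun f v => ?_
  obtain ⟨a, ha⟩ := hρ f v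
  refine ⟨(lam a).coeff, fun t => ?_⟩
  rw [← gmPt_apply, ← cochPt_apply]
  exact ha _

end cochar

section torus

variable {V : Type w} [AddCommGroup V] [Module K V] {G : Type} [CommGroup G]

theorem torPt_apply (t : G →* Kˣ) (p : MonoidAlgebra K G) :
    (torPt G t : Pt K (MonoidAlgebra K G)) p = Finsupp.sum p.coeff fun n a => a * torChar K G n t := by
  change MonoidAlgebra.lift K K G _ p = _
  rw [MonoidAlgebra.lift_apply]
  rfl

/-- The weight spaces of a torus on a representation. -/
noncomputable abbrev twt (π : A →ₐc[K] MonoidAlgebra K G) (ρ : Representation K (Pt K A) V) (m : G) :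
    Submodule K V :=
  WtDec.wt (torChar K G) (ρ.comp ((Pt.map π).comp (torPt G).toMonoidHom)) m

theorem mem_twt {π : A →ₐc[K] MonoidAlgebra K G} {ρ : Representation K (Pt K A) V} {m : G} {v : V} :
    v ∈ twt π ρ m ↔ ∀ t : G →* Kˣ, ρ (Pt.map π (torPt G t)) v = (t m : K) • v := Iff.rfl

theorem nonempty_torDec [FiniteDimensional K V] (hG : Function.Injective (torChar K G))
    (π : A →ₐc[K] MonoidAlgebra K G) {ρ : Representation K (Pt K A) V} (hρ : IsAlg ρ) :
    Nonempty (WtDec.Dec (torChar K G) (ρ.comp ((Pt.map π).comp (torPt G).toMonoidHom))) := by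
  refine WtDec.exists_dec hG fun f v => ?_
  obtain ⟨a, ha⟩ := hρ f v
  refine ⟨(π a).coeff, fun t => ?_⟩
  rw [← torPt_apply, ← Pt.map_apply]
  exact ha _

/-- The bialgebra map `K[G] → K[T;T⁻¹]` attached to `l : G →* Multiplicative ℤ`. -/
noncomputable def lauOf (l : G →* Multiplicative ℤ) : MonoidAlgebra K G →ₐc[K] K[T;T⁻¹] :=
  .ofAlgHom (MonoidAlgebra.lift K K[T;T⁻¹] G ((AddMonoidAlgebra.of K ℤ).comp l))
    (by ext; simp) (by ext; simp)

theorem lauOf_single (l : G →* Multiplicative ℤ) (m : G) :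
    lauOf (K := K) l (MonoidAlgebra.single m 1) = LaurentPolynomial.T (l m).toAdd := by
  change MonoidAlgebra.lift K K[T;T⁻¹] G _ (MonoidAlgebra.single m 1) = _
  rw [MonoidAlgebra.lift_single, one_smul]
  rfl

/-- The cocharacter of the torus `π` attached to `l : G →* Multiplicative ℤ`. -/
noncomputable def cochOf (π : A →ₐc[K] MonoidAlgebra K G) (l : G →* Multiplicative ℤ) :
    A →ₐc[K] K[T;T⁻¹] :=
  (lauOf l).comp π

theorem cochPt_cochOf (π : A →ₐc[K] MonoidAlgebra K G) (l : G →* Multiplicative ℤ) (t : Kˣ) :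
    cochPt (cochOf π l) t = Pt.map π (torPt G (torOf l t)) := by
  apply Pt.ext'
  intro a
  rw [cochPt_apply, Pt.map_apply]
  change (gmPt t : Pt K K[T;T⁻¹]) (lauOf l (π a)) = _
  generalize π a = p
  have : (gmPt t : Pt K K[T;T⁻¹]).ofConv.comp
      ((lauOf l : MonoidAlgebra K G →ₐc[K] K[T;T⁻¹]) : MonoidAlgebra K G →ₐ[K] K[T;T⁻¹]) =
      (torPt G (torOf l t) : Pt K (MonoidAlgebra K G)).ofConv := by
    apply MonoidAlgebra.algHom_ext
    · intro m
      have h1 : ((lauOf l : MonoidAlgebra K G →ₐc[K] K[T;T⁻¹]) :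
          MonoidAlgebra K G →ₐ[K] K[T;T⁻¹]) (MonoidAlgebra.single m 1) =
        LaurentPolynomial.T (l m).toAdd := lauOf_single l m
      rw [AlgHom.comp_apply, h1]
      refine (gmPt_T t _).trans ?_
      refine Eq.trans ?_ (torPt_single G (torOf l t) m 1).symm
      rw [one_mul, torOf_apply]
    · exact Subsingleton.elim _ _
  exact congr($this p)

end torus

end Groth.Agent.Sga3B.RG
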