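import Groth.Agent.Sga3B.RG.GenMat
import Groth.Agent.Sga3B.RG.Closed
import Groth.Agent.Sga3B.RG.Wt
import Groth.Agent.Books.BurnsideTrace
import Mathlib.LinearAlgebra.Charpoly.ToMatrix

/-!
# Central cocharacters and single eigenvalues, for representations of the group of points

* `exists_comat` : the matrix coefficients of an algebraic representation;
* `exists_eigenvalue` (P4) : if all cocharacters act by scalars then every point has a single
  eigenvalue;
* `isUnip_of_forall_coch` (Theorem U) : a connected group without nontrivial cocharacters consists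
  of unipotent elements.
-/

set_option autoImplicit false

universe u w

open WithConv TensorProduct Polynomial
open Groth.Agent.Sga3B.RG.GenEig Groth.Agent.Sga3B.RG.GenSpec Groth.Agent.Sga3B.RG.GenMat
open scoped LaurentPolynomial

namespace Groth.Agent.Sga3B.RG.CentralPt

section Mat

variable {K : Type u} [Field K] [IsAlgClosed K] {A : Type u} [CommRing A] [HopfAlgebra K A]
  [Algebra.FiniteType K A] {V : Type w} [AddCommGroup V] [Module K V]

/-- The matrix of an algebraic representation. -/
theorem exists_comat [IsReduced A] {ι : Type*} [Fintype ι] [DecidableEq ι]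
    (b : Module.Basis ι K V) {ρ : Representation K (Pt K A) V} (hρ : IsAlg ρ) :
    ∃ a : Matrix ι ι A, IsComat K a ∧
      ∀ (g : Pt K A) (i j : ι), g (a i j) = b.repr (ρ g (b j)) i := by
  choose a ha using fun i j => hρ (b.coord i) (b j)
  refine ⟨Matrix.of a, ⟨?_, ?_⟩, fun g i j => (ha i j g).symm⟩
  · intro i j
    rw [← sub_eq_zero]
    have hF : ∀ v : A, (∀ f ∈ Set.range (fun f : Pt K A => f.ofConv.toLinearMap), f v = 0) →
        v = 0 := by
      intro v hv
      exact eq_zero_of_forall_pt fun g => hv _ ⟨g, rfl⟩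
    refine tensor_eq_zero_of_forall hF hF _ ?_
    rintro _ ⟨g, rfl⟩ _ ⟨h, rfl⟩
    have h1 : LinearMap.mul' K K (TensorProduct.map g.ofConv.toLinearMap h.ofConv.toLinearMap
        (CoalgebraStruct.comul (R := K) (a i j))) = (g * h) (a i j) := by
      rw [Pt.mul_apply]
      generalize CoalgebraStruct.comul (R := K) (a i j) = z
      induction z with
      | zero => simp
      | add x y hx hy => simp only [map_add, hx, hy]
      | tmul x y => simp
    rw [map_sub, map_sub, map_sum, map_sum, sub_eq_zero]
    refine h1.trans ?_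
    rw [← ha, map_mul, Module.End.mul_apply]
    have h2 : ρ h (b j) = ∑ k, b.repr (ρ h (b j)) k • b k := (b.sum_repr _).symm
    rw [h2, map_sum, map_sum]
    refine Finset.sum_congr rfl fun k _ => ?_
    rw [map_smul, map_smul, smul_eq_mul, ha]
    have h3 : b.repr (ρ h (b j)) k = h (a k j) := ha k j h
    rw [h3, TensorProduct.map_tmul, LinearMap.mul'_apply, mul_comm]
    rfl
  · intro i j
    have h1 := ha i j 1
    rw [map_one, Pt.one_apply] at h1
    change CoalgebraStruct.counit (R := K) (a i j) = _
    rw [← h1, Module.End.one_apply, Module.Basis.coord_apply, Module.Basis.repr_self,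
      Finsupp.single_apply]
    simp only [eq_comm]

end Mat

section Laurent

variable {K : Type u} [Field K]

omit [Field K] in
lemma toLaurent_injective [Field K] :
    Function.Injective (toLaurent (L := K)) :=
  (AddMonoidAlgebra.toMultiplicativeBialgEquiv K K ℤ).symm.injective

lemma eq_zero_of_forall_gmPt [Infinite K] {p : K[T;T⁻¹]}
    (h : ∀ t : Kˣ, (gmPt t : Pt K K[T;T⁻¹]) p = 0) : p = 0 := by
  have h1 := WtDec.coeff_eq_zero (K := K) (χ := gmChar K) gmChar_injective p.coeff.support
    (fun n => p.coeff n) (by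
      intro t
      have := h t
      rw [gmPt_apply] at this
      exact this)
  apply AddMonoidAlgebra.coeff_injective
  ext n
  by_cases hn : n ∈ p.coeff.support
  · exact h1 n hn
  · exact Finsupp.notMem_support_iff.1 hn

end Laurent

section main

variable {K : Type u} [Field K] [IsAlgClosed K] {A : Type u} [CommRing A] [HopfAlgebra K A]
  [Algebra.FiniteType K A] {V : Type w} [AddCommGroup V] [Module K V]

omit [Algebra.FiniteType K A] in
/-- Cocharacters acting by scalars, in terms of the matrix. -/
lemma comat_of_scalar {ι : Type*} [Fintype ι] [DecidableEq ι] {a : Matrix ι ι A}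
    (ha : IsComat K a)
    (hc : ∀ (c : A →ₐc[K] K[T;T⁻¹]) (t : Kˣ), ∃ s : K,
      ∀ i j, (cochPt c t) (a i j) = if i = j then s else 0)
    (c : A →ₐc[K] MonoidAlgebra K (Multiplicative ℤ)) : ∃ m : Multiplicative ℤ,
      ∀ i j, c (a i j) = if i = j then MonoidAlgebra.single m 1 else 0 := by
  have hK : Infinite K := IsAlgClosed.instInfinite
  let c' : A →ₐc[K] K[T;T⁻¹] := toLaurent.comp c
  have hc' : ∀ x, c' x = toLaurent (c x) := fun x => rfl
  have hoff : ∀ i j, i ≠ j → c (a i j) = 0 := by
    intro i j hij
    apply toLaurent_injective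
    rw [map_zero]
    apply eq_zero_of_forall_gmPt
    intro t
    obtain ⟨s, hs⟩ := hc c' t
    have := hs i j
    rw [if_neg hij] at this
    exact this
  rcases isEmpty_or_nonempty ι with hι | ⟨⟨i₀⟩⟩
  · exact ⟨1, fun i => isEmptyElim i⟩
  have hdiag : ∀ i, IsGroupLikeElem K (c (a i i)) := by
    intro i
    refine ⟨?_, ?_⟩
    · rw [CoalgHomClass.counit_comp_apply, ha.counit, if_pos rfl]
    · rw [← CoalgHomClass.map_comp_comul_apply, ha.comul, map_sum, Finset.sum_eq_single i]
      · rfl
      · intro k _ hk
        rw [TensorProduct.map_tmul]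
        change c (a i k) ⊗ₜ c (a k i) = 0
        rw [hoff i k (Ne.symm hk), TensorProduct.zero_tmul]
      · intro h
        exact absurd (Finset.mem_univ _) h
  have hex : ∀ i, ∃ m : Multiplicative ℤ, c (a i i) = MonoidAlgebra.single m 1 := by
    intro i
    obtain ⟨m, hm⟩ := MonoidAlgebra.isGroupLikeElem_iff_mem_range_single_one.1 (hdiag i)
    exact ⟨m, hm.symm⟩
  choose m hm using hex
  refine ⟨m i₀, ?_⟩
  intro i j
  split_ifs with hij
  · subst hij
    rw [hm]
    by_contra hne
    have hne' : (m i).toAdd - (m i₀).toAdd ≠ 0 := by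
      intro h0
      apply hne
      rw [sub_eq_zero] at h0
      have : m i = m i₀ := h0
      rw [this]
    obtain ⟨t, ht⟩ := exists_zpow_ne_one (K := K) hne'
    apply ht
    have h1 : ∀ i, (cochPt c' t) (a i i) = ((t ^ (m i).toAdd : Kˣ) : K) := by
      intro i
      rw [cochPt_apply, hc', hm, toLaurent_single, one_smul, gmPt_T]
    obtain ⟨s, hs⟩ := hc c' t
    have h2 := hs i i
    have h3 := hs i₀ i₀
    rw [if_pos rfl, h1] at h2 h3
    rw [zpow_sub, mul_inv_eq_one]
    exact Units.ext (h2.trans h3.symm)
  · exact hoff i j hij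

variable [IsDomain A]

/-- **P4.** If all cocharacters act by scalars then every point has a single eigenvalue. -/
theorem exists_charpoly [FiniteDimensional K V] {ρ : Representation K (Pt K A) V} (hρ : IsAlg ρ)
    (hc : ∀ (c : A →ₐc[K] K[T;T⁻¹]) (t : Kˣ), ∃ s : K, ∀ v, ρ (cochPt c t) v = s • v)
    (g : Pt K A) : ∃ μ : K, (ρ g).charpoly = (X - C μ) ^ Module.finrank K V := by
  classical
  let b := Module.finBasis K V
  obtain ⟨a, ha, hab⟩ := exists_comat b hρ
  have hc2 := comat_of_scalar ha (by
    intro c t
    obtain ⟨s, hs⟩ := hc c t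
    refine ⟨s, fun i j => ?_⟩
    rw [hab, hs, map_smul, Module.Basis.repr_self, Finsupp.smul_apply, Finsupp.single_apply]
    by_cases hij : i = j
    · simp [hij]
    · simp [hij, Ne.symm hij])
  obtain ⟨μ, hμ⟩ := single_eigenvalue ha hc2 g.ofConv
  refine ⟨μ, ?_⟩
  rw [← LinearMap.charpoly_toMatrix (ρ g) b]
  have h1 : LinearMap.toMatrix b b (ρ g) = a.map g.ofConv := by
    ext i j
    rw [LinearMap.toMatrix_apply, Matrix.map_apply]
    exact (hab g i j).symm
  rw [h1, hμ, Fintype.card_fin]

/-- P4, nilpotent form. -/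
theorem exists_eigenvalue [FiniteDimensional K V] {ρ : Representation K (Pt K A) V} (hρ : IsAlg ρ)
    (hc : ∀ (c : A →ₐc[K] K[T;T⁻¹]) (t : Kˣ), ∃ s : K, ∀ v, ρ (cochPt c t) v = s • v)
    (g : Pt K A) : ∃ μ : K, (ρ g - μ • (1 : Module.End K V)) ^ Module.finrank K V = 0 := by
  obtain ⟨μ, hμ⟩ := exists_charpoly hρ hc g
  refine ⟨μ, ?_⟩
  have h1 := LinearMap.aeval_self_charpoly (ρ g)
  rw [hμ, map_pow, map_sub, aeval_X, aeval_C, Algebra.algebraMap_eq_smul_one] at h1
  exact h1

end main

section regular

variable {K : Type u} [Field K] {A : Type u} [CommRing A] [HopfAlgebra K A]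
  {V : Type w} [AddCommGroup V] [Module K V]

/-- Restriction of a representation to a stable subspace. -/
noncomputable def subRep (ρ : Representation K (Pt K A) V) (W : Submodule K V)
    (hW : IsStable ρ W) : Representation K (Pt K A) W where
  toFun g := (ρ g).restrict (fun w hw => hW g w hw)
  map_one' := by
    ext w
    change ρ 1 (w : V) = w
    rw [map_one]
    rfl
  map_mul' g h := by
    ext w
    change ρ (g * h) (w : V) = ρ g (ρ h w)
    rw [map_mul]
    rfl

@[simp] lemma subRep_coe (ρ : Representation K (Pt K A) V) (W : Submodule K V)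
    (hW : IsStable ρ W) (g : Pt K A) (w : W) : (subRep ρ W hW g w : V) = ρ g w := rfl

lemma isAlg_subRep {ρ : Representation K (Pt K A) V} (hρ : IsAlg ρ) (W : Submodule K V)
    (hW : IsStable ρ W) : IsAlg (subRep ρ W hW) := by
  intro f w
  obtain ⟨F, hF⟩ := LinearMap.exists_extend f
  obtain ⟨a, ha⟩ := hρ F w
  refine ⟨a, fun g => ?_⟩
  rw [← ha, ← hF]
  rfl

lemma rTr_eq_cact (g : Pt K A) (a : A) :
    rTr g a = Groth.Agent.Books.ComodDual.cact (V := A) g.ofConv.toLinearMap a := by
  rw [Groth.Agent.Books.ComodSocle.cact_regular, rTr, AlgHom.comp_apply,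
    Bialgebra.comulAlgHom_apply]
  generalize CoalgebraStruct.comul (R := K) (A := A) a = z
  induction z with
  | zero => simp
  | add x y hx hy => simp only [map_add, AlgHom.comp_apply] at hx hy ⊢; rw [hx, hy]
  | tmul x y => simp

variable [IsAlgClosed K] [Algebra.FiniteType K A] [IsReduced A]

lemma isAlg_rTrRep : IsAlg (rTrRep K A) := by
  intro f a
  refine ⟨TensorProduct.lid K A (f.rTensor A (CoalgebraStruct.comul (R := K) a)), fun g => ?_⟩
  change f (rTr g a) = g.ofConv _
  rw [rTr_eq_cact, Groth.Agent.Books.ComodSocle.cact_regular]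
  generalize CoalgebraStruct.comul (R := K) (A := A) a = z
  induction z with
  | zero => simp
  | add x y hx hy => simp only [map_add, hx, hy]
  | tmul x y => simp [mul_comm]

/-- Every finite set of functions lies in a finite-dimensional subspace stable under all right
translations. -/
lemma exists_finite_stable (s : Finset A) : ∃ W : Submodule K A, IsStable (rTrRep K A) W ∧
    Module.Finite K W ∧ ∀ a ∈ s, a ∈ W := by
  obtain ⟨W, hW, hfin, hs⟩ := Groth.Agent.Books.ComodDual.exists_finite_subcomod (k := K) (A := A)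
    (V := A) s
  refine ⟨W, ?_, hfin, hs⟩
  intro g w hw
  change rTr g w ∈ W
  rw [rTr_eq_cact]
  exact (Groth.Agent.Books.ComodDual.isSubcomod_iff W).1 hW _ w hw

end regular

section thmU

variable {K : Type u} [Field K] [IsAlgClosed K] {A : Type u} [CommRing A] [HopfAlgebra K A]
  [Algebra.FiniteType K A] [IsDomain A]

/-- **Theorem U.**  If all cocharacters of the connected group are trivial then all its elements
are unipotent. -/
theorem isUnip_of_forall_coch (hU : ∀ (c : A →ₐc[K] K[T;T⁻¹]) (t : Kˣ), cochPt c t = 1)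
    (g : Pt K A) : IsUnip g := by
  classical
  intro a
  obtain ⟨W, hW, hfin, hs⟩ := exists_finite_stable (K := K) (A := A) {a, 1}
  have ha : a ∈ W := hs a (by simp)
  have h1 : (1 : A) ∈ W := hs 1 (by simp)
  obtain ⟨μ, hμ⟩ := exists_eigenvalue (isAlg_subRep isAlg_rTrRep W hW) (by
    intro c t
    refine ⟨1, fun v => ?_⟩
    rw [hU, map_one, one_smul, Module.End.one_apply]) g
  set n := Module.finrank K W with hn
  have key : ∀ (m : ℕ) (w : W), (((subRep (rTrRep K A) W hW g - μ • (1 : Module.End K W)) ^ m) w :
      A) = (((rTr g).toLinearMap - μ • (1 : Module.End K A)) ^ m) (w : A) := by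
    intro m
    induction m with
    | zero => intro w; simp
    | succ m ih =>
      intro w
      rw [pow_succ, Module.End.mul_apply, ih, pow_succ, Module.End.mul_apply]
      rfl
  have hμ1 : μ = 1 := by
    have h2 : ∀ m : ℕ, (((rTr g).toLinearMap - μ • (1 : Module.End K A)) ^ m) (1 : A) =
        ((1 - μ) ^ m) • (1 : A) := by
      intro m
      induction m with
      | zero => simp
      | succ m ih =>
        rw [pow_succ', Module.End.mul_apply, ih, map_smul, LinearMap.sub_apply,
          AlgHom.toLinearMap_apply, map_one, LinearMap.smul_apply, Module.End.one_apply,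
          pow_succ, mul_smul, sub_smul, one_smul]
    have h3 := key n ⟨1, h1⟩
    rw [hμ, h2] at h3
    have h4 : ((1 - μ) ^ n) • (1 : A) = 0 := h3.symm
    rw [smul_eq_zero] at h4
    rcases h4 with h4 | h4
    · have h5 := (pow_eq_zero_iff (n := n) (by
        intro h0
        rw [h0, pow_zero] at h4
        exact one_ne_zero h4)).1 h4
      exact (sub_eq_zero.1 h5).symm
    · exact absurd h4 one_ne_zero
  refine ⟨n, ?_⟩
  have h2 := key n ⟨a, ha⟩
  rw [hμ, hμ1, one_smul] at h2
  exact h2.symm

end thmU

end Groth.Agent.Sga3B.RG.CentralPt
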