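import Groth.Agent.Sga3B.RG.BrImg
import Groth.Agent.Sga3B.RG.CentralPt

/-!
# Bridge: reductive and semisimple groups over an algebraically closed field (equivalences)
-/

set_option autoImplicit false

universe u

open CategoryTheory MonoidalCategory CartesianMonoidalCategory MonObj GrpObj AlgebraicGeometry
open Groth.Agent.Books.AffBridge Groth.Agent.Books.AffBridge2
open TensorProduct Coalgebra
open scoped LaurentPolynomial

namespace Groth.Agent.Sga3B.RG.BrRed2

open BrPts BrDiag BrTorus BrRed BrImg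

noncomputable section

section transport

variable {K : Type u} [Field K]

lemma hasNoSubtorus_of_mono {U U' : Over (Spec (CommRingCat.of K))} [GrpObj U] [GrpObj U']
    (i : U' ⟶ U) [IsMonHom i] [Mono i] (h : Red.HasNoSubtorus K U) : Red.HasNoSubtorus K U' := by
  intro T _ j _ _ hT
  exact h T (j ≫ i) hT

lemma isNormalHom_comp_iso {S : Scheme.{u}} {N G G' : Over S} [GrpObj N] [GrpObj G] [GrpObj G']
    (i : N ⟶ G) (e : G ≅ G') [IsMonHom e.hom] (h : AlgGrp.IsNormalHom i) :
    AlgGrp.IsNormalHom (i ≫ e.hom) := by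
  intro T g n
  obtain ⟨n', hn'⟩ := h T (g ≫ e.inv) n
  refine ⟨n', ?_⟩
  have := congr($hn' ≫ e.hom)
  rw [MonObj.mul_comp, MonObj.mul_comp, GrpObj.inv_comp] at this
  simpa using this

/-- Reductivity is invariant under isomorphisms. -/
theorem isReductiveOver_of_iso {G G' : Over (Spec (CommRingCat.of K))} [GrpObj G] [GrpObj G']
    (e : G ≅ G') [IsMonHom e.hom] (h : Red.IsReductiveOver K G) : Red.IsReductiveOver K G' := by
  obtain ⟨h1, h2, h3, h4⟩ := h
  have hi : IsIso e.inv.left := inferInstanceAs (IsIso ((Over.forget _).map e.inv))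
  refine ⟨?_, ?_, ?_, ?_⟩
  · exact IsAffine.of_isIso e.inv.left
  · rw [hom_eq_of_iso e.symm]
    have : IsIso e.symm.hom.left := hi
    infer_instance
  · exact (Books.AlgPtsIrred.homeo e).surjective.connectedSpace (Books.AlgPtsIrred.homeo e).continuous
  · intro U _ i _ hi1 hi2 hi3 hi4 hi5
    have hcl : IsClosedImmersion (i ≫ e.inv).left := by
      rw [Over.comp_left]
      infer_instance
    have hinv : IsMonHom e.symm.hom := inferInstanceAs (IsMonHom e.inv)
    have hn : AlgGrp.IsNormalHom (i ≫ e.inv) := isNormalHom_comp_iso i e.symm hi4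
    have hmon : IsMonHom (i ≫ e.inv) := inferInstance
    exact h4 U (i ≫ e.inv) hcl hi2 hi3 hn hi5

/-- Semisimplicity is invariant under isomorphisms. -/
theorem isSemisimpleOver_of_iso {G G' : Over (Spec (CommRingCat.of K))} [GrpObj G] [GrpObj G']
    (e : G ≅ G') [IsMonHom e.hom] (h : Red.IsSemisimpleOver K G) : Red.IsSemisimpleOver K G' := by
  refine ⟨isReductiveOver_of_iso e h.1, ?_⟩
  intro T _ i _ hi1 hi2 hi3
  have hi : IsIso e.inv.left := inferInstanceAs (IsIso ((Over.forget _).map e.inv))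
  have hcl : IsClosedImmersion (i ≫ e.inv).left := by
    rw [Over.comp_left]
    infer_instance
  have hinv : IsMonHom e.symm.hom := inferInstanceAs (IsMonHom e.inv)
  have hn : AlgGrp.IsNormalHom (i ≫ e.inv) := isNormalHom_comp_iso i e.symm hi2
  exact h.2 T (i ≫ e.inv) hcl hn hi3

end transport

section main

variable {K : Type u} [Field K] [IsAlgClosed K]

/-- A group scheme without subtori has no torus in the sense of points. -/
theorem eq_bot_of_isTorusSub {A : Type u} [CommRing A] [HopfAlgebra K A]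
    {U : Over (Spec (CommRingCat.of K))} [GrpObj U] (i : U ⟶ SpecOver K A) [IsMonHom i]
    [IsClosedImmersion i.left] (h : Red.HasNoSubtorus K U) {T : Subgroup (Pt K A)}
    [Algebra.FiniteType K A]
    (hT : IsTorusSub T) (hle : T ≤ ptsSub i) : T = ⊥ := by
  obtain ⟨T1, _, j, _, hT1, hcl, rfl⟩ := exists_of_isTorusSub hT
  have := TorusAlgClosed.smooth_of_isTorus hT1
  obtain ⟨f, hf⟩ := exists_factor_of_le j i hle
  have : Mono j := Books.AlgPtsGrp.mono_of_isClosedImmersion j
  have hm : Mono i := Books.AlgPtsGrp.mono_of_isClosedImmersion i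
  have hmf : Mono (f ≫ i) := by rw [hf]; infer_instance
  have hmf' : Mono f := mono_of_mono f i
  have hmon : IsMonHom f := by
    refine Pts.isMonHom_of_points f fun X x y => ?_
    rw [← cancel_mono i, Category.assoc, hf, MonObj.mul_comp, MonObj.mul_comp, Category.assoc,
      Category.assoc, hf]
  exact ptsSub_eq_bot_of_isTrivialGrp j (h T1 f hT1)

/-- The reductivity of `Spec A` in terms of points. -/
theorem isReductiveOver_iff {A : Type u} [CommRing A] [HopfAlgebra K A] [Algebra.FiniteType K A] :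
    Red.IsReductiveOver K (SpecOver K A) ↔ IsDomain A ∧ IsRedPt K A := by
  refine ⟨isRedPt_of_isReductiveOver, ?_⟩
  rintro ⟨hdom, hred⟩
  obtain ⟨h1, h2⟩ := (isDomain_iff (K := K) A).2 hdom
  refine ⟨inferInstance, h1, h2, ?_⟩
  intro U _ i _ hcl hsm hconn hn hnt
  obtain ⟨hclN, hJ, e, he, hei⟩ := exists_iso_vanIdeal i
  have hcn := isConn_ptsSub i
  apply isTrivialGrp_of_ptsSub_eq_bot i
  apply hred _ (normal_ptsSub i hn) hclN hcn
  -- all elements are unipotent
  have hpr : (vanIdeal (ptsSub i : Set (Pt K A))).IsPrime := hcn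
  have hd : IsDomain (A ⧸ vanIdeal (ptsSub i : Set (Pt K A))) :=
    (Ideal.Quotient.isDomain_iff_prime _).2 hpr
  let B := A ⧸ vanIdeal (ptsSub i : Set (Pt K A))
  let φ : A →ₐc[K] B := Bialgebra.Quotient.mkBialgHom (R := K) (vanIdeal (ptsSub i : Set (Pt K A)))
  have hrange : ptsSub i = (Pt.map φ).range := ptsSub_eq_range i φ e hei
  have hinv : IsMonHom e.inv := inferInstance
  have hntB : Red.HasNoSubtorus K (SpecOver K B) := hasNoSubtorus_of_mono e.inv hnt
  have hB : ∀ (c : B →ₐc[K] K[T;T⁻¹]) (t : Kˣ), cochPt c t = 1 := by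
    intro c t
    have h3 := eq_bot_of_isTorusSub (𝟙 (SpecOver K B)) hntB (isTorusSub_cochPt c)
      (fun g _ => ⟨ptEquiv K B g, Category.comp_id _⟩)
    have h4 : cochPt c t ∈ (cochPt c).range := ⟨t, rfl⟩
    rw [h3, Subgroup.mem_bot] at h4
    exact h4
  intro g hg
  rw [hrange] at hg
  obtain ⟨x, rfl⟩ := hg
  exact isUnip_map φ (CentralPt.isUnip_of_forall_coch hB x)

/-- The semisimplicity of `Spec A` in terms of points. -/
theorem isSemisimpleOver_iff {A : Type u} [CommRing A] [HopfAlgebra K A] [Algebra.FiniteType K A] :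
    Red.IsSemisimpleOver K (SpecOver K A) ↔ IsDomain A ∧ IsRedPt K A ∧
      ∀ T : Subgroup (Pt K A), T.Normal → IsTorusSub T → T = ⊥ := by
  constructor
  · rintro ⟨h1, h2⟩
    obtain ⟨h3, h4⟩ := isRedPt_of_isReductiveOver h1
    refine ⟨h3, h4, fun T hN hT => ?_⟩
    obtain ⟨T1, _, j, _, hT1, hcl, rfl⟩ := exists_of_isTorusSub hT
    have := TorusAlgClosed.smooth_of_isTorus hT1
    exact ptsSub_eq_bot_of_isTrivialGrp j (h2 T1 j hcl (isNormalHom_of_normal j hN) hT1)
  · rintro ⟨h1, h2, h3⟩
    refine ⟨isReductiveOver_iff.2 ⟨h1, h2⟩, ?_⟩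
    intro T _ i _ hcl hn hT
    have := TorusAlgClosed.smooth_of_isTorus hT
    have hm : Mono i := Books.AlgPtsGrp.mono_of_isClosedImmersion i
    exact isTrivialGrp_of_ptsSub_eq_bot i (h3 _ (normal_ptsSub i hn) (isTorusSub_ptsSub i hT))

end main

end

end Groth.Agent.Sga3B.RG.BrRed2
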