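import Groth.Agent.Sga3B.RG.UnipRep
import Mathlib.RingTheory.Ideal.KrullsHeightTheorem

/-!
# Relative dictionary

Behaviour of unipotent points, tori, reductivity under closed immersions of groups of points.
-/

set_option autoImplicit false

universe u w

open WithConv TensorProduct Coalgebra Pointwise

namespace Groth.Agent.Sga3B.RG

section Factor

variable {K : Type u} [Field K] {A : Type u} [CommRing A] [HopfAlgebra K A]
variable {B : Type u} [CommRing B] [HopfAlgebra K B]

/-- Factorisation of bialgebra maps through a surjective one. -/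
theorem exists_bialgHom_factor {C : Type u} [CommRing C] [HopfAlgebra K C] {φ : A →ₐc[K] B}
    (hφ : Function.Surjective φ) {ψ : A →ₐc[K] C} (h : ∀ a, φ a = 0 → ψ a = 0) :
    ∃ χ : B →ₐc[K] C, χ.comp φ = ψ := by
  have hφ' : Function.Surjective (φ : A →ₐ[K] B) := hφ
  let χ : B →ₐ[K] C := (Ideal.Quotient.liftₐ (RingHom.ker (φ : A →ₐ[K] B)) (ψ : A →ₐ[K] C)
    (fun a ha => h a ha)).comp (Ideal.quotientKerAlgEquivOfSurjective hφ').symm.toAlgHom
  have hχ : ∀ a, χ (φ a) = ψ a := by
    intro a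
    have h1 : (Ideal.quotientKerAlgEquivOfSurjective hφ').symm (φ a) = Ideal.Quotient.mk _ a := by
      rw [AlgEquiv.symm_apply_eq]
      rfl
    change (Ideal.Quotient.liftₐ (RingHom.ker (φ : A →ₐ[K] B)) (ψ : A →ₐ[K] C)
      (fun a ha => h a ha)) ((Ideal.quotientKerAlgEquivOfSurjective hφ').symm (φ a)) = ψ a
    rw [h1]
    rfl
  refine ⟨.ofAlgHom χ ?_ ?_, ?_⟩
  · refine AlgHom.ext fun b => ?_
    obtain ⟨a, rfl⟩ := hφ b
    change counit (R := K) (χ (φ a)) = counit (R := K) (φ a)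
    rw [hχ, CoalgHomClass.counit_comp_apply, CoalgHomClass.counit_comp_apply]
  · refine AlgHom.ext fun b => ?_
    obtain ⟨a, rfl⟩ := hφ b
    change TensorProduct.map χ.toLinearMap χ.toLinearMap (comul (R := K) (φ a)) =
      comul (R := K) (χ (φ a))
    rw [hχ, ← CoalgHomClass.map_comp_comul_apply, ← CoalgHomClass.map_comp_comul_apply,
      ← LinearMap.comp_apply, ← TensorProduct.map_comp]
    congr 2
    · exact LinearMap.ext hχ
    · exact LinearMap.ext hχ
  · exact DFunLike.ext _ _ hχ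

end Factor

section Tori

variable {K : Type u} [Field K] {A : Type u} [CommRing A] [HopfAlgebra K A]
variable {B : Type u} [CommRing B] [HopfAlgebra K B]

/-- Group algebras of free abelian groups of finite rank are domains. -/
instance isDomain_monoidAlgebra_fin (n : ℕ) :
    IsDomain (MonoidAlgebra K (Multiplicative (Fin n → ℤ))) := by
  infer_instance

instance finiteType_monoidAlgebra_fin (n : ℕ) :
    Algebra.FiniteType K (MonoidAlgebra K (Multiplicative (Fin n → ℤ))) := by
  have : Monoid.FG (Multiplicative (Fin n → ℤ)) := by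
    rw [← AddMonoid.fg_iff_mul_fg]
    have : AddGroup.FG (Fin n → ℤ) := Module.Finite.iff_addGroup_fg.1 inferInstance
    exact AddGroup.fg_iff_addMonoid_fg.1 this
  infer_instance

lemma IsTorusSub.isCl {T : Subgroup (Pt K A)} (hT : IsTorusSub T) : IsCl (T : Set (Pt K A)) := by
  obtain ⟨n, π, hπ, rfl⟩ := hT
  exact Pt.isCl_range_map hπ

lemma isTorusSub_bot : IsTorusSub (⊥ : Subgroup (Pt K A)) := by
  refine ⟨0, (Bialgebra.unitBialgHom K _).comp (Bialgebra.counitBialgHom K A), ?_, ?_⟩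
  · intro x
    induction x using MonoidAlgebra.induction_linear with
    | zero => exact ⟨0, map_zero _⟩
    | add x y hx hy =>
      obtain ⟨a, ha⟩ := hx
      obtain ⟨b, hb⟩ := hy
      exact ⟨a + b, by rw [map_add, ha, hb]⟩
    | single m c =>
      refine ⟨algebraMap K A c, ?_⟩
      have hm : m = 1 := Subsingleton.elim _ _
      subst hm
      change algebraMap K _ (counit (R := K) (algebraMap K A c)) = _
      rw [Bialgebra.counit_algebraMap]
      rfl
  · symm
    rw [eq_bot_iff]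
    rintro _ ⟨t, rfl⟩
    rw [Subgroup.mem_bot]
    apply Pt.ext'
    intro a
    rw [Pt.map_apply, Pt.one_apply]
    exact t.ofConv.commutes _

section

variable [IsAlgClosed K]

lemma IsTorusSub.isConn {T : Subgroup (Pt K A)} (hT : IsTorusSub T) :
    IsConn (T : Set (Pt K A)) := by
  obtain ⟨n, π, hπ, rfl⟩ := hT
  have h1 : IsConn (Set.univ : Set (Pt K (MonoidAlgebra K (Multiplicative (Fin n → ℤ))))) :=
    isConn_univ
  have h2 := h1.image_map π
  rwa [Set.image_univ] at h2

theorem isTorusSub_map_iff {φ : A →ₐc[K] B} (hφ : Function.Surjective φ) {T : Subgroup (Pt K B)} :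
    IsTorusSub (T.map (Pt.map φ)) ↔ IsTorusSub T := by
  constructor
  · rintro ⟨n, π, hπ, h⟩
    obtain ⟨χ, hχ⟩ : ∃ χ : B →ₐc[K] MonoidAlgebra K (Multiplicative (Fin n → ℤ)), χ.comp φ = π := by
      apply exists_bialgHom_factor hφ
      intro a ha
      apply eq_zero_of_forall_pt (K := K)
      intro t
      have h1 : Pt.map π t ∈ T.map (Pt.map φ) := by rw [h]; exact ⟨t, rfl⟩
      obtain ⟨g, -, hg⟩ := h1
      rw [← Pt.map_apply, ← hg, Pt.map_apply, ha]
      exact map_zero g.ofConv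
    have hχs : Function.Surjective χ := by
      intro x
      obtain ⟨a, rfl⟩ := hπ x
      exact ⟨φ a, by rw [← hχ]; rfl⟩
    refine ⟨n, χ, hχs, ?_⟩
    apply Subgroup.map_injective (Pt.map_injective hφ)
    rw [h, ← hχ]
    ext x
    constructor
    · rintro ⟨t, rfl⟩
      exact ⟨Pt.map χ t, ⟨t, rfl⟩, rfl⟩
    · rintro ⟨_, ⟨t, rfl⟩, rfl⟩
      exact ⟨t, rfl⟩
  · rintro ⟨n, π, hπ, rfl⟩
    refine ⟨n, π.comp φ, hπ.comp hφ, ?_⟩
    ext x
    constructor
    · rintro ⟨_, ⟨t, rfl⟩, rfl⟩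
      exact ⟨t, rfl⟩
    · rintro ⟨t, rfl⟩
      exact ⟨Pt.map π t, ⟨t, rfl⟩, rfl⟩

/-- Tori are contained in tori which are maximal among the tori satisfying a property. -/
theorem IsTorusSub.exists_maximal [Algebra.FiniteType K A] (P : Subgroup (Pt K A) → Prop)
    {S : Subgroup (Pt K A)} (hS : IsTorusSub S) (hP : P S) :
    ∃ T : Subgroup (Pt K A), IsTorusSub T ∧ P T ∧ S ≤ T ∧
      ∀ T' : Subgroup (Pt K A), IsTorusSub T' → P T' → T ≤ T' → T' = T := by
  classical
  have hNoeth : IsNoetherianRing A := Algebra.FiniteType.isNoetherianRing K A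
  let Q : Set (Subgroup (Pt K A)) := {T | IsTorusSub T ∧ P T ∧ S ≤ T}
  let f : Subgroup (Pt K A) → ℕ∞ := fun T => (vanIdeal (T : Set (Pt K A))).height
  obtain ⟨T, hT, hmin⟩ : ∃ T ∈ Q, ∀ T' ∈ Q, f T ≤ f T' := by
    have hne : (f '' Q).Nonempty := ⟨_, S, ⟨hS, hP, le_rfl⟩, rfl⟩
    obtain ⟨T, hT, hTe⟩ := csInf_mem hne
    refine ⟨T, hT, fun T' hT' => ?_⟩
    rw [hTe]
    exact csInf_le' ⟨T', hT', rfl⟩
  refine ⟨T, hT.1, hT.2.1, hT.2.2, fun T' hT' hPT' hle => ?_⟩
  have h1 := hmin T' ⟨hT', hPT', hT.2.2.trans hle⟩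
  have h2 : vanIdeal (T' : Set (Pt K A)) ≤ vanIdeal (T : Set (Pt K A)) := vanIdeal_anti hle
  have hp : (vanIdeal (T' : Set (Pt K A))).IsPrime := hT'.isConn
  have hp2 : (vanIdeal (T : Set (Pt K A))).IsPrime := hT.1.isConn
  rcases h2.lt_or_eq with h3 | h3
  · exfalso
    have h4 := Ideal.height_strict_mono_of_isPrime h3
    exact absurd h1 (not_le.2 h4)
  · exact SetLike.coe_injective (hT'.isCl.ext hT.1.isCl h3)

/-- Every torus is contained in a maximal torus. -/
theorem IsTorusSub.exists_isMaxTorusSub [Algebra.FiniteType K A] {S : Subgroup (Pt K A)}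
    (hS : IsTorusSub S) : ∃ T : Subgroup (Pt K A), IsMaxTorusSub T ∧ S ≤ T := by
  obtain ⟨T, h1, -, h2, h3⟩ := hS.exists_maximal (fun _ => True) trivial
  exact ⟨T, ⟨h1, fun T' hT' hle => h3 T' hT' trivial hle⟩, h2⟩

variable (K A) in
/-- Maximal tori exist. -/
theorem exists_isMaxTorusSub [Algebra.FiniteType K A] :
    ∃ T : Subgroup (Pt K A), IsMaxTorusSub T := by
  obtain ⟨T, hT, -⟩ := (isTorusSub_bot (K := K) (A := A)).exists_isMaxTorusSub
  exact ⟨T, hT⟩

/-- Every torus in a subgroup `H` is contained in a torus which is maximal among the tori in `H`. -/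
theorem IsTorusSub.exists_maximal_le [Algebra.FiniteType K A] {S H : Subgroup (Pt K A)}
    (hS : IsTorusSub S) (hSH : S ≤ H) :
    ∃ T : Subgroup (Pt K A), IsTorusSub T ∧ T ≤ H ∧ S ≤ T ∧
      ∀ T' : Subgroup (Pt K A), IsTorusSub T' → T' ≤ H → T ≤ T' → T' = T :=
  hS.exists_maximal (fun T => T ≤ H) hSH

/-- Maximal tori of the quotient Hopf algebra. -/
theorem isMaxTorusSub_map_iff {φ : A →ₐc[K] B} (hφ : Function.Surjective φ)
    {T : Subgroup (Pt K B)} : IsMaxTorusSub T ↔ IsTorusSub (T.map (Pt.map φ)) ∧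
      ∀ T' : Subgroup (Pt K A), IsTorusSub T' → T' ≤ (Pt.map φ).range → T.map (Pt.map φ) ≤ T' →
        T' = T.map (Pt.map φ) := by
  rw [IsMaxTorusSub, isTorusSub_map_iff hφ]
  refine and_congr_right fun hT => ⟨fun h T' hT' hle hTT' => ?_, fun h T' hT' hTT' => ?_⟩
  · have h1 : (T'.comap (Pt.map φ)).map (Pt.map φ) = T' := by
      rw [Subgroup.map_comap_eq, inf_eq_right.2 hle]
    rw [← h1, isTorusSub_map_iff hφ] at hT'
    have h2 := h _ hT' (Subgroup.map_le_iff_le_comap.1 hTT')
    rw [← h2, h1]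
  · have h1 := h (T'.map (Pt.map φ)) ((isTorusSub_map_iff hφ).2 hT')
      (by rintro _ ⟨x, -, rfl⟩; exact ⟨x, rfl⟩) (Subgroup.map_mono hTT')
    exact Subgroup.map_injective (Pt.map_injective hφ) h1

end

end Tori

section Transfer

variable {K : Type u} [Field K] [IsAlgClosed K] {A : Type u} [CommRing A] [HopfAlgebra K A]
variable [Algebra.FiniteType K A] {B : Type u} [CommRing B] [HopfAlgebra K B]

omit [IsAlgClosed K] [Algebra.FiniteType K A] in
/-- Closed subgroups of the image of a closed immersion. -/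
lemma isCl_map_iff {φ : A →ₐc[K] B} (hφ : Function.Surjective φ) {N : Subgroup (Pt K B)} :
    IsCl ((N.map (Pt.map φ) : Subgroup (Pt K A)) : Set (Pt K A)) ↔ IsCl (N : Set (Pt K B)) := by
  constructor
  · intro h
    have h1 := h.preimage_map φ
    rwa [Subgroup.coe_map, Set.preimage_image_eq _ (Pt.map_injective hφ)] at h1
  · intro h
    rw [Subgroup.coe_map]
    exact h.image_map hφ

omit [IsAlgClosed K] [Algebra.FiniteType K A] in
lemma isConn_map_iff {φ : A →ₐc[K] B} (hφ : Function.Surjective φ) {N : Subgroup (Pt K B)} :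
    IsConn ((N.map (Pt.map φ) : Subgroup (Pt K A)) : Set (Pt K A)) ↔ IsConn (N : Set (Pt K B)) := by
  rw [Subgroup.coe_map]
  exact ⟨isConn_of_image_map hφ, fun h => h.image_map φ⟩

omit [IsAlgClosed K] [Algebra.FiniteType K A] in
lemma map_comap_of_le {φ : A →ₐc[K] B} {N : Subgroup (Pt K A)} (h : N ≤ (Pt.map φ).range) :
    (N.comap (Pt.map φ)).map (Pt.map φ) = N := by
  rw [Subgroup.map_comap_eq, inf_eq_right.2 h]

omit [IsAlgClosed K] [Algebra.FiniteType K A] in
/-- Centralizers under a closed immersion. -/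
lemma map_centralizer {φ : A →ₐc[K] B} (hφ : Function.Surjective φ) (N : Subgroup (Pt K B)) :
    (Subgroup.centralizer (N : Set (Pt K B))).map (Pt.map φ) =
      (Pt.map φ).range ⊓ Subgroup.centralizer ((N.map (Pt.map φ) : Subgroup (Pt K A)) :
        Set (Pt K A)) := by
  ext x
  constructor
  · rintro ⟨y, hy, rfl⟩
    refine ⟨⟨y, rfl⟩, ?_⟩
    change Pt.map φ y ∈ Subgroup.centralizer _
    rw [Subgroup.mem_centralizer_iff]
    rintro _ ⟨z, hz, rfl⟩
    rw [← map_mul, ← map_mul, Subgroup.mem_centralizer_iff.1 hy z hz]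
  · rintro ⟨⟨y, rfl⟩, hy⟩
    refine ⟨y, ?_, rfl⟩
    change Pt.map φ y ∈ Subgroup.centralizer _ at hy
    change y ∈ Subgroup.centralizer _
    rw [Subgroup.mem_centralizer_iff] at hy ⊢
    intro z hz
    apply Pt.map_injective hφ
    rw [map_mul, map_mul]
    exact hy _ ⟨z, hz, rfl⟩

omit [IsAlgClosed K] [Algebra.FiniteType K A] in
/-- Centralizer in the smaller group. -/
lemma mem_centralizer_map_iff {φ : A →ₐc[K] B} (hφ : Function.Surjective φ)
    {N : Subgroup (Pt K B)} {y : Pt K B} :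
    Pt.map φ y ∈ Subgroup.centralizer ((N.map (Pt.map φ) : Subgroup (Pt K A)) : Set (Pt K A)) ↔
      y ∈ Subgroup.centralizer (N : Set (Pt K B)) := by
  have h1 := map_centralizer hφ N
  constructor
  · intro h
    have h2 : Pt.map φ y ∈ (Subgroup.centralizer (N : Set (Pt K B))).map (Pt.map φ) := by
      rw [h1]; exact ⟨⟨y, rfl⟩, h⟩
    obtain ⟨z, hz, hzy⟩ := h2
    rwa [← Pt.map_injective hφ hzy]
  · intro h
    have h2 : Pt.map φ y ∈ (Subgroup.centralizer (N : Set (Pt K B))).map (Pt.map φ) := ⟨y, h, rfl⟩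
    rw [h1] at h2
    exact h2.2

omit [IsAlgClosed K] [Algebra.FiniteType K A] in
/-- Normalizers under a closed immersion. -/
lemma mem_normalizer_map_iff {φ : A →ₐc[K] B} (hφ : Function.Surjective φ)
    {N : Subgroup (Pt K B)} {y : Pt K B} :
    Pt.map φ y ∈ Subgroup.normalizer ((N.map (Pt.map φ) : Subgroup (Pt K A)) : Set (Pt K A)) ↔
      y ∈ Subgroup.normalizer (N : Set (Pt K B)) := by
  rw [Subgroup.mem_normalizer_iff, Subgroup.mem_normalizer_iff]
  have hmem : ∀ z : Pt K B, Pt.map φ z ∈ N.map (Pt.map φ) ↔ z ∈ N := by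
    intro z
    constructor
    · rintro ⟨w, hw, hwz⟩
      rwa [← Pt.map_injective hφ hwz]
    · exact fun h => ⟨z, h, rfl⟩
  constructor
  · intro h z
    rw [← hmem z, ← hmem (y * z * y⁻¹), map_mul, map_mul, map_inv]
    exact h _
  · intro h x
    constructor
    · rintro ⟨z, hz, rfl⟩
      exact ⟨y * z * y⁻¹, (h z).1 hz, by simp⟩
    · rintro ⟨z, hz, hzx⟩
      refine ⟨y⁻¹ * z * y, ?_, ?_⟩
      · apply (h _).2
        have : y * (y⁻¹ * z * y) * y⁻¹ = z := by group
        rwa [this]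
      · rw [map_mul, map_mul, hzx, map_inv]
        group

variable [IsReduced A]

/-- Relative reductivity of the image of a closed immersion. -/
theorem isRedSub_range_iff {φ : A →ₐc[K] B} (hφ : Function.Surjective φ) :
    IsRedSub (Pt.map φ).range ↔ IsRedPt K B := by
  constructor
  · intro h N hN hcl hconn hu
    have h1 := h (N.map (Pt.map φ)) (by rintro _ ⟨x, -, rfl⟩; exact ⟨x, rfl⟩) (by
      rintro _ ⟨y, rfl⟩
      rw [Subgroup.mem_normalizer_iff]
      intro x
      constructor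
      · rintro ⟨z, hz, rfl⟩
        exact ⟨y * z * y⁻¹, hN.conj_mem z hz y, by simp⟩
      · rintro ⟨z, hz, hzx⟩
        refine ⟨y⁻¹ * z * y, ?_, ?_⟩
        · have := hN.conj_mem z hz y⁻¹
          rwa [inv_inv] at this
        · rw [map_mul, map_mul, hzx, map_inv]
          group) ((isCl_map_iff hφ).2 hcl) ((isConn_map_iff hφ).2 hconn) (by
      rintro _ ⟨z, hz, rfl⟩
      exact (hu z hz).map φ)
    exact (Subgroup.map_eq_bot_iff_of_injective _ (Pt.map_injective hφ)).1 h1
  · intro h N hN hn hcl hconn hu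
    have hNN := map_comap_of_le hN
    rw [← hNN] at hcl hconn
    have h1 := h (N.comap (Pt.map φ)) ⟨fun x hx g => by
      rw [Subgroup.mem_comap, map_mul, map_mul, map_inv]
      exact (Subgroup.mem_normalizer_iff.1 (hn ⟨g, rfl⟩) _).1 hx⟩ ((isCl_map_iff hφ).1 hcl)
      ((isConn_map_iff hφ).1 hconn) (fun x hx => isUnip_of_map hφ (hu _ hx))
    rw [← hNN, h1, Subgroup.map_bot]

/-- Relative reductivity of a closed subgroup is reductivity of the quotient Hopf algebra. -/
theorem isRedSub_iff {H : Subgroup (Pt K A)} (hH : IsCl (H : Set (Pt K A))) :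
    IsRedSub H ↔ IsRedPt K (A ⧸ vanIdeal (H : Set (Pt K A))) := by
  have h1 := range_quotMap_vanIdeal H hH
  have h2 := isRedSub_range_iff (K := K)
    (φ := Bialgebra.Quotient.mkBialgHom (R := K) (vanIdeal (H : Set (Pt K A))))
    Ideal.Quotient.mk_surjective
  rw [← h2]
  exact Iff.of_eq (congrArg IsRedSub h1.symm)

omit [IsReduced A] [Algebra.FiniteType K A] in
/-- Maximal tori of a closed subgroup `H` and of the quotient Hopf algebra. -/
theorem isMaxTorusSub_quot_iff {H : Subgroup (Pt K A)} (hH : IsCl (H : Set (Pt K A)))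
    {T : Subgroup (Pt K (A ⧸ vanIdeal (H : Set (Pt K A))))} :
    IsMaxTorusSub T ↔ IsTorusSub (T.map (quotMap (vanIdeal (H : Set (Pt K A))))) ∧
      ∀ T' : Subgroup (Pt K A), IsTorusSub T' → T' ≤ H →
        T.map (quotMap (vanIdeal (H : Set (Pt K A)))) ≤ T' →
        T' = T.map (quotMap (vanIdeal (H : Set (Pt K A)))) := by
  have h1 := range_quotMap_vanIdeal H hH
  have h2 := isMaxTorusSub_map_iff (K := K)
    (φ := Bialgebra.Quotient.mkBialgHom (R := K) (vanIdeal (H : Set (Pt K A))))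
    Ideal.Quotient.mk_surjective (T := T)
  rw [h2]
  refine and_congr_right fun _ => forall_congr' fun T' => forall_congr' fun _ => ?_
  have h3 : T' ≤ (Pt.map (Bialgebra.Quotient.mkBialgHom (R := K)
      (vanIdeal (H : Set (Pt K A))))).range ↔ T' ≤ H := Iff.of_eq (congrArg (T' ≤ ·) h1)
  rw [h3]

end Transfer

end Groth.Agent.Sga3B.RG
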