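import Groth.Agent.Sga3B.RG.BrMax
import Groth.Agent.Sga3B.RG.BrRed2
import Groth.Agent.Sga3B.RG.Rel885

/-!
# Bridge: in a reductive group over an algebraically closed field, every maximal torus is its own
centralizer (scheme form), from the statement in terms of points; existence and conjugacy of maximal
tori in scheme form.
-/

set_option autoImplicit false

universe u

open CategoryTheory MonoidalCategory CartesianMonoidalCategory MonObj GrpObj AlgebraicGeometry
open Groth.Agent.Books.AffBridge Groth.Agent.Books.AffBridge2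
open TensorProduct Coalgebra

namespace Groth.Agent.Sga3B.RG.BrHc

open BrPts BrDiag BrTorus BrRed BrImg BrRed2

noncomputable section

/-- The statement `P7'` over `K`: maximal tori of reductive groups are self-centralizing (in terms of
points). -/
def SelfCent (K : Type u) [Field K] [IsAlgClosed K] : Prop :=
  ∀ (A : Type u) [CommRing A] [HopfAlgebra K A] [Algebra.FiniteType K A] [IsDomain A],
    IsRedPt K A → ∀ T : Subgroup (Pt K A), IsMaxTorusSub T →
      Subgroup.centralizer (T : Set (Pt K A)) ≤ T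

/-- The statement `P7` over `K`: maximal tori are conjugate (in terms of points). -/
def ConjTori (K : Type u) [Field K] [IsAlgClosed K] : Prop :=
  ∀ (A : Type u) [CommRing A] [HopfAlgebra K A] [Algebra.FiniteType K A] [IsDomain A],
    ∀ T T' : Subgroup (Pt K A), IsMaxTorusSub T → IsMaxTorusSub T' →
      ∃ g : Pt K A, T.map (MulAut.conj g).toMonoidHom = T'

variable {K : Type u} [Field K] [IsAlgClosed K]

omit [IsAlgClosed K] in
/-- Presentation of a smooth affine group by a Hopf algebra. -/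
theorem exists_hopf_ft (G : Over (Spec (CommRingCat.of K))) [GrpObj G] [IsAffine G.left]
    [LocallyOfFiniteType G.hom] :
    ∃ (A : Type u) (_ : CommRing A) (_ : HopfAlgebra K A) (e : G ≅ SpecOver K A),
      IsMonHom e.hom ∧ Algebra.FiniteType K A := by
  obtain ⟨A, _, _, e, he⟩ := Groth.Agent.Books.AffBridge.exists_hopf K G
  refine ⟨A, inferInstance, inferInstance, e, he, ?_⟩
  have : LocallyOfFiniteType (SpecOver K A).hom := by
    rw [hom_eq_of_iso e.symm]
    have : IsIso e.symm.hom.left := inferInstanceAs (IsIso ((Over.forget _).map e.inv))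
    infer_instance
  exact (locallyOfFiniteType_specOver_iff K A).1 inferInstance

/-- Presentation of a reductive group by a Hopf algebra. -/
theorem exists_hopf_of_isReductiveOver (G : Over (Spec (CommRingCat.of K))) [GrpObj G]
    (h : Red.IsReductiveOver K G) :
    ∃ (A : Type u) (_ : CommRing A) (_ : HopfAlgebra K A) (e : G ≅ SpecOver K A),
      IsMonHom e.hom ∧ Algebra.FiniteType K A ∧ IsDomain A ∧ IsRedPt K A := by
  have haff : IsAffine G.left := h.1
  have hsm : Smooth G.hom := h.2.1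
  obtain ⟨A, _, _, e, he, hft⟩ := exists_hopf_ft G
  obtain ⟨h1, h2⟩ := isReductiveOver_iff.1 (isReductiveOver_of_iso e h)
  exact ⟨A, inferInstance, inferInstance, e, he, hft, h1, h2⟩

/-- **A maximal torus of a reductive group over an algebraically closed field is its own centralizer**
(scheme form), from `SelfCent`. -/
theorem exists_factor (hSC : SelfCent K) (G T : Over (Spec (CommRingCat.of K))) [GrpObj G] [GrpObj T]
    (i : T ⟶ G) (hG : Red.IsReductiveOver K G) (hi : Red.IsMaximalTorus i)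
    (X : Over (Spec (CommRingCat.of K))) (g : X ⟶ G)
    (hg : ∀ (X' : Over (Spec (CommRingCat.of K))) (x : X' ⟶ X) (t : X' ⟶ T),
      (x ≫ g) * (t ≫ i) = (t ≫ i) * (x ≫ g)) : ∃ t : X ⟶ T, g = t ≫ i := by
  obtain ⟨A, _, _, e, he, hft, hdom, hred⟩ := exists_hopf_of_isReductiveOver G hG
  exact BrMax.exists_factor_of_isMaximalTorus e i hi (fun T' hT' => hSC A hred T' hT') X g hg

/-- **Existence of maximal tori** (scheme form). -/
theorem exists_isMaximalTorus (G : Over (Spec (CommRingCat.of K))) [GrpObj G] [IsAffine G.left]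
    [LocallyOfFiniteType G.hom] :
    ∃ (T : Over (Spec (CommRingCat.of K))) (_ : GrpObj T) (i : T ⟶ G), Red.IsMaximalTorus i ∧
      ∃ r : ℕ, Red.IsSplitTorusWith (Fin r → ℤ) T := by
  obtain ⟨A, _, _, e, he, hft⟩ := exists_hopf_ft G
  obtain ⟨T', hT'⟩ := exists_isMaxTorusSub K A
  obtain ⟨T, _, i, hi, hT, hcl, hTT⟩ := exists_of_isTorusSub hT'.1
  have hm : Mono i := Books.AlgPtsGrp.mono_of_isClosedImmersion i
  have hinv : IsMonHom e.inv := inferInstance
  have hm2 : Mono (i ≫ e.inv) := mono_comp _ _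
  refine ⟨T, inferInstance, i ≫ e.inv, ?_, TorusAlgClosed.exists_isSplitTorusWith hT⟩
  apply BrMax.isMaximalTorus_of_isMaxTorusSub (i ≫ e.inv) hT e
  have : (i ≫ e.inv) ≫ e.hom = i := by rw [Category.assoc, Iso.inv_hom_id, Category.comp_id]
  have h2 : ptsSub ((i ≫ e.inv) ≫ e.hom) = ptsSub i := by
    ext g
    rw [mem_ptsSub, mem_ptsSub, this]
  rw [h2, hTT]
  exact hT'

section conj

variable {S : Scheme.{u}}

/-- Criterion for homomorphisms. -/
lemma isMonHom_of_mul {G H : Over S} [GrpObj G] [GrpObj H] (c : G ⟶ H)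
    (h : ∀ (X : Over S) (x y : X ⟶ G), (x * y) ≫ c = (x ≫ c) * (y ≫ c)) : IsMonHom c := by
  have h1 : ∀ X : Over S, (1 : X ⟶ G) ≫ c = 1 := by
    intro X
    have := h X 1 1
    rw [_root_.mul_one] at this
    exact (mul_eq_left (a := (1 : X ⟶ G) ≫ c)).1 this.symm
  constructor
  · rw [one_eq_one, one_eq_one]
    exact h1 _
  · rw [mul_eq_mul, h, Hom.mul_def]
    congr 1

/-- Conjugation of a homomorphism by a section of the target. -/
def conjHom {T G : Over S} [GrpObj G] (γ : 𝟙_ (Over S) ⟶ G) (i : T ⟶ G) : T ⟶ G :=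
  (toUnit T ≫ γ) * i * (toUnit T ≫ γ)⁻¹

lemma comp_conjHom {T G X : Over S} [GrpObj G] (γ : 𝟙_ (Over S) ⟶ G) (i : T ⟶ G) (t : X ⟶ T) :
    t ≫ conjHom γ i = (toUnit X ≫ γ) * (t ≫ i) * (toUnit X ≫ γ)⁻¹ := by
  have h1 : t ≫ toUnit T ≫ γ = toUnit X ≫ γ := by
    rw [← Category.assoc]
    congr 1
    exact toUnit_unique _ _
  rw [conjHom, MonObj.comp_mul, MonObj.comp_mul, GrpObj.comp_inv, h1]

instance isMonHom_conjHom {T G : Over S} [GrpObj T] [GrpObj G] (γ : 𝟙_ (Over S) ⟶ G) (i : T ⟶ G)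
    [IsMonHom i] : IsMonHom (conjHom γ i) := by
  apply isMonHom_of_mul
  intro X x y
  rw [comp_conjHom, comp_conjHom, comp_conjHom, MonObj.mul_comp]
  group

end conj

lemma comp_conjHom' {S : Scheme.{u}} {T G X : Over S} [GrpObj G] (γ : 𝟙_ (Over S) ⟶ G)
    (i : T ⟶ G) (t : X ⟶ T) : t ≫ conjHom γ i = conjHom γ (t ≫ i) := by
  rw [comp_conjHom, conjHom]

lemma conjHom_inv_conjHom {S : Scheme.{u}} {T G : Over S} [GrpObj G] (γ : 𝟙_ (Over S) ⟶ G)
    (i : T ⟶ G) : conjHom γ⁻¹ (conjHom γ i) = i := by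
  rw [conjHom, conjHom, GrpObj.comp_inv]
  group

lemma conjHom_conjHom_inv {S : Scheme.{u}} {T G : Over S} [GrpObj G] (γ : 𝟙_ (Over S) ⟶ G)
    (i : T ⟶ G) : conjHom γ (conjHom γ⁻¹ i) = i := by
  rw [conjHom, conjHom, GrpObj.comp_inv]
  group

/-- Conjugate subgroups of points: homomorphism form. -/
theorem exists_hom_of_conj {A : Type u} [CommRing A] [HopfAlgebra K A] [Algebra.FiniteType K A]
    {G T T' : Over (Spec (CommRingCat.of K))} [GrpObj G] [GrpObj T] [GrpObj T']
    (e : G ≅ SpecOver K A) [IsMonHom e.hom] (i : T ⟶ G) [IsMonHom i] (i' : T' ⟶ G) [IsMonHom i']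
    [Smooth T.hom] (hcl' : IsClosedImmersion (i' ≫ e.hom).left) (g : Pt K A)
    (hg : (ptsSub (i ≫ e.hom)).map (MulAut.conj g).toMonoidHom = ptsSub (i' ≫ e.hom)) :
    ∃ f : T ⟶ T', f ≫ i' = conjHom (ptEquiv K A g ≫ e.inv) i := by
  have hinv : IsMonHom e.inv := inferInstance
  set γ : 𝟙_ (Over (Spec (CommRingCat.of K))) ⟶ G := ptEquiv K A g ≫ e.inv with hγ'
  have hγ : γ ≫ e.hom = ptEquiv K A g := by
    simp only [γ, Category.assoc, Iso.inv_hom_id, Category.comp_id]
  have hkey : ∀ {X : Over (Spec (CommRingCat.of K))} (x : X ⟶ G),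
      ((toUnit X ≫ γ) * x * (toUnit X ≫ γ)⁻¹) ≫ e.hom =
        (toUnit X ≫ ptEquiv K A g) * (x ≫ e.hom) * (toUnit X ≫ ptEquiv K A g)⁻¹ := by
    intro X x
    rw [MonObj.mul_comp, MonObj.mul_comp, GrpObj.inv_comp, Category.assoc, hγ]
  have h3 : toUnit (𝟙_ (Over (Spec (CommRingCat.of K)))) ≫ ptEquiv K A g = ptEquiv K A g := by
    rw [toUnit_unique (toUnit (𝟙_ (Over (Spec (CommRingCat.of K))))) (𝟙 _), Category.id_comp]
  obtain ⟨f, hf⟩ := exists_factor_of_le (K := K) (conjHom γ i ≫ e.hom) (i' ≫ e.hom) (by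
    rintro x ⟨t, ht⟩
    rw [← hg]
    refine ⟨g⁻¹ * x * g, ⟨t, ?_⟩, ?_⟩
    · rw [← Category.assoc, comp_conjHom, hkey, h3] at ht
      rw [map_mul, map_mul, ← ht, map_inv, Category.assoc]
      group
    · change g * (g⁻¹ * x * g) * g⁻¹ = x
      group)
  exact ⟨f, by rw [← cancel_mono e.hom, Category.assoc, hf]⟩

/-- **Conjugacy of maximal tori** (scheme form), from `ConjTori`. -/
theorem exists_conj_iso (hCT : ConjTori K) (G : Over (Spec (CommRingCat.of K))) [GrpObj G]
    [IsAffine G.left] [Smooth G.hom] [ConnectedSpace G.left]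
    {T T' : Over (Spec (CommRingCat.of K))} [GrpObj T] [GrpObj T'] (i : T ⟶ G) (i' : T' ⟶ G)
    (hi : Red.IsMaximalTorus i) (hi' : Red.IsMaximalTorus i') :
    ∃ (γ : 𝟙_ (Over (Spec (CommRingCat.of K))) ⟶ G) (f : T ≅ T'), IsMonHom f.hom ∧
      f.hom ≫ i' = conjHom γ i := by
  have hmh := hi.1
  have hmh' := hi'.1
  have hmo := hi.2.1
  have hmo' := hi'.2.1
  obtain ⟨A, _, _, e, he, hft⟩ := exists_hopf_ft G
  have hinv : IsMonHom e.inv := inferInstance
  have hsm : Smooth (SpecOver K A).hom := by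
    rw [hom_eq_of_iso e.symm]
    have : IsIso e.symm.hom.left := inferInstanceAs (IsIso ((Over.forget _).map e.inv))
    infer_instance
  have hcn : ConnectedSpace (SpecOver K A).left :=
    (Books.AlgPtsIrred.homeo e).surjective.connectedSpace (Books.AlgPtsIrred.homeo e).continuous
  have hdom : IsDomain A := (isDomain_iff (K := K) A).1 ⟨hsm, hcn⟩
  have h1 := BrMax.isMaxTorusSub_of_isMaximalTorus i e hi
  have h2 := BrMax.isMaxTorusSub_of_isMaximalTorus i' e hi'
  obtain ⟨g, hg⟩ := hCT A _ _ h1 h2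
  have hcl : IsClosedImmersion (i ≫ e.hom).left := isClosedImmersion_of_torus _ hi.2.2.1
  have hcl' : IsClosedImmersion (i' ≫ e.hom).left := isClosedImmersion_of_torus _ hi'.2.2.1
  have := TorusAlgClosed.smooth_of_isTorus hi.2.2.1
  have := TorusAlgClosed.smooth_of_isTorus hi'.2.2.1
  obtain ⟨f, hf⟩ := exists_hom_of_conj e i i' hcl' g hg
  obtain ⟨f', hf'⟩ := exists_hom_of_conj e i' i hcl g⁻¹ (by
    have hid : (MulAut.conj g⁻¹).toMonoidHom.comp (MulAut.conj g).toMonoidHom =
        MonoidHom.id (Pt K A) := by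
      refine MonoidHom.ext fun x => ?_
      change g⁻¹ * (g * x * g⁻¹) * g⁻¹⁻¹ = x
      group
    rw [← hg, Subgroup.map_map, hid, Subgroup.map_id])
  have hγ : ptEquiv K A g⁻¹ ≫ e.inv = (ptEquiv K A g ≫ e.inv)⁻¹ := by
    rw [map_inv, GrpObj.inv_comp]
  rw [hγ] at hf'
  refine ⟨ptEquiv K A g ≫ e.inv, ⟨f, f', ?_, ?_⟩, ?_, hf⟩
  · rw [← cancel_mono i, Category.assoc, hf', comp_conjHom', hf, conjHom_inv_conjHom,
      Category.id_comp]
  · rw [← cancel_mono i', Category.assoc, hf, comp_conjHom', hf', conjHom_conjHom_inv,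
      Category.id_comp]
  · apply isMonHom_of_mul
    intro X x y
    change (x * y) ≫ f = (x ≫ f) * (y ≫ f)
    rw [← cancel_mono i', Category.assoc, hf, MonObj.mul_comp, MonObj.mul_comp, Category.assoc,
      Category.assoc, hf]

end

end Groth.Agent.Sga3B.RG.BrHc
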