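import Groth.Agent.Sga3B.RG.Defs
import Groth.Agent.Books.AffBridge2
import Groth.Agent.Books.AlgPtsSmooth
import Groth.Agent.Books.PointsAC

/-!
# Bridge between affine group schemes over an algebraically closed field and points, part 1

`ptEquiv K A : Pt K A ≃* (𝟙_ ⟶ SpecOver K A)`; domains and smooth connected groups; checking
normality and factorisations on rational points; the subgroup of points of a closed subgroup scheme.
-/

set_option autoImplicit false

universe u

open CategoryTheory MonoidalCategory CartesianMonoidalCategory MonObj GrpObj AlgebraicGeometry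
open Groth.Agent.Books.AffBridge Groth.Agent.Books.AffBridge2

namespace Groth.Agent.Sga3B.RG.BrPts

open Books.AlgPts Books.AlgPtsGrp Books.AlgPtsSmooth Books.AlgPtsGen Books.AlgPtsIrred

noncomputable section

section equiv

variable (K : Type u) [Field K]

/-- `R`-points of `Spec A` for a Hopf algebra `A`. -/
def rptEquiv (A R : Type u) [CommRing A] [Bialgebra K A] [CommRing R] [Algebra K R] :
    WithConv (A →ₐ[K] R) ≃* (SpecOver K R ⟶ SpecOver K A) where
  toFun g := specMap K g.ofConv
  invFun x := WithConv.toConv (specPreimage K x)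
  left_inv g := by simp
  right_inv x := by simp
  map_mul' g h := specMap_mul K g h

@[simp] lemma rptEquiv_apply {A R : Type u} [CommRing A] [Bialgebra K A] [CommRing R] [Algebra K R]
    (g : WithConv (A →ₐ[K] R)) : rptEquiv K A R g = specMap K g.ofConv := rfl

/-- The rational points of `Spec A`. -/
def ptEquiv (A : Type u) [CommRing A] [HopfAlgebra K A] :
    Pt K A ≃* (𝟙_ (Over (Spec (CommRingCat.of K))) ⟶ SpecOver K A) where
  toFun g := (unitIso K).hom ≫ specMap K g.ofConv
  invFun x := WithConv.toConv (specPreimage K ((unitIso K).inv ≫ x))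
  left_inv g := by
    dsimp only
    rw [Iso.inv_hom_id_assoc, specPreimage_specMap, WithConv.toConv_ofConv]
  right_inv x := by
    dsimp only
    rw [specMap_specPreimage, Iso.hom_inv_id_assoc]
  map_mul' g h := by rw [specMap_mul, MonObj.comp_mul]

lemma ptEquiv_apply {A : Type u} [CommRing A] [HopfAlgebra K A] (g : Pt K A) :
    ptEquiv K A g = (unitIso K).hom ≫ specMap K g.ofConv := rfl

lemma ptEquiv_map {A B : Type u} [CommRing A] [HopfAlgebra K A] [CommRing B] [HopfAlgebra K B]
    (φ : A →ₐc[K] B) (g : Pt K B) :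
    ptEquiv K A (Pt.map φ g) = ptEquiv K B g ≫ specMap K (φ : A →ₐ[K] B) := by
  rw [ptEquiv_apply, ptEquiv_apply, Category.assoc, ← specMap_comp]
  rfl

/-- Points of `Spec A` with values in the structure sheaf of `Spec R` via an evaluation. -/
lemma ptEquiv_comp {A R : Type u} [CommRing A] [HopfAlgebra K A] [CommRing R] [Algebra K R]
    (x : R →ₐ[K] K) (g : A →ₐ[K] R) :
    ((unitIso K).hom ≫ specMap K x) ≫ specMap K g = ptEquiv K A (WithConv.toConv (x.comp g)) := by
  rw [ptEquiv_apply, Category.assoc, ← specMap_comp]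

end equiv

section field

variable {K : Type u} [Field K]

instance isAffine_specOver (A : Type u) [CommRing A] [Algebra K A] :
    IsAffine (SpecOver K A).left := inferInstanceAs (IsAffine (Spec (CommRingCat.of A)))

lemma lft_specOver (A : Type u) [CommRing A] [Algebra K A] [Algebra.FiniteType K A] :
    LocallyOfFiniteType (SpecOver K A).hom :=
  (locallyOfFiniteType_specOver_iff K A).2 inferInstance

/-- The subgroup of rational points of `Spec A` coming from a homomorphism `i : N ⟶ Spec A`. -/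
def ptsSub {A : Type u} [CommRing A] [HopfAlgebra K A] {N : Over (Spec (CommRingCat.of K))}
    [GrpObj N] (i : N ⟶ SpecOver K A) [IsMonHom i] : Subgroup (Pt K A) where
  carrier := {g | ∃ n : 𝟙_ (Over (Spec (CommRingCat.of K))) ⟶ N, n ≫ i = ptEquiv K A g}
  mul_mem' := by
    rintro g h ⟨n, hn⟩ ⟨m, hm⟩
    exact ⟨n * m, by rw [MonObj.mul_comp, hn, hm, map_mul]⟩
  one_mem' := ⟨1, by rw [MonObj.one_comp, map_one]⟩
  inv_mem' := by
    rintro g ⟨n, hn⟩
    exact ⟨n⁻¹, by rw [GrpObj.inv_comp, hn, map_inv]⟩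

lemma mem_ptsSub {A : Type u} [CommRing A] [HopfAlgebra K A] {N : Over (Spec (CommRingCat.of K))}
    [GrpObj N] {i : N ⟶ SpecOver K A} [IsMonHom i] {g : Pt K A} :
    g ∈ ptsSub i ↔ ∃ n : 𝟙_ (Over (Spec (CommRingCat.of K))) ⟶ N, n ≫ i = ptEquiv K A g := Iff.rfl

/-- Points of a subgroup given by a bialgebra map. -/
lemma ptsSub_eq_range {A B : Type u} [CommRing A] [HopfAlgebra K A] [CommRing B] [HopfAlgebra K B]
    {N : Over (Spec (CommRingCat.of K))} [GrpObj N] (i : N ⟶ SpecOver K A) [IsMonHom i]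
    (φ : A →ₐc[K] B) (e : N ≅ SpecOver K B) (he : e.hom ≫ specMap K (φ : A →ₐ[K] B) = i) :
    ptsSub i = (Pt.map φ).range := by
  ext g
  rw [mem_ptsSub, MonoidHom.mem_range]
  constructor
  · rintro ⟨n, hn⟩
    refine ⟨(ptEquiv K B).symm (n ≫ e.hom), (ptEquiv K A).injective ?_⟩
    rw [ptEquiv_map, MulEquiv.apply_symm_apply, Category.assoc, he, hn]
  · rintro ⟨x, rfl⟩
    refine ⟨ptEquiv K B x ≫ e.inv, ?_⟩
    rw [ptEquiv_map, ← he, Category.assoc, Iso.inv_hom_id_assoc]

lemma range_map_mk {A : Type u} [CommRing A] [HopfAlgebra K A] {B : Type u} [CommRing B]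
    [HopfAlgebra K B] (φ : A →ₐc[K] B) (hφ : Function.Surjective φ) :
    ((Pt.map φ).range : Set (Pt K A)) = zeros (RingHom.ker (φ : A →ₐ[K] B)) := by
  ext g
  rw [SetLike.mem_coe, MonoidHom.mem_range, mem_zeros]
  constructor
  · rintro ⟨x, rfl⟩ a ha
    rw [Pt.map_apply]
    have : φ a = 0 := ha
    rw [this]
    exact map_zero x.ofConv
  · intro hg
    have hle : ∀ a ∈ RingHom.ker (φ : A →ₐ[K] B), g.ofConv a = 0 := hg
    let e := Ideal.quotientKerAlgEquivOfSurjective (f := (φ : A →ₐ[K] B)) hφ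
    refine ⟨WithConv.toConv ((Ideal.Quotient.liftₐ _ g.ofConv hle).comp (e.symm : B →ₐ[K] _)), ?_⟩
    apply Pt.ext'
    intro a
    rw [Pt.map_apply]
    change Ideal.Quotient.liftₐ _ g.ofConv hle (e.symm (φ a)) = g.ofConv a
    have : e.symm (φ a) = Ideal.Quotient.mk _ a := by
      rw [AlgEquiv.symm_apply_eq]
      rfl
    rw [this]
    rfl

end field

section ac

variable {K : Type u} [Field K] [IsAlgClosed K]

/-- Nullstellensatz for a quotient that is reduced. -/
lemma vanIdeal_zeros {A : Type u} [CommRing A] [HopfAlgebra K A] [Algebra.FiniteType K A]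
    (I : Ideal A) [_root_.IsReduced (A ⧸ I)] : vanIdeal (zeros (K := K) I) = I := by
  apply le_antisymm
  · intro a ha
    rw [← Ideal.Quotient.eq_zero_iff_mem]
    apply Books.PointsAC.eq_zero_of_forall_point K
    intro g
    exact ha (WithConv.toConv (g.comp (Ideal.Quotient.mkₐ K I))) (fun b hb => by
      change g (Ideal.Quotient.mk I b) = 0
      rw [Ideal.Quotient.eq_zero_iff_mem.2 hb, map_zero])
  · intro a ha g hg
    exact hg a ha

/-- A finitely generated Hopf algebra over an algebraically closed field is smooth iff it is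
reduced. -/
lemma smooth_iff (A : Type u) [CommRing A] [HopfAlgebra K A] [Algebra.FiniteType K A] :
    Smooth (SpecOver K A).hom ↔ _root_.IsReduced A := by
  constructor
  · intro h
    have h1 := isReduced_of_smooth (SpecOver K A)
    exact (affine_isReduced_iff (CommRingCat.of A)).1 h1
  · intro h
    have := lft_specOver (K := K) A
    have : IsReduced (SpecOver K A).left :=
      (affine_isReduced_iff (CommRingCat.of A)).2 h
    exact smooth_of_isReduced _

/-- A finitely generated Hopf algebra over an algebraically closed field is a domain iff the group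
is smooth and connected. -/
lemma isDomain_iff (A : Type u) [CommRing A] [HopfAlgebra K A] [Algebra.FiniteType K A] :
    (Smooth (SpecOver K A).hom ∧ ConnectedSpace (SpecOver K A).left) ↔ IsDomain A := by
  constructor
  · rintro ⟨h1, h2⟩
    have h3 := (isVar_of_smooth (SpecOver K A)).isIntegral
    exact (affine_isIntegral_iff (CommRingCat.of A)).1 h3
  · intro h
    refine ⟨(smooth_iff A).2 inferInstance, ?_⟩
    change ConnectedSpace (PrimeSpectrum A)
    infer_instance

/-- The subgroup of points of a smooth closed subgroup scheme is closed, and its vanishing ideal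
defines the subgroup scheme. -/
theorem exists_iso_vanIdeal {A : Type u} [CommRing A] [HopfAlgebra K A] [Algebra.FiniteType K A]
    {N : Over (Spec (CommRingCat.of K))} [GrpObj N] (i : N ⟶ SpecOver K A) [IsMonHom i]
    [IsClosedImmersion i.left] [Smooth N.hom] :
    IsCl (ptsSub i : Set (Pt K A)) ∧
    ∃ (_ : (vanIdeal (ptsSub i : Set (Pt K A))).IsHopfIdeal K)
      (e : N ≅ SpecOver K (A ⧸ vanIdeal (ptsSub i : Set (Pt K A)))), IsMonHom e.hom ∧
      e.hom ≫ specMap K (Ideal.Quotient.mkₐ K (vanIdeal (ptsSub i : Set (Pt K A)))) = i := by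
  obtain ⟨I, hI, e, he, hei⟩ := exists_hopfIdeal K i
  have hsm : Smooth (SpecOver K (A ⧸ I)).hom := by
    rw [hom_eq_of_iso e.symm]
    infer_instance
  have hred : _root_.IsReduced (A ⧸ I) := (smooth_iff (A ⧸ I)).1 hsm
  let φ : A →ₐc[K] (A ⧸ I) := Bialgebra.Quotient.mkBialgHom I
  have h1 : ptsSub i = (Pt.map φ).range := ptsSub_eq_range i φ e hei
  have h2 : (ptsSub i : Set (Pt K A)) = zeros I := by
    rw [h1, range_map_mk φ (Ideal.Quotient.mk_surjective)]
    congr 1
    ext a
    exact Ideal.Quotient.eq_zero_iff_mem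
  have h3 : vanIdeal (ptsSub i : Set (Pt K A)) = I := by rw [h2, vanIdeal_zeros]
  refine ⟨by rw [IsCl, h3, h2], ?_⟩
  rw [h3]
  exact ⟨hI, e, he, hei⟩

/-- A connected smooth closed subgroup has a connected (irreducible) subgroup of points. -/
theorem isConn_ptsSub {A : Type u} [CommRing A] [HopfAlgebra K A] [Algebra.FiniteType K A]
    {N : Over (Spec (CommRingCat.of K))} [GrpObj N] (i : N ⟶ SpecOver K A) [IsMonHom i]
    [IsClosedImmersion i.left] [Smooth N.hom] [ConnectedSpace N.left] :
    IsConn (ptsSub i : Set (Pt K A)) := by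
  obtain ⟨-, hI, e, -, -⟩ := exists_iso_vanIdeal i
  have h1 : Smooth (SpecOver K (A ⧸ vanIdeal (ptsSub i : Set (Pt K A)))).hom := by
    rw [hom_eq_of_iso e.symm]
    infer_instance
  have h2 : ConnectedSpace (SpecOver K (A ⧸ vanIdeal (ptsSub i : Set (Pt K A)))).left := by
    exact (homeo e).surjective.connectedSpace (homeo e).continuous
  have := (isDomain_iff (A ⧸ vanIdeal (ptsSub i : Set (Pt K A)))).1 ⟨h1, h2⟩
  exact (Ideal.Quotient.isDomain_iff_prime _).1 this

/-- A morphism from a reduced scheme factors through a closed subscheme as soon as its rational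
points do. -/
theorem exists_factor {X N G : Over (Spec (CommRingCat.of K))} (i : N ⟶ G)
    [IsClosedImmersion i.left] [LocallyOfFiniteType X.hom] [IsReduced X.left] (f : X ⟶ G)
    (h : ∀ x : 𝟙_ (Over (Spec (CommRingCat.of K))) ⟶ X,
      ∃ n : 𝟙_ (Over (Spec (CommRingCat.of K))) ⟶ N, n ≫ i = x ≫ f) :
    ∃ g : X ⟶ N, g ≫ i = f := by
  refine exists_lift i f (range_subset_of_forall_pt f i.left.isClosedEmbedding.isClosed_range
    fun x => ?_)
  obtain ⟨n, hn⟩ := h x
  rw [← hn, pt_comp]
  exact ⟨_, rfl⟩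

/-- Normality of a smooth closed subgroup of a smooth group can be checked on rational points. -/
theorem isNormalHom_of_points {N G : Over (Spec (CommRingCat.of K))} [GrpObj N] [GrpObj G]
    (i : N ⟶ G) [IsClosedImmersion i.left] [Smooth G.hom] [Smooth N.hom]
    (h : ∀ (g : 𝟙_ (Over (Spec (CommRingCat.of K))) ⟶ G)
      (n : 𝟙_ (Over (Spec (CommRingCat.of K))) ⟶ N),
      ∃ n' : 𝟙_ (Over (Spec (CommRingCat.of K))) ⟶ N, g * (n ≫ i) * g⁻¹ = n' ≫ i) :
    AlgGrp.IsNormalHom i := by
  have hsm : Smooth (G ⊗ N).hom := by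
    rw [Over.tensorObj_hom]
    infer_instance
  have hred : IsReduced (G ⊗ N).left := isReduced_of_smooth (G ⊗ N)
  obtain ⟨c, hc⟩ := exists_factor i (fst G N * (snd G N ≫ i) * (fst G N)⁻¹) (fun x => by
    obtain ⟨n', hn'⟩ := h (x ≫ fst G N) (x ≫ snd G N)
    refine ⟨n', ?_⟩
    rw [← hn', MonObj.comp_mul, MonObj.comp_mul, GrpObj.comp_inv, Category.assoc])
  intro T g n
  refine ⟨lift g n ≫ c, ?_⟩
  rw [Category.assoc, hc, MonObj.comp_mul, MonObj.comp_mul, GrpObj.comp_inv, lift_fst,
    lift_snd_assoc]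

/-- Morphisms from a reduced scheme to a separated scheme agreeing on rational points are equal. -/
theorem hom_ext_of_points {X G : Over (Spec (CommRingCat.of K))} [LocallyOfFiniteType X.hom]
    [IsReduced X.left] [IsSeparated G.hom] (f g : X ⟶ G)
    (h : ∀ x : 𝟙_ (Over (Spec (CommRingCat.of K))) ⟶ X, x ≫ f = x ≫ g) : f = g := by
  have h1 : IsClosedImmersion (lift (𝟙 G) (𝟙 G) : G ⟶ G ⊗ G).left := by
    have : (lift (𝟙 G) (𝟙 G) : G ⟶ G ⊗ G).left = Limits.pullback.diagonal G.hom := by
      apply Limits.pullback.hom_ext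
      · exact (congr($(lift_fst (𝟙 G) (𝟙 G)).left)).trans (Limits.pullback.diagonal_fst _).symm
      · exact (congr($(lift_snd (𝟙 G) (𝟙 G)).left)).trans (Limits.pullback.diagonal_snd _).symm
    rw [this]
    infer_instance
  obtain ⟨c, hc⟩ := exists_factor (lift (𝟙 G) (𝟙 G)) (lift f g) (fun x => ⟨x ≫ f, by
    rw [comp_lift, comp_lift, Category.comp_id, h x]⟩)
  have h2 := congr($hc ≫ fst G G)
  have h3 := congr($hc ≫ snd G G)
  rw [Category.assoc, lift_fst, lift_fst, Category.comp_id] at h2
  rw [Category.assoc, lift_snd, lift_snd, Category.comp_id] at h3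
  rw [← h2, ← h3]

/-- A smooth separated group scheme all of whose rational points are trivial is trivial. -/
theorem isTrivialGrp_of_points (N : Over (Spec (CommRingCat.of K))) [GrpObj N] [Smooth N.hom]
    [IsSeparated N.hom] (h : ∀ x : 𝟙_ (Over (Spec (CommRingCat.of K))) ⟶ N, x = 1) :
    IsIso N.hom := by
  have hred : IsReduced N.left := isReduced_of_smooth N
  have h1 : (𝟙 N : N ⟶ N) = toUnit N ≫ η[N] := by
    refine hom_ext_of_points _ _ fun x => ?_
    rw [Category.comp_id, h x, ← one_eq_one, ← Category.assoc]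
    have : η[N] ≫ toUnit N = 𝟙 _ := toUnit_unique _ _
    rw [this, Category.id_comp]
  have h2 : IsIso (toUnit N) := ⟨η[N], h1.symm, toUnit_unique _ _⟩
  have h3 : IsIso (toUnit N).left := inferInstanceAs (IsIso ((Over.forget _).map (toUnit N)))
  rw [Over.toUnit_left] at h3
  exact h3

/-- A smooth closed subgroup with trivial group of points is trivial. -/
theorem isTrivialGrp_of_ptsSub_eq_bot {A : Type u} [CommRing A] [HopfAlgebra K A]
    {N : Over (Spec (CommRingCat.of K))} [GrpObj N] (i : N ⟶ SpecOver K A) [IsMonHom i]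
    [IsClosedImmersion i.left] [Smooth N.hom] (h : ptsSub i = ⊥) : IsIso N.hom := by
  have hm : Mono i := mono_of_isClosedImmersion i
  have hsep : IsSeparated (SpecOver K A).hom :=
    inferInstanceAs (IsSeparated (Spec.map (CommRingCat.ofHom (algebraMap K A))))
  have : IsSeparated N.hom := by
    rw [← Over.w i]; infer_instance
  refine isTrivialGrp_of_points N fun x => ?_
  have h1 : (ptEquiv K A).symm (x ≫ i) ∈ ptsSub i := ⟨x, by simp⟩
  rw [h, Subgroup.mem_bot, MulEquiv.symm_apply_eq, map_one] at h1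
  rw [← cancel_mono i, h1, MonObj.one_comp]

omit [IsAlgClosed K] in
theorem ptsSub_eq_bot_of_isTrivialGrp {A : Type u} [CommRing A] [HopfAlgebra K A]
    {N : Over (Spec (CommRingCat.of K))} [GrpObj N] (i : N ⟶ SpecOver K A) [IsMonHom i]
    (h : IsIso N.hom) : ptsSub i = ⊥ := by
  rw [eq_bot_iff]
  rintro g ⟨n, hn⟩
  have h1 : IsIso (toUnit N).left := by
    rw [Over.toUnit_left]; exact h
  have h2 : IsIso (toUnit N) := by
    have : IsIso ((Over.forget (Spec (CommRingCat.of K))).map (toUnit N)) := h1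
    exact isIso_of_reflects_iso (toUnit N) (Over.forget (Spec (CommRingCat.of K)))
  have h3 : n = 1 := by
    rw [← cancel_mono (toUnit N)]
    exact toUnit_unique _ _
  rw [h3, MonObj.one_comp] at hn
  rw [Subgroup.mem_bot]
  exact (ptEquiv K A).injective (by rw [← hn, map_one])

omit [IsAlgClosed K] in
/-- Normal subgroup schemes have normal groups of points. -/
theorem normal_ptsSub {A : Type u} [CommRing A] [HopfAlgebra K A]
    {N : Over (Spec (CommRingCat.of K))} [GrpObj N] (i : N ⟶ SpecOver K A) [IsMonHom i]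
    (h : AlgGrp.IsNormalHom i) : (ptsSub i).Normal := by
  constructor
  rintro n ⟨x, hx⟩ g
  obtain ⟨n', hn'⟩ := h _ (ptEquiv K A g) x
  exact ⟨n', by rw [← hn', hx, map_mul, map_mul, map_inv]⟩

/-- Smooth closed subgroups with normal group of points are normal. -/
theorem isNormalHom_of_normal {A : Type u} [CommRing A] [HopfAlgebra K A] [Algebra.FiniteType K A]
    [_root_.IsReduced A]
    {N : Over (Spec (CommRingCat.of K))} [GrpObj N] (i : N ⟶ SpecOver K A) [IsMonHom i]
    [IsClosedImmersion i.left] [Smooth N.hom] (h : (ptsSub i).Normal) : AlgGrp.IsNormalHom i := by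
  have := (smooth_iff (K := K) A).2 inferInstance
  refine isNormalHom_of_points i fun g n => ?_
  have h1 : (ptEquiv K A).symm (n ≫ i) ∈ ptsSub i := ⟨n, by simp⟩
  obtain ⟨n', hn'⟩ := h.conj_mem _ h1 ((ptEquiv K A).symm g)
  refine ⟨n', ?_⟩
  rw [hn', map_mul, map_mul, map_inv, MulEquiv.apply_symm_apply, MulEquiv.apply_symm_apply]

/-- Containment of closed subgroups can be checked on points. -/
theorem exists_factor_of_le {A : Type u} [CommRing A] [HopfAlgebra K A] [Algebra.FiniteType K A]
    {N N' : Over (Spec (CommRingCat.of K))} [GrpObj N] [GrpObj N'] (i : N ⟶ SpecOver K A)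
    [IsMonHom i] (i' : N' ⟶ SpecOver K A) [IsMonHom i'] [IsClosedImmersion i'.left]
    [Smooth N.hom] (h : ptsSub i ≤ ptsSub i') :
    ∃ f : N ⟶ N', f ≫ i' = i := by
  have := isReduced_of_smooth N
  refine exists_factor i' i fun x => ?_
  obtain ⟨n, hn⟩ := h (show (ptEquiv K A).symm (x ≫ i) ∈ ptsSub i from ⟨x, by simp⟩)
  exact ⟨n, by rw [hn, MulEquiv.apply_symm_apply]⟩

omit [IsAlgClosed K] in
theorem ptsSub_le_of_comp {A : Type u} [CommRing A] [HopfAlgebra K A]
    {N N' : Over (Spec (CommRingCat.of K))} [GrpObj N] [GrpObj N'] (i : N ⟶ SpecOver K A)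
    [IsMonHom i] (i' : N' ⟶ SpecOver K A) [IsMonHom i'] (f : N ⟶ N') (h : f ≫ i' = i) :
    ptsSub i ≤ ptsSub i' := by
  rintro g ⟨n, hn⟩
  exact ⟨n ≫ f, by rw [Category.assoc, h, hn]⟩

section quotient

variable {A : Type u} [CommRing A] [HopfAlgebra K A]

/-- The closed subgroup scheme `Spec (A / J)` of a Hopf ideal. -/
def incl (K : Type u) [Field K] {A : Type u} [CommRing A] [HopfAlgebra K A] (J : Ideal A)
    [J.IsHopfIdeal K] : SpecOver K (A ⧸ J) ⟶ SpecOver K A :=
  specMap K (Ideal.Quotient.mkₐ K J)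

omit [IsAlgClosed K] in
lemma incl_eq (J : Ideal A) [J.IsHopfIdeal K] :
    incl K J = specMap K ((Bialgebra.Quotient.mkBialgHom (R := K) J : A →ₐc[K] (A ⧸ J)) :
      A →ₐ[K] (A ⧸ J)) := rfl

instance (J : Ideal A) [J.IsHopfIdeal K] : IsMonHom (incl K J) :=
  isMonHom_specMap K (Bialgebra.Quotient.mkBialgHom (R := K) J)

instance (J : Ideal A) [J.IsHopfIdeal K] : IsClosedImmersion (incl K J).left :=
  (isClosedImmersion_specMap_iff K _).2 Ideal.Quotient.mk_surjective

omit [IsAlgClosed K] in
lemma ptsSub_incl (J : Ideal A) [J.IsHopfIdeal K] : (ptsSub (incl K J) : Set (Pt K A)) = zeros J := by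
  rw [ptsSub_eq_range (incl K J) (Bialgebra.Quotient.mkBialgHom (R := K) J) (Iso.refl _)
    (Category.id_comp _), range_map_mk _ (Ideal.Quotient.mk_surjective)]
  congr 1
  ext a
  exact Ideal.Quotient.eq_zero_iff_mem

end quotient

end ac

end

end Groth.Agent.Sga3B.RG.BrPts
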