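import Mathlib.RingTheory.Smooth.Basic
import Mathlib.RingTheory.Filtration
import Mathlib.RingTheory.Ideal.Quotient.Operations
import Mathlib.RingTheory.Ideal.Quotient.PowTransition

/-!
Injectivity of a ring map from an infinitesimal section (the algebraic form of
"a morphism from a smooth variety whose tangent map is surjective at a point is dominant").
-/

set_option autoImplicit false

namespace Groth.Agent.Sga3B.RG.ConjInj

section

variable {K A B : Type*} [CommRing K] [CommRing A] [Algebra K A] [CommRing B] [Algebra K B]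

/-- An algebra map `θ : A → A/m^n` congruent to the quotient map modulo `m²` induces the identity
on the associated graded ring. -/
theorem sub_mem_of_congr (m : Ideal A) (n : ℕ) (θ : A →ₐ[K] A ⧸ m ^ n)
    (h : ∀ a, θ a - Ideal.Quotient.mk (m ^ n) a ∈ (m ^ 2).map (Ideal.Quotient.mk (m ^ n))) (j : ℕ) :
    ∀ a ∈ m ^ j, θ a - Ideal.Quotient.mk (m ^ n) a ∈ (m ^ (j + 1)).map (Ideal.Quotient.mk (m ^ n)) := by
  induction j with
  | zero =>
    intro a _
    exact Ideal.map_mono (Ideal.pow_le_pow_right (by omega)) (h a)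
  | succ j ih =>
    intro a ha
    rw [pow_succ'] at ha
    refine Submodule.mul_induction_on ha ?_ ?_
    · intro x hx y hy
      have h1 : θ x - Ideal.Quotient.mk (m ^ n) x ∈ (m ^ 2).map (Ideal.Quotient.mk (m ^ n)) := h x
      have h2 := ih y hy
      have h3 : θ y ∈ (m ^ j).map (Ideal.Quotient.mk (m ^ n)) := by
        have : θ y = (θ y - Ideal.Quotient.mk (m ^ n) y) + Ideal.Quotient.mk (m ^ n) y := by ring
        rw [this]
        exact Ideal.add_mem _ (Ideal.map_mono (Ideal.pow_le_pow_right (by omega)) h2)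
          (Ideal.mem_map_of_mem _ hy)
      have h4 : θ (x * y) - Ideal.Quotient.mk (m ^ n) (x * y) =
          (θ x - Ideal.Quotient.mk (m ^ n) x) * θ y +
          Ideal.Quotient.mk (m ^ n) x * (θ y - Ideal.Quotient.mk (m ^ n) y) := by
        rw [map_mul, map_mul]; ring
      rw [h4]
      refine Ideal.add_mem _ ?_ ?_
      · have : (m ^ 2).map (Ideal.Quotient.mk (m ^ n)) * (m ^ j).map (Ideal.Quotient.mk (m ^ n)) ≤
            (m ^ (j + 1 + 1)).map (Ideal.Quotient.mk (m ^ n)) := by
          rw [← Ideal.map_mul, ← pow_add]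
          exact Ideal.map_mono (Ideal.pow_le_pow_right (by omega))
        exact this (Ideal.mul_mem_mul h1 h3)
      · have : m.map (Ideal.Quotient.mk (m ^ n)) * (m ^ (j + 1)).map (Ideal.Quotient.mk (m ^ n)) ≤
            (m ^ (j + 1 + 1)).map (Ideal.Quotient.mk (m ^ n)) := by
          rw [← Ideal.map_mul, ← pow_succ']
        exact this (Ideal.mul_mem_mul (Ideal.mem_map_of_mem _ hx) h2)
    · intro x y hx hy
      have : θ (x + y) - Ideal.Quotient.mk (m ^ n) (x + y) =
          (θ x - Ideal.Quotient.mk (m ^ n) x) + (θ y - Ideal.Quotient.mk (m ^ n) y) := by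
        rw [map_add, map_add]; ring
      rw [this]
      exact Ideal.add_mem _ hx hy

/-- If `B` is formally smooth over `K`, `A` is a Noetherian domain and the algebra map `φ : A → B`
has a section over the first-order neighbourhood `A/m²` of `V(m)`, then `φ` is injective. -/
theorem injective_of_section [Algebra.FormallySmooth K B] [IsNoetherianRing A] [IsDomain A]
    (m : Ideal A) (hm : m ≠ ⊤) (φ : A →ₐ[K] B) (ρ : B →ₐ[K] A ⧸ m ^ 2)
    (h : ρ.comp φ = Ideal.Quotient.mkₐ K (m ^ 2)) : Function.Injective φ := by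
  rw [injective_iff_map_eq_zero]
  intro a ha
  by_contra ha0
  have hK : (⨅ i : ℕ, m ^ i) = ⊥ := Ideal.iInf_pow_eq_bot_of_isDomain m hm
  have hex : ∃ i, a ∉ m ^ i := by
    by_contra hcon
    push Not at hcon
    exact ha0 (by simpa [hK] using (Ideal.mem_iInf (I := fun i => m ^ i)).mpr hcon)
  classical
  obtain ⟨j, hj, hj'⟩ : ∃ j, a ∈ m ^ j ∧ a ∉ m ^ (j + 1) := by
    let N := Nat.find hex
    have hN : a ∉ m ^ N := Nat.find_spec hex
    have hN0 : N ≠ 0 := by
      intro h0
      rw [h0] at hN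
      exact hN (by simp)
    refine ⟨N - 1, ?_, ?_⟩
    · have := Nat.find_min hex (m := N - 1) (by omega)
      simpa using this
    · rwa [Nat.sub_add_cancel (by omega)]
  let n := j + 2
  have hn : m ^ n ≤ m ^ 2 := Ideal.pow_le_pow_right (by omega)
  let π : A ⧸ m ^ n →ₐ[K] A ⧸ m ^ 2 := Ideal.Quotient.factorₐ K hn
  have hπ : Function.Surjective π := Ideal.Quotient.factor_surjective hn
  have hker : RingHom.ker (π : A ⧸ m ^ n →+* A ⧸ m ^ 2) = (m ^ 2).map (Ideal.Quotient.mk (m ^ n)) := by
    exact Ideal.Quotient.factor_ker hn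
  have hnil : IsNilpotent (RingHom.ker (π : A ⧸ m ^ n →+* A ⧸ m ^ 2)) := by
    refine ⟨n, ?_⟩
    rw [hker, ← Ideal.map_pow, Ideal.zero_eq_bot, eq_bot_iff, ← Ideal.map_quotient_self (m ^ n)]
    refine Ideal.map_mono ?_
    rw [← pow_mul]
    exact Ideal.pow_le_pow_right (by omega)
  let ψ : B →ₐ[K] A ⧸ m ^ n := Algebra.FormallySmooth.liftOfSurjective ρ π hπ hnil
  have hψ : ∀ b, π (ψ b) = ρ b := fun b =>
    Algebra.FormallySmooth.liftOfSurjective_apply ρ π hπ hnil b
  have hcongr : ∀ a, (ψ.comp φ) a - Ideal.Quotient.mk (m ^ n) a ∈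
      (m ^ 2).map (Ideal.Quotient.mk (m ^ n)) := by
    intro a
    rw [← hker, RingHom.mem_ker, map_sub, sub_eq_zero]
    have h1 : π (ψ (φ a)) = ρ (φ a) := hψ _
    have h2 : ρ (φ a) = Ideal.Quotient.mk (m ^ 2) a := DFunLike.congr_fun h a
    have h3 : π (Ideal.Quotient.mk (m ^ n) a) = Ideal.Quotient.mk (m ^ 2) a :=
      Ideal.Quotient.factor_mk hn a
    exact (h1.trans h2).trans h3.symm
  have key := sub_mem_of_congr m n (ψ.comp φ) hcongr j a hj
  have h0 : (ψ.comp φ) a = 0 := by
    rw [AlgHom.comp_apply, ha, map_zero]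
  rw [h0, zero_sub, Ideal.neg_mem_iff] at key
  apply hj'
  have : Ideal.Quotient.mk (m ^ n) a ∈ (m ^ (j + 1)).map (Ideal.Quotient.mk (m ^ n)) := key
  rw [Ideal.mem_quotient_iff_mem (Ideal.pow_le_pow_right (by omega))] at this
  exact this

end

end Groth.Agent.Sga3B.RG.ConjInj
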