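import Groth.Agent.Sga3B.RG.ConjGrade
import Groth.Agent.Sga3B.RG.ConjInj

/-!
# Weight deformations of points

`A` Hopf algebra over `k`, `π : A → k[G]` a diagonalizable subgroup, `gr π m` the conjugation
grading.

* `deform`: from a point `x : A → R` with `x(gr m) x(gr n) = 0` for `m, n ≠ 1` and a function
  `w : G → k` with `w 1 = 1` the point `a ↦ ∑ w(m) x(a_m)`.
* `formallySmooth_quotient_JC`: the centralizer `A/JC` of a diagonalizable subgroup is formally
  smooth if `A` is.
* `exists_conj`: infinitesimal conjugation.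
* `conjMap_injective`: the map `(g,c) ↦ g c g⁻¹` from `G × C_G(T)` to `G` is dominant.
-/

set_option autoImplicit false

universe u

open WithConv TensorProduct Coalgebra
open Groth.Agent.Books.DynBasic (mapPt ptGroup mapPt_apply inv_def)

namespace Groth.Agent.Sga3B.RG.ConjGrade

section

variable {k : Type u} [CommRing k] {A : Type u} [CommRing A] [HopfAlgebra k A]
variable {G : Type} [CommGroup G] (π : A →ₐc[k] MonoidAlgebra k G)
variable {R : Type u} [CommRing R] [Algebra k R]

/-- Multiplication by `w m` on the component of degree `m`. -/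
noncomputable def wt (w : G → k) : A →ₗ[k] A where
  toFun a := (rho π a).coeff.sum fun m b => w m • b
  map_add' a b := by
    classical
    rw [map_add, MonoidAlgebra.coeff_add, Finsupp.sum_add_index]
    · intros; simp
    · intros; simp [smul_add]
  map_smul' c a := by
    classical
    rw [map_smul, MonoidAlgebra.coeff_smul, Finsupp.sum_smul_index', Finsupp.smul_sum]
    · simp only [smul_comm c, RingHom.id_apply]
    · intros; simp

lemma wt_of_mem (w : G → k) {m : G} {a : A} (ha : a ∈ gr π m) : wt π w a = w m • a := by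
  classical
  change (rho π a).coeff.sum _ = _
  rw [(mem_gr π).1 ha, MonoidAlgebra.coeff_single, Finsupp.sum_single_index]
  simp

/-- The deformation of a point by weights. -/
noncomputable def deform (x : A →ₐ[k] R) (w : G → k) (hw : w 1 = 1)
    (hx : ∀ m ≠ 1, ∀ n ≠ 1, ∀ a ∈ gr π m, ∀ b ∈ gr π n, x a * x b = 0) : A →ₐ[k] R :=
  AlgHom.ofLinearMap (x.toLinearMap ∘ₗ wt π w)
    (by
      change x (wt π w 1) = 1
      rw [wt_of_mem π w (one_mem_gr π), hw, one_smul, map_one])
    (by
      intro a b
      change x (wt π w (a * b)) = x (wt π w a) * x (wt π w b)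
      induction a using induction_gr π with
      | h0 => simp
      | hadd a a' ha ha' => rw [add_mul, map_add, map_add, ha, ha', map_add, map_add, add_mul]
      | hgr m a ha =>
        induction b using induction_gr π with
        | h0 => simp
        | hadd b b' hb hb' => rw [mul_add, map_add, map_add, hb, hb', map_add, map_add, mul_add]
        | hgr n b hb =>
          rw [wt_of_mem π w (mul_mem_gr π ha hb), wt_of_mem π w ha, wt_of_mem π w hb,
            map_smul, map_smul, map_smul, map_mul]
          by_cases hm : m = 1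
          · subst hm
            rw [hw, one_mul, one_smul, mul_smul_comm]
          · by_cases hn : n = 1
            · subst hn
              rw [hw, mul_one, one_smul, smul_mul_assoc]
            · rw [smul_mul_smul_comm, hx m hm n hn a ha b hb, smul_zero, smul_zero])

lemma deform_apply (x : A →ₐ[k] R) (w : G → k) (hw : w 1 = 1)
    (hx : ∀ m ≠ 1, ∀ n ≠ 1, ∀ a ∈ gr π m, ∀ b ∈ gr π n, x a * x b = 0) (a : A) :
    deform π x w hw hx a = x (wt π w a) := rfl

/-- The centralizer of a diagonalizable subgroup is formally smooth. -/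
theorem formallySmooth_quotient_JC [Algebra.FormallySmooth k A] :
    Algebra.FormallySmooth k (A ⧸ JC π) := by
  classical
  rw [Algebra.FormallySmooth.iff_comp_surjective]
  intro C _ _ I hI g
  let f : A →ₐ[k] C ⧸ I := g.comp (Ideal.Quotient.mkₐ k (JC π))
  obtain ⟨x, hx⟩ := Algebra.FormallySmooth.comp_surjective k A I hI f
  have hxI : ∀ m ≠ 1, ∀ a ∈ gr π m, x a ∈ I := by
    intro m hm a ha
    rw [← Ideal.Quotient.eq_zero_iff_mem]
    have h1 : (Ideal.Quotient.mkₐ k I).comp x a = f a := by rw [hx]
    have h2 : f a = 0 := by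
      change g (Ideal.Quotient.mk (JC π) a) = 0
      have h3 : a ∈ JC π := Ideal.subset_span ⟨m, hm, ha⟩
      rw [Ideal.Quotient.eq_zero_iff_mem.2 h3, map_zero]
    exact h1.trans h2
  have hI' : ∀ a ∈ I, ∀ b ∈ I, a * b = 0 := by
    intro a ha b hb
    have : a * b ∈ I ^ 2 := by rw [pow_two]; exact Ideal.mul_mem_mul ha hb
    rw [hI] at this
    exact this
  have hxx : ∀ m ≠ 1, ∀ n ≠ 1, ∀ a ∈ gr π m, ∀ b ∈ gr π n, x a * x b = 0 :=
    fun m hm n hn a ha b hb => hI' _ (hxI m hm a ha) _ (hxI n hn b hb)
  let w : G → k := fun m => if m = 1 then 1 else 0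
  let y : A →ₐ[k] C := deform π x w (if_pos rfl) hxx
  have hy : ∀ a ∈ JC π, y a = 0 := by
    intro a ha
    have : JC π ≤ RingHom.ker y := by
      rw [JC, Ideal.span_le]
      rintro b ⟨m, hm, hb⟩
      change x (wt π w b) = 0
      rw [wt_of_mem π w hb]
      simp [w, hm]
    exact this ha
  refine ⟨Ideal.Quotient.liftₐ (JC π) y hy, ?_⟩
  apply Ideal.Quotient.algHom_ext
  apply AlgHom.ext
  intro a
  change Ideal.Quotient.mk I (y a) = f a
  induction a using induction_gr π with
  | h0 => simp
  | hadd a b ha hb => rw [map_add, map_add, map_add, ha, hb]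
  | hgr m a ha =>
    have h1 : Ideal.Quotient.mk I (x a) = f a := DFunLike.congr_fun hx a
    rw [← h1]
    change Ideal.Quotient.mk I (x (wt π w a)) = _
    rw [wt_of_mem π w ha]
    by_cases hm : m = 1
    · simp [w, hm]
    · simp only [w, hm, if_false, zero_smul, map_zero]
      exact (Ideal.Quotient.eq_zero_iff_mem.2 (hxI m hm a ha)).symm

end

section Inf

variable {k : Type u} [CommRing k] {A : Type u} [CommRing A] [HopfAlgebra k A]
variable {G : Type} [CommGroup G] (π : A →ₐc[k] MonoidAlgebra k G)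
variable {R : Type u} [CommRing R] [Algebra k R]

lemma tau_mem_cent (χ : G →* R) : tau π χ ∈ cent π R := by
  rw [cent, Subgroup.mem_comap, Subgroup.mem_centralizer_singleton_iff, mapPt_tau, ← map_mul,
    ← map_mul, mul_comm]

lemma ofConv_mul_repr (p q : WithConv (A →ₐ[k] R)) {a : A} {ι : Type*} (r : Coalgebra.Repr k a ι) :
    (p * q).ofConv a = ∑ i ∈ r.index, p.ofConv (r.left i) * q.ofConv (r.right i) := by
  have h2 := AlgHom.convMul_apply p q a
  rw [← r.eq, map_sum] at h2
  simpa using h2

lemma ofConv_one (a : A) : (1 : WithConv (A →ₐ[k] R)).ofConv a = algebraMap k R (counit a) := rfl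

/-- Product of two infinitesimal points. -/
lemma mul_apply_of_inf (p q : WithConv (A →ₐ[k] R))
    (h : ∀ a b, (p.ofConv a - algebraMap k R (counit a)) *
      (q.ofConv b - algebraMap k R (counit b)) = 0) (a : A) :
    (p * q).ofConv a = p.ofConv a + q.ofConv a - algebraMap k R (counit a) := by
  have h1 := ofConv_mul_repr p q (ℛ k a)
  have h2 := ofConv_mul_repr p 1 (ℛ k a)
  have h3 := ofConv_mul_repr 1 q (ℛ k a)
  have h4 := ofConv_mul_repr (1 : WithConv (A →ₐ[k] R)) 1 (ℛ k a)
  rw [mul_one] at h2 h4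
  rw [one_mul] at h3
  have h5 : (p * q).ofConv a - p.ofConv a - q.ofConv a +
      (1 : WithConv (A →ₐ[k] R)).ofConv a = 0 := by
    rw [h1, h2, h3, h4, ← Finset.sum_sub_distrib, ← Finset.sum_sub_distrib,
      ← Finset.sum_add_distrib]
    refine Finset.sum_eq_zero fun i _ => ?_
    have := h ((ℛ k a).left i) ((ℛ k a).right i)
    simp only [ofConv_one]
    linear_combination this
  rw [ofConv_one] at h5
  linear_combination h5

lemma counit_wt (w : G → k) (hw : w 1 = 1) (a : A) : counit (R := k) (wt π w a) = counit a := by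
  induction a using induction_gr π with
  | h0 => simp
  | hadd a b ha hb => rw [map_add, map_add, map_add, ha, hb]
  | hgr m a ha =>
    rw [wt_of_mem π w ha, map_smul]
    by_cases hm : m = 1
    · subst hm; rw [hw, one_smul]
    · rw [counit_of_mem_gr π hm ha, smul_zero]

/-- Conjugation by the `k`-point `s` of the torus acts by weights. -/
lemma conj_const (s : G →* k) (g : WithConv (A →ₐ[k] R)) (a : A) :
    (tau π ((algebraMap k R : k →* R).comp s) * g *
      (tau π ((algebraMap k R : k →* R).comp s))⁻¹).ofConv a = g.ofConv (wt π s a) := by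
  induction a using induction_gr π with
  | h0 => simp
  | hadd a b ha hb => rw [map_add, map_add, map_add, ha, hb]
  | hgr m a ha =>
    rw [conj_apply_of_mem π ha, wt_of_mem π s ha, map_smul, Algebra.smul_def, mul_comm]
    rfl

end Inf

section Conj

variable {K : Type u} [Field K] {A : Type u} [CommRing A] [HopfAlgebra K A]
variable {G : Type} [CommGroup G] (π : A →ₐc[K] MonoidAlgebra K G)
variable {R : Type u} [CommRing R] [Algebra K R]

/-- Infinitesimal conjugation: an infinitesimal point `y` on which the weights `m` with `s m = 1`,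
`m ≠ 1` vanish is of the form `g z (s g s⁻¹)⁻¹` with `z` in the centralizer. -/
theorem exists_inf_conj (s : G →* K) (y : WithConv (A →ₐ[K] R))
    (hy : ∀ a b, (y.ofConv a - algebraMap K R (counit a)) *
      (y.ofConv b - algebraMap K R (counit b)) = 0)
    (hreg : ∀ m ≠ 1, s m = 1 → ∀ a ∈ gr π m, y.ofConv a = 0) :
    ∃ g z : WithConv (A →ₐ[K] R), z ∈ cent π R ∧
      g * z = y * (tau π ((algebraMap K R : K →* R).comp s) * g *
        (tau π ((algebraMap K R : K →* R).comp s))⁻¹) := by
  classical
  have hxx : ∀ m ≠ (1 : G), ∀ n ≠ 1, ∀ a ∈ gr π m, ∀ b ∈ gr π n,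
      y.ofConv a * y.ofConv b = 0 := by
    intro m hm n hn a ha b hb
    have := hy a b
    rwa [counit_of_mem_gr π hm ha, counit_of_mem_gr π hn hb, map_zero, sub_zero, sub_zero] at this
  let w₁ : G → K := fun m => if m = 1 then 1 else (1 - s m)⁻¹
  let w₂ : G → K := fun m => if m = 1 then 1 else 0
  have hw₁ : w₁ 1 = 1 := if_pos rfl
  have hw₂ : w₂ 1 = 1 := if_pos rfl
  have hs : (s : G → K) 1 = 1 := map_one s
  let g : WithConv (A →ₐ[K] R) := toConv (deform π y.ofConv w₁ hw₁ hxx)
  let z : WithConv (A →ₐ[K] R) := toConv (deform π y.ofConv w₂ hw₂ hxx)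
  have hg : ∀ a, g.ofConv a = y.ofConv (wt π w₁ a) := fun a => rfl
  have hz : ∀ a, z.ofConv a = y.ofConv (wt π w₂ a) := fun a => rfl
  refine ⟨g, z, ?_, ?_⟩
  · rw [mem_cent_iff]
    intro m hm a ha
    rw [hz, wt_of_mem π w₂ ha]
    simp [w₂, hm]
  · apply WithConv.ofConv_injective
    refine AlgHom.ext fun a => ?_
    have h1 : ∀ a b, (g.ofConv a - algebraMap K R (counit a)) *
        (z.ofConv b - algebraMap K R (counit b)) = 0 := by
      intro a b
      rw [hg, hz]
      have := hy (wt π w₁ a) (wt π w₂ b)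
      rwa [counit_wt π w₁ hw₁, counit_wt π w₂ hw₂] at this
    set g' : WithConv (A →ₐ[K] R) := tau π ((algebraMap K R : K →* R).comp s) * g *
        (tau π ((algebraMap K R : K →* R).comp s))⁻¹ with hg'
    have hg'' : ∀ a, g'.ofConv a = y.ofConv (wt π w₁ (wt π s a)) := fun a => conj_const π s g a
    have h2 : ∀ a b, (y.ofConv a - algebraMap K R (counit a)) *
        (g'.ofConv b - algebraMap K R (counit b)) = 0 := by
      intro a b
      rw [hg'']
      have := hy a (wt π w₁ (wt π s b))
      rwa [counit_wt π w₁ hw₁, counit_wt π s hs] at this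
    rw [mul_apply_of_inf g z h1, mul_apply_of_inf y g' h2, hg, hz, hg'']
    induction a using induction_gr π with
    | h0 => simp
    | hadd a b ha hb =>
      simp only [map_add]
      linear_combination ha + hb
    | hgr m a ha =>
      rw [wt_of_mem π w₁ ha, wt_of_mem π w₂ ha, wt_of_mem π s ha, map_smul (wt π w₁),
        wt_of_mem π w₁ ha, map_smul, map_smul, map_smul, map_smul]
      by_cases hm : m = 1
      · subst hm
        rw [hw₁, hw₂, hs]
        simp
      · have hw2m : w₂ m = 0 := if_neg hm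
        have hw1m : w₁ m = (1 - s m)⁻¹ := if_neg hm
        rw [hw2m, hw1m, zero_smul]
        by_cases hsm : s m = 1
        · rw [hreg m hm hsm a ha]; simp
        · have h3 : (1 - s m) ≠ 0 := fun h => hsm (sub_eq_zero.1 h).symm
          have h4 : y.ofConv a = (1 - s m) • ((1 - s m)⁻¹ • y.ofConv a) := by
            rw [smul_smul, mul_inv_cancel₀ h3, one_smul]
          rw [sub_smul, one_smul] at h4
          linear_combination -h4

variable (K) in
/-- The map `(g, c) ↦ g c g⁻¹` from `G × C` to `G`, `C = Spec (A ⧸ J)`, on coordinate rings. -/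
noncomputable def conjMap (J : Ideal A) : A →ₐ[K] A ⊗[K] (A ⧸ J) :=
  ((toConv (Algebra.TensorProduct.includeLeft : A →ₐ[K] A ⊗[K] (A ⧸ J))) *
    (toConv ((Algebra.TensorProduct.includeRight : (A ⧸ J) →ₐ[K] A ⊗[K] (A ⧸ J)).comp
      (Ideal.Quotient.mkₐ K J))) *
    (toConv (Algebra.TensorProduct.includeLeft : A →ₐ[K] A ⊗[K] (A ⧸ J)))⁻¹).ofConv

lemma lift_comp_conjMap (J : Ideal A) (g : A →ₐ[K] R) (c : A ⧸ J →ₐ[K] R) :
    (Algebra.TensorProduct.lift g c (fun _ _ => Commute.all _ _)).comp (conjMap K J) =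
      (toConv g * toConv (c.comp (Ideal.Quotient.mkₐ K J)) * (toConv g)⁻¹).ofConv := by
  have h1 : mapPt (Algebra.TensorProduct.lift g c (fun _ _ => Commute.all _ _))
      (toConv (conjMap K J)) = toConv g * toConv (c.comp (Ideal.Quotient.mkₐ K J)) *
        (toConv g)⁻¹ := by
    change mapPt (Algebra.TensorProduct.lift g c (fun _ _ => Commute.all _ _))
      ((toConv (Algebra.TensorProduct.includeLeft : A →ₐ[K] A ⊗[K] (A ⧸ J))) *
        (toConv ((Algebra.TensorProduct.includeRight : (A ⧸ J) →ₐ[K] A ⊗[K] (A ⧸ J)).comp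
          (Ideal.Quotient.mkₐ K J))) *
        (toConv (Algebra.TensorProduct.includeLeft : A →ₐ[K] A ⊗[K] (A ⧸ J)))⁻¹) = _
    rw [map_mul, map_mul, map_inv]
    have h2 : mapPt (Algebra.TensorProduct.lift g c (fun _ _ => Commute.all _ _))
        (toConv (Algebra.TensorProduct.includeLeft : A →ₐ[K] A ⊗[K] (A ⧸ J))) = toConv g := by
      apply WithConv.ofConv_injective
      exact AlgHom.ext fun a => by
        change Algebra.TensorProduct.lift g c (fun _ _ => Commute.all _ _) (a ⊗ₜ 1) = g a
        simp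
    have h3 : mapPt (Algebra.TensorProduct.lift g c (fun _ _ => Commute.all _ _))
        (toConv ((Algebra.TensorProduct.includeRight : (A ⧸ J) →ₐ[K] A ⊗[K] (A ⧸ J)).comp
          (Ideal.Quotient.mkₐ K J))) = toConv (c.comp (Ideal.Quotient.mkₐ K J)) := by
      apply WithConv.ofConv_injective
      exact AlgHom.ext fun a => by
        change Algebra.TensorProduct.lift g c (fun _ _ => Commute.all _ _)
          (1 ⊗ₜ Ideal.Quotient.mk J a) = c (Ideal.Quotient.mk J a)
        simp
    rw [h2, h3]
  exact congrArg WithConv.ofConv h1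

/-- If some point `s` of the diagonalizable subgroup is regular (the nontrivial weights `m` with
`s m = 1` do not occur in the cotangent space), the map `(g, c) ↦ g c g⁻¹` from `G × C_G(T)` to `G`
is dominant. -/
theorem conjMap_injective [Algebra.FormallySmooth K A] [IsNoetherianRing A] [IsDomain A]
    (s : G →* K) (hreg : ∀ m ≠ 1, s m = 1 → ∀ a ∈ gr π m,
      a ∈ (RingHom.ker (Bialgebra.counitAlgHom K A)) ^ 2) :
    Function.Injective (conjMap K (JC π)) := by
  have := formallySmooth_quotient_JC π
  have : Algebra.FormallySmooth K (A ⊗[K] (A ⧸ JC π)) :=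
    Algebra.FormallySmooth.comp K A (A ⊗[K] (A ⧸ JC π))
  let S : A →ₐ[K] K := (tau π s).ofConv
  let m : Ideal A := RingHom.ker S
  have hm : m ≠ ⊤ := RingHom.ker_ne_top S.toRingHom
  let R := A ⧸ m ^ 2
  let q : WithConv (A →ₐ[K] R) := toConv (Ideal.Quotient.mkₐ K (m ^ 2))
  let sR : WithConv (A →ₐ[K] R) := tau π ((algebraMap K R : K →* R).comp s)
  let κ : R →ₐ[K] K := Ideal.Quotient.liftₐ (m ^ 2) S (fun a ha => Ideal.pow_le_self two_ne_zero ha)
  let y : WithConv (A →ₐ[K] R) := q * sR⁻¹
  have hκq : mapPt κ q = tau π s := by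
    apply WithConv.ofConv_injective
    exact AlgHom.ext fun a => rfl
  have hκs : mapPt κ sR = tau π s := by
    rw [mapPt_tau]
    congr 1
    ext x
    simp
  have hκy : mapPt κ y = 1 := by
    rw [map_mul, map_inv, hκq, hκs, mul_inv_cancel]
  have hy0 : ∀ a, κ (y.ofConv a - algebraMap K R (counit a)) = 0 := by
    intro a
    rw [map_sub, sub_eq_zero, AlgHom.commutes]
    exact DFunLike.congr_fun (congrArg WithConv.ofConv hκy) a
  have hκ0 : ∀ r r' : R, κ r = 0 → κ r' = 0 → r * r' = 0 := by
    intro r r' hr hr'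
    obtain ⟨r, rfl⟩ := Ideal.Quotient.mk_surjective r
    obtain ⟨r', rfl⟩ := Ideal.Quotient.mk_surjective r'
    rw [← map_mul, Ideal.Quotient.eq_zero_iff_mem, pow_two]
    exact Ideal.mul_mem_mul hr hr'
  have hy : ∀ a b, (y.ofConv a - algebraMap K R (counit a)) *
      (y.ofConv b - algebraMap K R (counit b)) = 0 :=
    fun a b => hκ0 _ _ (hy0 a) (hy0 b)
  have hyreg : ∀ m ≠ 1, s m = 1 → ∀ a ∈ gr π m, y.ofConv a = 0 := by
    intro m hm hsm a ha
    have h1 := hreg m hm hsm a ha
    have h2 : (RingHom.ker (Bialgebra.counitAlgHom K A)) ^ 2 ≤ RingHom.ker y.ofConv := by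
      rw [pow_two, Ideal.mul_le]
      intro b hb c hc
      have hb' : counit (R := K) b = 0 := hb
      have hc' : counit (R := K) c = 0 := hc
      have := hy b c
      rw [hb', hc', map_zero, sub_zero, sub_zero, ← map_mul] at this
      exact this
    exact h2 h1
  obtain ⟨g, z, hz, hgz⟩ := exists_inf_conj π s y hy hyreg
  have hsc : sR ∈ cent π R := tau_mem_cent π _
  have hc : z * sR ∈ cent π R := Subgroup.mul_mem _ hz hsc
  let c : A ⧸ JC π →ₐ[K] R := Ideal.Quotient.liftₐ (JC π) (z * sR).ofConv
    ((vanish_JC_iff π (z * sR).ofConv).2 hc)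
  have hcc : toConv (c.comp (Ideal.Quotient.mkₐ K (JC π))) = z * sR := by
    apply WithConv.ofConv_injective
    exact AlgHom.ext fun a => rfl
  refine ConjInj.injective_of_section m hm (conjMap K (JC π))
    (Algebra.TensorProduct.lift g.ofConv c (fun _ _ => Commute.all _ _)) ?_
  rw [lift_comp_conjMap, hcc]
  have : toConv g.ofConv * (z * sR) * (toConv g.ofConv)⁻¹ = q := by
    change g * (z * sR) * g⁻¹ = q
    rw [← mul_assoc, hgz]
    change q * sR⁻¹ * (sR * g * sR⁻¹) * sR * g⁻¹ = q
    simp only [mul_assoc, inv_mul_cancel_left, inv_mul_cancel, mul_one, mul_inv_cancel]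
  rw [this]

end Conj

end Groth.Agent.Sga3B.RG.ConjGrade
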