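import Groth.Agent.Sga3B.RG.Closed

/-!
# Closed subgroups, II: points of quotients by Hopf ideals, irreducibility, finite index
-/

set_option autoImplicit false

universe u w

open WithConv TensorProduct Coalgebra
open scoped Pointwise

namespace Groth.Agent.Sga3B.RG

variable {K : Type u} [Field K] {A : Type u} [CommRing A] [HopfAlgebra K A]
variable {B : Type u} [CommRing B] [HopfAlgebra K B]

section Maps

lemma Pt.map_injective {φ : A →ₐc[K] B} (hφ : Function.Surjective φ) :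
    Function.Injective (Pt.map φ) := by
  intro g h hgh
  apply Pt.ext'
  intro b
  obtain ⟨a, rfl⟩ := hφ b
  rw [← Pt.map_apply, ← Pt.map_apply, hgh]

lemma Pt.range_map {φ : A →ₐc[K] B} (hφ : Function.Surjective φ) :
    ((Pt.map φ).range : Set (Pt K A)) = zeros (RingHom.ker (φ : A →ₐ[K] B)) := by
  ext g
  constructor
  · rintro ⟨h, rfl⟩ a ha
    rw [Pt.map_apply]
    have : φ a = 0 := ha
    rw [this]
    exact map_zero h.ofConv
  · intro hg
    have hg' : ∀ a : A, a ∈ RingHom.ker (φ : A →ₐ[K] B) → g.ofConv a = 0 := fun a ha => hg a ha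
    refine ⟨toConv (AlgHom.liftOfSurjective (φ : A →ₐ[K] B) hφ g.ofConv hg'), ?_⟩
    apply Pt.ext'
    intro a
    rw [Pt.map_apply]
    exact AlgHom.liftOfSurjective_apply (φ : A →ₐ[K] B) hφ g.ofConv hg' a

lemma Pt.isCl_range_map {φ : A →ₐc[K] B} (hφ : Function.Surjective φ) :
    IsCl ((Pt.map φ).range : Set (Pt K A)) := by
  rw [Pt.range_map hφ]; exact isCl_zeros _

lemma Pt.map_comp {C : Type u} [CommRing C] [HopfAlgebra K C] (φ : A →ₐc[K] B) (ψ : B →ₐc[K] C)
    (g : Pt K C) : Pt.map φ (Pt.map ψ g) = Pt.map (ψ.comp φ) g := rfl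

/-- Preimages of closed sets under `Pt.map` are closed. -/
lemma IsCl.preimage_map (φ : A →ₐc[K] B) {H : Set (Pt K A)} (hH : IsCl H) :
    IsCl (Pt.map φ ⁻¹' H) := by
  intro g hg
  apply hH
  intro a ha
  rw [Pt.map_apply]
  exact hg _ fun h hh => ha _ hh

lemma vanIdeal_image_map (φ : A →ₐc[K] B) (H : Set (Pt K B)) :
    vanIdeal (Pt.map φ '' H) = (vanIdeal H).comap (φ : A →ₐ[K] B) := by
  ext a
  rw [mem_vanIdeal]
  constructor
  · intro h x hx
    exact h _ ⟨x, hx, rfl⟩
  · rintro h _ ⟨x, hx, rfl⟩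
    exact h x hx

/-- Images of closed sets under a closed immersion are closed. -/
lemma IsCl.image_map {φ : A →ₐc[K] B} (hφ : Function.Surjective φ) {H : Set (Pt K B)}
    (hH : IsCl H) : IsCl (Pt.map φ '' H) := by
  intro g hg
  have h1 : g ∈ ((Pt.map φ).range : Set (Pt K A)) := by
    apply Pt.isCl_range_map hφ
    apply zeros_anti _ hg
    apply vanIdeal_anti
    rintro _ ⟨x, -, rfl⟩
    exact ⟨x, rfl⟩
  obtain ⟨y, rfl⟩ := h1
  refine ⟨y, hH fun b hb => ?_, rfl⟩
  obtain ⟨a, rfl⟩ := hφ b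
  rw [← Pt.map_apply]
  apply hg
  rintro _ ⟨x, hx, rfl⟩
  exact hb x hx

/-- Images of irreducible sets are irreducible. -/
lemma IsConn.image_map {H : Set (Pt K B)} (hH : IsConn H) (φ : A →ₐc[K] B) :
    IsConn (Pt.map φ '' H) := by
  rw [IsConn, vanIdeal_image_map]
  have : (vanIdeal H).IsPrime := hH
  infer_instance

lemma isConn_of_image_map {φ : A →ₐc[K] B} (hφ : Function.Surjective φ) {H : Set (Pt K B)}
    (hH : IsConn (Pt.map φ '' H)) : IsConn H := by
  rw [IsConn, vanIdeal_image_map] at hH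
  refine ⟨?_, ?_⟩
  · intro h
    exact hH.ne_top (by rw [h, Ideal.comap_top])
  · intro x y hxy
    obtain ⟨a, rfl⟩ := hφ x
    obtain ⟨b, rfl⟩ := hφ y
    have h1 : a * b ∈ (vanIdeal H).comap (φ : A →ₐ[K] B) := by
      rw [Ideal.mem_comap]
      have : (φ : A →ₐ[K] B) (a * b) = φ a * φ b := map_mul φ a b
      rw [this]; exact hxy
    exact hH.mem_or_mem h1

end Maps

section Quotient

variable (J : Ideal A) [J.IsHopfIdeal K]

/-- The closed immersion `Spec (A/J) → Spec A` on points. -/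
noncomputable abbrev quotMap : Pt K (A ⧸ J) →* Pt K A := Pt.map (Bialgebra.Quotient.mkBialgHom J)

lemma quotMap_apply (g : Pt K (A ⧸ J)) (a : A) :
    quotMap J g a = g (Ideal.Quotient.mk J a) := rfl

lemma quotMap_injective : Function.Injective (quotMap (K := K) J) :=
  Pt.map_injective Ideal.Quotient.mk_surjective

lemma range_quotMap : ((quotMap (K := K) J).range : Set (Pt K A)) = zeros J := by
  refine (Pt.range_map (φ := Bialgebra.Quotient.mkBialgHom (R := K) J)
    Ideal.Quotient.mk_surjective).trans ?_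
  congr 1
  ext a
  rw [RingHom.mem_ker]
  exact Ideal.Quotient.eq_zero_iff_mem

/-- The group of points of `A / vanIdeal H`, for `H` a closed subgroup. -/
noncomputable def subEquiv (H : Subgroup (Pt K A)) (hH : IsCl (H : Set (Pt K A))) :
    Pt K (A ⧸ vanIdeal (H : Set (Pt K A))) ≃* H :=
  (MonoidHom.ofInjective (quotMap_injective (K := K) (vanIdeal (H : Set (Pt K A))))).trans
    (MulEquiv.subgroupCongr (SetLike.coe_injective (by
      rw [range_quotMap, hH.eq])))

lemma subEquiv_apply (H : Subgroup (Pt K A)) (hH : IsCl (H : Set (Pt K A)))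
    (g : Pt K (A ⧸ vanIdeal (H : Set (Pt K A)))) :
    (subEquiv H hH g : Pt K A) = quotMap (vanIdeal (H : Set (Pt K A))) g := rfl

lemma subEquiv_apply_apply (H : Subgroup (Pt K A)) (hH : IsCl (H : Set (Pt K A)))
    (g : Pt K (A ⧸ vanIdeal (H : Set (Pt K A)))) (a : A) :
    (subEquiv H hH g : Pt K A) a = g (Ideal.Quotient.mk _ a) := rfl

lemma subEquiv_symm_apply_mk (H : Subgroup (Pt K A)) (hH : IsCl (H : Set (Pt K A)))
    (g : H) (a : A) :
    ((subEquiv H hH).symm g) (Ideal.Quotient.mk _ a) = (g : Pt K A) a := by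
  rw [← subEquiv_apply_apply H hH, MulEquiv.apply_symm_apply]

lemma range_quotMap_vanIdeal (H : Subgroup (Pt K A)) (hH : IsCl (H : Set (Pt K A))) :
    (quotMap (K := K) (vanIdeal (H : Set (Pt K A)))).range = H :=
  SetLike.coe_injective (by rw [range_quotMap, hH.eq])

instance isReduced_quot_vanIdeal (H : Set (Pt K A)) : IsReduced (A ⧸ vanIdeal H) := by
  rw [← Ideal.isRadical_iff_quotient_reduced]
  exact vanIdeal_isRadical H

end Quotient

section Irreducible

lemma IsConn.nonempty {X : Set (Pt K A)} (hX : IsConn X) : X.Nonempty := by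
  by_contra h
  rw [Set.not_nonempty_iff_eq_empty] at h
  subst h
  exact hX.ne_top (by rw [Ideal.eq_top_iff_one]; exact fun h hh => hh.elim)

/-- An irreducible set contained in a finite union of closed sets is contained in one of them. -/
lemma IsConn.subset_of_subset_iUnion {X : Set (Pt K A)} (hX : IsConn X) {ι : Type*} (s : Finset ι)
    (Y : ι → Set (Pt K A)) (hY : ∀ i ∈ s, IsCl (Y i)) (h : X ⊆ ⋃ i ∈ s, Y i) :
    ∃ i ∈ s, X ⊆ Y i := by
  classical
  by_contra! hcon
  have h1 : ∀ i ∈ s, ∃ a ∈ vanIdeal (Y i), a ∉ vanIdeal X := by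
    intro i hi
    have := (hY i hi).subset_iff (H := X) |>.not.1 (hcon i hi)
    exact SetLike.not_le_iff_exists.1 this
  choose! f hf hf' using h1
  have h2 : ∏ i ∈ s, f i ∈ vanIdeal X := by
    intro x hx
    obtain ⟨i, hi, hxi⟩ : ∃ i ∈ s, x ∈ Y i := by simpa using h hx
    have : x (∏ i ∈ s, f i) = ∏ i ∈ s, x (f i) := map_prod x.ofConv f s
    rw [this]
    exact Finset.prod_eq_zero hi (hf i hi x hxi)
  obtain ⟨i, hi, hi'⟩ := (Ideal.IsPrime.prod_mem_iff (hp := hX)).1 h2
  exact hf' i hi hi'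

lemma IsConn.subset_or_subset {X : Set (Pt K A)} (hX : IsConn X) {Y Z : Set (Pt K A)}
    (hY : IsCl Y) (hZ : IsCl Z) (h : X ⊆ Y ∪ Z) : X ⊆ Y ∨ X ⊆ Z := by
  obtain ⟨i, -, hi⟩ := hX.subset_of_subset_iUnion (Finset.univ : Finset Bool)
    (fun b => cond b Y Z) (by rintro (_ | _) -; exacts [hZ, hY]) (by
      intro x hx
      rcases h hx with h | h
      · exact Set.mem_biUnion (x := true) (Finset.mem_univ _) h
      · exact Set.mem_biUnion (x := false) (Finset.mem_univ _) h)
  rcases i with _ | _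
  · exact Or.inr hi
  · exact Or.inl hi

lemma isConn_iff {X : Set (Pt K A)} : IsConn X ↔ X.Nonempty ∧
    ∀ a b : A, (∀ x ∈ X, x a = 0 ∨ x b = 0) → (∀ x ∈ X, x a = 0) ∨ (∀ x ∈ X, x b = 0) := by
  constructor
  · intro h
    refine ⟨h.nonempty, fun a b hab => h.mem_or_mem fun x hx => ?_⟩
    have : x (a * b) = x a * x b := map_mul x.ofConv a b
    rw [this]
    rcases hab x hx with h | h <;> simp [h]
  · rintro ⟨⟨x, hx⟩, h⟩
    refine ⟨fun htop => ?_, fun {a b} hab => h a b fun x hx => ?_⟩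
    · have h1 : (1 : A) ∈ vanIdeal X := by rw [htop]; trivial
      have h2 := h1 x hx
      rw [show x (1 : A) = 1 from map_one x.ofConv] at h2
      exact one_ne_zero h2
    · have h1 := hab x hx
      rw [show x (a * b) = x a * x b from map_mul x.ofConv a b] at h1
      exact mul_eq_zero.1 h1

lemma IsConn.closure {X : Set (Pt K A)} (hX : IsConn X) :
    IsConn (zeros (vanIdeal X) : Set (Pt K A)) := by
  rw [IsConn, vanIdeal_zeros_vanIdeal]; exact hX

lemma isConn_clSub {H : Subgroup (Pt K A)} (hH : IsConn (H : Set (Pt K A))) :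
    IsConn (clSub H : Set (Pt K A)) := hH.closure

/-- Left translates of closed sets are closed. -/
lemma IsCl.smul {X : Set (Pt K A)} (hX : IsCl X) (g : Pt K A) : IsCl (g • X) := by
  intro x hx
  rw [Set.mem_smul_set_iff_inv_smul_mem]
  apply hX
  intro a ha
  rw [smul_eq_mul, ← lTr_apply_pt]
  apply hx
  intro y hy
  rw [lTr_apply_pt]
  apply ha
  rwa [Set.mem_smul_set_iff_inv_smul_mem] at hy

/-- The product of two points in terms of functions: for a fixed function `a` and point `x`,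
`y ↦ (x*y) a` is a regular function. -/
lemma exists_left (a : A) (x : Pt K A) : ∃ b : A, ∀ y : Pt K A, (x * y) a = y b :=
  ⟨lTr x⁻¹ a, fun y => by rw [lTr_apply_pt, inv_inv]⟩

lemma exists_right (a : A) (y : Pt K A) : ∃ b : A, ∀ x : Pt K A, (x * y) a = x b :=
  ⟨rTr y a, fun x => by rw [rTr_apply_pt]⟩

lemma IsConn.mul {X Y : Set (Pt K A)} (hX : IsConn X) (hY : IsConn Y) : IsConn (X * Y) := by
  rw [isConn_iff]
  refine ⟨hX.nonempty.mul hY.nonempty, fun a b hab => ?_⟩
  by_contra! hcon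
  obtain ⟨⟨p, hp, hpa⟩, ⟨q, hq, hqb⟩⟩ := hcon
  obtain ⟨x, hx, y, hy, rfl⟩ := hp
  obtain ⟨x', hx', y', hy', rfl⟩ := hq
  -- choose `y₀` with `(x y₀) a ≠ 0` and `(x' y₀) b ≠ 0`
  obtain ⟨a1, ha1⟩ := exists_left a x
  obtain ⟨b1, hb1⟩ := exists_left b x'
  have h1 : ∃ y₀ ∈ Y, (x * y₀) a ≠ 0 ∧ (x' * y₀) b ≠ 0 := by
    by_contra! hc
    rcases (isConn_iff.1 hY).2 a1 b1 (fun z hz => by
      by_cases h : (x * z) a = 0
      · left; rw [← ha1]; exact h
      · right; rw [← hb1]; exact hc z hz h) with h | h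
    · exact hpa (by rw [ha1]; exact h y hy)
    · exact hqb (by rw [hb1]; exact h y' hy')
  obtain ⟨y₀, hy₀, h2, h3⟩ := h1
  obtain ⟨a2, ha2⟩ := exists_right a y₀
  obtain ⟨b2, hb2⟩ := exists_right b y₀
  rcases (isConn_iff.1 hX).2 a2 b2 (fun z hz => by
    rcases hab (z * y₀) ⟨z, hz, y₀, hy₀, rfl⟩ with h | h
    · left; rw [← ha2]; exact h
    · right; rw [← hb2]; exact h) with h | h
  · exact h2 (by rw [ha2]; exact h x hx)
  · exact h3 (by rw [hb2]; exact h x' hx')

lemma IsConn.inv {X : Set (Pt K A)} (hX : IsConn X) : IsConn X⁻¹ := by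
  rw [isConn_iff]
  refine ⟨hX.nonempty.inv, fun a b hab => ?_⟩
  rcases (isConn_iff.1 hX).2 (HopfAlgebra.antipode K a) (HopfAlgebra.antipode K b) (fun z hz => by
    rw [← Pt.inv_apply, ← Pt.inv_apply]
    exact hab z⁻¹ (Set.inv_mem_inv.2 hz)) with h | h
  · left
    intro x hx
    have := h x⁻¹ hx
    rwa [← Pt.inv_apply, inv_inv] at this
  · right
    intro x hx
    have := h x⁻¹ hx
    rwa [← Pt.inv_apply, inv_inv] at this

lemma isConn_singleton (g : Pt K A) : IsConn ({g} : Set (Pt K A)) := by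
  rw [isConn_iff]
  refine ⟨⟨g, rfl⟩, fun a b hab => ?_⟩
  rcases hab g rfl with h | h
  · left; rintro _ rfl; exact h
  · right; rintro _ rfl; exact h

lemma isConn_bot : IsConn ((⊥ : Subgroup (Pt K A)) : Set (Pt K A)) := by
  have : ((⊥ : Subgroup (Pt K A)) : Set (Pt K A)) = {1} := rfl
  rw [this]; exact isConn_singleton 1

lemma IsConn.smul {X : Set (Pt K A)} (hX : IsConn X) (g : Pt K A) : IsConn (g • X) := by
  have : g • X = ({g} : Set (Pt K A)) * X := by rw [Set.singleton_mul]; rfl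
  rw [this]
  exact (isConn_singleton g).mul hX

/-- A directed union of irreducible sets is irreducible. -/
lemma isConn_iUnion_of_directed {ι : Type*} [Nonempty ι] {X : ι → Set (Pt K A)}
    (hX : ∀ i, IsConn (X i)) (hd : Directed (· ⊆ ·) X) : IsConn (⋃ i, X i) := by
  rw [isConn_iff]
  refine ⟨?_, fun a b hab => ?_⟩
  · obtain ⟨x, hx⟩ := (hX (Classical.arbitrary ι)).nonempty
    exact ⟨x, Set.mem_iUnion.2 ⟨_, hx⟩⟩
  by_contra! hcon
  obtain ⟨⟨p, hp, hpa⟩, ⟨q, hq, hqb⟩⟩ := hcon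
  obtain ⟨i, hi⟩ := Set.mem_iUnion.1 hp
  obtain ⟨j, hj⟩ := Set.mem_iUnion.1 hq
  obtain ⟨k, hk1, hk2⟩ := hd i j
  rcases (isConn_iff.1 (hX k)).2 a b (fun x hx => hab x (Set.mem_iUnion.2 ⟨k, hx⟩)) with h | h
  · exact hpa (h p (hk1 hi))
  · exact hqb (h q (hk2 hj))

/-- A closed subgroup of finite index in an irreducible subgroup is everything. -/
lemma IsConn.eq_of_finiteIndex {H N : Subgroup (Pt K A)} (hH : IsConn (H : Set (Pt K A)))
    (hN : IsCl (N : Set (Pt K A))) (hNH : N ≤ H) (hfin : N.relIndex H ≠ 0) : N = H := by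
  apply le_antisymm hNH
  have : Finite (H ⧸ N.subgroupOf H) := by
    rw [← Subgroup.index_ne_zero_iff_finite]
    exact hfin
  have := Fintype.ofFinite (H ⧸ N.subgroupOf H)
  obtain ⟨q, -, hq⟩ := hH.subset_of_subset_iUnion (Finset.univ : Finset (H ⧸ N.subgroupOf H))
    (fun q => ((q.out : H) : Pt K A) • (N : Set (Pt K A))) (fun q _ => hN.smul _) (by
      intro h hh
      rw [Set.mem_iUnion₂]
      refine ⟨QuotientGroup.mk ⟨h, hh⟩, Finset.mem_univ _, ?_⟩
      rw [Set.mem_smul_set_iff_inv_smul_mem, smul_eq_mul]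
      have h1 := QuotientGroup.mk_out_eq_mul (N.subgroupOf H) ⟨h, hh⟩
      obtain ⟨n, hn⟩ := h1
      have h2 : (((QuotientGroup.mk ⟨h, hh⟩ : H ⧸ N.subgroupOf H).out : H) : Pt K A) =
          h * ((n : H) : Pt K A) := congr(((↑$hn : Pt K A)))
      rw [h2, mul_inv_rev, mul_assoc, inv_mul_cancel, mul_one]
      exact N.inv_mem n.2)
  have h1 := hq H.one_mem
  rw [Set.mem_smul_set_iff_inv_smul_mem, smul_eq_mul, mul_one] at h1
  intro h hh
  have h2 := hq hh
  rw [Set.mem_smul_set_iff_inv_smul_mem, smul_eq_mul] at h2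
  have := N.mul_mem (N.inv_mem h1) h2
  simpa using this

end Irreducible

end Groth.Agent.Sga3B.RG
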