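import Groth.Agent.Sga3B.RG.Defs
import Groth.Agent.Books.DynLim
import Mathlib.RingTheory.Bialgebra.MonoidAlgebra
import Mathlib.RingTheory.GradedAlgebra.Basic

/-!
# The conjugation grading of a Hopf algebra attached to a diagonalizable group

`A` is a commutative Hopf algebra over a commutative ring `k`, `π : A → k[G]` a bialgebra map
(`G` an abelian group, written multiplicatively).  The diagonalizable group `D(G)` acts on `A`
by conjugation, and `A` is graded by `G`: `gr π m` is the set of `a` with
`(t g t⁻¹)(a) = t(m) g(a)` for all points.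
-/

set_option autoImplicit false

universe u

open WithConv TensorProduct Coalgebra
open Groth.Agent.Books.DynBasic (mapPt ptGroup mapPt_apply inv_def)

namespace Groth.Agent.Sga3B.RG.ConjGrade

section

variable {k : Type u} [CommRing k] {A : Type u} [CommRing A] [HopfAlgebra k A]
variable {G : Type} [CommGroup G] (π : A →ₐc[k] MonoidAlgebra k G)
variable {R : Type u} [CommRing R] [Algebra k R]

/-- The point of `A` attached to a character point `χ : G →* R`. -/
noncomputable def tau : (G →* R) →* WithConv (A →ₐ[k] R) where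
  toFun χ := toConv ((MonoidAlgebra.lift k R G χ).comp (π : A →ₐ[k] MonoidAlgebra k G))
  map_one' := by
    have h := map_one (MonoidAlgebra.liftMulEquiv (R := k) (A := R) (M := G))
    have h' : MonoidAlgebra.lift k R G 1 =
      ((1 : WithConv (MonoidAlgebra k G →ₐ[k] R))).ofConv := congrArg WithConv.ofConv h
    rw [h']
    apply WithConv.ofConv_injective
    ext a
    simp only [AlgHom.convOne_def, ofConv_toConv, AlgHom.comp_apply]
    congr 1
    exact CoalgHomClass.counit_comp_apply π a
  map_mul' χ ψ := by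
    have h := map_mul (MonoidAlgebra.liftMulEquiv (R := k) (A := R) (M := G)) χ ψ
    have h' : MonoidAlgebra.lift k R G (χ * ψ) =
      (toConv (MonoidAlgebra.lift k R G χ) * toConv (MonoidAlgebra.lift k R G ψ)).ofConv :=
        congrArg WithConv.ofConv h
    rw [h']
    apply WithConv.ofConv_injective
    exact AlgHom.convMul_comp_bialgHom_distrib _ _ π

lemma tau_apply (χ : G →* R) (a : A) :
    (tau π χ).ofConv a = MonoidAlgebra.lift k R G χ (π a) := rfl

variable {S : Type u} [CommRing S] [Algebra k S]

lemma mapPt_tau (φ : R →ₐ[k] S) (χ : G →* R) :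
    mapPt φ (tau π χ) = tau π ((φ : R →* S).comp χ) := by
  apply WithConv.ofConv_injective
  change φ.comp ((MonoidAlgebra.lift k R G χ).comp _) = (MonoidAlgebra.lift k S G _).comp _
  rw [← AlgHom.comp_assoc]
  congr 1
  apply MonoidAlgebra.algHom_ext
  · intro m
    simp
  · ext

/-- The coaction of `D(G)` on `A` by conjugation. -/
noncomputable def rho : A →ₐ[k] MonoidAlgebra A G :=
  (tau π (MonoidAlgebra.of A G) *
    toConv (MonoidAlgebra.singleOneAlgHom (R := k) (A := A) (M := G)) *
    (tau π (MonoidAlgebra.of A G))⁻¹).ofConv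

/-- Evaluation `A[G] → R` given by a point `g : A → R` and a character point. -/
noncomputable def ev (g : A →ₐ[k] R) (χ : G →* R) : MonoidAlgebra A G →ₐ[k] R :=
  MonoidAlgebra.liftNCAlgHom g χ fun _ _ => Commute.all _ _

@[simp] lemma ev_single (g : A →ₐ[k] R) (χ : G →* R) (m : G) (a : A) :
    ev g χ (MonoidAlgebra.single m a) = g a * χ m := by
  rw [ev, MonoidAlgebra.coe_liftNCAlgHom, MonoidAlgebra.liftNC_single]
  rfl

lemma ev_apply (g : A →ₐ[k] R) (χ : G →* R) (f : MonoidAlgebra A G) :
    ev g χ f = f.coeff.sum fun m b => g b * χ m := by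
  classical
  induction f using MonoidAlgebra.induction_linear with
  | zero => simp
  | add f g' hf hg' =>
    rw [map_add, MonoidAlgebra.coeff_add, Finsupp.sum_add_index, hf, hg'] <;>
    intros <;> simp [add_mul]
  | single m a => simp

lemma conj_eq (χ : G →* R) (g : WithConv (A →ₐ[k] R)) :
    tau π χ * g * (tau π χ)⁻¹ = mapPt (ev g.ofConv χ) (toConv (rho π)) := by
  change _ = mapPt (ev g.ofConv χ) (tau π (MonoidAlgebra.of A G) *
    toConv (MonoidAlgebra.singleOneAlgHom (R := k) (A := A) (M := G)) *
    (tau π (MonoidAlgebra.of A G))⁻¹)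
  rw [map_mul, map_mul, map_inv, mapPt_tau]
  have h1 : ((ev g.ofConv χ : MonoidAlgebra A G →ₐ[k] R) : MonoidAlgebra A G →* R).comp
      (MonoidAlgebra.of A G) = χ := by
    ext m
    simp
  have h2 : mapPt (ev g.ofConv χ) (toConv (MonoidAlgebra.singleOneAlgHom (R := k) (A := A)
      (M := G))) = g := by
    apply WithConv.ofConv_injective
    ext a
    change ev g.ofConv χ (MonoidAlgebra.single 1 a) = _
    simp
  rw [h1, h2]

lemma conj_apply (χ : G →* R) (g : WithConv (A →ₐ[k] R)) (a : A) :
    (tau π χ * g * (tau π χ)⁻¹).ofConv a =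
      (rho π a).coeff.sum fun m b => g.ofConv b * χ m := by
  rw [conj_eq]
  change ev g.ofConv χ (rho π a) = _
  rw [ev_apply]

/-- The component of degree `m`. -/
noncomputable def pr (m : G) : A →ₗ[k] A where
  toFun a := (rho π a).coeff m
  map_add' a b := by simp
  map_smul' c a := by simp

lemma pr_def (m : G) (a : A) : pr π m a = (rho π a).coeff m := rfl

lemma sum_pr (a : A) : ((rho π a).coeff.sum fun _ b => b) = a := by
  have h := conj_apply π (1 : G →* A) (toConv (AlgHom.id k A)) a
  rw [map_one, one_mul, inv_one, mul_one] at h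
  simpa using h.symm

lemma rho_pr (m : G) (a : A) : rho π (pr π m a) = MonoidAlgebra.single m (pr π m a) := by
  classical
  -- the points with values in `A[G][G]`
  let R' := MonoidAlgebra (MonoidAlgebra A G) G
  let c : MonoidAlgebra A G →ₐ[k] R' := MonoidAlgebra.singleOneAlgHom
  let χ₁ : G →* R' := MonoidAlgebra.of _ G
  let χ₂ : G →* R' := (c : MonoidAlgebra A G →* R').comp (MonoidAlgebra.of A G)
  let c₀ : A →ₐ[k] MonoidAlgebra A G := MonoidAlgebra.singleOneAlgHom
  let g : WithConv (A →ₐ[k] R') := toConv (c.comp c₀)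
  have h1 : tau π (χ₁ * χ₂) * g * (tau π (χ₁ * χ₂))⁻¹ =
      tau π χ₁ * (tau π χ₂ * g * (tau π χ₂)⁻¹) * (tau π χ₁)⁻¹ := by
    rw [map_mul, mul_inv_rev]; simp only [mul_assoc]
  have h2 : tau π χ₂ * g * (tau π χ₂)⁻¹ = mapPt c (toConv (rho π)) := by
    change _ = mapPt c (tau π (MonoidAlgebra.of A G) * toConv c₀ *
      (tau π (MonoidAlgebra.of A G))⁻¹)
    rw [map_mul, map_mul, map_inv, mapPt_tau]
    rfl
  rw [h2] at h1
  have h3 := DFunLike.congr_fun (congrArg WithConv.ofConv h1) a
  rw [conj_apply, conj_apply] at h3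
  have h4 := congrArg (fun f => MonoidAlgebra.coeff f m) h3
  rw [Finsupp.sum, Finsupp.sum, MonoidAlgebra.coeff_sum, MonoidAlgebra.coeff_sum,
    Finset.sum_apply', Finset.sum_apply'] at h4
  have hr : ∀ (x : G) (b : MonoidAlgebra A G),
      ((c b : R') * χ₁ x).coeff m = if x = m then b else 0 := by
    intro x b
    change ((MonoidAlgebra.single 1 b : R') * MonoidAlgebra.single x 1).coeff m = _
    rw [MonoidAlgebra.single_mul_single, one_mul, mul_one, MonoidAlgebra.coeff_single,
      Finsupp.single_apply]
  have hR : ∑ x ∈ (rho π a).coeff.support,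
      ((mapPt c (toConv (rho π))).ofConv ((rho π a).coeff x) * χ₁ x).coeff m =
      rho π (pr π m a) := by
    have : ∀ x, ((mapPt c (toConv (rho π))).ofConv ((rho π a).coeff x) * χ₁ x).coeff m =
        if x = m then rho π ((rho π a).coeff x) else 0 := fun x => hr x _
    simp only [this]
    rw [Finset.sum_ite_eq']
    split_ifs with hm
    · rfl
    · rw [Finsupp.notMem_support_iff] at hm
      rw [pr_def, hm, map_zero]
  have hL : ∑ x ∈ (rho π a).coeff.support,
      (g.ofConv ((rho π a).coeff x) * (χ₁ * χ₂) x).coeff m =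
      MonoidAlgebra.single m (pr π m a) := by
    have : ∀ x, (g.ofConv ((rho π a).coeff x) * (χ₁ * χ₂) x).coeff m =
        if x = m then MonoidAlgebra.single x ((rho π a).coeff x) else 0 := by
      intro x
      rw [MonoidHom.mul_apply, mul_comm (χ₁ x), ← mul_assoc]
      have : g.ofConv ((rho π a).coeff x) * χ₂ x =
          c (MonoidAlgebra.single x ((rho π a).coeff x)) := by
        change c (c₀ _) * c (MonoidAlgebra.single x 1) = _
        rw [← map_mul]
        congr 1
        change MonoidAlgebra.single 1 _ * MonoidAlgebra.single x 1 = _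
        rw [MonoidAlgebra.single_mul_single, one_mul, mul_one]
      rw [this, hr]
    simp only [this]
    rw [Finset.sum_ite_eq']
    split_ifs with hm
    · rfl
    · rw [Finsupp.notMem_support_iff] at hm
      rw [pr_def, hm, MonoidAlgebra.single_zero]
  rw [hL, hR] at h4
  exact h4.symm

/-- The homogeneous elements of degree `m` of `A` for the conjugation grading. -/
noncomputable def gr (m : G) : Submodule k A where
  carrier := {a | rho π a = MonoidAlgebra.single m a}
  add_mem' := by
    intro a b ha hb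
    simp only [Set.mem_ofPred_eq] at ha hb ⊢
    rw [map_add, ha, hb, MonoidAlgebra.single_add]
  zero_mem' := by simp
  smul_mem' := by
    intro c x hx
    simp only [Set.mem_ofPred_eq] at hx ⊢
    rw [map_smul, hx, MonoidAlgebra.smul_single]

lemma mem_gr {m : G} {a : A} : a ∈ gr π m ↔ rho π a = MonoidAlgebra.single m a := Iff.rfl

lemma pr_mem_gr (m : G) (a : A) : pr π m a ∈ gr π m := rho_pr π m a

lemma pr_of_mem_same {m : G} {a : A} (ha : a ∈ gr π m) : pr π m a = a := by
  classical
  rw [pr_def, (mem_gr π).1 ha, MonoidAlgebra.coeff_single, Finsupp.single_eq_same]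

lemma pr_of_mem_ne {m n : G} {a : A} (ha : a ∈ gr π m) (h : m ≠ n) : pr π n a = 0 := by
  classical
  rw [pr_def, (mem_gr π).1 ha, MonoidAlgebra.coeff_single, Finsupp.single_eq_of_ne h.symm]

lemma algebraMap_mem_gr (c : k) : algebraMap k A c ∈ gr π 1 := by
  rw [mem_gr, AlgHom.commutes]; rfl

lemma one_mem_gr : (1 : A) ∈ gr π 1 := by
  rw [mem_gr, map_one]; rfl

lemma mul_mem_gr {m n : G} {a b : A} (ha : a ∈ gr π m) (hb : b ∈ gr π n) :
    a * b ∈ gr π (m * n) := by
  rw [mem_gr, map_mul, (mem_gr π).1 ha, (mem_gr π).1 hb, MonoidAlgebra.single_mul_single]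

lemma sum_pr' (a : A) : ∑ m ∈ (rho π a).coeff.support, pr π m a = a := sum_pr π a

/-- Induction over homogeneous elements. -/
@[elab_as_elim]
lemma induction_gr {P : A → Prop} (h0 : P 0) (hadd : ∀ a b, P a → P b → P (a + b))
    (hgr : ∀ m, ∀ a ∈ gr π m, P a) (a : A) : P a := by
  classical
  rw [← sum_pr' π a]
  refine Finset.sum_induction _ P hadd h0 fun m _ => hgr m _ (pr_mem_gr π m a)

lemma iSup_gr : (⨆ m, gr π m) = ⊤ := by
  rw [eq_top_iff]
  rintro a -
  refine induction_gr π (Submodule.zero_mem _) (fun a b => Submodule.add_mem _)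
    (fun m a ha => Submodule.mem_iSup_of_mem m ha) a

lemma conj_apply_of_mem {m : G} {a : A} (ha : a ∈ gr π m) (χ : G →* R)
    (g : WithConv (A →ₐ[k] R)) :
    (tau π χ * g * (tau π χ)⁻¹).ofConv a = g.ofConv a * χ m := by
  rw [conj_eq]
  change ev g.ofConv χ (rho π a) = _
  rw [(mem_gr π).1 ha, ev_single]

/-- Universal character point over `R[G]`, and the constant inclusion `R → R[G]`. -/
noncomputable abbrev cst (k : Type u) [CommRing k] (G : Type) [CommGroup G] (R : Type u) [CommRing R]
    [Algebra k R] : R →ₐ[k] MonoidAlgebra R G :=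
  MonoidAlgebra.singleOneAlgHom

/-- The centralizer of `D(G)` on `R`-points. -/
noncomputable def cent (R : Type u) [CommRing R] [Algebra k R] :
    Subgroup (WithConv (A →ₐ[k] R)) :=
  (Subgroup.centralizer {tau π (MonoidAlgebra.of R G)}).comap (mapPt (cst k G R))

lemma mem_cent_iff (g : WithConv (A →ₐ[k] R)) :
    g ∈ cent π R ↔ ∀ m ≠ 1, ∀ a ∈ gr π m, g.ofConv a = 0 := by
  classical
  rw [cent, Subgroup.mem_comap, Subgroup.mem_centralizer_singleton_iff]
  constructor
  · intro h m hm a ha
    have h1 : tau π (MonoidAlgebra.of R G) * mapPt (cst k G R) g *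
        (tau π (MonoidAlgebra.of R G))⁻¹ = mapPt (cst k G R) g := by
      rw [← h, mul_inv_cancel_right]
    have h2 := DFunLike.congr_fun (congrArg WithConv.ofConv h1) a
    rw [conj_apply_of_mem π ha] at h2
    change MonoidAlgebra.single 1 (g.ofConv a) * MonoidAlgebra.single m (1 : R) =
      MonoidAlgebra.single 1 (g.ofConv a) at h2
    rw [MonoidAlgebra.single_mul_single, one_mul, mul_one] at h2
    have h3 := congrArg (fun f => MonoidAlgebra.coeff f m) h2
    simp only [MonoidAlgebra.coeff_single, Finsupp.single_eq_same] at h3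
    rw [Finsupp.single_eq_of_ne hm] at h3
    exact h3
  · intro h
    have h1 : tau π (MonoidAlgebra.of R G) * mapPt (cst k G R) g *
        (tau π (MonoidAlgebra.of R G))⁻¹ = mapPt (cst k G R) g := by
      apply WithConv.ofConv_injective
      refine AlgHom.ext fun a => ?_
      refine induction_gr π ?_ ?_ ?_ a
      · rw [map_zero, map_zero]
      · intro a b ha hb
        rw [map_add, map_add, ha, hb]
      · intro m a ha
        rw [conj_apply_of_mem π ha]
        by_cases hm : m = 1
        · subst hm
          rw [map_one, mul_one]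
        · rw [mapPt_apply, h m hm a ha, map_zero, zero_mul]
    rw [mul_inv_eq_iff_eq_mul] at h1
    exact h1.symm

lemma counit_of_mem_gr {m : G} (hm : m ≠ 1) {a : A} (ha : a ∈ gr π m) :
    counit (R := k) a = 0 := by
  have h := (mem_cent_iff π (1 : WithConv (A →ₐ[k] k))).1 (Subgroup.one_mem _) m hm a ha
  rw [AlgHom.convOne_def] at h
  exact h

/-- The ideal of the centralizer. -/
noncomputable def JC : Ideal A := Ideal.span {a | ∃ m ≠ 1, a ∈ gr π m}

lemma vanish_JC_iff (g : A →ₐ[k] R) :
    (∀ a ∈ JC π, g a = 0) ↔ toConv g ∈ cent π R := by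
  rw [mem_cent_iff]
  constructor
  · intro h m hm a ha
    exact h a (Ideal.subset_span ⟨m, hm, ha⟩)
  · intro h a ha
    have : JC π ≤ RingHom.ker g := by
      rw [JC, Ideal.span_le]
      rintro b ⟨m, hm, hb⟩
      exact h m hm b hb
    exact this ha

lemma isHopfIdeal_JC : (JC π).IsHopfIdeal k := by
  apply Groth.Agent.Books.DynLim.isHopfIdeal_of_points
  · intro a ha
    have h := (vanish_JC_iff π (1 : WithConv (A →ₐ[k] k)).ofConv).2
      (Subgroup.one_mem (cent π k)) a ha
    rw [AlgHom.convOne_def] at h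
    exact h
  · intro R _ _ g h hg hh
    exact (vanish_JC_iff π (g * h).ofConv).2
      (Subgroup.mul_mem _ ((vanish_JC_iff π g.ofConv).1 hg) ((vanish_JC_iff π h.ofConv).1 hh))
  · intro R _ _ g hg
    exact (vanish_JC_iff π (g⁻¹).ofConv).2
      (Subgroup.inv_mem _ ((vanish_JC_iff π g.ofConv).1 hg))

end

end Groth.Agent.Sga3B.RG.ConjGrade
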