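import Groth.Agent.Sga3B.RG.TopLine

/-!
# Extremal lines and extremal functionals

* `isAlg_dual`, `isSimpleRep_dual`;
* `isTopVec_dual`: the functional dual to a top vector is a top vector of the dual representation
  for the opposite cocharacter;
* `isTopVec_conj`: translates of top vectors are top vectors for the conjugate cocharacter;
* `lineStab`: the stabilizer of a line;
* `exists_normalizer_of_fixed`: the torus fixed lines in the orbit cone of a top vector are the
  translates by the normalizer of the torus;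
* `exists_extremal`: the extremal functionals have no common zero on the orbit cone;
* `luna_top` (P8).
-/

set_option autoImplicit false

universe u w

open WithConv TensorProduct Coalgebra Module
open scoped LaurentPolynomial

namespace Groth.Agent.Sga3B.RG

section Dual

variable {K : Type u} [Field K] {A : Type u} [CommRing A] [HopfAlgebra K A]
  {V : Type w} [AddCommGroup V] [Module K V] {ρ : Representation K (Pt K A) V}

theorem dual_apply_apply (g : Pt K A) (f : Dual K V) (v : V) :
    (ρ.dual g) f v = f (ρ g⁻¹ v) := rfl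

theorem isAlg_dual [FiniteDimensional K V] (hρ : IsAlg ρ) : IsAlg ρ.dual := by
  intro φ f
  obtain ⟨v, rfl⟩ := (Module.evalEquiv K V).surjective φ
  obtain ⟨a, ha⟩ := hρ f v
  refine ⟨HopfAlgebra.antipode K a, fun g => ?_⟩
  rw [← Pt.inv_apply, ← ha]
  rfl

theorem isSimpleRep_dual [FiniteDimensional K V] (hs : IsSimpleRep ρ) : IsSimpleRep ρ.dual := by
  have := hs.1
  refine ⟨inferInstance, fun W hW => ?_⟩
  have hst : IsStable ρ W.dualCoannihilator := by
    intro g v hv
    rw [Submodule.mem_dualCoannihilator] at hv ⊢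
    intro f hf
    have h1 := hv _ (hW g⁻¹ f hf)
    rwa [dual_apply_apply, inv_inv] at h1
  rcases hs.2 _ hst with h | h
  · right
    rw [← Subspace.dualCoannihilator_dualAnnihilator_eq (W := W), h,
      Submodule.dualAnnihilator_bot]
  · left
    rw [← Subspace.dualCoannihilator_dualAnnihilator_eq (W := W), h,
      Submodule.dualAnnihilator_top]

end Dual

section TopDual

variable {K : Type u} [Field K] [Infinite K] {A : Type u} [CommRing A] [HopfAlgebra K A]
  {V : Type w} [AddCommGroup V] [Module K V] {ρ : Representation K (Pt K A) V}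
  {lam : A →ₐc[K] K[T;T⁻¹]}

/-- A functional of weight `k` for the opposite cocharacter vanishes on the weight spaces of
different weight. -/
theorem apply_eq_zero_of_mem_cwt_dual {k j : ℤ} (hkj : k ≠ j) {f : Dual K V}
    (hf : f ∈ cwt (invCoch lam) ρ.dual k) {v : V} (hv : v ∈ cwt lam ρ j) : f v = 0 := by
  obtain ⟨t, ht⟩ := exists_zpow_ne_one (K := K) (sub_ne_zero.mpr hkj)
  have h1 : (ρ.dual (cochPt (invCoch lam) t) f) v = ((t ^ k : Kˣ) : K) * f v := by
    rw [mem_cwt.mp hf t]; rfl
  rw [dual_apply_apply, cochPt_invCoch, inv_inv, mem_cwt.mp hv t, map_smul, smul_eq_mul] at h1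
  by_contra hne
  have h2 := mul_right_cancel₀ hne h1
  apply ht
  rw [zpow_sub, ← Units.ext h2, mul_inv_cancel]

/-- The functional dual to a top vector. -/
theorem isTopVec_dual (d : WtDec.Dec (gmChar K) (ρ.comp (cochPt lam))) {v : V} {N : ℤ}
    (hv : v ≠ 0) (hN : cwt lam ρ N = K ∙ v) (htop : ∀ n, N < n → cwt lam ρ n = ⊥) :
    ∃ f : Dual K V, IsTopVec (invCoch lam) ρ.dual f ∧ f v = 1 ∧ ∀ w, d.P N w = f w • v := by
  have hvN : v ∈ cwt lam ρ N := hN ▸ Submodule.mem_span_singleton_self v
  have hex : ∀ w, ∃ c : K, c • v = d.P N w := fun w =>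
    Submodule.mem_span_singleton.mp (hN ▸ d.P_mem gmChar_injective N w)
  choose c hc using hex
  let f : Dual K V :=
    { toFun := c
      map_add' := fun x y => by
        apply smul_left_injective K hv
        change c (x + y) • v = (c x + c y) • v
        rw [hc, add_smul, hc, hc, map_add]
      map_smul' := fun a x => by
        apply smul_left_injective K hv
        change c (a • x) • v = (a * c x) • v
        rw [hc, mul_smul, hc, map_smul] }
  have hf : ∀ w, d.P N w = f w • v := fun w => (hc w).symm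
  have hf1 : f v = 1 := by
    apply smul_left_injective K hv
    change f v • v = (1 : K) • v
    rw [← hf, d.P_of_mem gmChar_injective hvN, one_smul]
  have hfmem : f ∈ cwt (invCoch lam) ρ.dual N := by
    intro t
    refine LinearMap.ext fun w => ?_
    apply smul_left_injective K hv
    change (f (ρ (cochPt (invCoch lam) t)⁻¹ w)) • v = (((t ^ N : Kˣ) : K) • f w) • v
    rw [← hf, cochPt_invCoch, inv_inv, smul_assoc, ← hf]
    exact d.P_comm gmChar_injective N t w
  refine ⟨f, ⟨fun h => one_ne_zero (hf1.symm.trans (by rw [h]; rfl)), N, ?_, ?_⟩, hf1, hf⟩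
  · refine le_antisymm (fun f' hf' => ?_) ?_
    · refine Submodule.mem_span_singleton.mpr ⟨f' v, LinearMap.ext fun w => ?_⟩
      have h1 : f' w = f' (d.P N w) := by
        classical
        conv_lhs => rw [← d.sum_P w, map_sum]
        by_cases hNS : N ∈ d.S
        · refine Finset.sum_eq_single N (fun n _ hn => ?_) (fun h => absurd hNS h)
          exact apply_eq_zero_of_mem_cwt_dual hn.symm hf' (d.P_mem gmChar_injective n w)
        · rw [d.P_eq_zero N hNS, LinearMap.zero_apply, map_zero]
          refine Finset.sum_eq_zero fun n hn => ?_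
          exact apply_eq_zero_of_mem_cwt_dual (fun h : N = n => hNS (by rw [h]; exact hn)) hf'
            (d.P_mem gmChar_injective n w)
      rw [h1, hf, map_smul, smul_eq_mul, LinearMap.smul_apply, smul_eq_mul, mul_comm]
    · rw [Submodule.span_singleton_le_iff_mem]
      exact hfmem
  · intro n hn
    rw [eq_bot_iff]
    intro f' hf'
    rw [Submodule.mem_bot]
    refine LinearMap.ext fun w => ?_
    rw [← d.sum_P w, map_sum, LinearMap.zero_apply]
    refine Finset.sum_eq_zero fun m _ => ?_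
    rcases eq_or_ne n m with rfl | hnm
    · have h1 := d.P_mem gmChar_injective n w
      rw [show WtDec.wt (gmChar K) (ρ.comp (cochPt lam)) n = ⊥ from htop n hn] at h1
      rw [(Submodule.mem_bot K).mp h1, map_zero]
    · exact apply_eq_zero_of_mem_cwt_dual hnm hf' (d.P_mem gmChar_injective m w)

end TopDual

section Conj

variable {K : Type u} [Field K] [IsAlgClosed K] {A : Type u} [CommRing A] [HopfAlgebra K A]
  [Algebra.FiniteType K A] [IsReduced A]
  {V : Type w} [AddCommGroup V] [Module K V] {ρ : Representation K (Pt K A) V}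
  {lam : A →ₐc[K] K[T;T⁻¹]}

theorem mem_cwt_conjCoch {n : Pt K A} {k : ℤ} {v : V} :
    v ∈ cwt (conjCoch n lam) ρ k ↔ ρ n⁻¹ v ∈ cwt lam ρ k := by
  rw [mem_cwt, mem_cwt]
  constructor
  · intro h t
    have h1 := congrArg (ρ n⁻¹) (h t)
    rw [cochPt_conjCoch, map_smul, map_mul, map_mul, Module.End.mul_apply,
      Module.End.mul_apply, ← Module.End.mul_apply (ρ n⁻¹), ← map_mul, inv_mul_cancel, map_one,
      Module.End.one_apply] at h1
    exact h1
  · intro h t
    have h1 := congrArg (ρ n) (h t)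
    rw [map_smul, ← Module.End.mul_apply (ρ n) (ρ n⁻¹), ← map_mul, mul_inv_cancel, map_one,
      Module.End.one_apply] at h1
    rw [cochPt_conjCoch, map_mul, map_mul, Module.End.mul_apply, Module.End.mul_apply]
    exact h1

theorem isTopVec_conj {v : V} (hv : IsTopVec lam ρ v) (n : Pt K A) :
    IsTopVec (conjCoch n lam) ρ (ρ n v) := by
  have hinv : ∀ x : V, ρ n⁻¹ (ρ n x) = x := fun x => by
    rw [← Module.End.mul_apply, ← map_mul, inv_mul_cancel, map_one, Module.End.one_apply]
  have hinv' : ∀ x : V, ρ n (ρ n⁻¹ x) = x := fun x => by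
    rw [← Module.End.mul_apply, ← map_mul, mul_inv_cancel, map_one, Module.End.one_apply]
  obtain ⟨hv0, N, hN, htop⟩ := hv
  refine ⟨fun h => hv0 (by rw [← hinv v, h, map_zero]), N, ?_, fun k hk => ?_⟩
  · ext x
    rw [mem_cwt_conjCoch, hN, Submodule.mem_span_singleton, Submodule.mem_span_singleton]
    constructor
    · rintro ⟨c, hc⟩
      exact ⟨c, by rw [← map_smul, hc, hinv']⟩
    · rintro ⟨c, rfl⟩
      exact ⟨c, by rw [map_smul, hinv]⟩
  · rw [eq_bot_iff]
    intro x hx
    rw [mem_cwt_conjCoch, htop k hk, Submodule.mem_bot] at hx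
    rw [Submodule.mem_bot, ← hinv' x, hx, map_zero]

end Conj

section Grp

/-- Conjugate subgroups (statement in an abstract group). -/
theorem map_conj_map_conj {G : Type*} [Group G] (T : Subgroup G) (a b : G) :
    (T.map (MulAut.conj a).toMonoidHom).map (MulAut.conj b).toMonoidHom =
      T.map (MulAut.conj (b * a)).toMonoidHom := by
  rw [Subgroup.map_map]
  congr 1
  ext x
  simp [mul_assoc]

theorem map_conj_one {G : Type*} [Group G] (T : Subgroup G) :
    T.map (MulAut.conj (1 : G)).toMonoidHom = T := by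
  convert Subgroup.map_id T using 2
  ext x
  simp

theorem mem_map_conj {G : Type*} [Group G] {T : Subgroup G} {a x : G} :
    x ∈ T.map (MulAut.conj a).toMonoidHom ↔ a⁻¹ * x * a ∈ T := by
  constructor
  · rintro ⟨t, ht, rfl⟩
    simpa [mul_assoc] using ht
  · intro h
    exact ⟨a⁻¹ * x * a, h, by simp [mul_assoc]⟩

theorem map_conj_eq_of {G : Type*} [Group G] {T : Subgroup G} {g h : G}
    (hT : (T.map (MulAut.conj g⁻¹).toMonoidHom).map (MulAut.conj h).toMonoidHom = T) :
    T.map (MulAut.conj (g * h⁻¹)).toMonoidHom = T := by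
  conv_lhs => rw [← hT]
  rw [map_conj_map_conj, map_conj_map_conj]
  have : g * h⁻¹ * h * g⁻¹ = 1 := by group
  rw [this, map_conj_one]

end Grp

section LineStab

variable {K : Type u} [Field K] {A : Type u} [CommRing A] [HopfAlgebra K A]
  {V : Type w} [AddCommGroup V] [Module K V] (ρ : Representation K (Pt K A) V)

/-- The stabilizer of the line through `v` (and everything if `v = 0`). -/
def lineStab (v : V) : Subgroup (Pt K A) where
  carrier := {g | ∃ c : Kˣ, ρ g v = c • v}
  one_mem' := ⟨1, by simp⟩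
  mul_mem' := by
    rintro g h ⟨c, hc⟩ ⟨d, hd⟩
    refine ⟨d * c, ?_⟩
    rw [map_mul, Module.End.mul_apply, hd, LinearMap.map_smul_of_tower, hc, smul_smul]
  inv_mem' := by
    rintro g ⟨c, hc⟩
    refine ⟨c⁻¹, ?_⟩
    have h1 : ρ g⁻¹ (ρ g v) = v := by
      rw [← Module.End.mul_apply, ← map_mul, inv_mul_cancel, map_one, Module.End.one_apply]
    rw [hc, LinearMap.map_smul_of_tower] at h1
    conv_rhs => rw [← h1]
    rw [smul_smul, inv_mul_cancel, one_smul]

variable {ρ}

theorem mem_lineStab {v : V} {g : Pt K A} : g ∈ lineStab ρ v ↔ ∃ c : Kˣ, ρ g v = c • v := Iff.rfl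

theorem mem_lineStab_iff {v : V} {g : Pt K A} : g ∈ lineStab ρ v ↔ ρ g v ∈ K ∙ v := by
  rw [mem_lineStab, Submodule.mem_span_singleton]
  constructor
  · rintro ⟨c, hc⟩
    exact ⟨c, hc.symm⟩
  · rintro ⟨c, hc⟩
    by_cases hv : v = 0
    · exact ⟨1, by rw [hv, map_zero, smul_zero]⟩
    · have hc0 : c ≠ 0 := by
        rintro rfl
        rw [zero_smul] at hc
        apply hv
        have h1 : ρ g⁻¹ (ρ g v) = v := by
          rw [← Module.End.mul_apply, ← map_mul, inv_mul_cancel, map_one, Module.End.one_apply]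
        rw [← h1, ← hc, map_zero]
      exact ⟨Units.mk0 c hc0, hc.symm⟩

theorem isCl_lineStab (hρ : IsAlg ρ) (v : V) : IsCl (lineStab ρ v : Set (Pt K A)) := by
  intro g hg
  rw [SetLike.mem_coe, mem_lineStab_iff]
  by_contra hne
  obtain ⟨f, hf0, hf⟩ := Submodule.exists_le_ker_of_notMem hne
  obtain ⟨a, ha⟩ := hρ f v
  apply hf0
  rw [ha]
  refine hg a fun h hh => ?_
  rw [← ha]
  exact LinearMap.mem_ker.mp (hf (mem_lineStab_iff.mp hh))

theorem lineStab_smul {c : K} (hc : c ≠ 0) (v : V) : lineStab ρ (c • v) = lineStab ρ v := by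
  ext g
  rw [mem_lineStab_iff, mem_lineStab_iff, map_smul,
    Submodule.span_singleton_smul_eq (isUnit_iff_ne_zero.mpr hc)]
  exact Submodule.smul_mem_iff _ hc

theorem mem_lineStab_map {v : V} {g h : Pt K A} :
    h ∈ lineStab ρ (ρ g v) ↔ g⁻¹ * h * g ∈ lineStab ρ v := by
  rw [mem_lineStab, mem_lineStab]
  constructor
  · rintro ⟨c, hc⟩
    refine ⟨c, ?_⟩
    rw [map_mul, map_mul, Module.End.mul_apply, Module.End.mul_apply, hc,
      LinearMap.map_smul_of_tower, ← Module.End.mul_apply, ← map_mul, inv_mul_cancel, map_one,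
      Module.End.one_apply]
  · rintro ⟨c, hc⟩
    refine ⟨c, ?_⟩
    have := congrArg (ρ g) hc
    rwa [← Module.End.mul_apply, ← map_mul, mul_assoc, mul_inv_cancel_left, map_mul,
      Module.End.mul_apply, LinearMap.map_smul_of_tower] at this

/-- The lines in the orbit cone of `v` fixed by the torus `T` are the translates of the line
of `v` by elements of the normalizer of `T`, if conjugates of `T` inside the stabilizer of
`K v` are conjugate to `T` in it. -/
theorem exists_normalizer_of_fixed {T : Subgroup (Pt K A)} {v y : V} (hy : y ∈ orbCone ρ v)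
    (hy0 : y ≠ 0) (hTy : T ≤ lineStab ρ y)
    (hconj : ∀ g : Pt K A, T.map (MulAut.conj g).toMonoidHom ≤ lineStab ρ v →
      ∃ h ∈ lineStab ρ v, (T.map (MulAut.conj g).toMonoidHom).map (MulAut.conj h).toMonoidHom = T) :
    ∃ n : Pt K A, T.map (MulAut.conj n).toMonoidHom = T ∧ ∃ c : K, c ≠ 0 ∧ y = c • ρ n v := by
  obtain ⟨c, g, hc, rfl⟩ := exists_of_mem_orbCone hy hy0
  rw [lineStab_smul hc] at hTy
  have h1 : T.map (MulAut.conj g⁻¹).toMonoidHom ≤ lineStab ρ v := by
    intro x hx
    rw [mem_map_conj, inv_inv] at hx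
    have := mem_lineStab_map.mp (hTy hx)
    rwa [show g⁻¹ * (g * x * g⁻¹) * g = x by group] at this
  obtain ⟨h, hh, hT⟩ := hconj g⁻¹ h1
  obtain ⟨e, he⟩ := hh
  refine ⟨g * h⁻¹, ?_, c * (e : K), mul_ne_zero hc e.ne_zero, ?_⟩
  · exact map_conj_eq_of hT
  · rw [map_mul, Module.End.mul_apply, mul_smul]
    congr 1
    have h2 : ρ h⁻¹ (ρ h v) = v := by
      rw [← Module.End.mul_apply, ← map_mul, inv_mul_cancel, map_one, Module.End.one_apply]
    rw [he, LinearMap.map_smul_of_tower] at h2
    rw [← map_smul (ρ g)]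
    congr 1
    exact h2.symm

end LineStab

section Generic

/-- A linear form not vanishing on finitely many nonzero vectors. -/
theorem exists_form_ne_zero (r : ℕ) (S : Finset (Fin r → ℤ)) (hS : ∀ x ∈ S, x ≠ 0) :
    ∃ l : (Fin r → ℤ) →+ ℤ, ∀ x ∈ S, l x ≠ 0 := by
  classical
  let P : (Fin r → ℤ) → Polynomial ℤ := fun x => ∑ i : Fin r, Polynomial.monomial (i : ℕ) (x i)
  have hP : ∀ x, x ≠ 0 → P x ≠ 0 := by
    intro x hx h
    apply hx
    funext i
    have := congrArg (fun p => Polynomial.coeff p (i : ℕ)) h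
    simp only [P, Polynomial.finsetSum_coeff, Polynomial.coeff_monomial, Polynomial.coeff_zero] at this
    rw [Finset.sum_eq_single i (fun j _ hj => if_neg (fun h => hj (Fin.ext h)))
      (fun h => absurd (Finset.mem_univ i) h), if_pos rfl] at this
    exact this
  have hprod : ∏ x ∈ S, P x ≠ 0 := Finset.prod_ne_zero_iff.mpr fun x hx => hP x (hS x hx)
  obtain ⟨B, hB⟩ : ∃ B : ℤ, (∏ x ∈ S, P x).eval B ≠ 0 := by
    by_contra h
    push Not at h
    exact hprod (Polynomial.funext fun B => by rw [h B, Polynomial.eval_zero])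
  refine ⟨∑ i : Fin r, (AddMonoidHom.mulLeft (B ^ (i : ℕ))).comp
    (Pi.evalAddMonoidHom (fun _ : Fin r => ℤ) i), fun x hx h0 => hB ?_⟩
  rw [Polynomial.eval_prod]
  refine Finset.prod_eq_zero hx ?_
  simp only [P, Polynomial.eval_finsetSum, Polynomial.eval_monomial]
  rw [← h0]
  simp [mul_comm]

/-- The generic linear form separating finitely many characters. -/
theorem exists_injOn (r : ℕ) (S : Finset (Multiplicative (Fin r → ℤ))) :
    ∃ l : Multiplicative (Fin r → ℤ) →* Multiplicative ℤ, Set.InjOn l S := by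
  classical
  let D : Finset (Fin r → ℤ) := ((S ×ˢ S).image fun p => p.1.toAdd - p.2.toAdd).filter (· ≠ 0)
  obtain ⟨l, hl⟩ := exists_form_ne_zero r D (fun x hx => (Finset.mem_filter.mp hx).2)
  refine ⟨AddMonoidHom.toMultiplicative l, fun x hx y hy hxy => ?_⟩
  by_contra hne
  refine hl (x.toAdd - y.toAdd) ?_ ?_
  · refine Finset.mem_filter.mpr ⟨Finset.mem_image.mpr ⟨(x, y), ?_, rfl⟩, ?_⟩
    · exact Finset.mem_product.mpr ⟨hx, hy⟩
    · exact sub_ne_zero.mpr fun h => hne (Multiplicative.toAdd.injective h)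
  · rw [map_sub, sub_eq_zero]
    exact Multiplicative.ofAdd.injective hxy

end Generic

section Extremal

variable {K : Type u} [Field K] [IsAlgClosed K] {A : Type u} [CommRing A] [HopfAlgebra K A]
  [Algebra.FiniteType K A] [IsDomain A]
  {V : Type w} [AddCommGroup V] [Module K V] [FiniteDimensional K V]
  {ρ : Representation K (Pt K A) V} {lam : A →ₐc[K] K[T;T⁻¹]}

/-- `lam` is a cocharacter of the subgroup `T`. -/
def CochIn (lam : A →ₐc[K] K[T;T⁻¹]) (T : Subgroup (Pt K A)) : Prop := ∀ t, cochPt lam t ∈ T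

theorem CochIn.conj {T : Subgroup (Pt K A)} (h : CochIn lam T) {n : Pt K A}
    (hn : T.map (MulAut.conj n).toMonoidHom = T) : CochIn (conjCoch n lam) T := by
  intro t
  rw [cochPt_conjCoch, ← hn]
  exact ⟨cochPt lam t, h t, rfl⟩

omit [IsAlgClosed K] [Algebra.FiniteType K A] [IsDomain A] in
theorem CochIn.inv {T : Subgroup (Pt K A)} (h : CochIn lam T) : CochIn (invCoch lam) T := by
  intro t
  rw [cochPt_invCoch]
  exact T.inv_mem (h t)

omit [Algebra.FiniteType K A] [IsDomain A] in
/-- For every nonzero `y` in a closed cone stable under the torus `T` there is a `T`-fixed line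
`K x ≤ Y` such that `x` is the component of `y` of some `T`-weight. -/
theorem exists_fixed_component {T : Subgroup (Pt K A)} (hT : IsTorusSub T) (hρ : IsAlg ρ)
    {Y : Set V} (hcone : IsCone K Y) (hcl : ZClosed K Y) (hst : ∀ t ∈ T, ∀ y ∈ Y, ρ t y ∈ Y)
    {y : V} (hy : y ∈ Y) (hy0 : y ≠ 0) :
    ∃ (r : ℕ) (π : A →ₐc[K] MonoidAlgebra K (Multiplicative (Fin r → ℤ)))
      (d : WtDec.Dec (torChar K (Multiplicative (Fin r → ℤ)))
        (ρ.comp ((Pt.map π).comp (torPt (Multiplicative (Fin r → ℤ))).toMonoidHom)))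
      (m : Multiplicative (Fin r → ℤ)),
      T = (Pt.map π).range ∧ d.P m y ∈ Y ∧ d.P m y ≠ 0 := by
  classical
  obtain ⟨r, π, hπ, rfl⟩ := hT
  obtain ⟨d⟩ := nonempty_torDec (torChar_injective r) π hρ
  obtain ⟨l, hl⟩ := exists_injOn r d.S
  obtain ⟨dl⟩ := nonempty_cochDec (cochOf π l) hρ
  obtain ⟨N, hN, hNtop⟩ := exists_top dl hy0
  have hwt : ∀ m, d.P m y ∈ cwt (cochOf π l) ρ (l m).toAdd := by
    intro m
    rw [mem_cwt]
    intro t
    rw [cochPt_cochOf]
    exact d.P_mem (torChar_injective r) m y (torOf l t)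
  have hPN : ∀ n, dl.P n y = ∑ m ∈ d.S.filter (fun m => (l m).toAdd = n), d.P m y := by
    intro n
    conv_lhs => rw [← d.sum_P y, map_sum]
    rw [Finset.sum_filter]
    refine Finset.sum_congr rfl fun m _ => ?_
    split_ifs with h
    · rw [← h]
      exact dl.P_of_mem gmChar_injective (hwt m)
    · exact dl.P_of_mem_of_ne gmChar_injective (hwt m) (Ne.symm h)
  have hlim : dl.P N y ∈ Y := by
    refine limit_mem dl hcone hcl (fun t => hst _ ?_) hy hNtop
    rw [cochPt_cochOf]
    exact ⟨_, rfl⟩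
  obtain ⟨m, hm⟩ : (d.S.filter fun m => (l m).toAdd = N).Nonempty := by
    by_contra h
    rw [Finset.not_nonempty_iff_eq_empty] at h
    apply hN
    rw [hPN, h, Finset.sum_empty]
  have hsing : d.S.filter (fun m => (l m).toAdd = N) = {m} := by
    rw [Finset.eq_singleton_iff_unique_mem]
    refine ⟨hm, fun m' hm' => ?_⟩
    rw [Finset.mem_filter] at hm hm'
    exact hl hm'.1 hm.1 (Multiplicative.toAdd.injective (hm'.2.trans hm.2.symm))
  have hPm : dl.P N y = d.P m y := by rw [hPN, hsing, Finset.sum_singleton]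
  exact ⟨r, π, d, m, rfl, hPm ▸ hlim, hPm ▸ hN⟩

/-- **Extremal functionals have no common zero**: for every nonzero `y` in the orbit cone of a top
vector `v` there is an extremal functional not vanishing at `y`. -/
theorem exists_extremal {T : Subgroup (Pt K A)} (hT : IsTorusSub T) (hρ : IsAlg ρ)
    (hs : IsSimpleRep ρ) {v : V} (hlam : CochIn lam T) (hv : IsTopVec lam ρ v)
    (hconj : ∀ g : Pt K A, T.map (MulAut.conj g).toMonoidHom ≤ lineStab ρ v →
      ∃ h ∈ lineStab ρ v, (T.map (MulAut.conj g).toMonoidHom).map (MulAut.conj h).toMonoidHom = T)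
    {y : V} (hy : y ∈ orbCone ρ v) (hy0 : y ≠ 0) :
    ∃ (mu : A →ₐc[K] K[T;T⁻¹]) (f : Dual K V), CochIn mu T ∧ IsTopVec mu ρ.dual f ∧ f y ≠ 0 := by
  classical
  obtain ⟨r, π, d, m, hTπ, hmY, hm0⟩ := exists_fixed_component hT hρ (isCone_orbCone v)
    (zclosed_orbCone_of_isTopVec hρ hs hv) (fun t _ => stable_orbCone v t) hy hy0
  have hTfix : T ≤ lineStab ρ (d.P m y) := by
    intro t ht
    rw [hTπ] at ht
    obtain ⟨x, rfl⟩ := ht
    obtain ⟨χ, rfl⟩ := (torPt (K := K) (Multiplicative (Fin r → ℤ))).surjective x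
    exact ⟨χ m, d.P_mem (torChar_injective r) m y χ⟩
  obtain ⟨n, hn, c, hc, hcn⟩ := exists_normalizer_of_fixed hmY hm0 hTfix hconj
  obtain ⟨hv0, N, hN, htop⟩ := isTopVec_conj hv n
  obtain ⟨dm⟩ := nonempty_cochDec (conjCoch n lam) hρ
  obtain ⟨f, hf, hf1, hfP⟩ := isTopVec_dual dm hv0 hN htop
  refine ⟨_, f, (hlam.conj hn).inv, hf, ?_⟩
  have hzero : ∀ m' ∈ d.S, m' ≠ m → f (d.P m' y) = 0 := by
    intro m' _ hm'
    by_contra hne
    have h0 : d.P m' y ≠ 0 := fun h => hne (by rw [h, map_zero])
    -- `d.P m' y` is a weight vector for the conjugate cocharacter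
    have hex : ∀ t : Kˣ, ∃ e : K, ρ (cochPt (conjCoch n lam) t) (d.P m' y) = e • d.P m' y := by
      intro t
      have ht := hlam.conj hn t
      rw [hTπ] at ht
      obtain ⟨x, hx⟩ := ht
      obtain ⟨χ, rfl⟩ := (torPt (K := K) (Multiplicative (Fin r → ℤ))).surjective x
      exact ⟨χ m', by rw [← hx]; exact d.P_mem (torChar_injective r) m' y χ⟩
    choose e he using hex
    obtain ⟨k, -, hk⟩ := dm.exists_of_eigen gmChar_injective h0 he
    have hkN : k = N := by
      by_contra hkN
      apply hne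
      apply smul_left_injective K hv0
      change f (d.P m' y) • ρ n v = (0 : K) • ρ n v
      rw [← hfP, zero_smul]
      exact dm.P_of_mem_of_ne gmChar_injective hk (Ne.symm hkN)
    rw [hkN] at hk
    have h1 : d.P m' y ∈ K ∙ (ρ n v) := hN ▸ hk
    obtain ⟨a, ha⟩ := Submodule.mem_span_singleton.mp h1
    have h2 : d.P m' y = (a * c⁻¹) • d.P m y := by
      rw [hcn, smul_smul, mul_assoc, inv_mul_cancel₀ hc, mul_one, ha]
    have h3 : d.P m' (d.P m y) = 0 :=
      d.P_of_mem_of_ne (torChar_injective r) (d.P_mem (torChar_injective r) m y) hm'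
    have h4 : d.P m' (d.P m' y) = d.P m' y :=
      d.P_of_mem (torChar_injective r) (d.P_mem (torChar_injective r) m' y)
    apply h0
    rw [← h4]
    conv_lhs => rw [h2, map_smul, h3, smul_zero]
  have hfy : f y = f (d.P m y) := by
    conv_lhs => rw [← d.sum_P y, map_sum]
    refine Finset.sum_eq_single m (fun m' hm' hne => hzero m' hm' hne) (fun h => ?_)
    rw [d.P_eq_zero m h, LinearMap.zero_apply, map_zero]
  rw [hfy, hcn, map_smul, hf1, smul_eq_mul, mul_one]
  exact hc

/-- **P8 (Luna)**: let `V` be a simple representation with a top vector `v` for a cocharacter of the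
torus `T`, such that conjugates of `T` inside the stabilizer of `K v` are conjugate to `T` in it.
A connected group (irreducible set containing `1`) which fixes all the extremal functionals acts
trivially on `V`. -/
theorem luna_top {T : Subgroup (Pt K A)} (hT : IsTorusSub T) (hρ : IsAlg ρ)
    (hs : IsSimpleRep ρ) {v : V} (hlam : CochIn lam T) (hv : IsTopVec lam ρ v)
    (hconj : ∀ g : Pt K A, T.map (MulAut.conj g).toMonoidHom ≤ lineStab ρ v →
      ∃ h ∈ lineStab ρ v, (T.map (MulAut.conj g).toMonoidHom).map (MulAut.conj h).toMonoidHom = T)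
    {H : Subgroup (Pt K A)} (hH : IsConn (H : Set (Pt K A)))
    (hfix : ∀ (mu : A →ₐc[K] K[T;T⁻¹]) (f : Dual K V), CochIn mu T → IsTopVec mu ρ.dual f →
      ∀ h ∈ H, ρ.dual h f = f) :
    ∀ h ∈ H, ∀ x, ρ h x = x := by
  refine luna_simple hρ hs hH H.one_mem (isCone_orbCone v)
    (isZClosed_iff.mpr (zclosed_orbCone_of_isTopVec hρ hs hv))
    ⟨v, self_mem_orbCone v, hv.1⟩ (fun g => stable_orbCone v g)
    (F := {f | ∃ mu : A →ₐc[K] K[T;T⁻¹], CochIn mu T ∧ IsTopVec mu ρ.dual f}) ?_ ?_
  · intro y hy hF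
    by_contra hy0
    obtain ⟨mu, f, hmu, hf, hfy⟩ := exists_extremal hT hρ hs hlam hv hconj hy hy0
    exact hfy (hF f ⟨mu, hmu, hf⟩)
  · rintro h hh f ⟨mu, hmu, hf⟩ y -
    have h1 := hfix mu f hmu hf h⁻¹ (H.inv_mem hh)
    have h2 := LinearMap.congr_fun h1 y
    rwa [dual_apply_apply, inv_inv] at h2

end Extremal

end Groth.Agent.Sga3B.RG
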