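import Groth.Agent.Sga3B.RG.RepAlg
import Groth.Agent.Books.BurnsideTrace
import Mathlib.RepresentationTheory.Irreducible

/-!
# Unipotent elements and unipotent groups of points

* simple subrepresentations; Kolchin's theorem: a group acting by unipotent operators on a nonzero
  finite-dimensional space over an algebraically closed field fixes a nonzero vector;
* the join of two groups of unipotent operators, one normalising the other, is unipotent;
* unipotent points act unipotently in every algebraic representation; images of unipotent points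
  are unipotent; the set of unipotent points is closed.
-/

set_option autoImplicit false

universe u w w'

open WithConv TensorProduct Coalgebra Pointwise

namespace Groth.Agent.Sga3B.RG

section Abstract

variable {K : Type u} [Field K] {G : Type w'} [Group G] {V : Type w} [AddCommGroup V] [Module K V]

/-- Minimal nonzero stable subspaces exist. -/
theorem exists_simple_le [FiniteDimensional K V] (ρ : Representation K G V) (U : Submodule K V)
    (hU : ∀ g, U ≤ U.comap (ρ g)) (hU0 : U ≠ ⊥) :
    ∃ W ≤ U, W ≠ ⊥ ∧ (∀ g, W ≤ W.comap (ρ g)) ∧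
      ∀ W' ≤ W, (∀ g, W' ≤ W'.comap (ρ g)) → W' = ⊥ ∨ W' = W := by
  let S : Set (Submodule K V) := {W | W ≤ U ∧ W ≠ ⊥ ∧ ∀ g, W ≤ W.comap (ρ g)}
  obtain ⟨W, ⟨hW1, hW2, hW3⟩, hmin⟩ := WellFounded.has_min
    (inferInstance : WellFoundedLT (Submodule K V)).wf S ⟨U, le_rfl, hU0, hU⟩
  refine ⟨W, hW1, hW2, hW3, fun W' hW' hst => ?_⟩
  by_contra! hcon
  exact hmin W' ⟨hW'.trans hW1, hcon.1, hst⟩ (lt_of_le_of_ne hW' hcon.2)

/-- On a simple representation over an algebraically closed field, a group acting with constant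
trace acts trivially. -/
theorem fix_of_simple [IsAlgClosed K] [FiniteDimensional K V] [Nontrivial V]
    (ρ : Representation K G V)
    (hs : ∀ W : Submodule K V, (∀ g, W ≤ W.comap (ρ g)) → W = ⊥ ∨ W = ⊤)
    (htr : ∀ g, LinearMap.trace K V (ρ g) = Module.finrank K V) : ∀ g v, ρ g v = v := by
  have hirr : ρ.IsIrreducible := by
    refine { exists_pair_ne := ⟨⊥, ⊤, fun h => ?_⟩, eq_bot_or_eq_top := fun W => ?_ }
    · have := congrArg Subrepresentation.toSubmodule h
      exact bot_ne_top (α := Submodule K V) this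
    · rcases hs W.toSubmodule (fun g v hv => W.apply_mem_toSubmodule g hv) with h | h
      · left
        apply Subrepresentation.toSubmodule_injective
        exact h
      · right
        apply Subrepresentation.toSubmodule_injective
        exact h
  have : IsSimpleModule (MonoidAlgebra K G) ρ.asModule :=
    (Representation.irreducible_iff_isSimpleModule_asModule ρ).1 hirr
  intro g v
  have h1 := Groth.Agent.Books.BurnsideTrace.smul_eq_of_trace_eq (k := K) (G := G)
    (U := ρ.asModule) (Module.finrank K V : K) (fun g => by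
      rw [← htr g]
      have : (Algebra.lsmul K K ρ.asModule (MonoidAlgebra.of K G g) : ρ.asModule →ₗ[K] ρ.asModule) =
          ρ.asModuleEquiv.symm.conj (ρ g) := by
        ext x
        simp only [Algebra.lsmul_coe, LinearEquiv.conj_apply, LinearMap.comp_apply,
          LinearEquiv.coe_coe, LinearEquiv.symm_symm]
        rw [Representation.asModuleEquiv_symm_map_rho]
        simp
      rw [this, LinearMap.trace_conj']) g (ρ.asModuleEquiv.symm v)
  rw [← Representation.asModuleEquiv_symm_map_rho] at h1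
  exact ρ.asModuleEquiv.symm.injective h1

lemma trace_eq_of_isNilpotent [FiniteDimensional K V] {f : Module.End K V}
    (hf : IsNilpotent (f - 1)) : LinearMap.trace K V f = Module.finrank K V := by
  have h1 := (LinearMap.isNilpotent_trace_of_isNilpotent hf).eq_zero
  rw [map_sub, LinearMap.trace_one, sub_eq_zero] at h1
  exact h1

lemma isNilpotent_restrict {f : Module.End K V} (hf : IsNilpotent f) (W : Submodule K V)
    (hW : ∀ v ∈ W, f v ∈ W) : IsNilpotent (f.restrict hW : Module.End K W) := by
  obtain ⟨n, hn⟩ := hf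
  refine ⟨n, ?_⟩
  rw [Module.End.pow_restrict]
  ext v
  have := LinearMap.congr_fun hn (v : V)
  simpa using this

/-- A locally nilpotent operator on a finite-dimensional space is nilpotent. -/
lemma isNilpotent_of_forall [FiniteDimensional K V] {f : Module.End K V}
    (h : ∀ v, ∃ n : ℕ, (f ^ n) v = 0) : IsNilpotent f := by
  refine ⟨Module.finrank K V, ?_⟩
  ext v
  obtain ⟨n, hn⟩ := h v
  exact Module.End.ker_pow_le_ker_pow_finrank f n (LinearMap.mem_ker.2 hn)

lemma pow_finrank_of_isNilpotent [FiniteDimensional K V] {f : Module.End K V}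
    (h : IsNilpotent f) : f ^ (Module.finrank K V) = 0 := by
  obtain ⟨n, hn⟩ := h
  ext v
  exact Module.End.ker_pow_le_ker_pow_finrank f n (LinearMap.mem_ker.2 (by rw [hn]; rfl))

/-- Kolchin's theorem: a group acting by unipotent operators on a nonzero stable subspace of a
finite-dimensional space over an algebraically closed field fixes a nonzero vector in it. -/
theorem exists_fixed_mem [IsAlgClosed K] [FiniteDimensional K V]
    (ρ : Representation K G V) (U : Submodule K V) (hU : ∀ g, U ≤ U.comap (ρ g)) (hU0 : U ≠ ⊥)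
    (h : ∀ g, IsNilpotent (ρ g - 1)) : ∃ v ∈ U, v ≠ 0 ∧ ∀ g, ρ g v = v := by
  obtain ⟨W, hWU, hW0, hWst, hWmin⟩ := exists_simple_le ρ U hU hU0
  have : Nontrivial W := Submodule.nontrivial_iff_ne_bot.2 hW0
  have hfix := fix_of_simple (ρ.subrepresentation W hWst) (fun W' hW' => by
    rcases hWmin (W'.map W.subtype) (Submodule.map_subtype_le _ _) (fun g => by
      rintro _ ⟨w, hw, rfl⟩
      exact ⟨_, hW' g hw, rfl⟩) with h | h
    · left
      apply Submodule.map_injective_of_injective W.injective_subtype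
      rw [h, Submodule.map_bot]
    · right
      apply Submodule.map_injective_of_injective W.injective_subtype
      rw [h, Submodule.map_top, Submodule.range_subtype]) (fun g => by
      apply trace_eq_of_isNilpotent
      have h1 : ∀ v ∈ W, (ρ g - 1) v ∈ W := fun v hv => W.sub_mem (hWst g hv) hv
      have h2 := isNilpotent_restrict (h g) W h1
      have h3 : (ρ g - 1).restrict h1 = ρ.subrepresentation W hWst g - 1 := by
        ext v; rfl
      rwa [h3] at h2)
  obtain ⟨w, hw⟩ := exists_ne (0 : W)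
  refine ⟨w, hWU w.2, fun h => hw (Subtype.ext h), fun g => ?_⟩
  exact congrArg Subtype.val (hfix g w)

theorem exists_fixed [IsAlgClosed K] [FiniteDimensional K V] [Nontrivial V]
    (ρ : Representation K G V) (h : ∀ g, IsNilpotent (ρ g - 1)) :
    ∃ v, v ≠ 0 ∧ ∀ g, ρ g v = v := by
  obtain ⟨v, -, hv⟩ := exists_fixed_mem ρ ⊤ (fun _ => le_top) top_ne_bot h
  exact ⟨v, hv⟩

/-- An operator nilpotent on a stable subspace and on the quotient is nilpotent. -/
lemma isNilpotent_of_sub_quot (f : Module.End K V) (U : Submodule K V) (hU : U ≤ U.comap f)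
    (h1 : IsNilpotent (f.restrict hU : Module.End K U)) (h2 : IsNilpotent (U.mapQ U f hU)) :
    IsNilpotent f := by
  obtain ⟨n, hn⟩ := h1
  obtain ⟨m, hm⟩ := h2
  refine ⟨n + m, ?_⟩
  ext v
  have h3 : (f ^ m) v ∈ U := by
    rw [← Submodule.Quotient.mk_eq_zero]
    have : ∀ k, (Submodule.Quotient.mk ((f ^ k) v) : V ⧸ U) = ((U.mapQ U f hU) ^ k) (Submodule.Quotient.mk v) := by
      intro k
      induction k with
      | zero => rfl
      | succ k ih =>
        rw [pow_succ', pow_succ', Module.End.mul_apply, Module.End.mul_apply, ← ih,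
          Submodule.mapQ_apply]
    rw [this, hm]
    rfl
  have h4 : ∀ k (u : U), (f ^ k) (u : V) = ((((f.restrict hU : Module.End K U) ^ k) u : U) : V) := by
    intro k
    induction k with
    | zero => intro u; rfl
    | succ k ih => intro u; rw [pow_succ, pow_succ, Module.End.mul_apply, Module.End.mul_apply, ← ih]; rfl
  rw [pow_add, Module.End.mul_apply, h4 n ⟨_, h3⟩, hn]
  rfl

lemma isNilpotent_mapQ {f : Module.End K V} (hf : IsNilpotent f) (U : Submodule K V)
    (hU : U ≤ U.comap f) : IsNilpotent (U.mapQ U f hU) := by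
  obtain ⟨n, hn⟩ := hf
  refine ⟨n, ?_⟩
  ext v
  have : ∀ k, ((U.mapQ U f hU) ^ k) (Submodule.Quotient.mk v) = (Submodule.Quotient.mk ((f ^ k) v) : V ⧸ U) := by
    intro k
    induction k with
    | zero => rfl
    | succ k ih =>
      rw [pow_succ', pow_succ', Module.End.mul_apply, Module.End.mul_apply, ih,
        Submodule.mapQ_apply]
  simp only [LinearMap.comp_apply, Submodule.mkQ_apply, LinearMap.zero_apply]
  rw [this, hn]
  rfl

/-- Fixed vectors in every nonzero quotient imply unipotence. -/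
theorem isNilpotent_of_class (C : ∀ (V : Type w) [AddCommGroup V] [Module K V],
      Representation K G V → Prop)
    (hq : ∀ (V : Type w) [AddCommGroup V] [Module K V] (ρ : Representation K G V)
      (U : Submodule K V) (hU : ∀ g, U ≤ U.comap (ρ g)), C V ρ → C (V ⧸ U) (ρ.quotient U hU))
    (hfix : ∀ (V : Type w) [AddCommGroup V] [Module K V] [FiniteDimensional K V] [Nontrivial V]
      (ρ : Representation K G V), C V ρ → ∃ v, v ≠ 0 ∧ ∀ g, ρ g v = v)
    (V : Type w) [AddCommGroup V] [Module K V] [FiniteDimensional K V]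
    (ρ : Representation K G V) (hρ : C V ρ) (g : G) : IsNilpotent (ρ g - 1) := by
  suffices H : ∀ (n : ℕ) (V : Type w) [AddCommGroup V] [Module K V] [FiniteDimensional K V]
      (ρ : Representation K G V), C V ρ → Module.finrank K V = n → IsNilpotent (ρ g - 1) from
    H _ V ρ hρ rfl
  intro n
  induction n using Nat.strong_induction_on with
  | _ n ih =>
    intro V _ _ _ ρ hρ hn
    rcases subsingleton_or_nontrivial V with hV | hV
    · exact ⟨1, by ext v; exact Subsingleton.elim _ _⟩
    obtain ⟨v, hv0, hv⟩ := hfix V ρ hρ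
    let U : Submodule K V := K ∙ v
    have hUfix : ∀ g, ∀ u ∈ U, ρ g u = u := by
      intro g u hu
      obtain ⟨c, rfl⟩ := Submodule.mem_span_singleton.1 hu
      rw [map_smul, hv]
    have hU : ∀ g, U ≤ U.comap (ρ g) := fun g u hu => by
      rw [Submodule.mem_comap, hUfix g u hu]; exact hu
    have hlt : Module.finrank K (V ⧸ U) < n := by
      have h1 := Submodule.finrank_quotient_add_finrank U
      have h2 : Module.finrank K U = 1 := finrank_span_singleton hv0
      omega
    have h3 := ih _ hlt (V ⧸ U) (ρ.quotient U hU) (hq V ρ U hU hρ) rfl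
    have h4 : U ≤ U.comap (ρ g - 1) := fun u hu => U.sub_mem (hU g hu) hu
    refine isNilpotent_of_sub_quot (ρ g - 1) U h4 ⟨1, ?_⟩ ?_
    · ext u
      have := hUfix g u u.2
      simp [LinearMap.restrict_apply, this]
    · have h5 : U.mapQ U (ρ g - 1) h4 = ρ.quotient U hU g - 1 := by
        ext v; rfl
      rw [h5]; exact h3

/-- The join of two groups of unipotent operators one of which normalises the other consists of
unipotent operators. -/
theorem isNilpotent_sup [IsAlgClosed K] [FiniteDimensional K V] (ρ : Representation K G V)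
    (N M : Subgroup G) (hMN : M ≤ Subgroup.normalizer (N : Set G))
    (hN : ∀ g ∈ N, IsNilpotent (ρ g - 1)) (hM : ∀ g ∈ M, IsNilpotent (ρ g - 1)) :
    ∀ g ∈ N ⊔ M, IsNilpotent (ρ g - 1) := by
  intro g hg
  have key := isNilpotent_of_class (K := K) (G := (N ⊔ M : Subgroup G))
    (fun V _ _ σ => ∀ (x : G) (hx : x ∈ N ⊔ M), (x ∈ N ∨ x ∈ M) → IsNilpotent (σ ⟨x, hx⟩ - 1))
    (fun V _ _ σ U hU h x hx hx' => by
      have h4 : U ≤ U.comap (σ ⟨x, hx⟩ - 1) := fun u hu => U.sub_mem (hU _ hu) hu
      have h5 : U.mapQ U (σ ⟨x, hx⟩ - 1) h4 = σ.quotient U hU ⟨x, hx⟩ - 1 := by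
        ext v; rfl
      rw [← h5]
      exact isNilpotent_mapQ (h x hx hx') U h4)
    (fun V _ _ _ _ σ h => by
      -- restrict to `N`
      let σN : Representation K N V := σ.comp (Subgroup.inclusion le_sup_left)
      let σM : Representation K M V := σ.comp (Subgroup.inclusion le_sup_right)
      obtain ⟨v, hv0, hv⟩ := exists_fixed σN (fun x => h x _ (Or.inl x.2))
      let U : Submodule K V :=
        { carrier := {v | ∀ x : N, σN x v = v}
          add_mem' := fun {a b} ha hb x => by rw [map_add, ha, hb]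
          zero_mem' := fun x => map_zero _
          smul_mem' := fun c a ha x => by rw [map_smul, ha] }
      have hU0 : U ≠ ⊥ := fun h => hv0 ((Submodule.mem_bot K).1 (h ▸ (show v ∈ U from hv)))
      have hUM : ∀ y : M, U ≤ U.comap (σM y) := by
        intro y u hu x
        have hx' : (y : G)⁻¹ * (x : G) * (y : G) ∈ N := by
          have h1 := (Subgroup.mem_normalizer_iff.1 ((Subgroup.normalizer (N : Set G)).inv_mem
            (hMN y.2)) (x : G)).1 x.2
          simpa using h1
        have h2 := hu ⟨_, hx'⟩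
        have h3 : σN x (σM y u) = σM y (σN ⟨_, hx'⟩ u) := by
          change σ _ (σ _ u) = σ _ (σ _ u)
          rw [← Module.End.mul_apply, ← Module.End.mul_apply, ← map_mul, ← map_mul]
          congr 2
          ext
          simp [mul_assoc]
        change σN x (σM y u) = σM y u
        rw [h3, h2]
      obtain ⟨w, hwU, hw0, hw⟩ := exists_fixed_mem σM U hUM hU0 (fun y => h y _ (Or.inr y.2))
      refine ⟨w, hw0, fun g => ?_⟩
      let S : Subgroup G :=
        { carrier := {x | ∃ hx : x ∈ N ⊔ M, σ ⟨x, hx⟩ w = w}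
          mul_mem' := by
            rintro a b ⟨ha, ha'⟩ ⟨hb, hb'⟩
            refine ⟨mul_mem ha hb, ?_⟩
            have : σ ⟨a * b, mul_mem ha hb⟩ = σ ⟨a, ha⟩ * σ ⟨b, hb⟩ := by
              rw [← map_mul]; rfl
            rw [this, Module.End.mul_apply, hb', ha']
          one_mem' := ⟨one_mem _, by
            have : σ ⟨1, one_mem _⟩ = 1 := map_one σ
            rw [this]; rfl⟩
          inv_mem' := by
            rintro a ⟨ha, ha'⟩
            refine ⟨inv_mem ha, ?_⟩
            have h1 : σ ⟨a⁻¹, inv_mem ha⟩ * σ ⟨a, ha⟩ = 1 := by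
              rw [← map_mul]
              have : (⟨a⁻¹, inv_mem ha⟩ * ⟨a, ha⟩ : (N ⊔ M : Subgroup G)) = 1 := by
                ext; simp
              rw [this, map_one]
            have h2 := LinearMap.congr_fun h1 w
            rw [Module.End.mul_apply, ha'] at h2
            exact h2 }
      have hS : N ⊔ M ≤ S := by
        refine sup_le (fun x hx => ⟨le_sup_left (a := N) hx, hwU ⟨x, hx⟩⟩)
          (fun x hx => ⟨le_sup_right (a := N) hx, hw ⟨x, hx⟩⟩)
      exact (hS g.2).2)
    V (ρ.comp (N ⊔ M).subtype) (fun x hx hx' => by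
      rcases hx' with h | h
      · exact hN x h
      · exact hM x h) ⟨g, hg⟩
  exact key

end Abstract

section Unip

variable {K : Type u} [Field K] {A : Type u} [CommRing A] [HopfAlgebra K A]
variable {B : Type u} [CommRing B] [HopfAlgebra K B]
variable {V : Type w} [AddCommGroup V] [Module K V]

/-- Unipotent points act unipotently in every finite-dimensional algebraic representation. -/
theorem IsUnip.rep [FiniteDimensional K V] {ρ : Representation K (Pt K A) V} (hρ : IsAlg ρ)
    {g : Pt K A} (hg : IsUnip g) : IsNilpotent (ρ g - 1) := by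
  have key : ∀ (f : Module.Dual K V) (n : ℕ) (v : V) (c : A), (∀ x : Pt K A, x c = f (ρ x v)) →
      ∀ x : Pt K A, x ((((rTr g).toLinearMap - 1) ^ n) c) = f (ρ x (((ρ g - 1) ^ n) v)) := by
    intro f n
    induction n with
    | zero => intro v c h x; exact h x
    | succ n ih =>
      intro v c h x
      rw [pow_succ, pow_succ, Module.End.mul_apply, Module.End.mul_apply]
      refine ih _ _ (fun x => ?_) x
      have h1 : ((rTr g).toLinearMap - 1) c = rTr g c - c := rfl
      have h2 : (ρ g - 1) v = ρ g v - v := rfl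
      rw [h1, Pt.apply_sub, rTr_apply_pt, h, h, h2, map_sub, map_sub, map_mul]
      rfl
  refine isNilpotent_of_forall fun v => ?_
  let b := Module.finBasis K V
  have h1 : ∀ i, ∃ n, b.coord i (((ρ g - 1 : Module.End K V) ^ n) v) = 0 ∧ ∀ m, n ≤ m →
      b.coord i (((ρ g - 1 : Module.End K V) ^ m) v) = 0 := by
    intro i
    obtain ⟨c, hc⟩ := hρ (b.coord i) v
    obtain ⟨n, hn⟩ := hg c
    have h2 : ∀ m, n ≤ m → b.coord i (((ρ g - 1 : Module.End K V) ^ m) v) = 0 := by
      intro m hm
      have h3 := key (b.coord i) m v c (fun x => (hc x).symm) 1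
      rw [map_one] at h3
      change _ = b.coord i (((ρ g - 1) ^ m) v) at h3
      rw [← h3]
      obtain ⟨k, rfl⟩ := Nat.exists_eq_add_of_le' hm
      rw [pow_add, Module.End.mul_apply, hn, map_zero, Pt.apply_zero]
    exact ⟨n, h2 n le_rfl, h2⟩
  choose n hn hn' using h1
  refine ⟨Finset.univ.sup n, ?_⟩
  rw [← b.forall_coord_eq_zero_iff (R := K)]
  intro i
  exact hn' i _ (Finset.le_sup (Finset.mem_univ i))

/-- For a fixed algebraic representation and `n`, the condition `(ρ g - 1) ^ n v ∈ U` is closed. -/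
lemma IsAlg.isFun_pow {ρ : Representation K (Pt K A) V} (hρ : IsAlg ρ) (n : ℕ)
    (f : Module.Dual K V) (v : V) : IsFun (fun g => f (((ρ g - 1) ^ n) v)) := by
  suffices H : ∀ (h : Pt K A → Pt K A), IsReg h →
      IsFun (fun g => f (ρ (h g) (((ρ g - 1) ^ n) v))) by
    have := H (fun _ => 1) (isReg_const 1)
    simpa using this
  induction n with
  | zero => intro h hh; exact (hρ.isFun f v).comp_reg hh
  | succ n ih =>
    intro h hh
    have h1 := (ih (fun g => h g * g) (hh.mul isReg_id)).sub (ih h hh)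
    obtain ⟨a, ha⟩ := h1
    refine ⟨a, fun g => ?_⟩
    rw [← ha g]
    change f (ρ (h g) (((ρ g - 1) ^ (n + 1)) v)) = _
    rw [pow_succ', Module.End.mul_apply]
    simp only [LinearMap.sub_apply, Module.End.one_apply, map_sub, map_mul, Module.End.mul_apply]

lemma IsAlg.isCl_pow {ρ : Representation K (Pt K A) V} (hρ : IsAlg ρ) (n : ℕ) (v : V) :
    IsCl {g | ((ρ g - 1) ^ n) v = 0} := by
  have : {g | ((ρ g - 1) ^ n) v = 0} = ⋂ f : Module.Dual K V, {g | f (((ρ g - 1) ^ n) v) = 0} := by
    ext g
    simp only [Set.mem_ofPred_eq, Set.mem_iInter]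
    exact (Module.forall_dual_apply_eq_zero_iff K _).symm
  rw [this]
  exact isCl_iInter fun f => (hρ.isFun_pow n f v).isCl_zero

/-- Points acting unipotently in a finite-dimensional algebraic representation form a closed
set. -/
lemma IsAlg.isCl_isNilpotent [FiniteDimensional K V] {ρ : Representation K (Pt K A) V}
    (hρ : IsAlg ρ) : IsCl {g | IsNilpotent (ρ g - 1)} := by
  have : {g | IsNilpotent (ρ g - 1)} =
      ⋂ v : V, {g | ((ρ g - 1) ^ (Module.finrank K V)) v = 0} := by
    ext g
    simp only [Set.mem_ofPred_eq, Set.mem_iInter]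
    constructor
    · intro h v
      rw [pow_finrank_of_isNilpotent h]; rfl
    · intro h
      exact ⟨_, LinearMap.ext h⟩
  rw [this]
  exact isCl_iInter fun v => hρ.isCl_pow _ _

/-- The vectors on which `φ - 1` is nilpotent form a subalgebra, for an algebra map `φ`. -/
lemma exists_pow_mul_eq_zero (φ : A →ₐ[K] A) {x y : A}
    (hx : ∃ n : ℕ, ((φ.toLinearMap - 1) ^ n) x = 0)
    (hy : ∃ n : ℕ, ((φ.toLinearMap - 1) ^ n) y = 0) :
    ∃ n : ℕ, ((φ.toLinearMap - 1) ^ n) (x * y) = 0 := by
  obtain ⟨n, hn⟩ := hx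
  obtain ⟨m, hm⟩ := hy
  suffices H : ∀ (s n m : ℕ), n + m ≤ s → ∀ x y : A, ((φ.toLinearMap - 1) ^ n) x = 0 →
      ((φ.toLinearMap - 1) ^ m) y = 0 → ((φ.toLinearMap - 1) ^ s) (x * y) = 0 from
    ⟨n + m, H _ n m le_rfl x y hn hm⟩
  intro s
  induction s with
  | zero =>
    intro n m hnm x y hx hy
    have : n = 0 := by omega
    subst this
    rw [pow_zero, Module.End.one_apply] at hx ⊢
    rw [hx, zero_mul]
  | succ s ih =>
    intro n m hnm x y hx hy
    rcases Nat.eq_zero_or_pos n with rfl | hn
    · rw [pow_zero, Module.End.one_apply] at hx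
      rw [hx, zero_mul, map_zero]
    rcases Nat.eq_zero_or_pos m with rfl | hm
    · rw [pow_zero, Module.End.one_apply] at hy
      rw [hy, mul_zero, map_zero]
    obtain ⟨n, rfl⟩ : ∃ n', n = n' + 1 := ⟨n - 1, by omega⟩
    obtain ⟨m, rfl⟩ : ∃ m', m = m' + 1 := ⟨m - 1, by omega⟩
    have h1 : (φ.toLinearMap - 1) (x * y) = (φ.toLinearMap - 1) x * y + x * (φ.toLinearMap - 1) y +
        (φ.toLinearMap - 1) x * (φ.toLinearMap - 1) y := by
      simp only [LinearMap.sub_apply, AlgHom.toLinearMap_apply, Module.End.one_apply, map_mul]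
      ring
    have hx' : ((φ.toLinearMap - 1) ^ n) ((φ.toLinearMap - 1) x) = 0 := by
      rw [← Module.End.mul_apply, ← pow_succ, hx]
    have hy' : ((φ.toLinearMap - 1) ^ m) ((φ.toLinearMap - 1) y) = 0 := by
      rw [← Module.End.mul_apply, ← pow_succ, hy]
    rw [pow_succ, Module.End.mul_apply, h1, map_add, map_add,
      ih n (m + 1) (by omega) _ _ hx' hy, ih (n + 1) m (by omega) _ _ hx hy',
      ih n m (by omega) _ _ hx' hy', add_zero, add_zero]

lemma isUnip_of_adjoin {S : Set A} (hS : Algebra.adjoin K S = ⊤) {g : Pt K A}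
    (h : ∀ a ∈ S, ∃ n : ℕ, (((rTr g).toLinearMap - 1) ^ n) a = 0) : IsUnip g := by
  intro a
  have ha : a ∈ Algebra.adjoin K S := by rw [hS]; trivial
  induction ha using Algebra.adjoin_induction with
  | mem x hx => exact h x hx
  | algebraMap r =>
    refine ⟨1, ?_⟩
    rw [pow_one, LinearMap.sub_apply, AlgHom.toLinearMap_apply, AlgHom.commutes]
    exact sub_self _
  | add x y _ _ hx hy =>
    obtain ⟨n, hn⟩ := hx
    obtain ⟨m, hm⟩ := hy
    refine ⟨n + m, ?_⟩
    rw [map_add]
    have h1 : (((rTr g).toLinearMap - 1) ^ (n + m)) x = 0 := by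
      rw [add_comm, pow_add, Module.End.mul_apply, hn, map_zero]
    have h2 : (((rTr g).toLinearMap - 1) ^ (n + m)) y = 0 := by
      rw [pow_add, Module.End.mul_apply, hm, map_zero]
    rw [h1, h2, add_zero]
  | mul x y _ _ hx hy => exact exists_pow_mul_eq_zero _ hx hy

lemma isUnip_one : IsUnip (1 : Pt K A) := by
  intro a
  refine ⟨1, ?_⟩
  have : rTr (1 : Pt K A) a = a := by
    rw [rTr, AlgHom.comp_apply, AlgHom.comp_apply, Bialgebra.comulAlgHom_apply]
    have h1 : (counit (R := K)).lTensor A (comul (R := K) a) = a ⊗ₜ[K] 1 :=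
      Coalgebra.lTensor_counit_comul (R := K) a
    have h2 : Algebra.TensorProduct.map (AlgHom.id K A) (1 : Pt K A).ofConv (comul (R := K) a) =
        a ⊗ₜ[K] 1 := by
      rw [← h1]
      generalize comul (R := K) a = z
      induction z with
      | zero => simp
      | add x y hx hy => simp only [map_add, hx, hy]
      | tmul x y => simp
    rw [h2]
    simp
  rw [pow_one, LinearMap.sub_apply, AlgHom.toLinearMap_apply, this]
  exact sub_self a

/-- A surjection of Hopf algebras reflects unipotence. -/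
lemma isUnip_of_map {φ : A →ₐc[K] B} (hφ : Function.Surjective φ) {g : Pt K B}
    (hg : IsUnip (Pt.map φ g)) : IsUnip g := by
  have key : ∀ a, rTr g (φ a) = φ (rTr (Pt.map φ g) a) := by
    intro a
    rw [rTr, rTr, AlgHom.comp_apply, AlgHom.comp_apply, AlgHom.comp_apply, AlgHom.comp_apply,
      Bialgebra.comulAlgHom_apply, Bialgebra.comulAlgHom_apply]
    have h1 : comul (R := K) (φ a) = TensorProduct.map (φ : A →ₗ[K] B) (φ : A →ₗ[K] B)
        (comul (R := K) a) := (CoalgHomClass.map_comp_comul_apply φ a).symm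
    rw [h1]
    generalize comul (R := K) a = z
    induction z with
    | zero => simp
    | add x y hx hy => simp only [map_add, hx, hy]
    | tmul x y => simp
  have key2 : ∀ (n : ℕ) (a : A), (((rTr g).toLinearMap - 1) ^ n) (φ a) =
      φ ((((rTr (Pt.map φ g)).toLinearMap - 1) ^ n) a) := by
    intro n
    induction n with
    | zero => intro a; rfl
    | succ n ih =>
      intro a
      rw [pow_succ, pow_succ, Module.End.mul_apply, Module.End.mul_apply, ← ih]
      congr 1
      simp only [LinearMap.sub_apply, AlgHom.toLinearMap_apply, Module.End.one_apply, map_sub, key]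
  intro b
  obtain ⟨a, rfl⟩ := hφ b
  obtain ⟨n, hn⟩ := hg a
  exact ⟨n, by rw [key2, hn, map_zero]⟩

end Unip

section Reduced

variable {K : Type u} [Field K] {A : Type u} [CommRing A] [HopfAlgebra K A]
variable {B : Type u} [CommRing B] [HopfAlgebra K B]
variable [IsAlgClosed K] [Algebra.FiniteType K A] [IsReduced A]

lemma coe_pow_subrep {U : Submodule K A} (hU : ∀ g : Pt K A, U ≤ U.comap (rTrRep K A g))
    (g : Pt K A) (n : ℕ) (u : U) :
    (((((rTrRep K A).subrepresentation U hU g - 1) ^ n) u : U) : A) =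
      (((rTr g).toLinearMap - 1) ^ n) (u : A) := by
  induction n generalizing u with
  | zero => rfl
  | succ n ih => rw [pow_succ, pow_succ, Module.End.mul_apply, Module.End.mul_apply, ih]; rfl

theorem isUnip_iff_generating {U : Submodule K A} [FiniteDimensional K U]
    (hU : ∀ g : Pt K A, U ≤ U.comap (rTrRep K A g)) (hU' : Algebra.adjoin K (U : Set A) = ⊤)
    {g : Pt K A} : IsUnip g ↔ IsNilpotent ((rTrRep K A).subrepresentation U hU g - 1) := by
  constructor
  · intro h
    exact h.rep ((isAlg_rTrRep K A).subrepresentation U hU)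
  · rintro ⟨n, hn⟩
    refine isUnip_of_adjoin hU' fun a ha => ⟨n, ?_⟩
    rw [← coe_pow_subrep hU g n ⟨a, ha⟩, hn]
    rfl

variable (K A) in
/-- There is a faithful finite-dimensional algebraic representation detecting unipotence. -/
theorem exists_rep_unip : ∃ (V : Type u) (_ : AddCommGroup V) (_ : Module K V)
      (_ : FiniteDimensional K V) (ρ : Representation K (Pt K A) V), IsAlg ρ ∧
      Function.Injective ρ ∧ ∀ g, IsUnip g ↔ IsNilpotent (ρ g - 1) := by
  obtain ⟨U, hU1, hU2, hU3, -⟩ := exists_stable_generating (K := K) (A := A)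
  refine ⟨U, inferInstance, inferInstance, hU1, (rTrRep K A).subrepresentation U hU3,
    (isAlg_rTrRep K A).subrepresentation U hU3, ?_, fun g => isUnip_iff_generating hU3 hU2⟩
  rw [injective_iff_map_eq_one]
  intro g hg
  refine eq_one_of_rTr_eq hU2 fun a ha => ?_
  have := LinearMap.congr_fun hg ⟨a, ha⟩
  exact congrArg Subtype.val this

variable (K A) in
/-- The set of unipotent points is closed. -/
theorem isCl_isUnip : IsCl {g : Pt K A | IsUnip g} := by
  obtain ⟨V, _, _, _, ρ, h1, -, h2⟩ := exists_rep_unip K A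
  have : {g : Pt K A | IsUnip g} = {g | IsNilpotent (ρ g - 1)} := by ext g; exact h2 g
  rw [this]
  exact h1.isCl_isNilpotent

/-- Characterisation of unipotent points by representations. -/
theorem isUnip_of_rep {g : Pt K A} (h : ∀ (V : Type u) [AddCommGroup V] [Module K V]
    [FiniteDimensional K V] (ρ : Representation K (Pt K A) V), IsAlg ρ → IsNilpotent (ρ g - 1)) :
    IsUnip g := by
  obtain ⟨V, _, _, _, ρ, h1, -, h2⟩ := exists_rep_unip K A
  exact (h2 g).2 (h V ρ h1)

/-- Images of unipotent points are unipotent. -/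
theorem IsUnip.map (φ : A →ₐc[K] B) {g : Pt K B} (hg : IsUnip g) : IsUnip (Pt.map φ g) :=
  isUnip_of_rep fun _ _ _ _ ρ hρ => hg.rep (ρ := ρ.comp (Pt.map φ)) (hρ.comp_map φ)

theorem isUnip_map_iff {φ : A →ₐc[K] B} (hφ : Function.Surjective φ) {g : Pt K B} :
    IsUnip (Pt.map φ g) ↔ IsUnip g :=
  ⟨isUnip_of_map hφ, fun h => h.map φ⟩

theorem IsUnip.conj {g : Pt K A} (hg : IsUnip g) (h : Pt K A) : IsUnip (h * g * h⁻¹) := by
  refine isUnip_of_rep fun _ _ _ _ ρ hρ => ?_
  obtain ⟨n, hn⟩ := hg.rep hρ
  refine ⟨n, ?_⟩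
  have h1 : ρ (h * g * h⁻¹) - 1 = ρ h * (ρ g - 1) * ρ h⁻¹ := by
    rw [mul_sub, sub_mul, ← map_mul, ← map_mul, mul_one, ← map_mul, mul_inv_cancel, map_one]
  have h2 : ∀ n, (ρ h * (ρ g - 1) * ρ h⁻¹) ^ n = ρ h * (ρ g - 1) ^ n * ρ h⁻¹ := by
    intro n
    induction n with
    | zero => rw [pow_zero, pow_zero, mul_one, ← map_mul, mul_inv_cancel, map_one]
    | succ n ih =>
      rw [pow_succ, ih, pow_succ]
      have h3 : ρ h⁻¹ * ρ h = 1 := by rw [← map_mul, inv_mul_cancel, map_one]
      calc ρ h * (ρ g - 1) ^ n * ρ h⁻¹ * (ρ h * (ρ g - 1) * ρ h⁻¹)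
          = ρ h * (ρ g - 1) ^ n * (ρ h⁻¹ * ρ h) * (ρ g - 1) * ρ h⁻¹ := by simp only [mul_assoc]
        _ = _ := by rw [h3, mul_one]; simp only [mul_assoc]
  rw [h1, h2, hn, mul_zero, zero_mul]

theorem IsUnip.mul {g h : Pt K A} (hg : IsUnip g) (hh : IsUnip h) (hc : g * h = h * g) :
    IsUnip (g * h) := by
  refine isUnip_of_rep fun _ _ _ _ ρ hρ => ?_
  have h1 : ρ (g * h) - 1 = (ρ g - 1) * ρ h + (ρ h - 1) := by
    rw [map_mul, sub_mul, one_mul]; abel
  have hcomm : ρ g * ρ h = ρ h * ρ g := by rw [← map_mul, hc, map_mul]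
  have h2 : Commute (ρ g - 1) (ρ h) := by
    rw [commute_iff_eq, sub_mul, mul_sub, hcomm, one_mul, mul_one]
  have h3 : Commute ((ρ g - 1) * ρ h) (ρ h - 1) := by
    refine Commute.mul_left ?_ ?_
    · exact h2.sub_right (Commute.one_right _)
    · exact (Commute.refl _).sub_right (Commute.one_right _)
  rw [h1]
  exact h3.isNilpotent_add (h2.isNilpotent_mul_right (hg.rep hρ)) (hh.rep hρ)

theorem IsUnip.inv {g : Pt K A} (hg : IsUnip g) : IsUnip g⁻¹ := by
  refine isUnip_of_rep fun _ _ _ _ ρ hρ => ?_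
  have h1 : ρ g⁻¹ - 1 = (ρ g - 1) * (- ρ g⁻¹) := by
    rw [mul_neg, sub_mul, ← map_mul, mul_inv_cancel, map_one, one_mul]; abel
  have h2 : Commute (ρ g - 1) (- ρ g⁻¹) := by
    rw [commute_iff_eq, mul_neg, neg_mul, sub_mul, mul_sub, ← map_mul, ← map_mul, mul_inv_cancel,
      inv_mul_cancel, one_mul, mul_one]
  rw [h1]
  exact h2.isNilpotent_mul_right (hg.rep hρ)

/-- The closure of a group of unipotent points consists of unipotent points. -/
theorem isUnip_clSub {H : Subgroup (Pt K A)} (hH : ∀ g ∈ H, IsUnip g) : ∀ g ∈ clSub H, IsUnip g := by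
  intro g hg
  exact (isCl_isUnip K A) (zeros_anti (vanIdeal_anti fun x hx => hH x hx) hg)

/-- The join of two unipotent groups of points, one normalising the other, is unipotent. -/
theorem isUnip_sup {N M : Subgroup (Pt K A)} (hMN : M ≤ Subgroup.normalizer (N : Set (Pt K A)))
    (hN : ∀ g ∈ N, IsUnip g) (hM : ∀ g ∈ M, IsUnip g) : ∀ g ∈ N ⊔ M, IsUnip g := by
  obtain ⟨V, _, _, _, ρ, h1, -, h2⟩ := exists_rep_unip K A
  intro g hg
  rw [h2]
  exact isNilpotent_sup ρ N M hMN (fun g hg => (h2 g).1 (hN g hg)) (fun g hg => (h2 g).1 (hM g hg))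
    g hg

end Reduced

section Fixed

variable {K : Type u} [Field K] {A : Type u} [CommRing A] [HopfAlgebra K A]
variable {V : Type w} [AddCommGroup V] [Module K V]

/-- A group of unipotent points has a nonzero fixed vector in every nonzero stable subspace of a
finite-dimensional algebraic representation. -/
theorem exists_fixed_of_isUnip [IsAlgClosed K] [FiniteDimensional K V]
    {ρ : Representation K (Pt K A) V}
    (hρ : IsAlg ρ) {N : Subgroup (Pt K A)} (hN : ∀ g ∈ N, IsUnip g) (U : Submodule K V)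
    (hU : ∀ g ∈ N, U ≤ U.comap (ρ g)) (hU0 : U ≠ ⊥) :
    ∃ v ∈ U, v ≠ 0 ∧ ∀ g ∈ N, ρ g v = v := by
  obtain ⟨v, hv, hv0, hfix⟩ := exists_fixed_mem (ρ.comp N.subtype) U (fun g => hU g g.2) hU0
    (fun g => (hN g g.2).rep hρ)
  exact ⟨v, hv, hv0, fun g hg => hfix ⟨g, hg⟩⟩

/-- The subspace of fixed vectors of a set of points. -/
def fixedSpace (ρ : Representation K (Pt K A) V) (X : Set (Pt K A)) : Submodule K V where
  carrier := {v | ∀ g ∈ X, ρ g v = v}
  add_mem' := fun {a b} ha hb g hg => by rw [map_add, ha g hg, hb g hg]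
  zero_mem' := fun g _ => map_zero _
  smul_mem' := fun c a ha g hg => by rw [map_smul, ha g hg]

lemma mem_fixedSpace {ρ : Representation K (Pt K A) V} {X : Set (Pt K A)} {v : V} :
    v ∈ fixedSpace ρ X ↔ ∀ g ∈ X, ρ g v = v := Iff.rfl

/-- Fixed vectors of `N` are stable under the normaliser of `N`. -/
lemma fixedSpace_le_comap (ρ : Representation K (Pt K A) V) {N : Subgroup (Pt K A)} {g : Pt K A}
    (hg : ∀ n ∈ N, g⁻¹ * n * g ∈ N) : fixedSpace ρ N ≤ (fixedSpace ρ N).comap (ρ g) := by
  intro v hv n hn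
  have h1 := hv _ (hg n hn)
  have h2 : ρ n (ρ g v) = ρ g (ρ (g⁻¹ * n * g) v) := by
    rw [← Module.End.mul_apply, ← Module.End.mul_apply, ← map_mul, ← map_mul]
    congr 2
    simp [mul_assoc]
  rw [h2, h1]

/-- A normal group of unipotent points acts trivially on every simple algebraic representation. -/
theorem act_trivially_of_isSimpleRep [IsAlgClosed K] [FiniteDimensional K V]
    {ρ : Representation K (Pt K A) V} (hρ : IsAlg ρ) (hs : IsSimpleRep ρ)
    {N : Subgroup (Pt K A)} (hNn : N.Normal) (hN : ∀ g ∈ N, IsUnip g) :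
    ∀ g ∈ N, ∀ v, ρ g v = v := by
  have := hs.1
  obtain ⟨v, -, hv0, hv⟩ := exists_fixed_of_isUnip hρ hN ⊤ (fun _ _ => le_top) top_ne_bot
  have hst : IsStable ρ (fixedSpace ρ (N : Set (Pt K A))) := fun g w hw =>
    fixedSpace_le_comap ρ (fun n hn => by simpa using hNn.conj_mem n hn g⁻¹) hw
  rcases hs.2 _ hst with h | h
  · exact absurd ((Submodule.mem_bot K).1 (h ▸ (show v ∈ fixedSpace ρ (N : Set (Pt K A)) from hv))) hv0
  · intro g hg w
    have : w ∈ fixedSpace ρ (N : Set (Pt K A)) := by rw [h]; trivial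
    exact this g hg

end Fixed

end Groth.Agent.Sga3B.RG
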