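import Groth.Agent.Sga3B.RG.CentralPt
import Mathlib.LinearAlgebra.Matrix.Charpoly.Eigs
import Mathlib.LinearAlgebra.Trace
import Mathlib.LinearAlgebra.Determinant

/-!
# Simple representations with single eigenvalues are one-dimensional (P5)
-/

set_option autoImplicit false

universe u v w

open WithConv TensorProduct Polynomial

namespace Groth.Agent.Sga3B.RG.SimpleOne

section burnside

variable {K : Type u} [Field K] {G : Type v} [Group G] {V : Type w} [AddCommGroup V]
  [Module K V]

/-- Burnside's theorem for groups: if the only stable subspaces are `0` and `V` then the image of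
the group spans the endomorphisms. -/
theorem span_range_eq_top [IsAlgClosed K] [FiniteDimensional K V] [Nontrivial V]
    (ρ : Representation K G V)
    (hs : ∀ W : Submodule K V, (∀ g, ∀ w ∈ W, ρ g w ∈ W) → W = ⊥ ∨ W = ⊤) :
    Submodule.span K (Set.range ρ) = ⊤ := by
  classical
  let S : Subalgebra K (Module.End K V) := Algebra.adjoin K (Set.range ρ)
  have hS : (Subalgebra.toSubmodule S) = Submodule.span K (Set.range ρ) := by
    rw [Algebra.adjoin_eq_span]
    congr 1
    have : (MonoidHom.mrange ρ : Set (Module.End K V)) = Set.range ρ := rfl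
    rw [← this, Submonoid.closure_eq]
  have hsimple : IsSimpleModule S V := by
    have hnt : Nontrivial (Submodule S V) := inferInstance
    refine { toIsSimpleOrder := { toNontrivial := hnt, eq_bot_or_eq_top := ?_ } }
    intro W
    let W' : Submodule K V := W.restrictScalars K
    have hW' := hs W' (by
      intro g w hw
      have hg : ρ g ∈ S := Algebra.subset_adjoin ⟨g, rfl⟩
      exact W.smul_mem (⟨ρ g, hg⟩ : S) hw)
    rcases hW' with h | h
    · left
      rw [eq_bot_iff]
      intro x hx
      have : x ∈ W' := hx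
      rw [h] at this
      exact this
    · right
      rw [eq_top_iff]
      intro x _
      have : x ∈ W' := by rw [h]; trivial
      exact this
  rw [← hS, eq_top_iff]
  intro X _
  obtain ⟨s, hsX⟩ := Groth.Agent.Books.BurnsideTrace.exists_smul_eq (k := K) (S := S) (U := V) X
  have : X = (s : Module.End K V) := by
    ext x
    rw [← hsX x]
    rfl
  rw [this]
  exact s.2

/-- Nondegeneracy of the trace form. -/
lemma eq_zero_of_trace {Y : Module.End K V} [FiniteDimensional K V]
    (h : ∀ X : Module.End K V, LinearMap.trace K V (Y * X) = 0) : Y = 0 := by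
  by_contra hne
  obtain ⟨v, hv⟩ : ∃ v, Y v ≠ 0 := by
    by_contra hcon
    push Not at hcon
    exact hne (LinearMap.ext hcon)
  obtain ⟨ξ, hξ⟩ := Module.Projective.exists_dual_ne_zero K hv
  apply hξ
  rw [← h (LinearMap.smulRight ξ v)]
  have : Y * (LinearMap.smulRight ξ v) = LinearMap.smulRight ξ (Y v) := by
    ext y
    simp [Module.End.mul_apply]
  rw [this, LinearMap.trace_smulRight]

end burnside

section charpoly

variable {K : Type u} [Field K] [IsAlgClosed K] {V : Type w} [AddCommGroup V]
  [Module K V] [FiniteDimensional K V]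

lemma trace_of_charpoly {f : Module.End K V} {μ : K} {n : ℕ}
    (h : f.charpoly = (X - C μ) ^ n) : LinearMap.trace K V f = n * μ := by
  classical
  let b := Module.finBasis K V
  rw [← LinearMap.charpoly_toMatrix f b] at h
  rw [LinearMap.trace_eq_matrix_trace K b, Matrix.trace_eq_sum_roots_charpoly, h,
    Polynomial.roots_pow, Polynomial.roots_X_sub_C, Multiset.sum_nsmul, Multiset.sum_singleton,
    nsmul_eq_mul]

lemma det_of_charpoly {f : Module.End K V} {μ : K} {n : ℕ}
    (h : f.charpoly = (X - C μ) ^ n) : LinearMap.det f = μ ^ n := by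
  classical
  let b := Module.finBasis K V
  rw [← LinearMap.charpoly_toMatrix f b] at h
  rw [← LinearMap.det_toMatrix b, Matrix.det_eq_prod_roots_charpoly, h,
    Polynomial.roots_pow, Polynomial.roots_X_sub_C, Multiset.prod_nsmul, Multiset.prod_singleton]

end charpoly

section root

/-- In a domain over an algebraically closed field, `x ^ n = y ^ n` implies `x = ζ y`. -/
lemma eq_smul_of_pow_eq {K : Type u} [Field K] [IsAlgClosed K] {A : Type v} [CommRing A]
    [IsDomain A] [Algebra K A] {x y : A} {n : ℕ} (hn : 0 < n) (h : x ^ n = y ^ n) :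
    ∃ ζ : K, x = ζ • y := by
  by_cases hy : y = 0
  · rw [hy, zero_pow hn.ne'] at h
    exact ⟨0, by rw [zero_smul]; exact (pow_eq_zero_iff hn.ne').1 h⟩
  let F := FractionRing A
  have hinj : Function.Injective (algebraMap A F) := IsFractionRing.injective A F
  have hy' : algebraMap A F y ≠ 0 := by
    intro h0
    exact hy (hinj (by rw [h0, map_zero]))
  have h1 : (algebraMap A F x / algebraMap A F y) ^ n = 1 := by
    rw [div_pow, ← map_pow, ← map_pow, h, div_self]
    rw [map_pow]
    exact pow_ne_zero _ hy'
  obtain ⟨ζ, hζ⟩ := GenMat.mem_range_of_pow_eq_one (K := K) hn h1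
  refine ⟨ζ, hinj ?_⟩
  rw [Algebra.smul_def, map_mul, ← IsScalarTower.algebraMap_apply K A F, hζ,
    div_mul_cancel₀ _ hy']

end root

section main

variable {K : Type u} [Field K] [IsAlgClosed K] {A : Type u} [CommRing A] [HopfAlgebra K A]
  [Algebra.FiniteType K A] {V : Type w} [AddCommGroup V] [Module K V]
  [FiniteDimensional K V]

omit [IsAlgClosed K] [Algebra.FiniteType K A] in
/-- The trace of an algebraic representation is a function on the group. -/
lemma exists_trace {ρ : Representation K (Pt K A) V} (hρ : IsAlg ρ) :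
    ∃ a : A, ∀ g : Pt K A, LinearMap.trace K V (ρ g) = g a := by
  classical
  let b := Module.finBasis K V
  choose a ha using fun i => hρ (b.coord i) (b i)
  refine ⟨∑ i, a i, fun g => ?_⟩
  rw [LinearMap.trace_eq_matrix_trace K b, Matrix.trace]
  change _ = g.ofConv (∑ i, a i)
  rw [map_sum]
  refine Finset.sum_congr rfl fun i _ => ?_
  rw [Matrix.diag_apply, LinearMap.toMatrix_apply]
  exact ha i g

variable [IsDomain A]

/-- **P5.** A simple representation on which every point has a single eigenvalue is given by
scalars. -/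
theorem eq_smul_of_simple {ρ : Representation K (Pt K A) V} (hρ : IsAlg ρ) (hs : IsSimpleRep ρ)
    (h1 : ∀ g, ∃ μ : K, (ρ g).charpoly = (X - C μ) ^ Module.finrank K V) :
    ∃ χ : Pt K A →* K, ∀ g v, ρ g v = χ g • v := by
  classical
  have hnt : Nontrivial V := hs.1
  set n := Module.finrank K V with hn
  have hnpos : 0 < n := Module.finrank_pos
  choose μ hμ using h1
  have htr : ∀ g, LinearMap.trace K V (ρ g) = n * μ g := fun g => trace_of_charpoly (hμ g)
  have hdet : ∀ g, LinearMap.det (ρ g) = μ g ^ n := fun g => det_of_charpoly (hμ g)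
  have hspan := span_range_eq_top ρ hs.2
  have hind : ∀ (P : Module.End K V → Prop), (∀ g, P (ρ g)) → P 0 →
      (∀ x y, P x → P y → P (x + y)) → (∀ (c : K) x, P x → P (c • x)) → ∀ X, P X := by
    intro P h1 h2 h3 h4 X
    have hX : X ∈ Submodule.span K (Set.range ρ) := by rw [hspan]; trivial
    refine Submodule.span_induction (p := fun x _ => P x) ?_ h2 (fun x y _ _ => h3 x y)
      (fun c x _ => h4 c x) hX
    rintro _ ⟨g, rfl⟩
    exact h1 g
  -- the characteristic does not divide the dimension
  have hn0 : (n : K) ≠ 0 := by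
    intro h0
    have h2 : ∀ X : Module.End K V, LinearMap.trace K V X = 0 := by
      apply hind
      · intro g; rw [htr, h0, zero_mul]
      · rw [map_zero]
      · intro x y hx hy; rw [map_add, hx, hy, add_zero]
      · intro c x hx; rw [map_smul, hx, smul_zero]
    have h3 : (1 : Module.End K V) = 0 := eq_zero_of_trace fun X => h2 _
    exact one_ne_zero h3
  -- `μ` is a function on the group
  obtain ⟨a, ha⟩ := exists_trace hρ
  let m : A := (n : K)⁻¹ • a
  have hm : ∀ g : Pt K A, g m = μ g := by
    intro g
    change g.ofConv ((n : K)⁻¹ • a) = _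
    rw [map_smul]
    have : g.ofConv a = n * μ g := by rw [← htr, ha]
    rw [this, smul_eq_mul, ← mul_assoc, inv_mul_cancel₀ hn0, one_mul]
  clear_value m
  have hμ0 : ∀ g, μ g ≠ 0 := by
    intro g h0
    have h2 := hdet g
    rw [h0, zero_pow hnpos.ne'] at h2
    have h3 : LinearMap.det (ρ g) * LinearMap.det (ρ g⁻¹) = 1 := by
      rw [← map_mul, ← map_mul, mul_inv_cancel, map_one, map_one]
    rw [h2, zero_mul] at h3
    exact zero_ne_one h3
  have hμ1 : μ 1 = 1 := by
    have h2 := htr 1
    rw [map_one, LinearMap.trace_one, ← hn] at h2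
    have h3 : (n : K) * 1 = n * μ 1 := by rw [mul_one]; exact h2
    exact (mul_left_cancel₀ hn0 h3).symm
  have hmul : ∀ g h, μ (g * h) = μ g * μ h := by
    intro g h
    have h2 : (rTr h m) ^ n = (μ h • m) ^ n := by
      apply eq_of_forall_pt (K := K)
      intro x
      change x.ofConv _ = x.ofConv _
      rw [map_pow, map_pow, map_smul]
      have e1 : x.ofConv (rTr h m) = μ (x * h) := (rTr_apply_pt h x m).trans (hm _)
      have e2 : x.ofConv m = μ x := hm x
      rw [e1, e2, smul_eq_mul, mul_pow, ← hdet, ← hdet, ← hdet, map_mul, map_mul, mul_comm]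
    obtain ⟨ζ, hζ⟩ := eq_smul_of_pow_eq (K := K) hnpos h2
    have h3 : ∀ x : Pt K A, μ (x * h) = ζ * (μ h * μ x) := by
      intro x
      have e1 : x.ofConv (rTr h m) = μ (x * h) := (rTr_apply_pt h x m).trans (hm _)
      have e2 : x.ofConv m = μ x := hm x
      rw [← e1, hζ, map_smul, map_smul, e2, smul_eq_mul, smul_eq_mul]
    have h4 := h3 1
    rw [one_mul, hμ1, mul_one] at h4
    have h5 : ζ = 1 := by
      have h6 : 1 * μ h = ζ * μ h := by rw [one_mul]; exact h4
      exact (mul_right_cancel₀ (hμ0 h) h6).symm
    rw [h3, h5, one_mul, mul_comm]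
  refine ⟨⟨⟨μ, hμ1⟩, hmul⟩, ?_⟩
  intro g v
  have h2 : ρ g - μ g • (1 : Module.End K V) = 0 := by
    apply eq_zero_of_trace
    apply hind
    · intro h
      rw [sub_mul, map_sub, smul_mul_assoc, one_mul, map_smul, ← map_mul, htr, htr, hmul,
        smul_eq_mul]
      ring
    · rw [mul_zero, map_zero]
    · intro x y hx hy; rw [mul_add, map_add, hx, hy, add_zero]
    · intro c x hx; rw [mul_smul_comm, map_smul, hx, smul_zero]
  have h3 := LinearMap.congr_fun (sub_eq_zero.1 h2) v
  exact h3

/-- **P5**, dimension one. -/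
theorem finrank_eq_one {ρ : Representation K (Pt K A) V} (hρ : IsAlg ρ) (hs : IsSimpleRep ρ)
    (h1 : ∀ g, ∃ μ : K, (ρ g).charpoly = (X - C μ) ^ Module.finrank K V) :
    Module.finrank K V = 1 := by
  obtain ⟨χ, hχ⟩ := eq_smul_of_simple hρ hs h1
  have hnt : Nontrivial V := hs.1
  obtain ⟨v, hv⟩ := exists_ne (0 : V)
  have h2 := hs.2 (Submodule.span K {v}) (by
    intro g w hw
    rw [hχ]
    exact Submodule.smul_mem _ _ hw)
  rcases h2 with h2 | h2
  · rw [Submodule.span_singleton_eq_bot] at h2
    exact absurd h2 hv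
  · exact finrank_eq_one_iff_of_nonzero v hv |>.2 h2

end main

end Groth.Agent.Sga3B.RG.SimpleOne
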