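import Groth.Agent.Sga3B.RG.TorusGen
import Groth.Agent.Sga3B.RG.SimpleOne

/-!
# Connected groups with a central maximal torus (P6)

If the maximal torus `T` of a connected group is central then every element is `s * u` with `s ∈ T`
and `u` unipotent, and every simple representation is one-dimensional.
-/

set_option autoImplicit false

universe u w

open WithConv TensorProduct Coalgebra Polynomial
open scoped LaurentPolynomial
open Groth.Agent.Sga3B.RG.CentralPt Groth.Agent.Sga3B.RG.TorusGen

namespace Groth.Agent.Sga3B.RG.CentralTorus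

variable {K : Type u} [Field K] [IsAlgClosed K] {A : Type u} [CommRing A] [HopfAlgebra K A]
  [Algebra.FiniteType K A]

section central

variable {V : Type w} [AddCommGroup V] [Module K V] {n : ℕ}

omit [IsAlgClosed K] [Algebra.FiniteType K A] in
/-- Weight spaces of a central torus are stable. -/
lemma isStable_twt {π : A →ₐc[K] MonoidAlgebra K (Multiplicative (Fin n → ℤ))}
    (hc : (Pt.map π).range ≤ Subgroup.center (Pt K A)) (ρ : Representation K (Pt K A) V)
    (m : Multiplicative (Fin n → ℤ)) : IsStable ρ (twt π ρ m) := by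
  intro g v hv
  rw [mem_twt] at hv ⊢
  intro t
  have h1 : Pt.map π (torPt _ t) * g = g * Pt.map π (torPt _ t) :=
    ((Subgroup.mem_center_iff.1 (hc ⟨torPt _ t, rfl⟩)) g).symm
  rw [← Module.End.mul_apply, ← map_mul, h1, map_mul, Module.End.mul_apply, hv t, map_smul]

omit [Algebra.FiniteType K A] in
/-- On a finite-dimensional simple representation the central torus acts through one weight. -/
lemma exists_twt_eq_top [FiniteDimensional K V]
    {π : A →ₐc[K] MonoidAlgebra K (Multiplicative (Fin n → ℤ))}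
    (hc : (Pt.map π).range ≤ Subgroup.center (Pt K A)) {ρ : Representation K (Pt K A) V}
    (hρ : IsAlg ρ) (hs : IsSimpleRep ρ) : ∃ m, twt π ρ m = ⊤ := by
  have hK : Infinite K := IsAlgClosed.instInfinite
  have hG := torChar_injective (K := K) n
  obtain ⟨d⟩ := nonempty_torDec hG π hρ
  have hnt : Nontrivial V := hs.1
  obtain ⟨v, hv⟩ := exists_ne (0 : V)
  have h1 := d.sum_P v
  obtain ⟨m, hm, hm0⟩ : ∃ m ∈ d.S, d.P m v ≠ 0 := by
    by_contra hcon
    push Not at hcon
    rw [Finset.sum_eq_zero hcon] at h1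
    exact hv h1.symm
  refine ⟨m, ?_⟩
  rcases hs.2 _ (isStable_twt hc ρ m) with h | h
  · exfalso
    apply hm0
    have h2 := d.P_mem hG m v
    rw [← Submodule.mem_bot K, ← h]
    exact h2
  · exact h

end central

section main

variable {T : Subgroup (Pt K A)} {V : Type w} [AddCommGroup V] [Module K V]

omit [Algebra.FiniteType K A] in
/-- Cocharacters act by scalars where the central maximal torus does. -/
lemma scalar_of_twt {n : ℕ} {π : A →ₐc[K] MonoidAlgebra K (Multiplicative (Fin n → ℤ))}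
    (hT : IsMaxTorusSub (Pt.map π).range) (hc : (Pt.map π).range ≤ Subgroup.center (Pt K A))
    {ρ : Representation K (Pt K A) V} {m : Multiplicative (Fin n → ℤ)} (h : twt π ρ m = ⊤)
    (c : A →ₐc[K] K[T;T⁻¹]) (t : Kˣ) : ∃ s : K, ∀ v, ρ (cochPt c t) v = s • v := by
  obtain ⟨x, hx⟩ := coch_mem hT c (fun x hx t => ((Subgroup.mem_center_iff.1 (hc hx)) _).symm) t
  refine ⟨(((torPt _).symm x) m : Kˣ), fun v => ?_⟩
  have hv : v ∈ twt π ρ m := by rw [h]; trivial
  rw [mem_twt] at hv
  have h1 := hv ((torPt _).symm x)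
  rw [MulEquiv.apply_symm_apply] at h1
  rw [← hx]
  exact h1

variable [IsDomain A]

/-- **P6, second part.** Simple representations of a connected group with central maximal torus
are given by a character. -/
theorem exists_char_of_simple [FiniteDimensional K V] (hT : IsMaxTorusSub T)
    (hc : T ≤ Subgroup.center (Pt K A)) {ρ : Representation K (Pt K A) V} (hρ : IsAlg ρ)
    (hs : IsSimpleRep ρ) : ∃ χ : Pt K A →* K, ∀ g v, ρ g v = χ g • v := by
  obtain ⟨n, π, hπ, rfl⟩ := hT.1
  obtain ⟨m, hm⟩ := exists_twt_eq_top hc hρ hs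
  exact SimpleOne.eq_smul_of_simple hρ hs (exists_charpoly hρ (scalar_of_twt hT hc hm))

/-- **P6, second part.** Simple representations of a connected group with central maximal torus
are one-dimensional. -/
theorem finrank_eq_one [FiniteDimensional K V] (hT : IsMaxTorusSub T)
    (hc : T ≤ Subgroup.center (Pt K A)) {ρ : Representation K (Pt K A) V} (hρ : IsAlg ρ)
    (hs : IsSimpleRep ρ) : Module.finrank K V = 1 := by
  obtain ⟨n, π, hπ, rfl⟩ := hT.1
  obtain ⟨m, hm⟩ := exists_twt_eq_top hc hρ hs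
  exact SimpleOne.finrank_eq_one hρ hs (exists_charpoly hρ (scalar_of_twt hT hc hm))

end main

section jordan

variable [IsDomain A] {n : ℕ} (π : A →ₐc[K] MonoidAlgebra K (Multiplicative (Fin n → ℤ)))

/-- The weight spaces of right translation by the torus on functions. -/
noncomputable abbrev Aw (m : Multiplicative (Fin n → ℤ)) : Submodule K A :=
  twt π (rTrRep K A) m

lemma mem_Aw {m : Multiplicative (Fin n → ℤ)} {a : A} :
    a ∈ Aw π m ↔ ∀ t : Multiplicative (Fin n → ℤ) →* Kˣ,
      rTr (Pt.map π (torPt _ t)) a = (t m : K) • a := Iff.rfl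

lemma mul_mem_Aw {m m' : Multiplicative (Fin n → ℤ)} {a a' : A} (h : a ∈ Aw π m)
    (h' : a' ∈ Aw π m') : a * a' ∈ Aw π (m * m') := by
  rw [mem_Aw] at h h' ⊢
  intro t
  rw [map_mul, h, h', map_mul, Units.val_mul, smul_mul_smul_comm]

lemma one_mem_Aw : (1 : A) ∈ Aw π 1 := by
  rw [mem_Aw]
  intro t
  rw [map_one, map_one, Units.val_one, one_smul]

/-- Decomposition of a function into weight vectors, inside a stable subspace. -/
lemma exists_decomp {W : Submodule K A} [FiniteDimensional K W] (hW : IsStable (rTrRep K A) W)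
    {a : A} (ha : a ∈ W) :
    ∃ (S : Finset (Multiplicative (Fin n → ℤ))) (f : Multiplicative (Fin n → ℤ) → A),
      (∀ m, f m ∈ Aw π m) ∧ (∀ m, f m ∈ W) ∧ ∑ m ∈ S, f m = a := by
  have hK : Infinite K := IsAlgClosed.instInfinite
  have hG := torChar_injective (K := K) n
  obtain ⟨d⟩ := nonempty_torDec hG π (isAlg_subRep isAlg_rTrRep W hW)
  refine ⟨d.S, fun m => (d.P m ⟨a, ha⟩ : A), ?_, fun m => (d.P m ⟨a, ha⟩).2, ?_⟩
  · intro m
    rw [mem_Aw]
    intro t
    exact congrArg Subtype.val (d.P_mem hG m ⟨a, ha⟩ t)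
  · have h1 := congrArg (fun w : W => (w : A)) (d.sum_P ⟨a, ha⟩)
    simp only [AddSubmonoidClass.coe_finsetSum] at h1
    exact h1

omit [IsAlgClosed K] [Algebra.FiniteType K A] [IsDomain A] in
lemma counit_rTr (g : Pt K A) (a : A) : counit (R := K) (rTr g a) = g a := by
  have h1 := rTr_apply_pt g 1 a
  rw [one_mul, Pt.one_apply] at h1
  exact h1

lemma map_of_mem_Aw {m : Multiplicative (Fin n → ℤ)} {a : A} (h : a ∈ Aw π m) :
    π a = MonoidAlgebra.single m (counit (R := K) a) := by
  have hK : Infinite K := IsAlgClosed.instInfinite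
  apply eq_of_torPt (torChar_injective (K := K) n)
  intro t
  rw [torPt_single]
  have h1 : (torPt _ t : Pt K (MonoidAlgebra K (Multiplicative (Fin n → ℤ)))) (π a) =
    (Pt.map π (torPt _ t)) a := rfl
  have h2 : rTr (Pt.map π (torPt _ t)) a = (t m : K) • a := h t
  rw [h1, ← counit_rTr, h2, map_smul, smul_eq_mul, mul_comm]

/-- All weight spaces are nonzero. -/
lemma exists_ne_zero_mem_Aw (hπ : Function.Surjective π) (m : Multiplicative (Fin n → ℤ)) :
    ∃ a ∈ Aw π m, a ≠ 0 := by
  classical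
  obtain ⟨a, ha⟩ := hπ (MonoidAlgebra.single m 1)
  obtain ⟨W, hW, hfin, hs⟩ := exists_finite_stable (K := K) (A := A) {a}
  obtain ⟨S, f, hf, -, hsum⟩ := exists_decomp π hW (hs a (by simp))
  refine ⟨f m, hf m, ?_⟩
  intro h0
  have h1 := congrArg (fun x => x.coeff m) ha
  simp only [MonoidAlgebra.coeff_single, Finsupp.single_eq_same] at h1
  rw [← hsum, map_sum, MonoidAlgebra.coeff_sum, Finsupp.finsetSum_apply] at h1
  apply zero_ne_one (α := K)
  rw [← h1]
  symm
  apply Finset.sum_eq_zero
  intro l _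
  rw [map_of_mem_Aw π (hf l), MonoidAlgebra.coeff_single, Finsupp.single_apply]
  split_ifs with h
  · rw [h, h0, map_zero]
  · rfl

variable (hT : IsMaxTorusSub (Pt.map π).range) (hc : (Pt.map π).range ≤ Subgroup.center (Pt K A))

include hT hc in
/-- On a finite set of functions of weight `m` the point `g` has a single eigenvalue. -/
lemma exists_local (g : Pt K A) (m : Multiplicative (Fin n → ℤ)) (s : Finset A)
    (hs : ∀ a ∈ s, a ∈ Aw π m) :
    ∃ (W : Submodule K A) (μ : K) (N : ℕ), FiniteDimensional K W ∧ IsStable (rTrRep K A) W ∧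
      W ≤ Aw π m ∧ (∀ a ∈ s, a ∈ W) ∧
      ∀ w ∈ W, (((rTr g).toLinearMap - μ • (1 : Module.End K A)) ^ N) w = 0 := by
  obtain ⟨W₀, hW₀, hfin, hsW⟩ := exists_finite_stable (K := K) (A := A) s
  have hst := isStable_twt hc (rTrRep K A) m
  let W : Submodule K A := W₀ ⊓ Aw π m
  have hW : IsStable (rTrRep K A) W := fun g w hw => ⟨hW₀ g w hw.1, hst g w hw.2⟩
  have hWfin : FiniteDimensional K W :=
    Submodule.finiteDimensional_of_le (inf_le_left : W ≤ W₀)
  have htop : twt π (subRep (rTrRep K A) W hW) m = ⊤ := by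
    rw [eq_top_iff]
    intro w _
    rw [mem_twt]
    intro t
    exact Subtype.ext (w.2.2 t)
  obtain ⟨μ, hμ⟩ := exists_eigenvalue (isAlg_subRep isAlg_rTrRep W hW)
    (scalar_of_twt hT hc htop) g
  refine ⟨W, μ, Module.finrank K W, hWfin, hW, inf_le_right, fun a ha => ⟨hsW a ha, hs a ha⟩, ?_⟩
  intro w hw
  have key : ∀ (k : ℕ) (w : W), (((subRep (rTrRep K A) W hW g - μ • (1 : Module.End K W)) ^ k) w :
      A) = (((rTr g).toLinearMap - μ • (1 : Module.End K A)) ^ k) (w : A) := by
    intro k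
    induction k with
    | zero => intro w; simp
    | succ k ih =>
      intro w
      rw [pow_succ, Module.End.mul_apply, ih, pow_succ, Module.End.mul_apply]
      rfl
  have h1 := key (Module.finrank K W) ⟨w, hw⟩
  rw [hμ] at h1
  exact h1.symm

/-- `μ` is an eigenvalue of `g` on the functions of weight `m`. -/
def Ev (g : Pt K A) (m : Multiplicative (Fin n → ℤ)) (μ : K) : Prop :=
  ∃ a ∈ Aw π m, a ≠ 0 ∧ rTr g a = μ • a

omit [IsAlgClosed K] [Algebra.FiniteType K A] [IsDomain A] in
lemma pow_apply_eigen {g : Pt K A} {μ μ₀ : K} {a : A} (h : rTr g a = μ • a) (k : ℕ) :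
    (((rTr g).toLinearMap - μ₀ • (1 : Module.End K A)) ^ k) a = (μ - μ₀) ^ k • a := by
  induction k with
  | zero => simp
  | succ k ih =>
    rw [pow_succ', Module.End.mul_apply, ih, map_smul, LinearMap.sub_apply,
      AlgHom.toLinearMap_apply, h, LinearMap.smul_apply, Module.End.one_apply, ← sub_smul,
      smul_smul, pow_succ]

include hT hc in
lemma Ev.unique {g : Pt K A} {m : Multiplicative (Fin n → ℤ)} {μ μ' : K} (h : Ev π g m μ)
    (h' : Ev π g m μ') : μ = μ' := by
  classical
  obtain ⟨a, ha, ha0, hae⟩ := h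
  obtain ⟨a', ha', ha0', hae'⟩ := h'
  obtain ⟨W, μ₀, N, hfin, hst, hle, hs, hN⟩ := exists_local π hT hc g m {a, a'} (by
    intro b hb
    simp only [Finset.mem_insert, Finset.mem_singleton] at hb
    rcases hb with rfl | rfl
    · exact ha
    · exact ha')
  have key : ∀ (b : A) (ν : K), b ∈ W → b ≠ 0 → rTr g b = ν • b → ν = μ₀ := by
    intro b ν hb hb0 hbe
    have h1 := hN b hb
    rw [pow_apply_eigen hbe, smul_eq_zero] at h1
    rcases h1 with h1 | h1
    · by_cases hN0 : N = 0
      · rw [hN0, pow_zero] at h1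
        exact absurd h1 one_ne_zero
      · exact sub_eq_zero.1 ((pow_eq_zero_iff hN0).1 h1)
    · exact absurd h1 hb0
  rw [key a μ (hs a (by simp)) ha0 hae, key a' μ' (hs a' (by simp)) ha0' hae']

lemma exists_eigen_mem (g : Pt K A) {W : Submodule K A}
    [FiniteDimensional K W] (hW : IsStable (rTrRep K A) W) (hne : W ≠ ⊥) :
    ∃ a ∈ W, ∃ μ : K, a ≠ 0 ∧ rTr g a = μ • a := by
  have hnt : Nontrivial W := Submodule.nontrivial_iff_ne_bot.2 hne
  obtain ⟨μ, hμ⟩ := Module.End.exists_eigenvalue (subRep (rTrRep K A) W hW g)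
  obtain ⟨w, hw⟩ := hμ.exists_hasEigenvector
  refine ⟨w, w.2, μ, ?_, ?_⟩
  · intro h0
    exact hw.2 (Subtype.ext h0)
  · exact congrArg Subtype.val hw.apply_eq_smul

lemma rTr_injective (g : Pt K A) : Function.Injective (rTr g) := by
  intro a b hab
  have h1 : rTr g⁻¹ (rTr g a) = rTr g⁻¹ (rTr g b) := by rw [hab]
  rw [← rTr_mul, ← rTr_mul, inv_mul_cancel, rTr_one, rTr_one] at h1
  exact h1

lemma Ev.ne_zero {g : Pt K A} {m : Multiplicative (Fin n → ℤ)} {μ : K} (h : Ev π g m μ) :
    μ ≠ 0 := by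
  obtain ⟨a, -, ha0, hae⟩ := h
  rintro rfl
  rw [zero_smul] at hae
  exact ha0 (rTr_injective g (by rw [hae, map_zero]))

lemma Ev.mul {g : Pt K A} {m m' : Multiplicative (Fin n → ℤ)} {μ μ' : K} (h : Ev π g m μ)
    (h' : Ev π g m' μ') : Ev π g (m * m') (μ * μ') := by
  obtain ⟨a, ha, ha0, hae⟩ := h
  obtain ⟨a', ha', ha0', hae'⟩ := h'
  exact ⟨a * a', mul_mem_Aw π ha ha', mul_ne_zero ha0 ha0', by
    rw [map_mul, hae, hae', smul_mul_smul_comm]⟩

lemma Ev.one (g : Pt K A) : Ev π g 1 1 :=
  ⟨1, one_mem_Aw π, one_ne_zero, by rw [map_one, one_smul]⟩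

include hT hc in
lemma exists_Ev (hπ : Function.Surjective π) (g : Pt K A) (m : Multiplicative (Fin n → ℤ)) :
    ∃ μ, Ev π g m μ := by
  classical
  obtain ⟨a, ha, ha0⟩ := exists_ne_zero_mem_Aw π hπ m
  obtain ⟨W, μ₀, N, hfin, hst, hle, hs, hN⟩ := exists_local π hT hc g m {a} (by
    intro b hb
    rw [Finset.mem_singleton.1 hb]
    exact ha)
  obtain ⟨b, hb, μ, hb0, hbe⟩ := exists_eigen_mem g hst (by
    intro h0
    apply ha0
    have := hs a (by simp)
    rw [h0] at this
    exact this)
  exact ⟨μ, b, hle hb, hb0, hbe⟩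

include hT hc in
/-- **P6, first part**, for the torus given by `π`. -/
theorem exists_mul_unip_aux (hπ : Function.Surjective π) (g : Pt K A) :
    ∃ t : Multiplicative (Fin n → ℤ) →* Kˣ, IsUnip ((Pt.map π (torPt _ t))⁻¹ * g) := by
  classical
  choose μ hμ using exists_Ev π hT hc hπ g
  let θ₀ : Multiplicative (Fin n → ℤ) →* K :=
    { toFun := μ
      map_one' := Ev.unique π hT hc (hμ 1) (Ev.one π g)
      map_mul' := fun m m' => Ev.unique π hT hc (hμ (m * m')) ((hμ m).mul π (hμ m')) }
  let θ : Multiplicative (Fin n → ℤ) →* Kˣ := θ₀.toHomUnits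
  have hθ : ∀ m, ((θ m : Kˣ) : K) = μ m := fun m => rfl
  refine ⟨θ, ?_⟩
  set u : Pt K A := (Pt.map π (torPt _ θ))⁻¹ * g with hu
  have key : ∀ (m : Multiplicative (Fin n → ℤ)) (b : A), b ∈ Aw π m →
      b ∈ Module.End.maxGenEigenspace (rTr u).toLinearMap 1 := by
    intro m b hb
    by_cases hb0 : b = 0
    · rw [hb0]; exact Submodule.zero_mem _
    obtain ⟨W, μ₀, N, hfin, hst, hle, hs, hN⟩ := exists_local π hT hc g m {b} (by
      intro b' hb'
      rw [Finset.mem_singleton.1 hb']
      exact hb)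
    have hbW : b ∈ W := hs b (by simp)
    have hμ₀ : μ₀ = μ m := by
      obtain ⟨c, hcW, ν, hc0, hce⟩ := exists_eigen_mem g hst (by
        intro h0
        apply hb0
        rw [h0] at hbW
        exact hbW)
      have h1 : ν = μ m := Ev.unique π hT hc ⟨c, hle hcW, hc0, hce⟩ (hμ m)
      have h2 := hN c hcW
      rw [pow_apply_eigen hce, smul_eq_zero] at h2
      rcases h2 with h2 | h2
      · by_cases hN0 : N = 0
        · rw [hN0, pow_zero] at h2
          exact absurd h2 one_ne_zero
        · rw [← h1]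
          exact (sub_eq_zero.1 ((pow_eq_zero_iff hN0).1 h2)).symm
      · exact absurd h2 hc0
    have hact : ∀ w ∈ W, (rTr u) w = (μ m)⁻¹ • rTr g w := by
      intro w hw
      rw [hu, rTr_mul]
      have h1 : rTr g w ∈ Aw π m := hle (hst g w hw)
      have h2 := h1 θ⁻¹
      have h3 : (Pt.map π (torPt _ θ))⁻¹ = Pt.map π (torPt _ θ⁻¹) :=
        (map_inv (Pt.map π) _).symm.trans (congrArg _ (map_inv (torPt _) θ).symm)
      rw [h3]
      refine h2.trans ?_
      rw [torChar_apply, MonoidHom.inv_apply, Units.val_inv_eq_inv_val, hθ]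
    have hpow : ∀ (k : ℕ), ∀ w ∈ W, (((rTr u).toLinearMap - (1 : K) • (1 : Module.End K A)) ^ k) w =
        ((μ m)⁻¹) ^ k • (((rTr g).toLinearMap - μ m • (1 : Module.End K A)) ^ k) w := by
      intro k
      induction k with
      | zero => intro w _; simp
      | succ k ih =>
        intro w hw
        have h1 : ((rTr u).toLinearMap - (1 : K) • (1 : Module.End K A)) w =
            (μ m)⁻¹ • ((rTr g).toLinearMap - μ m • (1 : Module.End K A)) w := by
          rw [LinearMap.sub_apply, LinearMap.sub_apply, AlgHom.toLinearMap_apply, hact w hw,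
            AlgHom.toLinearMap_apply, smul_sub, LinearMap.smul_apply, LinearMap.smul_apply,
            Module.End.one_apply, smul_smul, inv_mul_cancel₀ (hμ m).ne_zero]
        have h2 : ((rTr g).toLinearMap - μ m • (1 : Module.End K A)) w ∈ W := by
          rw [LinearMap.sub_apply]
          exact Submodule.sub_mem _ (hst g w hw) (Submodule.smul_mem _ _ hw)
        rw [pow_succ, Module.End.mul_apply, h1, map_smul, ih _ h2, smul_smul,
          ← Module.End.mul_apply, ← pow_succ, ← pow_succ']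
    rw [Module.End.mem_maxGenEigenspace]
    refine ⟨N, ?_⟩
    rw [hpow N b hbW, ← hμ₀, hN b hbW, smul_zero]
  intro a
  obtain ⟨W, hW, hfin, hs⟩ := exists_finite_stable (K := K) (A := A) {a}
  obtain ⟨S, f, hf, -, hsum⟩ := exists_decomp π hW (hs a (by simp))
  have h1 : a ∈ Module.End.maxGenEigenspace (rTr u).toLinearMap 1 := by
    rw [← hsum]
    exact Submodule.sum_mem _ fun m _ => key m _ (hf m)
  rw [Module.End.mem_maxGenEigenspace, one_smul] at h1
  exact h1

end jordan

/-- **P6, first part.** In a connected group with central maximal torus `T` every element is the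
product of an element of `T` and a unipotent element. -/
theorem exists_mul_unip [IsDomain A] {T : Subgroup (Pt K A)} (hT : IsMaxTorusSub T)
    (hc : T ≤ Subgroup.center (Pt K A)) (g : Pt K A) :
    ∃ s ∈ T, ∃ u : Pt K A, IsUnip u ∧ g = s * u := by
  obtain ⟨n, π, hπ, rfl⟩ := hT.1
  obtain ⟨t, ht⟩ := exists_mul_unip_aux π hT hc hπ g
  exact ⟨_, ⟨torPt _ t, rfl⟩, _, ht, by group⟩

end Groth.Agent.Sga3B.RG.CentralTorus
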