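import Groth.Agent.Sga3B.RG.Closed
import Groth.Agent.Sga3B.RG.Wt

/-!
# Inner automorphisms as bialgebra maps; conjugation of tori and cocharacters
-/

set_option autoImplicit false

universe u w

open WithConv TensorProduct Coalgebra
open scoped LaurentPolynomial

namespace Groth.Agent.Sga3B.RG

variable {K : Type u} [Field K] {A : Type u} [CommRing A] [HopfAlgebra K A]

/-- The algebra map `(conjAlg n a)(x) = a(n x n⁻¹)`. -/
noncomputable def conjAlg (n : Pt K A) : A →ₐ[K] A := (lTr n⁻¹).comp (rTr n⁻¹)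

lemma conjAlg_apply_pt (n x : Pt K A) (a : A) : x (conjAlg n a) = (n * x * n⁻¹) a := by
  rw [conjAlg, AlgHom.comp_apply, lTr_apply_pt, inv_inv, rTr_apply_pt]

/-- A tensor is determined by its values at pairs of points. -/
lemma tensor_ext_pt [IsAlgClosed K] [Algebra.FiniteType K A] [IsReduced A] {x y : A ⊗[K] A}
    (h : ∀ g g' : Pt K A, Algebra.TensorProduct.lift g.ofConv g'.ofConv (fun _ _ ↦ .all ..) x =
      Algebra.TensorProduct.lift g.ofConv g'.ofConv (fun _ _ ↦ .all ..) y) : x = y := by
  rw [← sub_eq_zero]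
  refine tensor_eq_zero_of_forall (F := Set.range fun f : A →ₐ[K] K => f.toLinearMap)
    (G := Set.range fun f : A →ₐ[K] K => f.toLinearMap) ?_ ?_ _ ?_
  · intro v hv
    exact eq_zero_of_forall_algHom (K := K) fun f => hv _ ⟨f, rfl⟩
  · intro v hv
    exact eq_zero_of_forall_algHom (K := K) fun f => hv _ ⟨f, rfl⟩
  · rintro _ ⟨f, rfl⟩ _ ⟨f', rfl⟩
    have key : ∀ z : A ⊗[K] A, LinearMap.mul' K K (TensorProduct.map f.toLinearMap f'.toLinearMap z) =
        Algebra.TensorProduct.lift f f' (fun _ _ ↦ .all ..) z := by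
      intro z
      induction z with
      | zero => simp
      | add x y hx hy => simp only [map_add, hx, hy]
      | tmul b c => simp
    rw [key, map_sub, sub_eq_zero]
    exact h (toConv f) (toConv f')

variable [IsAlgClosed K] [Algebra.FiniteType K A] [IsReduced A]

/-- The bialgebra automorphism attached to an inner automorphism. -/
noncomputable def conjBialg (n : Pt K A) : A →ₐc[K] A :=
  .ofAlgHom (conjAlg n)
    (by
      ext a
      have h1 := conjAlg_apply_pt n 1 a
      rw [mul_one, mul_inv_cancel, Pt.one_apply, Pt.one_apply] at h1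
      exact h1)
    (by
      ext a
      apply tensor_ext_pt
      intro g g'
      have h1 : Algebra.TensorProduct.lift g.ofConv g'.ofConv (fun _ _ ↦ .all ..)
          (Algebra.TensorProduct.map (conjAlg n) (conjAlg n) (comul (R := K) a)) =
          ((n * g * n⁻¹) * (n * g' * n⁻¹)) a := by
        rw [Pt.mul_apply]
        induction comul (R := K) a with
        | zero => simp
        | add x y hx hy => simp only [map_add, hx, hy]
        | tmul b c =>
          simp only [Algebra.TensorProduct.map_tmul, Algebra.TensorProduct.lift_tmul]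
          rw [conjAlg_apply_pt, conjAlg_apply_pt]
      have h2 : Algebra.TensorProduct.lift g.ofConv g'.ofConv (fun _ _ ↦ .all ..)
          (comul (R := K) (conjAlg n a)) = (n * (g * g') * n⁻¹) a := by
        rw [← Pt.mul_apply, conjAlg_apply_pt]
      refine h1.trans (Eq.trans ?_ h2.symm)
      congr 1
      group)

@[simp] lemma conjBialg_apply (n : Pt K A) (a : A) : conjBialg n a = conjAlg n a := rfl

lemma map_conjBialg (n x : Pt K A) : Pt.map (conjBialg n) x = n * x * n⁻¹ := by
  apply Pt.ext'
  intro a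
  rw [Pt.map_apply, conjBialg_apply, conjAlg_apply_pt]

/-- The conjugate of a cocharacter. -/
noncomputable def conjCoch (n : Pt K A) (lam : A →ₐc[K] K[T;T⁻¹]) : A →ₐc[K] K[T;T⁻¹] :=
  lam.comp (conjBialg n)

lemma cochPt_conjCoch (n : Pt K A) (lam : A →ₐc[K] K[T;T⁻¹]) (t : Kˣ) :
    cochPt (conjCoch n lam) t = n * cochPt lam t * n⁻¹ := by
  rw [← map_conjBialg]
  rfl

lemma conjBialg_surjective (n : Pt K A) : Function.Surjective (conjBialg n) := by
  intro a
  refine ⟨conjAlg n⁻¹ a, ?_⟩
  apply eq_of_forall_pt (K := K)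
  intro x
  rw [conjBialg_apply, conjAlg_apply_pt, conjAlg_apply_pt]
  congr 1
  group

/-- The conjugate of a torus is a torus. -/
lemma IsTorusSub.conj {T : Subgroup (Pt K A)} (hT : IsTorusSub T) (n : Pt K A) :
    IsTorusSub (T.map (MulAut.conj n).toMonoidHom) := by
  obtain ⟨r, π, hπ, rfl⟩ := hT
  refine ⟨r, π.comp (conjBialg n), hπ.comp (conjBialg_surjective n), ?_⟩
  ext x
  simp only [Subgroup.mem_map, MonoidHom.mem_range]
  constructor
  · rintro ⟨_, ⟨y, rfl⟩, rfl⟩
    refine ⟨y, ?_⟩
    change Pt.map (conjBialg n) (Pt.map π y) = _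
    rw [map_conjBialg]
    rfl
  · rintro ⟨y, rfl⟩
    refine ⟨Pt.map π y, ⟨y, rfl⟩, ?_⟩
    change _ = Pt.map (conjBialg n) (Pt.map π y)
    rw [map_conjBialg]
    rfl

end Groth.Agent.Sga3B.RG
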