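import Groth.Agent.Sga3B.RG.ConeOrbit
import Groth.Agent.Sga3B.RG.Closed
import Groth.Agent.Books.BurnsideTrace
import Mathlib.RingTheory.Finiteness.Nilpotent
import Mathlib.LinearAlgebra.Trace
import Mathlib.RingTheory.Artinian.Module

/-!
# Fixed vectors of connected unipotent groups in closed cones

* `isNilpotent_sub_one`: a unipotent point acts unipotently on every algebraic representation;
* `kolchin`: a group of unipotent operators has a nonzero fixed vector;
* `exists_fixed`: a connected group of unipotent points which preserves a closed cone `Y ≠ {0}` fixes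
  a nonzero vector of `Y`.
-/

set_option autoImplicit false

universe u v w

open WithConv TensorProduct Coalgebra Module

namespace Groth.Agent.Sga3B.RG.ConeFix

section Kolchin

variable {K : Type u} [Field K] [IsAlgClosed K] {D : Type v} [Group D]

/-- **Kolchin**: a group of unipotent operators on a nonzero finite-dimensional space has a nonzero
fixed vector. -/
theorem kolchin {W : Type w} [AddCommGroup W] [Module K W] [FiniteDimensional K W] [Nontrivial W]
    (σ : Representation K D W) (hσ : ∀ g, IsNilpotent (σ g - 1)) : ∃ w : W, w ≠ 0 ∧ ∀ g, σ g w = w := by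
  have : Nontrivial σ.asModule := inferInstanceAs (Nontrivial W)
  have : IsArtinian (MonoidAlgebra K D) σ.asModule := isArtinian_of_tower K inferInstance
  obtain ⟨U, hU, -⟩ := (IsAtomic.eq_bot_or_exists_atom_le
    (⊤ : Submodule (MonoidAlgebra K D) σ.asModule)).resolve_left top_ne_bot
  have hs : IsSimpleModule (MonoidAlgebra K D) U := isSimpleModule_iff_isAtom.mpr hU
  have : Nontrivial U := hs.nontrivial
  obtain ⟨x, hx⟩ := exists_ne (0 : U)
  have : FiniteDimensional K U :=
    Module.Finite.of_injective (U.restrictScalars K).subtype Subtype.val_injective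
  have htr : ∀ g : D, LinearMap.trace K U
      (Algebra.lsmul K K U (MonoidAlgebra.of K D g)) = (finrank K U : K) := by
    intro g
    let e : Module.End K U := Algebra.lsmul K K U (MonoidAlgebra.of K D g)
    have h1 : IsNilpotent (e - 1) := by
      obtain ⟨n, hn⟩ := hσ g
      refine ⟨n, ?_⟩
      have key : ∀ (n : ℕ) (y : U), (((e - 1) ^ n) y : U).1 =
          (((σ g - 1 : Module.End K W) ^ n) (y.1 : W) : W) := by
        intro n
        induction n with
        | zero => intro y; rfl
        | succ n ih =>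
          intro y
          rw [pow_succ, pow_succ, Module.End.mul_apply, Module.End.mul_apply, ih]
          congr 1
          have h5 : (MonoidAlgebra.of K D g • y : U).1 = σ g (y.1 : W) := by
            rw [Submodule.coe_smul]
            change (MonoidAlgebra.single (g : D) (1 : K)) • (y.1 : σ.asModule) = _
            rw [Representation.single_smul, one_smul]
            rfl
          change ((MonoidAlgebra.of K D g • y - y : U) : σ.asModule) = _
          rw [Submodule.coe_sub, h5]
          rfl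
      ext y
      rw [key, hn]
      rfl
    have h2 : LinearMap.trace K U (e - 1) = 0 :=
      (LinearMap.isNilpotent_trace_of_isNilpotent h1).eq_zero
    have h3 : LinearMap.trace K U e - LinearMap.trace K U (1 : Module.End K U) = 0 :=
      ((LinearMap.trace K U).map_sub e 1).symm.trans h2
    exact (sub_eq_zero.mp h3).trans (LinearMap.trace_one K U)
  refine ⟨x.1, fun h => hx (Subtype.ext h), fun g => ?_⟩
  have h3 := Groth.Agent.Books.BurnsideTrace.smul_eq_of_trace_eq (finrank K U : K) htr g x
  have h4 := congrArg Subtype.val h3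
  rw [Submodule.coe_smul] at h4
  refine Eq.trans ?_ h4
  change _ = (MonoidAlgebra.single (g : D) (1 : K)) • (x.1 : σ.asModule)
  rw [Representation.single_smul, one_smul]
  rfl

/-- Kolchin's theorem for functionals. -/
theorem kolchin_dual {W : Type w} [AddCommGroup W] [Module K W] [FiniteDimensional K W]
    [Nontrivial W] (σ : Representation K D W) (hσ : ∀ g, IsNilpotent (σ g - 1)) :
    ∃ f : Dual K W, f ≠ 0 ∧ ∀ g w, f (σ g w) = f w := by
  obtain ⟨f, hf, h⟩ := kolchin σ.dual (fun g => by
    obtain ⟨n, hn⟩ := hσ g⁻¹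
    refine ⟨n, ?_⟩
    have key : ∀ (n : ℕ) (f : Dual K W) (w : W), ((σ.dual g - 1 : Module.End K (Dual K W)) ^ n) f w =
        f (((σ g⁻¹ - 1 : Module.End K W) ^ n) w) := by
      intro n
      induction n with
      | zero => intro f w; rfl
      | succ n ih =>
        intro f w
        rw [pow_succ, pow_succ', Module.End.mul_apply, Module.End.mul_apply, ih]
        change f (σ g⁻¹ _) - f _ = f (σ g⁻¹ _ - _)
        rw [map_sub]
        rfl
    ext f w
    rw [key, hn]
    exact map_zero f)
  refine ⟨f, hf, fun g w => ?_⟩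
  have h1 := DFunLike.congr_fun (h g⁻¹) w
  change f (σ g⁻¹⁻¹ w) = f w at h1
  rwa [inv_inv] at h1

end Kolchin

section Unip

variable {K : Type u} [Field K] {A : Type u} [CommRing A] [HopfAlgebra K A]
  {V : Type w} [AddCommGroup V] [Module K V]

lemma coeff_sub_one_pow {ρ : Representation K (Pt K A) V} {f : Dual K V} {v : V} {a : A}
    (ha : ∀ x : Pt K A, f (ρ x v) = x a) (g : Pt K A) (n : ℕ) (x : Pt K A) :
    f (ρ x (((ρ g - 1 : Module.End K V) ^ n) v)) = x ((((rTr g).toLinearMap - 1) ^ n) a) := by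
  induction n generalizing x with
  | zero => exact ha x
  | succ n ih =>
    rw [pow_succ', pow_succ', Module.End.mul_apply, Module.End.mul_apply]
    generalize ((ρ g - 1 : Module.End K V) ^ n) v = w at ih
    generalize (((rTr g).toLinearMap - 1) ^ n) a = b at ih
    have h1 : (ρ g - 1 : Module.End K V) w = ρ g w - w := rfl
    have h2 : ((rTr g).toLinearMap - 1) b = rTr g b - b := rfl
    have h3 : x (rTr g b - b) = x (rTr g b) - x b := map_sub x.ofConv _ _
    have h4 : ρ x (ρ g w) = ρ (x * g) w := by rw [map_mul]; rfl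
    rw [h1, h2, h3, map_sub, map_sub, h4, ih, ih, rTr_apply_pt]

/-- A unipotent point acts unipotently on every algebraic representation. -/
theorem isNilpotent_sub_one [FiniteDimensional K V] {ρ : Representation K (Pt K A) V}
    (hρ : IsAlg ρ) {g : Pt K A} (hg : IsUnip g) : IsNilpotent (ρ g - 1 : Module.End K V) := by
  rw [Module.End.isNilpotent_iff_of_finite]
  intro v
  let b := Module.finBasis K V
  have h1 : ∀ i, ∃ n, ∀ m, n ≤ m → b.coord i (((ρ g - 1 : Module.End K V) ^ m) v) = 0 := by
    intro i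
    obtain ⟨a, ha⟩ := hρ (b.coord i) v
    obtain ⟨n, hn⟩ := hg a
    refine ⟨n, fun m hm => ?_⟩
    have h2 := coeff_sub_one_pow ha g m 1
    rw [map_one] at h2
    refine h2.trans ?_
    obtain ⟨k, rfl⟩ := Nat.exists_eq_add_of_le' hm
    rw [pow_add, Module.End.mul_apply, hn, map_zero]
    exact map_zero (1 : Pt K A).ofConv
  choose n hn using h1
  refine ⟨Finset.univ.sup n, b.ext_elem fun i => ?_⟩
  rw [map_zero]
  exact hn i _ (Finset.le_sup (Finset.mem_univ i))

end Unip

section Cone

variable {K : Type u} [Field K] [IsAlgClosed K] {A : Type u} [CommRing A] [HopfAlgebra K A]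
  {V : Type w} [AddCommGroup V] [Module K V] [FiniteDimensional K V]

/-- **Fixed vectors in cones**: a connected group of unipotent points which preserves a closed cone
`Y ≠ {0}` fixes a nonzero vector of `Y`. -/
theorem exists_fixed {ρ : Representation K (Pt K A) V} (hρ : IsAlg ρ) {H : Subgroup (Pt K A)}
    (hH : IsConn (H : Set (Pt K A))) (hU : ∀ g ∈ H, IsUnip g) {Y : Set V} (hcone : IsCone K Y)
    (hclosed : ZClosed K Y) (hst : ∀ g ∈ H, ∀ y ∈ Y, ρ g y ∈ Y) (hne : ∃ y ∈ Y, y ≠ 0) :
    ∃ y ∈ Y, y ≠ 0 ∧ ∀ g ∈ H, ρ g y = y := by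
  induction hn : finrank K (Submodule.span K Y) using Nat.strong_induction_on generalizing Y with
  | _ n ih =>
    obtain ⟨y0, hy0, hy00⟩ := hne
    let W := Submodule.span K Y
    have hW : ∀ g ∈ H, ∀ w ∈ W, ρ g w ∈ W := by
      intro g hg w hw
      induction hw using Submodule.span_induction with
      | mem y hy => exact Submodule.subset_span (hst g hg y hy)
      | zero => rw [map_zero]; exact Submodule.zero_mem _
      | add x y _ _ hx hy => rw [map_add]; exact Submodule.add_mem _ hx hy
      | smul c x _ hx => rw [map_smul]; exact Submodule.smul_mem _ _ hx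
    have : Nontrivial W := ⟨⟨⟨y0, Submodule.subset_span hy0⟩, 0, fun h => hy00 (congrArg Subtype.val h)⟩⟩
    -- the representation of `H` on `W`
    let σ : Representation K H W :=
      { toFun := fun g => (ρ g.1).restrict (hW g.1 g.2)
        map_one' := by ext w; simp
        map_mul' := fun g h => by ext w; simp }
    have hσv : ∀ (g : H) (w : W), (σ g w : V) = ρ g.1 w.1 := fun _ _ => rfl
    have hσ : ∀ g, IsNilpotent (σ g - 1 : Module.End K W) := by
      intro g
      obtain ⟨m, hm⟩ := isNilpotent_sub_one hρ (hU g.1 g.2)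
      refine ⟨m, ?_⟩
      have key : ∀ (m : ℕ) (w : W), (((σ g - 1 : Module.End K W) ^ m) w).1 =
          ((ρ g.1 - 1 : Module.End K V) ^ m) w.1 := by
        intro m
        induction m with
        | zero => intro w; rfl
        | succ m ihm =>
          intro w
          rw [pow_succ, pow_succ, Module.End.mul_apply, Module.End.mul_apply, ihm]
          rfl
      ext w
      rw [key, hm]
      rfl
    obtain ⟨f, hf0, hf⟩ := kolchin_dual σ hσ
    obtain ⟨F, hF⟩ := LinearMap.exists_extend f
    have hFw : ∀ w : W, F w.1 = f w := fun w => DFunLike.congr_fun hF w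
    by_cases hcase : ∃ y ∈ Y, y ≠ 0 ∧ F y = 0
    · obtain ⟨y, hy, hy00, hFy⟩ := hcase
      let Y' : Set V := Y ∩ (LinearMap.ker F : Set V)
      have hY'cone : IsCone K Y' := fun c y hy => ⟨hcone c y hy.1, Submodule.smul_mem _ c hy.2⟩
      have hY'cl : ZClosed K Y' := hclosed.inter (zclosed_submodule _)
      have hY'st : ∀ g ∈ H, ∀ y ∈ Y', ρ g y ∈ Y' := by
        intro g hg y hy
        refine ⟨hst g hg y hy.1, ?_⟩
        have hyW : y ∈ W := Submodule.subset_span hy.1
        have h1 := hf ⟨g, hg⟩ ⟨y, hyW⟩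
        rw [← hFw, ← hFw, hσv] at h1
        exact h1.trans hy.2
      have hlt : finrank K (Submodule.span K Y') < n := by
        rw [← hn]
        refine Submodule.finrank_lt_finrank_of_lt (lt_of_le_of_ne
          (Submodule.span_mono Set.inter_subset_left) ?_)
        intro heq
        apply hf0
        ext w
        have hw : w.1 ∈ Submodule.span K Y' := heq ▸ w.2
        have h1 : Submodule.span K Y' ≤ LinearMap.ker F := Submodule.span_le.mpr Set.inter_subset_right
        rw [← hFw]
        exact h1 hw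
      obtain ⟨z, hz, hz0, hzf⟩ := ih _ hlt hY'cone hY'cl hY'st ⟨y, ⟨hy, hFy⟩, hy00⟩ rfl
      exact ⟨z, hz.1, hz0, hzf⟩
    · push Not at hcase
      have h1 := luna_cone hρ hH (one_mem H) hcone (isZClosed_iff.mpr hclosed) (F := {F})
        (fun y hy h => by
          by_contra hy0
          exact hcase y hy hy0 (h F rfl)) hst
        (fun g hg f' hf' y hy => by
          obtain rfl := hf'
          have hyW : y ∈ W := Submodule.subset_span hy
          have h1 := hf ⟨g, hg⟩ ⟨y, hyW⟩
          rw [← hFw, ← hFw, hσv] at h1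
          exact h1)
      exact ⟨y0, hy0, hy00, fun g hg => h1 g hg y0 hy0⟩

end Cone

section Weight

variable {K : Type u} [Field K] [Infinite K] {A : Type u} [CommRing A] [HopfAlgebra K A]
  {V : Type w} [AddCommGroup V] [Module K V] [FiniteDimensional K V]

omit [Infinite K] [FiniteDimensional K V] in
lemma zclosed_cwt (lam : A →ₐc[K] LaurentPolynomial K) (ρ : Representation K (Pt K A) V) (N : ℤ) :
    ZClosed K (cwt lam ρ N : Set V) := zclosed_submodule _

/-- A closed cone `Y ≠ {0}` stable under finitely many commuting cocharacters contains a common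
weight vector. -/
theorem exists_cwt {ρ : Representation K (Pt K A) V} (hρ : IsAlg ρ) {ι : Type*} (s : Finset ι)
    (lam : ι → (A →ₐc[K] LaurentPolynomial K))
    (hcomm : ∀ i j s t, cochPt (lam i) s * cochPt (lam j) t = cochPt (lam j) t * cochPt (lam i) s)
    {Y : Set V} (hcone : IsCone K Y)
    (hclosed : ZClosed K Y) (hst : ∀ i t, ∀ y ∈ Y, ρ (cochPt (lam i) t) y ∈ Y)
    (hne : ∃ y ∈ Y, y ≠ 0) : ∃ y ∈ Y, y ≠ 0 ∧ ∀ i ∈ s, ∃ N, y ∈ cwt (lam i) ρ N := by
  classical
  induction s using Finset.induction_on generalizing Y with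
  | empty =>
    obtain ⟨y, hy, hy0⟩ := hne
    exact ⟨y, hy, hy0, fun i hi => absurd hi (Finset.notMem_empty i)⟩
  | insert i s _ ih =>
    obtain ⟨y, hy, hy0⟩ := hne
    obtain ⟨d⟩ := nonempty_cochDec (lam i) hρ
    obtain ⟨N, hN0, hN⟩ := exists_top d hy0
    have h1 : d.P N y ∈ Y := limit_mem d hcone hclosed (hst i) hy hN
    have h2 : d.P N y ∈ cwt (lam i) ρ N := d.P_mem gmChar_injective N y
    obtain ⟨z, hz, hz0, hzw⟩ := ih (Y := Y ∩ (cwt (lam i) ρ N : Set V))
      (fun c y hy => ⟨hcone c y hy.1, Submodule.smul_mem _ c hy.2⟩)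
      (hclosed.inter (zclosed_cwt _ _ _))
      (fun j t y hy => ⟨hst j t y hy.1, fun s => by
        have h3 : ρ (cochPt (lam i) s) y = ((s ^ N : Kˣ) : K) • y := hy.2 s
        change ρ (cochPt (lam i) s) (ρ (cochPt (lam j) t) y) = ((s ^ N : Kˣ) : K) • _
        rw [← Module.End.mul_apply, ← map_mul, hcomm, map_mul, Module.End.mul_apply, h3, map_smul]⟩)
      ⟨_, ⟨h1, h2⟩, hN0⟩
    refine ⟨z, hz.1, hz0, fun j hj => ?_⟩
    rcases Finset.mem_insert.mp hj with rfl | hj
    · exact ⟨N, hz.2⟩
    · exact hzw j hj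

/-- The coordinate cocharacters of a torus. -/
noncomputable def coordCoch {n : ℕ} (π : A →ₐc[K] MonoidAlgebra K (Multiplicative (Fin n → ℤ)))
    (i : Fin n) : A →ₐc[K] LaurentPolynomial K :=
  cochOf π (AddMonoidHom.toMultiplicative (Pi.evalAddMonoidHom (fun _ : Fin n => ℤ) i))

omit [HopfAlgebra K A] [CommRing A] [Infinite K] in
lemma torus_eq_prod {n : ℕ} (t : Multiplicative (Fin n → ℤ) →* Kˣ) :
    t = ∏ i, torOf (AddMonoidHom.toMultiplicative (Pi.evalAddMonoidHom (fun _ : Fin n => ℤ) i))
          (t (Multiplicative.ofAdd (Pi.single i 1))) := by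
  refine MonoidHom.ext fun m => ?_
  rw [MonoidHom.finsetProd_apply]
  simp only [torOf_apply]
  have h1 : m = ∏ i, (Multiplicative.ofAdd (Pi.single i (1 : ℤ) : Fin n → ℤ)) ^ (m.toAdd i) := by
    apply Multiplicative.toAdd.injective
    rw [toAdd_prod]
    funext j
    simp [Finset.sum_apply, Pi.single_apply]
  conv_lhs => rw [h1]
  rw [map_prod]
  simp only [map_zpow]
  rfl

/-- A closed cone `Y ≠ {0}` stable under a torus contains a weight vector. -/
theorem exists_weight {ρ : Representation K (Pt K A) V} (hρ : IsAlg ρ) {n : ℕ}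
    (π : A →ₐc[K] MonoidAlgebra K (Multiplicative (Fin n → ℤ)))
    {Y : Set V} (hcone : IsCone K Y) (hclosed : ZClosed K Y)
    (hst : ∀ g ∈ (Pt.map π).range, ∀ y ∈ Y, ρ g y ∈ Y)
    (hne : ∃ y ∈ Y, y ≠ 0) : ∃ y ∈ Y, y ≠ 0 ∧ ∃ m, y ∈ twt π ρ m := by
  have hmem : ∀ i t, cochPt (coordCoch π i) t ∈ (Pt.map π).range := fun i t =>
    ⟨_, (cochPt_cochOf π _ t).symm⟩
  obtain ⟨y, hy, hy0, hyw⟩ := exists_cwt hρ Finset.univ (coordCoch π) (by
    intro i j s t
    rw [coordCoch, coordCoch, cochPt_cochOf, cochPt_cochOf, ← map_mul, ← map_mul, ← map_mul,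
      ← map_mul]
    refine congrArg (fun z => Pt.map π (torPt (Multiplicative (Fin n → ℤ)) z)) ?_
    refine MonoidHom.ext fun m => ?_
    exact mul_comm (G := Kˣ) _ _) hcone hclosed (fun i t => hst _ (hmem i t)) hne
  choose N hN using fun i => hyw i (Finset.mem_univ i)
  refine ⟨y, hy, hy0, Multiplicative.ofAdd N, ?_⟩
  intro t
  let F : (Multiplicative (Fin n → ℤ) →* Kˣ) →* Module.End K V :=
    ρ.comp ((Pt.map π).comp (torPt (Multiplicative (Fin n → ℤ))).toMonoidHom)
  let e : Fin n → (Multiplicative (Fin n → ℤ) →* Kˣ) := fun i =>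
    torOf (AddMonoidHom.toMultiplicative (Pi.evalAddMonoidHom (fun _ : Fin n => ℤ) i))
          (t (Multiplicative.ofAdd (Pi.single i 1)))
  have h1 : ∀ i, F (e i) y = (((t (Multiplicative.ofAdd (Pi.single i 1))) ^ N i : Kˣ) : K) • y := by
    intro i
    refine Eq.trans ?_ (hN i _)
    change ρ (Pt.map π (torPt _ (torOf _ _))) y = ρ (cochPt (cochOf π _) _) y
    rw [cochPt_cochOf]
  have h2 : ∀ s : Finset (Fin n), F (∏ i ∈ s, e i) y =
      ((∏ i ∈ s, (t (Multiplicative.ofAdd (Pi.single i 1))) ^ N i : Kˣ) : K) • y := by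
    classical
    intro s
    induction s using Finset.induction_on with
    | empty => simp
    | insert i s hi ih =>
      rw [Finset.prod_insert hi, Finset.prod_insert hi, map_mul, Module.End.mul_apply, ih, map_smul,
        h1, smul_smul, Units.val_mul, mul_comm]
  have h3 := h2 Finset.univ
  rw [← torus_eq_prod t] at h3
  refine Eq.trans h3 ?_
  congr 2
  have h4 : Multiplicative.ofAdd N =
      ∏ i, (Multiplicative.ofAdd (Pi.single i (1 : ℤ) : Fin n → ℤ)) ^ (N i) := by
    apply Multiplicative.toAdd.injective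
    rw [toAdd_prod]
    funext j
    simp [Finset.sum_apply, Pi.single_apply]
  rw [h4, map_prod]
  simp only [map_zpow]

/-- A closed cone `Y ≠ {0}` stable under a torus `T` and a connected group `H` of unipotent points
normalised by `T` contains a weight vector of `T` fixed by `H`. -/
theorem exists_fixed_weight [IsAlgClosed K] {ρ : Representation K (Pt K A) V} (hρ : IsAlg ρ) {n : ℕ}
    (π : A →ₐc[K] MonoidAlgebra K (Multiplicative (Fin n → ℤ)))
    {H : Subgroup (Pt K A)} (hH : IsConn (H : Set (Pt K A))) (hU : ∀ g ∈ H, IsUnip g)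
    (hN : ∀ t ∈ (Pt.map π).range, ∀ h ∈ H, t⁻¹ * h * t ∈ H)
    {Y : Set V} (hcone : IsCone K Y) (hclosed : ZClosed K Y)
    (hst : ∀ g ∈ H, ∀ y ∈ Y, ρ g y ∈ Y)
    (hT : ∀ g ∈ (Pt.map π).range, ∀ y ∈ Y, ρ g y ∈ Y)
    (hne : ∃ y ∈ Y, y ≠ 0) : ∃ y ∈ Y, y ≠ 0 ∧ (∀ g ∈ H, ρ g y = y) ∧ ∃ m, y ∈ twt π ρ m := by
  obtain ⟨y, hy, hy0, hyf⟩ := exists_fixed hρ hH hU hcone hclosed hst hne
  let F : Submodule K V :=
    { carrier := {v | ∀ g ∈ H, ρ g v = v}
      add_mem' := fun {a b} ha hb g hg => by rw [map_add, ha g hg, hb g hg]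
      zero_mem' := fun g _ => map_zero _
      smul_mem' := fun c x hx g hg => by rw [map_smul, hx g hg] }
  obtain ⟨z, hz, hz0, hzw⟩ := exists_weight hρ π (Y := Y ∩ (F : Set V))
    (fun c y hy => ⟨hcone c y hy.1, F.smul_mem c hy.2⟩) (hclosed.inter (zclosed_submodule _))
    (fun t ht y hy => ⟨hT t ht y hy.1, fun g hg => by
      have h1 := hy.2 _ (hN t ht g hg)
      have h2 : ρ g (ρ t y) = ρ t (ρ (t⁻¹ * g * t) y) := by
        rw [← Module.End.mul_apply, ← Module.End.mul_apply, ← map_mul, ← map_mul]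
        congr 2
        group
      rw [h2, h1]⟩) ⟨y, ⟨hy, hyf⟩, hy0⟩
  exact ⟨z, hz.1, hz0, hz.2, hzw⟩

end Weight

end Groth.Agent.Sga3B.RG.ConeFix
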