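import Groth.Agent.Sga3B.RG.ConnAct
import Groth.Agent.Sga3B.RG.Wt
import Mathlib.LinearAlgebra.FiniteDimensional.Lemmas
import Mathlib.Order.WellFounded

/-!
# Simple subrepresentations of algebraic representations

* `isAlg_sub`, `isAlg_quot`: sub- and quotient representations of algebraic representations;
* `isAlg_rTrRep`, `exists_finite_stable`: right translations are algebraic and locally finite;
* `exists_simple_sub`: every nonzero stable subspace of a finite-dimensional representation
  contains a simple one;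
* `simpleKer K A`: the kernel of all simple representations, a closed normal subgroup all of whose
  elements are unipotent.
-/

set_option autoImplicit false

universe u w

open WithConv TensorProduct Coalgebra

namespace Groth.Agent.Sga3B.RG.K8

variable {K : Type u} [Field K] {A : Type u} [CommRing A] [HopfAlgebra K A]

section Alg

variable {V : Type w} [AddCommGroup V] [Module K V] {ρ : Representation K (Pt K A) V}

lemma isAlg_sub (hρ : IsAlg ρ) (W : Submodule K V) (h : ∀ g, W ≤ W.comap (ρ g)) :
    IsAlg (ρ.subrepresentation W h) := by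
  intro f w
  obtain ⟨F, hF⟩ := LinearMap.exists_extend f
  obtain ⟨a, ha⟩ := hρ F w
  refine ⟨a, fun g => ?_⟩
  rw [← ha g, ← hF]
  rfl

lemma isAlg_quot (hρ : IsAlg ρ) (W : Submodule K V) (h : ∀ g, W ≤ W.comap (ρ g)) :
    IsAlg (ρ.quotient W h) := by
  intro f v
  obtain ⟨v, rfl⟩ := W.mkQ_surjective v
  obtain ⟨a, ha⟩ := hρ (f ∘ₗ W.mkQ) v
  exact ⟨a, fun g => by rw [← ha g]; rfl⟩

lemma isStable_iff {W : Submodule K V} : IsStable ρ W ↔ ∀ g, W ≤ W.comap (ρ g) := Iff.rfl

variable [FiniteDimensional K V]

/-- Every nonzero stable subspace contains a simple one. -/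
theorem exists_simple_sub {U : Submodule K V} (hU : IsStable ρ U) (hU0 : U ≠ ⊥) :
    ∃ (W : Submodule K V) (hW : IsStable ρ W), W ≤ U ∧ W ≠ ⊥ ∧
      IsSimpleRep (ρ.subrepresentation W hW) := by
  obtain ⟨W, ⟨hWU, hW, hW0⟩, hmin⟩ := (wellFounded_lt (α := Submodule K V)).has_min
    {W | W ≤ U ∧ IsStable ρ W ∧ W ≠ ⊥} ⟨U, le_rfl, hU, hU0⟩
  refine ⟨W, hW, hWU, hW0, Submodule.nontrivial_iff_ne_bot.2 hW0, fun W' hW' => ?_⟩
  by_cases h0 : W'.map W.subtype = ⊥
  · left
    refine Submodule.map_injective_of_injective W.injective_subtype ?_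
    rw [h0, Submodule.map_bot]
  · right
    have h1 : ¬ W'.map W.subtype < W := hmin _ ⟨(Submodule.map_subtype_le W W').trans hWU, by
      rintro g _ ⟨w, hw, rfl⟩
      exact ⟨_, hW' g w hw, rfl⟩, h0⟩
    have h2 : W'.map W.subtype = W := by
      by_contra hne
      exact h1 (lt_of_le_of_ne (Submodule.map_subtype_le W W') hne)
    rw [eq_top_iff]
    rintro w -
    have h3 : (w : V) ∈ W'.map W.subtype := by rw [h2]; exact w.2
    obtain ⟨w', hw', he⟩ := h3
    rwa [← Subtype.ext he]

/-- If all simple representations are one-dimensional, every nonzero stable subspace contains an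
eigenvector of the whole group. -/
theorem exists_eigen {V : Type u} [AddCommGroup V] [Module K V] [FiniteDimensional K V]
    {ρ : Representation K (Pt K A) V} (hρ : IsAlg ρ)
    (hone : ∀ (V : Type u) [AddCommGroup V] [Module K V] [FiniteDimensional K V]
      (ρ : Representation K (Pt K A) V), IsAlg ρ → IsSimpleRep ρ → Module.finrank K V = 1)
    {U : Submodule K V} (hU : IsStable ρ U) (hU0 : U ≠ ⊥) :
    ∃ v ∈ U, v ≠ 0 ∧ ∃ ψ : Pt K A → K, ∀ g, ρ g v = ψ g • v := by
  obtain ⟨W, hW, hWU, hW0, hs⟩ := exists_simple_sub hU hU0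
  have h1 := hone W _ (isAlg_sub hρ W hW) hs
  obtain ⟨w, hw0, hw⟩ := finrank_eq_one_iff'.1 h1
  refine ⟨w, hWU w.2, fun h => hw0 (Subtype.ext h), ?_⟩
  choose ψ hψ using fun g => hw (ρ.subrepresentation W hW g w)
  refine ⟨ψ, fun g => ?_⟩
  exact congrArg Subtype.val (hψ g).symm

end Alg

section Translations

variable [IsAlgClosed K] [Algebra.FiniteType K A] [IsReduced A]

lemma rTrRep_apply (g : Pt K A) (a : A) : rTrRep K A g a = rTr g a := rfl

lemma rTr_eq_sum (g : Pt K A) {a : A} {ι : Type*} (r : Coalgebra.Repr K a ι) :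
    rTr g a = ∑ i ∈ r.index, g (r.right i) • r.left i := by
  apply eq_of_forall_pt (K := K)
  intro x
  rw [rTr_apply_pt, Pt.mul_apply_repr _ _ r]
  refine Eq.trans ?_ (map_sum x.ofConv _ _).symm
  refine Finset.sum_congr rfl fun i _ => ?_
  refine Eq.trans ?_ (map_smul x.ofConv _ _).symm
  rw [smul_eq_mul, mul_comm]

/-- Right translation is an algebraic representation. -/
lemma isAlg_rTrRep : IsAlg (rTrRep K A) := by
  intro F a
  let r := Coalgebra.Repr.arbitrary K a
  refine ⟨∑ i ∈ r.index, F (r.left i) • r.right i, fun g => ?_⟩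
  rw [rTrRep_apply, rTr_eq_sum g r, map_sum]
  refine Eq.trans ?_ (map_sum g.ofConv _ _).symm
  refine Finset.sum_congr rfl fun i _ => ?_
  rw [map_smul]
  refine Eq.trans ?_ (map_smul g.ofConv _ _).symm
  rw [smul_eq_mul, smul_eq_mul, mul_comm]

/-- Right translation is locally finite. -/
lemma exists_finite_stable (a : A) : ∃ W : Submodule K A, FiniteDimensional K W ∧
    IsStable (rTrRep K A) W ∧ a ∈ W := by
  classical
  refine ⟨Submodule.span K (Set.range fun g : Pt K A => rTr g a), ?_, ?_,
    Submodule.subset_span ⟨1, rTr_one a⟩⟩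
  · let r := Coalgebra.Repr.arbitrary K a
    have hle : Submodule.span K (Set.range fun g : Pt K A => rTr g a) ≤
        Submodule.span K ((r.left '' (r.index : Set _)) : Set A) := by
      rw [Submodule.span_le]
      rintro _ ⟨g, rfl⟩
      change rTr g a ∈ _
      rw [rTr_eq_sum g r]
      refine Submodule.sum_mem _ fun i hi => Submodule.smul_mem _ _ ?_
      exact Submodule.subset_span ⟨i, hi, rfl⟩
    have hfin : FiniteDimensional K (Submodule.span K ((r.left '' (r.index : Set _)) : Set A)) :=
      FiniteDimensional.span_of_finite K (r.index.finite_toSet.image _)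
    exact Submodule.finiteDimensional_of_le hle
  · intro g w hw
    induction hw using Submodule.span_induction with
    | mem x hx =>
      obtain ⟨h, rfl⟩ := hx
      refine Submodule.subset_span ⟨g * h, ?_⟩
      exact rTr_mul g h a
    | zero => rw [map_zero]; exact Submodule.zero_mem _
    | add x y _ _ hx hy => rw [map_add]; exact Submodule.add_mem _ hx hy
    | smul c x _ hx => rw [map_smul]; exact Submodule.smul_mem _ _ hx

end Translations

section SimpleKer

variable (K A) in
/-- The kernel of all simple algebraic representations. -/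
def simpleKer : Subgroup (Pt K A) where
  carrier := {g | ∀ (V : Type u) [AddCommGroup V] [Module K V] [FiniteDimensional K V]
    (ρ : Representation K (Pt K A) V), IsAlg ρ → IsSimpleRep ρ → ρ g = LinearMap.id}
  one_mem' := fun V _ _ _ ρ _ _ => map_one ρ
  mul_mem' := by
    intro g h hg hh V _ _ _ ρ hρ hs
    rw [map_mul, hg V ρ hρ hs, hh V ρ hρ hs]
    rfl
  inv_mem' := by
    intro g hg V _ _ _ ρ hρ hs
    have h1 : ρ g * ρ g⁻¹ = 1 := by rw [← map_mul, mul_inv_cancel, map_one]
    rw [hg V ρ hρ hs] at h1
    exact h1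

lemma mem_simpleKer {g : Pt K A} : g ∈ simpleKer K A ↔
    ∀ (V : Type u) [AddCommGroup V] [Module K V] [FiniteDimensional K V]
    (ρ : Representation K (Pt K A) V), IsAlg ρ → IsSimpleRep ρ → ρ g = LinearMap.id := Iff.rfl

instance normal_simpleKer : (simpleKer K A).Normal := by
  refine ⟨fun n hn g V _ _ _ ρ hρ hs => ?_⟩
  rw [map_mul, map_mul, hn V ρ hρ hs]
  change (ρ g * 1) * ρ g⁻¹ = 1
  rw [mul_one, ← map_mul, mul_inv_cancel, map_one]

lemma isCl_simpleKer : IsCl (simpleKer K A : Set (Pt K A)) := by
  intro g hg V _ _ _ ρ hρ hs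
  ext v
  rw [LinearMap.id_apply, ← sub_eq_zero, ← Module.forall_dual_apply_eq_zero_iff K]
  intro f
  obtain ⟨a, ha⟩ := hρ f v
  have h1 := hg (a - algebraMap K A (f v)) (by
    intro h hh
    change h.ofConv _ = 0
    rw [map_sub, AlgHom.commutes, sub_eq_zero]
    refine (ha h).symm.trans ?_
    rw [hh V ρ hρ hs]
    rfl)
  change g.ofConv _ = 0 at h1
  rw [map_sub, AlgHom.commutes, sub_eq_zero] at h1
  rw [map_sub, ha g, sub_eq_zero]
  exact h1

/-- Elements of `simpleKer` are unipotent on every representation. -/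
theorem pow_eq_zero_of_mem_simpleKer {g : Pt K A} (hg : g ∈ simpleKer K A) :
    ∀ (n : ℕ) (V : Type u) [AddCommGroup V] [Module K V] [FiniteDimensional K V]
    (ρ : Representation K (Pt K A) V), IsAlg ρ → Module.finrank K V ≤ n →
    (ρ g - 1) ^ n = 0 := by
  intro n
  induction n with
  | zero =>
    intro V _ _ _ ρ _ hV
    have : Subsingleton V := Module.finrank_zero_iff.1 (Nat.le_zero.1 hV)
    ext v
    exact Subsingleton.elim _ _
  | succ n ih =>
    intro V _ _ _ ρ hρ hV
    by_cases hV0 : (⊤ : Submodule K V) = ⊥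
    · ext v
      have : v ∈ (⊤ : Submodule K V) := trivial
      rw [hV0] at this
      rw [(Submodule.mem_bot K).1 this, map_zero, map_zero]
    obtain ⟨W, hW, -, hW0, hs⟩ := exists_simple_sub (ρ := ρ) (U := ⊤) (fun _ _ _ => trivial) hV0
    have h1 : ∀ w ∈ W, ρ g w = w := by
      intro w hw
      have := hg W _ (isAlg_sub hρ W hW) hs
      exact congrArg Subtype.val (LinearMap.congr_fun this ⟨w, hw⟩)
    have hdim : Module.finrank K (V ⧸ W) ≤ n := by
      have h2 := Submodule.finrank_quotient_add_finrank W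
      have h3 : 0 < Module.finrank K W := by
        have : Nontrivial W := Submodule.nontrivial_iff_ne_bot.2 hW0
        exact Module.finrank_pos
      omega
    have h4 := ih (V ⧸ W) _ (isAlg_quot hρ W hW) hdim
    have h5 : ∀ (m : ℕ) (v : V), ((ρ.quotient W hW g - 1) ^ m) (W.mkQ v) =
        W.mkQ (((ρ g - 1) ^ m) v) := by
      intro m
      induction m with
      | zero => intro v; rfl
      | succ m ihm =>
        intro v
        rw [pow_succ', pow_succ', Module.End.mul_apply, Module.End.mul_apply, ihm]
        rfl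
    ext v
    rw [pow_succ', Module.End.mul_apply]
    have h6 : ((ρ g - 1) ^ n) v ∈ W := by
      rw [← Submodule.Quotient.mk_eq_zero]
      have := h5 n v
      rw [h4] at this
      exact this.symm
    rw [LinearMap.sub_apply, h1 _ h6]
    exact sub_self _

/-- Elements of `simpleKer` are unipotent. -/
theorem isUnip_of_mem_simpleKer [IsAlgClosed K] [Algebra.FiniteType K A] [IsReduced A]
    {g : Pt K A} (hg : g ∈ simpleKer K A) : IsUnip g := by
  intro a
  obtain ⟨W, hfin, hW, ha⟩ := exists_finite_stable (K := K) a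
  refine ⟨Module.finrank K W, ?_⟩
  have h1 := pow_eq_zero_of_mem_simpleKer hg _ W _ (isAlg_sub isAlg_rTrRep W hW) le_rfl
  have h5 : ∀ (m : ℕ) (v : W), ((((rTrRep K A).subrepresentation W hW g - 1) ^ m) v : A) =
      (((rTr g).toLinearMap - 1) ^ m) v := by
    intro m
    induction m with
    | zero => intro v; rfl
    | succ m ihm =>
      intro v
      rw [pow_succ', pow_succ', Module.End.mul_apply, Module.End.mul_apply, ← ihm]
      rfl
  rw [← h5 _ ⟨a, ha⟩, h1]
  rfl

/-- If the group of points is reductive, every connected subgroup acting trivially on all simple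
representations is trivial. -/
theorem eq_bot_of_le_simpleKer [IsAlgClosed K] [Algebra.FiniteType K A] [IsReduced A]
    (hred : IsRedPt K A) {U : Subgroup (Pt K A)} (hU : IsConn (U : Set (Pt K A)))
    (h : U ≤ simpleKer K A) : U = ⊥ := by
  have h1 : idComp (simpleKer K A) = ⊥ := by
    refine hred _ (normal_idComp isCl_simpleKer normal_simpleKer) (isCl_idComp _)
      (isConn_idComp _) ?_
    intro g hg
    exact isUnip_of_mem_simpleKer (idComp_le isCl_simpleKer hg)
  rw [eq_bot_iff, ← h1]
  exact le_idComp hU h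

end SimpleKer

end Groth.Agent.Sga3B.RG.K8
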