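import Groth.Agent.Books.BurnsideTrace
import Mathlib.RepresentationTheory.Basic
import Mathlib.RingTheory.Artinian.Module
import Mathlib.RingTheory.Nilpotent.Lemmas

/-!
# Kolchin's theorem, and the socle flag of a normal unipotent subgroup
-/

set_option autoImplicit false

namespace Groth.Agent.Sga3B.RG

open Module

section Kolchin

variable {K : Type*} [Field K] [IsAlgClosed K] {N : Type*} [Group N]
variable {V : Type*} [AddCommGroup V] [Module K V] [FiniteDimensional K V]

/-- **Kolchin's theorem**: a group of unipotent operators on a non-zero finite-dimensional vector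
space over an algebraically closed field has a non-zero fixed vector. -/
theorem exists_fixed_of_unipotent [Nontrivial V] (ρ : Representation K N V)
    (h : ∀ n, IsNilpotent (ρ n - 1)) : ∃ v : V, v ≠ 0 ∧ ∀ n, ρ n v = v := by
  have : IsArtinian K ρ.asModule := inferInstance
  have : IsArtinian (MonoidAlgebra K N) ρ.asModule :=
    isArtinian_of_tower K inferInstance
  have hnt : Nontrivial ρ.asModule := inferInstanceAs (Nontrivial V)
  obtain ⟨U, hU⟩ := IsAtomic.exists_atom (Submodule (MonoidAlgebra K N) ρ.asModule)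
  have hUs : IsSimpleModule (MonoidAlgebra K N) U := isSimpleModule_iff_isAtom.mpr hU
  have hfd : FiniteDimensional K U :=
    FiniteDimensional.finiteDimensional_submodule (U.restrictScalars K)
  have hact : ∀ (n : N) (u : U), ((MonoidAlgebra.of K N n • u : U) : ρ.asModule) =
      ρ.asModuleEquiv.symm (ρ n (ρ.asModuleEquiv (u : ρ.asModule))) := by
    intro n u
    rw [Representation.asModuleEquiv_symm_map_rho, LinearEquiv.symm_apply_apply]
    rfl
  have htr : ∀ n : N, LinearMap.trace K U (Algebra.lsmul K K U (MonoidAlgebra.of K N n)) =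
      (finrank K U : K) := by
    intro n
    have h1 : IsNilpotent ((Algebra.lsmul K K U (MonoidAlgebra.of K N n) : Module.End K U) - 1) := by
      obtain ⟨k, hk⟩ := h n
      refine ⟨k, ?_⟩
      have h2 : ∀ (j : ℕ) (u : U), ((((Algebra.lsmul K K U (MonoidAlgebra.of K N n) :
          Module.End K U) - 1) ^ j) u : ρ.asModule) =
          ρ.asModuleEquiv.symm (((ρ n - 1) ^ j) (ρ.asModuleEquiv (u : ρ.asModule))) := by
        intro j
        induction j with
        | zero => intro u; simp
        | succ j ih =>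
          intro u
          rw [pow_succ, Module.End.mul_apply, ih, pow_succ, Module.End.mul_apply]
          congr 2
          rw [LinearMap.sub_apply, LinearMap.sub_apply, Submodule.coe_sub, map_sub]
          congr 1
          have := hact n u
          rw [Algebra.lsmul_coe, this, LinearEquiv.apply_symm_apply]
      ext u
      rw [h2, hk]
      simp
    have h3 : LinearMap.trace K U
        ((Algebra.lsmul K K U (MonoidAlgebra.of K N n) : Module.End K U) - 1) = 0 :=
      (LinearMap.isNilpotent_trace_of_isNilpotent h1).eq_zero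
    have h4 := (LinearMap.trace K U).map_sub
      (Algebra.lsmul K K U (MonoidAlgebra.of K N n) : Module.End K U) 1
    rw [h3, LinearMap.trace_one] at h4
    exact (sub_eq_zero.mp h4.symm)
  obtain ⟨u, hu, hu0⟩ := (Submodule.ne_bot_iff U).mp hU.1
  refine ⟨ρ.asModuleEquiv (u : ρ.asModule), fun h0 => hu0 ?_, fun n => ?_⟩
  · rwa [LinearEquiv.map_eq_zero_iff] at h0
  · have h1 := Books.BurnsideTrace.smul_eq_of_trace_eq (finrank K U : K) htr n ⟨u, hu⟩
    have h2 := hact n ⟨u, hu⟩
    rw [h1] at h2
    apply ρ.asModuleEquiv.symm.injective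
    rw [← h2, LinearEquiv.symm_apply_apply]

end Kolchin

section Flag

variable {K : Type*} [Field K] {G : Type*} [Group G] {V : Type*} [AddCommGroup V] [Module K V]

/-- The socle flag of a subgroup acting on a vector space: `E 0 = 0` and `E (k + 1)` consists of the
vectors fixed modulo `E k`. -/
def uflag (ρ : Representation K G V) (N : Subgroup G) : ℕ → Submodule K V
  | 0 => ⊥
  | k + 1 => ⨅ n : N, (uflag ρ N k).comap (ρ n - 1)

lemma uflag_zero (ρ : Representation K G V) (N : Subgroup G) : uflag ρ N 0 = ⊥ := rfl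

lemma mem_uflag_succ {ρ : Representation K G V} {N : Subgroup G} {k : ℕ} {v : V} :
    v ∈ uflag ρ N (k + 1) ↔ ∀ n ∈ N, ρ n v - v ∈ uflag ρ N k := by
  rw [uflag, Submodule.mem_iInf]
  exact ⟨fun h n hn => h ⟨n, hn⟩, fun h n => h n n.2⟩

lemma uflag_le_succ (ρ : Representation K G V) (N : Subgroup G) (k : ℕ) :
    uflag ρ N k ≤ uflag ρ N (k + 1) := by
  induction k with
  | zero => rw [uflag_zero]; exact bot_le
  | succ k ih =>
    intro v hv
    rw [mem_uflag_succ] at hv ⊢
    exact fun n hn => ih (hv n hn)

lemma uflag_mono (ρ : Representation K G V) (N : Subgroup G) : Monotone (uflag ρ N) :=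
  monotone_nat_of_le_succ (uflag_le_succ ρ N)

lemma uflag_stable (ρ : Representation K G V) (N : Subgroup G) (hN : N.Normal) (k : ℕ) (g : G)
    {v : V} (hv : v ∈ uflag ρ N k) : ρ g v ∈ uflag ρ N k := by
  induction k generalizing v with
  | zero =>
    rw [uflag_zero, Submodule.mem_bot] at hv ⊢
    rw [hv, map_zero]
  | succ k ih =>
    rw [mem_uflag_succ] at hv ⊢
    intro n hn
    have h1 := ih (hv (g⁻¹ * n * g) (by simpa using hN.conj_mem n hn g⁻¹))
    rw [map_sub] at h1
    convert h1 using 2
    rw [← Module.End.mul_apply, ← Module.End.mul_apply, ← map_mul, ← map_mul]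
    congr 2
    group

/-- The socle flag of a group acting by unipotent operators exhausts the space. -/
theorem exists_uflag_eq_top [IsAlgClosed K] [FiniteDimensional K V] (ρ : Representation K G V)
    (N : Subgroup G) (h : ∀ n ∈ N, IsNilpotent (ρ n - 1)) : ∃ r, uflag ρ N r = ⊤ := by
  obtain ⟨r, hr⟩ := monotone_stabilizes_iff_noetherian.mpr
    (inferInstance : IsNoetherian K V) ⟨uflag ρ N, uflag_mono ρ N⟩
  refine ⟨r, ?_⟩
  by_contra hne
  set E := uflag ρ N r with hE
  have hst : ∀ n : N, E ≤ E.comap (ρ n) := by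
    intro n v hv
    rw [hE] at hv
    have h1 := mem_uflag_succ.mp (uflag_le_succ ρ N r hv) n n.2
    have h2 := E.add_mem h1 hv
    rwa [sub_add_cancel] at h2
  have : Nontrivial (V ⧸ E) := Submodule.Quotient.nontrivial_iff.mpr hne
  let ρ' : Representation K N (V ⧸ E) :=
    { toFun := fun n => E.mapQ E (ρ n) (hst n)
      map_one' := by
        ext v
        simp
      map_mul' := by
        intro a b
        ext v
        simp }
  have hρ' : ∀ (n : N) (v : V), ρ' n (E.mkQ v) = E.mkQ (ρ n v) := fun n v => rfl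
  obtain ⟨w, hw, hfix⟩ := exists_fixed_of_unipotent ρ' (by
    intro n
    obtain ⟨k, hk⟩ := h n n.2
    refine ⟨k, ?_⟩
    have h2 : ∀ (j : ℕ) (v : V), ((ρ' n - 1) ^ j) (E.mkQ v) = E.mkQ (((ρ n - 1) ^ j) v) := by
      intro j
      induction j with
      | zero => intro v; simp
      | succ j ih =>
        intro v
        rw [pow_succ, Module.End.mul_apply, pow_succ, Module.End.mul_apply, ← ih]
        congr 1
    refine LinearMap.ext fun w => ?_
    obtain ⟨v, rfl⟩ := E.mkQ_surjective w
    rw [h2, hk]
    simp)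
  obtain ⟨v, rfl⟩ := E.mkQ_surjective w
  apply hw
  rw [Submodule.mkQ_apply, Submodule.Quotient.mk_eq_zero]
  have h3 : v ∈ uflag ρ N (r + 1) := by
    rw [mem_uflag_succ]
    intro n hn
    have h4 := hfix ⟨n, hn⟩
    rw [hρ', ← sub_eq_zero, ← map_sub, Submodule.mkQ_apply, Submodule.Quotient.mk_eq_zero] at h4
    exact h4
  have h5 : uflag ρ N r = uflag ρ N (r + 1) := hr (r + 1) (Nat.le_succ r)
  rwa [hE, h5]

/-- The operators moving the socle flag down by `k + 1` steps. -/
def ulow (ρ : Representation K G V) (N : Subgroup G) (k : ℕ) : Submodule K (Module.End K V) :=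
  ⨅ j : ℕ, ⨅ v : uflag ρ N j, (uflag ρ N (j - (k + 1))).comap (LinearMap.applyₗ (v : V))

lemma mem_ulow {ρ : Representation K G V} {N : Subgroup G} {k : ℕ} {X : Module.End K V} :
    X ∈ ulow ρ N k ↔ ∀ j, ∀ v ∈ uflag ρ N j, X v ∈ uflag ρ N (j - (k + 1)) := by
  rw [ulow]
  simp only [Submodule.mem_iInf, Submodule.mem_comap, LinearMap.applyₗ_apply_apply]
  exact ⟨fun h j v hv => h j ⟨v, hv⟩, fun h j v => h j v v.2⟩

end Flag

end Groth.Agent.Sga3B.RG
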