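import Groth.Agent.Sga3B.RG.TorRing
import Groth.Agent.Sga3B.RG.Kolchin

/-!
# Conjugating a finite group of order prime to the characteristic by a unipotent normal subgroup
-/

set_option autoImplicit false

namespace Groth.Agent.Sga3B.RG

open Module

section

variable {K : Type*} [Field K] {G : Type*} [Group G] {V : Type*} [AddCommGroup V] [Module K V]

lemma ulow_left {ρ : Representation K G V} {N : Subgroup G} (hN : N.Normal) (g : G) (k : ℕ) :
    ∀ x ∈ ulow ρ N k, ρ g * x ∈ ulow ρ N k := by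
  intro x hx
  rw [mem_ulow] at hx ⊢
  exact fun j v hv => uflag_stable ρ N hN _ g (hx j v hv)

lemma ulow_right {ρ : Representation K G V} {N : Subgroup G} (hN : N.Normal) (g : G) (k : ℕ) :
    ∀ x ∈ ulow ρ N k, x * ρ g ∈ ulow ρ N k := by
  intro x hx
  rw [mem_ulow] at hx ⊢
  exact fun j v hv => hx j _ (uflag_stable ρ N hN _ g hv)

lemma ulow_anti (ρ : Representation K G V) (N : Subgroup G) (k : ℕ) :
    ulow ρ N (k + 1) ≤ ulow ρ N k := by
  intro x hx
  rw [mem_ulow] at hx ⊢
  exact fun j v hv => uflag_mono ρ N (by omega) (hx j v hv)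

lemma ulow_sq (ρ : Representation K G V) (N : Subgroup G) (k : ℕ) :
    ∀ x ∈ ulow ρ N k, ∀ y ∈ ulow ρ N k, x * y ∈ ulow ρ N (k + 1) := by
  intro x hx y hy
  rw [mem_ulow] at hx hy ⊢
  exact fun j v hv => uflag_mono ρ N (by omega) (hx _ _ (hy j v hv))

lemma ulow_eq_bot {ρ : Representation K G V} {N : Subgroup G} {r : ℕ} (hr : uflag ρ N r = ⊤) :
    ulow ρ N r = ⊥ := by
  rw [eq_bot_iff]
  intro x hx
  rw [mem_ulow] at hx
  rw [Submodule.mem_bot]
  refine LinearMap.ext fun v => ?_
  have h1 := hx r v (by rw [hr]; exact Submodule.mem_top)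
  rw [show r - (r + 1) = 0 by omega, uflag_zero, Submodule.mem_bot] at h1
  exact h1

lemma sub_one_mem_ulow {ρ : Representation K G V} {N : Subgroup G} {g : G} (hg : g ∈ N) :
    ρ g - 1 ∈ ulow ρ N 0 := by
  rw [mem_ulow]
  intro j v hv
  cases j with
  | zero =>
    rw [uflag_zero, Submodule.mem_bot] at hv
    rw [hv, map_zero]
    exact zero_mem _
  | succ j => exact mem_uflag_succ.mp hv g hg

/-- **Averaging**: two homomorphisms `s f : F →* G` from a finite group of order prime to the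
characteristic, which agree modulo a normal subgroup `N` acting by unipotent operators on a faithful
finite-dimensional representation of `G`, are conjugate by an element of `N`, if roots can be
extracted in `N`, "inside the closure of the set of powers". -/
theorem exists_conj_of_rep [IsAlgClosed K] [FiniteDimensional K V] {F : Type*} [Group F] [Finite F]
    (ρ : Representation K G V) (hρ : Function.Injective ρ) (N : Subgroup G) (hNn : N.Normal)
    (hN : ∀ n ∈ N, IsNilpotent (ρ n - 1)) (hm : (Nat.card F : K) ≠ 0)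
    (hroot : ∀ g ∈ N, ∃ h ∈ N, h ^ Nat.card F = g ∧
      ∀ (φ : Dual K V) (v : V), (∀ j : ℕ, φ (ρ (g ^ j) v) = φ v) → φ (ρ h v) = φ v)
    (s f : F →* G) (hsf : ∀ x, (s x)⁻¹ * f x ∈ N) :
    ∃ c ∈ N, ∀ x, c * f x * c⁻¹ = s x := by
  obtain ⟨r, hr⟩ := exists_uflag_eq_top ρ N hN
  refine exists_conj_of_ring N hNn ρ hρ (ulow ρ N) (ulow_left hNn) (ulow_right hNn)
    (ulow_anti ρ N) (ulow_sq ρ N) r (ulow_eq_bot hr) (fun g hg => sub_one_mem_ulow hg) hm ?_ s f hsf
  intro g hg
  obtain ⟨h, hh, h1, h2⟩ := hroot g hg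
  refine ⟨h, hh, h1, fun k hk => ?_⟩
  rw [mem_ulow]
  intro j v hv
  by_contra hne
  obtain ⟨φ, hφ, hle⟩ := Submodule.exists_le_ker_of_notMem hne
  apply hφ
  rw [LinearMap.sub_apply, Module.End.one_apply, map_sub, sub_eq_zero]
  apply h2
  intro i
  rw [← sub_eq_zero, ← map_sub]
  have h3 : g ∈ unipFilt N ρ (ulow ρ N) (ulow_left hNn) k := ⟨hg, hk⟩
  exact hle (mem_ulow.mp (pow_mem h3 i).2 j v hv)

end

end Groth.Agent.Sga3B.RG
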