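import Groth.Agent.Sga3B.RG.Defs
import Mathlib.RingTheory.Bialgebra.MonoidAlgebra
import Mathlib.Algebra.Polynomial.Eval.Defs
import Mathlib.Algebra.Polynomial.Laurent

/-!
# Torus points, cocharacters, and the subgroups `P(λ)`, `U(λ)`, `Z(λ)` on points
-/

set_option autoImplicit false

universe u w

open WithConv TensorProduct Coalgebra
open scoped LaurentPolynomial

namespace Groth.Agent.Sga3B.RG

variable {K : Type u} [Field K] {A : Type u} [CommRing A] [HopfAlgebra K A]

/-- The product of points through a representation of the comultiplication. -/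
lemma Pt.mul_apply_repr (g h : Pt K A) {a : A} {ι : Type*} (r : Coalgebra.Repr K a ι) :
    (g * h) a = ∑ i ∈ r.index, g (r.left i) * h (r.right i) := by
  rw [Pt.mul_apply, ← r.eq, map_sum]
  simp

lemma Pt.mul_apply_sum (g h : Pt K A) {a : A} {ι : Type*} (s : Finset ι) (b c : ι → A)
    (hr : comul (R := K) a = ∑ i ∈ s, b i ⊗ₜ[K] c i) :
    (g * h) a = ∑ i ∈ s, g (b i) * h (c i) := by
  rw [Pt.mul_apply, hr, map_sum]
  simp

section Torus

variable (G : Type) [CommGroup G]

/-- The points of the diagonalizable group with character group `G`. -/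
noncomputable def torPt : (G →* Kˣ) ≃* Pt K (MonoidAlgebra K G) :=
  (show (G →* Kˣ) ≃* (G →* K) from
    { toFun := fun f => (Units.coeHom K).comp f
      invFun := fun f => f.toHomUnits
      left_inv := fun f => by ext; simp
      right_inv := fun f => by ext; simp
      map_mul' := fun f g => by ext; simp }).trans (MonoidAlgebra.liftMulEquiv K K G)

@[simp] lemma torPt_single (t : G →* Kˣ) (m : G) (c : K) :
    (torPt G t : Pt K (MonoidAlgebra K G)) (MonoidAlgebra.single m c) = c * (t m : K) := by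
  simp [torPt, MonoidAlgebra.liftMulEquiv, MonoidAlgebra.lift_single]

end Torus

lemma lift_T (F : Multiplicative ℤ →* K) (n : ℤ) :
    AddMonoidAlgebra.lift K K ℤ F (LaurentPolynomial.T n) = F (Multiplicative.ofAdd n) := by
  have := AddMonoidAlgebra.lift_single (R := K) (A := K) F n (1 : K)
  rw [one_smul] at this
  exact this

lemma algHom_laurent_ext {f g : K[T;T⁻¹] →ₐ[K] K}
    (h : ∀ n : ℤ, f (LaurentPolynomial.T n) = g (LaurentPolynomial.T n)) : f = g := by
  apply AddMonoidAlgebra.algHom_ext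
  · exact h
  · exact AlgHom.ext fun x => by
      change f (algebraMap K K[T;T⁻¹] x) = g (algebraMap K K[T;T⁻¹] x)
      rw [AlgHom.commutes, AlgHom.commutes]

/-- The points of `𝔾_m`. -/
noncomputable def gmPt : Kˣ →* Pt K K[T;T⁻¹] where
  toFun t := toConv (AddMonoidAlgebra.lift K K ℤ ((Units.coeHom K).comp (zpowersHom Kˣ t)))
  map_one' := by
    apply WithConv.ofConv_injective
    apply algHom_laurent_ext
    intro n
    rw [ofConv_toConv, lift_T]
    simp [AlgHom.convOne_def]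
  map_mul' s t := by
    apply WithConv.ofConv_injective
    apply algHom_laurent_ext
    intro n
    rw [ofConv_toConv, lift_T]
    have := AddMonoidAlgebra.convMul_algHom_single_one (R := K) (A := K)
      (toConv (AddMonoidAlgebra.lift K K ℤ ((Units.coeHom K).comp (zpowersHom Kˣ s))))
      (toConv (AddMonoidAlgebra.lift K K ℤ ((Units.coeHom K).comp (zpowersHom Kˣ t)))) n
    refine Eq.trans ?_ this.symm
    change _ = AddMonoidAlgebra.lift K K ℤ _ (LaurentPolynomial.T n) *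
      AddMonoidAlgebra.lift K K ℤ _ (LaurentPolynomial.T n)
    rw [lift_T, lift_T]
    simp [mul_zpow]

@[simp] lemma gmPt_T (t : Kˣ) (n : ℤ) :
    (gmPt t : Pt K K[T;T⁻¹]) (LaurentPolynomial.T n) = ((t ^ n : Kˣ) : K) := by
  change AddMonoidAlgebra.lift K K ℤ _ (LaurentPolynomial.T n) = _
  rw [lift_T]
  simp

/-- The one-parameter family of points attached to a cocharacter. -/
noncomputable def cochPt (lam : A →ₐc[K] K[T;T⁻¹]) : Kˣ →* Pt K A :=
  (Pt.map lam).comp gmPt

lemma cochPt_apply (lam : A →ₐc[K] K[T;T⁻¹]) (t : Kˣ) (a : A) :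
    (cochPt lam t) a = (gmPt t : Pt K K[T;T⁻¹]) (lam a) := rfl

/-- `P(λ)` on points: `t ↦ λ(t) g λ(t)⁻¹` extends over `t = 0`. -/
noncomputable def Psub (lam : A →ₐc[K] K[T;T⁻¹]) : Subgroup (Pt K A) where
  carrier := {g | ∀ a : A, ∃ p : Polynomial K, ∀ t : Kˣ,
    (cochPt lam t * g * (cochPt lam t)⁻¹) a = p.eval (t : K)}
  mul_mem' := by
    intro g h hg hh a
    choose p hp using hg
    choose q hq using hh
    refine ⟨∑ i ∈ (ℛ K a).index, p ((ℛ K a).left i) * q ((ℛ K a).right i), fun t => ?_⟩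
    have : cochPt lam t * (g * h) * (cochPt lam t)⁻¹ =
        (cochPt lam t * g * (cochPt lam t)⁻¹) * (cochPt lam t * h * (cochPt lam t)⁻¹) := by group
    rw [this, Pt.mul_apply_repr _ _ (ℛ K a), Polynomial.eval_finsetSum]
    exact Finset.sum_congr rfl fun i _ => by rw [hp, hq, Polynomial.eval_mul]
  one_mem' := by
    intro a
    refine ⟨Polynomial.C (counit (R := K) a), fun t => ?_⟩
    rw [mul_one, mul_inv_cancel, Pt.one_apply, Polynomial.eval_C]
  inv_mem' := by
    intro g hg a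
    obtain ⟨p, hp⟩ := hg (HopfAlgebra.antipode K a)
    refine ⟨p, fun t => ?_⟩
    have : cochPt lam t * g⁻¹ * (cochPt lam t)⁻¹ = (cochPt lam t * g * (cochPt lam t)⁻¹)⁻¹ := by
      group
    rw [this, Pt.inv_apply, hp]

lemma mem_Psub {lam : A →ₐc[K] K[T;T⁻¹]} {g : Pt K A} : g ∈ Psub lam ↔ ∀ a : A,
    ∃ p : Polynomial K, ∀ t : Kˣ, (cochPt lam t * g * (cochPt lam t)⁻¹) a = p.eval (t : K) :=
  Iff.rfl

/-- `U(λ)` on points: `λ(t) g λ(t)⁻¹` tends to `1` as `t` tends to `0`. -/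
noncomputable def Usub (lam : A →ₐc[K] K[T;T⁻¹]) : Subgroup (Pt K A) where
  carrier := {g | ∀ a : A, ∃ p : Polynomial K, p.eval 0 = counit (R := K) a ∧ ∀ t : Kˣ,
    (cochPt lam t * g * (cochPt lam t)⁻¹) a = p.eval (t : K)}
  mul_mem' := by
    intro g h hg hh a
    choose p hp0 hp using hg
    choose q hq0 hq using hh
    refine ⟨∑ i ∈ (ℛ K a).index, p ((ℛ K a).left i) * q ((ℛ K a).right i), ?_, fun t => ?_⟩
    · rw [Polynomial.eval_finsetSum]
      simp_rw [Polynomial.eval_mul, hp0, hq0]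
      have h1 : ((1 : Pt K A) * 1) a = (1 : Pt K A) a := by rw [one_mul]
      rw [Pt.mul_apply_repr _ _ (ℛ K a), Pt.one_apply] at h1
      simp_rw [Pt.one_apply] at h1
      exact h1
    · have : cochPt lam t * (g * h) * (cochPt lam t)⁻¹ =
          (cochPt lam t * g * (cochPt lam t)⁻¹) * (cochPt lam t * h * (cochPt lam t)⁻¹) := by group
      rw [this, Pt.mul_apply_repr _ _ (ℛ K a), Polynomial.eval_finsetSum]
      exact Finset.sum_congr rfl fun i _ => by rw [hp, hq, Polynomial.eval_mul]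
  one_mem' := by
    intro a
    refine ⟨Polynomial.C (counit (R := K) a), Polynomial.eval_C, fun t => ?_⟩
    rw [mul_one, mul_inv_cancel, Pt.one_apply, Polynomial.eval_C]
  inv_mem' := by
    intro g hg a
    obtain ⟨p, hp0, hp⟩ := hg (HopfAlgebra.antipode K a)
    refine ⟨p, ?_, fun t => ?_⟩
    · rw [hp0]
      have h1 : ((1 : Pt K A)⁻¹) a = (1 : Pt K A) a := by rw [inv_one]
      rw [Pt.inv_apply, Pt.one_apply, Pt.one_apply] at h1
      exact h1
    · have : cochPt lam t * g⁻¹ * (cochPt lam t)⁻¹ = (cochPt lam t * g * (cochPt lam t)⁻¹)⁻¹ := by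
        group
      rw [this, Pt.inv_apply, hp]

lemma mem_Usub {lam : A →ₐc[K] K[T;T⁻¹]} {g : Pt K A} : g ∈ Usub lam ↔ ∀ a : A,
    ∃ p : Polynomial K, p.eval 0 = counit (R := K) a ∧
      ∀ t : Kˣ, (cochPt lam t * g * (cochPt lam t)⁻¹) a = p.eval (t : K) :=
  Iff.rfl

/-- `Z(λ)` on points: the centralizer of `λ`. -/
noncomputable def Zsub (lam : A →ₐc[K] K[T;T⁻¹]) : Subgroup (Pt K A) :=
  Subgroup.centralizer (Set.range (cochPt lam))

lemma mem_Zsub {lam : A →ₐc[K] K[T;T⁻¹]} {g : Pt K A} :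
    g ∈ Zsub lam ↔ ∀ t : Kˣ, cochPt lam t * g = g * cochPt lam t := by
  rw [Zsub, Subgroup.mem_centralizer_iff]
  simp

/-- The opposite cocharacter. -/
noncomputable def invCoch (lam : A →ₐc[K] K[T;T⁻¹]) : A →ₐc[K] K[T;T⁻¹] :=
  (AddMonoidAlgebra.mapDomainBialgHom K (-(AddMonoidHom.id ℤ))).comp lam

lemma cochPt_invCoch (lam : A →ₐc[K] K[T;T⁻¹]) (t : Kˣ) :
    cochPt (invCoch lam) t = (cochPt lam t)⁻¹ := by
  rw [← map_inv]
  apply Pt.ext'
  intro a
  rw [cochPt_apply, cochPt_apply]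
  change (gmPt t : Pt K K[T;T⁻¹]) (AddMonoidAlgebra.mapDomainBialgHom K (-(AddMonoidHom.id ℤ)) (lam a)) = _
  generalize lam a = p
  have : ((gmPt t : Pt K K[T;T⁻¹]).ofConv.comp
      (AddMonoidAlgebra.mapDomainBialgHom K (-(AddMonoidHom.id ℤ)) : K[T;T⁻¹] →ₐ[K] K[T;T⁻¹])) =
      (gmPt t⁻¹ : Pt K K[T;T⁻¹]).ofConv := by
    apply algHom_laurent_ext
    intro n
    have h1 : (AddMonoidAlgebra.mapDomainBialgHom K (-(AddMonoidHom.id ℤ)) :
        K[T;T⁻¹] →ₐ[K] K[T;T⁻¹]) (LaurentPolynomial.T n) = LaurentPolynomial.T (-n) :=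
      AddMonoidAlgebra.mapDomainBialgHom_single (-(AddMonoidHom.id ℤ)) n (1 : K)
    rw [AlgHom.comp_apply, h1]
    refine (gmPt_T t (-n)).trans ?_
    refine Eq.trans ?_ (gmPt_T t⁻¹ n).symm
    simp
  exact congr($this p)

end Groth.Agent.Sga3B.RG
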