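import Groth.Agent.Sga3B.RG.Closed
import Groth.Agent.Sga3B.RG.Coch
import Mathlib.RingTheory.Polynomial.Pochhammer
import Mathlib.Algebra.CharP.Lemmas
import Mathlib.GroupTheory.OrderOfElement
import Mathlib.Algebra.CharP.Algebra

/-!
# Extracting roots of unipotent points
-/

set_option autoImplicit false

universe u w

open WithConv TensorProduct Coalgebra

namespace Groth.Agent.Sga3B.RG

variable {K : Type u} [Field K] {A : Type u} [CommRing A] [HopfAlgebra K A]

lemma pt_rTr_pow (g x : Pt K A) (j : ℕ) (a : A) :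
    x (((rTr g).toLinearMap ^ j) a) = (x * g ^ j) a := by
  induction j generalizing a with
  | zero => simp
  | succ j ih =>
    rw [pow_succ, Module.End.mul_apply, ih]
    have := rTr_apply_pt g (x * g ^ j) a
    rw [pow_succ, ← mul_assoc, ← this]
    rfl

lemma pow_apply_eq_sum (g : Pt K A) {a : A} {n : ℕ} (hn : (((rTr g).toLinearMap - 1) ^ n) a = 0)
    (j : ℕ) : (g ^ j) a =
      ∑ i ∈ Finset.range n, (j.choose i : K) * (1 : Pt K A) ((((rTr g).toLinearMap - 1) ^ i) a) := by
  have h0 : (g ^ j) a = (1 : Pt K A) (((rTr g).toLinearMap ^ j) a) := by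
    rw [pt_rTr_pow, one_mul]
  set L := (rTr g).toLinearMap with hL
  have h1 : L ^ j = ∑ i ∈ Finset.range (j + 1), (j.choose i) • (L - 1) ^ i := by
    have := (Commute.one_right (L - 1)).add_pow j
    rw [sub_add_cancel] at this
    rw [this]
    refine Finset.sum_congr rfl fun i _ => ?_
    rw [one_pow, mul_one, nsmul_eq_mul, Nat.cast_comm]
  have h2 : (L ^ j) a = ∑ i ∈ Finset.range n, (j.choose i) • ((L - 1) ^ i) a := by
    rw [h1, LinearMap.sum_apply]
    have hz : ∀ i, n ≤ i → ((L - 1) ^ i) a = 0 := by
      intro i hi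
      rw [← Nat.sub_add_cancel hi, pow_add, Module.End.mul_apply, hn, map_zero]
    rcases le_total (j + 1) n with h | h
    · rw [← Finset.sum_subset (Finset.range_mono h)]
      · rfl
      · intro i _ hi
        rw [Finset.mem_range, not_lt] at hi
        rw [Nat.choose_eq_zero_of_lt (by omega), zero_smul]
    · rw [← Finset.sum_subset (Finset.range_mono h)]
      · rfl
      · intro i _ hi
        rw [Finset.mem_range, not_lt] at hi
        change (j.choose i) • ((L - 1) ^ i) a = 0
        rw [hz i hi, smul_zero]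
  rw [h0, h2]
  change (1 : Pt K A).ofConv _ = _
  rw [map_sum]
  refine Finset.sum_congr rfl fun i _ => ?_
  rw [map_nsmul, nsmul_eq_mul]

/-- In characteristic zero a function on the powers of a unipotent point is a polynomial. -/
lemma exists_poly_of_isUnip [CharZero K] {g : Pt K A} (hg : IsUnip g) (a : A) :
    ∃ q : Polynomial K, ∀ j : ℕ, (g ^ j) a = q.eval (j : K) := by
  obtain ⟨n, hn⟩ := hg a
  refine ⟨∑ i ∈ Finset.range n, Polynomial.C ((i.factorial : K)⁻¹ *
    (1 : Pt K A) ((((rTr g).toLinearMap - 1) ^ i) a)) * descPochhammer K i, fun j => ?_⟩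
  rw [pow_apply_eq_sum g hn, Polynomial.eval_finsetSum]
  refine Finset.sum_congr rfl fun i _ => ?_
  rw [Polynomial.eval_mul, Polynomial.eval_C, descPochhammer_eval_eq_descFactorial,
    Nat.descFactorial_eq_factorial_mul_choose, Nat.cast_mul]
  have : (i.factorial : K) ≠ 0 := by exact_mod_cast Nat.factorial_ne_zero i
  field_simp

lemma poly_ext_nat [CharZero K] {p q : Polynomial K}
    (h : ∀ j : ℕ, p.eval (j : K) = q.eval (j : K)) : p = q := by
  apply Polynomial.eq_of_infinite_eval_eq
  exact Set.infinite_of_injective_forall_mem (f := fun j : ℕ => (j : K)) Nat.cast_injective h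

section CharZero

variable [CharZero K]

/-- The algebra map `A → K[s]` given by a unipotent point. -/
noncomputable def unipHom {g : Pt K A} (hg : IsUnip g) : A →ₐ[K] Polynomial K where
  toFun a := (exists_poly_of_isUnip hg a).choose
  map_one' := by
    apply poly_ext_nat
    intro j
    rw [← (exists_poly_of_isUnip hg 1).choose_spec j, Polynomial.eval_one]
    exact map_one (g ^ j).ofConv
  map_mul' a b := by
    apply poly_ext_nat
    intro j
    rw [Polynomial.eval_mul, ← (exists_poly_of_isUnip hg _).choose_spec j,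
      ← (exists_poly_of_isUnip hg _).choose_spec j, ← (exists_poly_of_isUnip hg _).choose_spec j]
    exact map_mul (g ^ j).ofConv a b
  map_zero' := by
    apply poly_ext_nat
    intro j
    rw [← (exists_poly_of_isUnip hg 0).choose_spec j, Polynomial.eval_zero]
    exact map_zero (g ^ j).ofConv
  map_add' a b := by
    apply poly_ext_nat
    intro j
    rw [Polynomial.eval_add, ← (exists_poly_of_isUnip hg _).choose_spec j,
      ← (exists_poly_of_isUnip hg _).choose_spec j, ← (exists_poly_of_isUnip hg _).choose_spec j]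
    exact map_add (g ^ j).ofConv a b
  commutes' c := by
    apply poly_ext_nat
    intro j
    rw [← (exists_poly_of_isUnip hg _).choose_spec j, Polynomial.algebraMap_apply,
      Polynomial.eval_C, Algebra.algebraMap_self_apply]
    exact (g ^ j).ofConv.commutes c

lemma unipHom_eval {g : Pt K A} (hg : IsUnip g) (a : A) (j : ℕ) :
    (unipHom hg a).eval (j : K) = (g ^ j) a :=
  ((exists_poly_of_isUnip hg a).choose_spec j).symm

/-- The point `g ^ s` for a unipotent point `g`, in characteristic zero. -/
noncomputable def unipPt {g : Pt K A} (hg : IsUnip g) (s : K) : Pt K A :=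
  toConv ((Polynomial.aeval s).comp (unipHom hg))

lemma unipPt_apply {g : Pt K A} (hg : IsUnip g) (s : K) (a : A) :
    (unipPt hg s) a = (unipHom hg a).eval s := by
  change Polynomial.aeval s (unipHom hg a) = _
  rw [Polynomial.coe_aeval_eq_eval]

lemma unipPt_natCast {g : Pt K A} (hg : IsUnip g) (j : ℕ) : unipPt hg (j : K) = g ^ j := by
  apply Pt.ext'
  intro a
  rw [unipPt_apply, unipHom_eval]

lemma unipPt_mul {g : Pt K A} (hg : IsUnip g) (s t : K) :
    unipPt hg s * unipPt hg t = unipPt hg (s + t) := by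
  apply Pt.ext'
  intro a
  have h1 : ∀ s t : K, (unipPt hg s * unipPt hg t) a = ∑ i ∈ (ℛ K a).index,
      (unipHom hg ((ℛ K a).left i)).eval s * (unipHom hg ((ℛ K a).right i)).eval t := by
    intro s t
    rw [Pt.mul_apply_repr _ _ (ℛ K a)]
    simp only [unipPt_apply]
  have h2 : ∀ (k : ℕ) (s : K), (unipPt hg s * unipPt hg (k : K)) a = (unipPt hg (s + k)) a := by
    intro k s
    have h3 : (∑ i ∈ (ℛ K a).index, unipHom hg ((ℛ K a).left i) *
        Polynomial.C ((unipHom hg ((ℛ K a).right i)).eval (k : K))) =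
        (unipHom hg a).comp (Polynomial.X + Polynomial.C (k : K)) := by
      apply poly_ext_nat
      intro j
      rw [Polynomial.eval_finsetSum]
      simp only [Polynomial.eval_mul, Polynomial.eval_C]
      rw [← h1, unipPt_natCast, unipPt_natCast, ← pow_add, ← unipPt_natCast hg, unipPt_apply,
        Polynomial.eval_comp]
      simp
    have h4 := congrArg (Polynomial.eval s) h3
    rw [Polynomial.eval_finsetSum] at h4
    simp only [Polynomial.eval_mul, Polynomial.eval_C] at h4
    rw [h1, h4, unipPt_apply, Polynomial.eval_comp]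
    simp
  have h3 : (∑ i ∈ (ℛ K a).index, Polynomial.C ((unipHom hg ((ℛ K a).left i)).eval s) *
      unipHom hg ((ℛ K a).right i)) = (unipHom hg a).comp (Polynomial.C s + Polynomial.X) := by
    apply poly_ext_nat
    intro j
    rw [Polynomial.eval_finsetSum]
    simp only [Polynomial.eval_mul, Polynomial.eval_C]
    rw [← h1, h2, unipPt_apply, Polynomial.eval_comp]
    simp
  have h4 := congrArg (Polynomial.eval t) h3
  rw [Polynomial.eval_finsetSum] at h4
  simp only [Polynomial.eval_mul, Polynomial.eval_C] at h4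
  rw [h1, h4, unipPt_apply, Polynomial.eval_comp]
  simp

lemma unipPt_pow {g : Pt K A} (hg : IsUnip g) (s : K) (m : ℕ) :
    unipPt hg s ^ m = unipPt hg (m * s) := by
  induction m with
  | zero =>
    have := unipPt_natCast hg 0
    rw [pow_zero] at this
    rw [pow_zero, ← this, Nat.cast_zero, zero_mul]
  | succ m ih => rw [pow_succ, ih, unipPt_mul, Nat.cast_succ, add_mul, one_mul]

lemma exists_root_of_charZero {g : Pt K A} (hg : IsUnip g) {m : ℕ} (hm : (m : K) ≠ 0) :
    ∃ h : Pt K A, h ^ m = g ∧ ∀ a : A, (∀ j : ℕ, (g ^ j) a = 0) → h a = 0 := by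
  refine ⟨unipPt hg ((m : K)⁻¹), ?_, fun a ha => ?_⟩
  · have := unipPt_natCast hg 1
    rw [unipPt_pow, mul_inv_cancel₀ hm, ← Nat.cast_one, this, pow_one]
  · have : unipHom hg a = 0 := by
      apply poly_ext_nat
      intro j
      rw [unipHom_eval, ha, Polynomial.eval_zero]
    rw [unipPt_apply, this, Polynomial.eval_zero]

end CharZero

section CharP

lemma pt_eq_one_of_rTr {g : Pt K A} (h : ∀ a, rTr g a = a) : g = 1 := by
  apply Pt.ext'
  intro a
  have := rTr_apply_pt g 1 a
  rw [h, one_mul] at this
  exact this.symm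

/-- In characteristic `p` a unipotent point has `p`-power order. -/
lemma exists_pow_eq_one [Algebra.FiniteType K A] (p : ℕ) [Fact p.Prime] [CharP K p] {g : Pt K A}
    (hg : IsUnip g) : ∃ e : ℕ, g ^ p ^ e = 1 := by
  obtain ⟨s, hs⟩ := (inferInstance : Algebra.FiniteType K A).out
  choose n hn using hg
  have he := Nat.lt_pow_self (n := s.sup n) (Nat.Prime.one_lt (Fact.out : p.Prime))
  set e := s.sup n with hedef
  refine ⟨e, ?_⟩
  have key : ∀ a ∈ s, ((rTr g).toLinearMap ^ p ^ e) a = a := by
    intro a ha
    have h1 : (((rTr g).toLinearMap - 1) ^ p ^ e) a = 0 := by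
      have h2 : n a ≤ p ^ e := (hedef ▸ Finset.le_sup ha : n a ≤ e).trans he.le
      rw [← Nat.sub_add_cancel h2, pow_add, Module.End.mul_apply, hn, map_zero]
    have hnt : Nontrivial A := ⟨1, 0, fun h => by
      have := congrArg (counit (R := K)) h
      simp at this⟩
    have hch : CharP (Module.End K A) p := charP_of_injective_algebraMap
      (algebraMap K (Module.End K A)).injective p
    rw [sub_pow_char_pow_of_commute _ _ (Commute.one_right _), one_pow, LinearMap.sub_apply,
      sub_eq_zero] at h1
    exact h1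
  have h2 : ∀ a : A, (g ^ p ^ e) a = (1 : Pt K A) a := by
    have h3 : (g ^ p ^ e).ofConv = (1 : Pt K A).ofConv := by
      apply AlgHom.ext_of_adjoin_eq_top hs
      intro a ha
      have := pt_rTr_pow g 1 (p ^ e) a
      rw [key a ha, one_mul] at this
      exact this.symm
    intro a
    exact congr($h3 a)
  exact Pt.ext' h2

lemma exists_root_of_charP [Algebra.FiniteType K A] (p : ℕ) [Fact p.Prime] [CharP K p]
    {g : Pt K A} (hg : IsUnip g) {m : ℕ} (hm : (m : K) ≠ 0) :
    ∃ h : Pt K A, h ^ m = g ∧ ∀ a : A, (∀ j : ℕ, (g ^ j) a = 0) → h a = 0 := by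
  obtain ⟨e, he⟩ := exists_pow_eq_one p hg
  have hcop : Nat.Coprime m (p ^ e) := by
    apply Nat.Coprime.pow_right
    rw [Nat.coprime_comm, Nat.Prime.coprime_iff_not_dvd Fact.out]
    rwa [Ne, CharP.cast_eq_zero_iff K p] at hm
  obtain ⟨b, hb⟩ := exists_pow_eq_self_of_coprime (x := g) (n := m)
    (hcop.coprime_dvd_right (orderOf_dvd_of_pow_eq_one he))
  exact ⟨g ^ b, by rw [← pow_mul, mul_comm, pow_mul, hb], fun a ha => ha b⟩

end CharP

/-- **Roots of unipotent points**: a unipotent point has an `m`-th root in the closure of the set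
of its powers, when `m` is prime to the characteristic. -/
theorem exists_root_of_isUnip [Algebra.FiniteType K A] {g : Pt K A} (hg : IsUnip g) {m : ℕ}
    (hm : (m : K) ≠ 0) :
    ∃ h : Pt K A, h ^ m = g ∧ ∀ a : A, (∀ j : ℕ, (g ^ j) a = 0) → h a = 0 := by
  obtain ⟨p, hp⟩ := CharP.exists K
  rcases CharP.char_is_prime_or_zero K p with h | h
  · have : Fact p.Prime := ⟨h⟩
    exact exists_root_of_charP p hg hm
  · subst h
    have : CharZero K := CharP.charP_to_charZero K
    exact exists_root_of_charZero hg hm

end Groth.Agent.Sga3B.RG
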