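import Groth.Agent.Sga3B.RG.FaithRep
import Groth.Agent.Sga3B.RG.UnipRoot
import Groth.Agent.Sga3B.RG.TorRep
import Mathlib.RingTheory.RootsOfUnity.AlgebraicallyClosed
import Mathlib.LinearAlgebra.LinearIndependent.Lemmas

/-!
# Conjugacy of tori in `S ⋉ N`, `N` unipotent
-/

set_option autoImplicit false

universe u w

open WithConv TensorProduct Coalgebra

namespace Groth.Agent.Sga3B.RG

variable {K : Type u} [Field K] {A : Type u} [CommRing A] [HopfAlgebra K A]

section Reg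

/-- Regular self-maps of the set of points. -/
def IsRegSelf (φ : Pt K A → Pt K A) : Prop := ∀ a : A, ∃ b : A, ∀ g, (φ g) a = g b

lemma IsRegSelf.id : IsRegSelf (fun g : Pt K A => g) := fun a => ⟨a, fun _ => rfl⟩

lemma IsRegSelf.const (x : Pt K A) : IsRegSelf (fun _ : Pt K A => x) := fun a =>
  ⟨algebraMap K A (x a), fun g => (g.ofConv.commutes (x a)).symm⟩

lemma IsRegSelf.inv {φ : Pt K A → Pt K A} (h : IsRegSelf φ) : IsRegSelf (fun g => (φ g)⁻¹) := by
  intro a
  obtain ⟨b, hb⟩ := h (HopfAlgebra.antipode K a)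
  exact ⟨b, fun g => by rw [← hb, Pt.inv_apply]⟩

lemma IsRegSelf.mul {φ ψ : Pt K A → Pt K A} (h : IsRegSelf φ) (h' : IsRegSelf ψ) :
    IsRegSelf (fun g => φ g * ψ g) := by
  intro a
  choose p hp using h
  choose q hq using h'
  refine ⟨∑ i ∈ (ℛ K a).index, p ((ℛ K a).left i) * q ((ℛ K a).right i), fun g => ?_⟩
  rw [Pt.mul_apply_repr _ _ (ℛ K a)]
  change _ = g.ofConv _
  rw [map_sum]
  refine Finset.sum_congr rfl fun i _ => ?_
  rw [map_mul, hp, hq]

lemma IsRegSelf.conj (x : Pt K A) : IsRegSelf (fun g : Pt K A => g * x * g⁻¹) :=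
  (IsRegSelf.id.mul (IsRegSelf.const x)).mul IsRegSelf.id.inv

lemma IsRegSelf.conj' (x : Pt K A) : IsRegSelf (fun g : Pt K A => x * g * x⁻¹) :=
  ((IsRegSelf.const x).mul IsRegSelf.id).mul (IsRegSelf.const x).inv

lemma IsCl.preimage_self {H : Set (Pt K A)} (hH : IsCl H) {φ : Pt K A → Pt K A} (hφ : IsRegSelf φ) :
    IsCl (φ ⁻¹' H) := by
  intro g hg
  apply hH
  intro a ha
  obtain ⟨b, hb⟩ := hφ a
  rw [hb]
  apply hg
  intro h hh
  rw [← hb]
  exact ha _ hh

end Reg

section Main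

variable [IsAlgClosed K] [Algebra.FiniteType K A] [IsReduced A]

/-- **Conjugacy of finite subgroups.** Let `G = S ⋉ N` be a group of points with `N` closed
unipotent.  A finite subgroup of `G` of order prime to the characteristic is conjugate into `S` by
an element of `N`. -/
theorem exists_conj_of_finite {G N S : Subgroup (Pt K A)} (hNG : N ≤ G)
    (hGN : G ≤ Subgroup.normalizer (N : Set (Pt K A))) (hN : IsCl (N : Set (Pt K A)))
    (hNu : ∀ g ∈ N, IsUnip g) (hSG : S ≤ G) (hSN : S ⊓ N = ⊥)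
    (hG : ∀ g ∈ G, ∃ s ∈ S, s⁻¹ * g ∈ N)
    (F : Subgroup (Pt K A)) [Finite F] (hF : F ≤ G) (hm : (Nat.card F : K) ≠ 0) :
    ∃ c ∈ N, ∀ x ∈ F, c * x * c⁻¹ ∈ S := by
  obtain ⟨W, hWfd, hW, hgen⟩ := exists_generating_stable K A
  let ρ : Representation K G W := (subRTr W hW).comp G.subtype
  have hρ : Function.Injective ρ := (subRTr_injective hW hgen).comp G.subtype_injective
  have hnorm : ∀ g ∈ G, ∀ n ∈ N, g * n * g⁻¹ ∈ N := fun g hg n hn =>
    (Subgroup.mem_normalizer_iff.mp (hGN hg) n).mp hn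
  have hN' : (N.subgroupOf G).Normal := ⟨fun n hn g => hnorm g g.2 n hn⟩
  choose! s hsS hsN using hG
  have hmul : ∀ x ∈ G, ∀ y ∈ G, s (x * y) = s x * s y := by
    intro x hx y hy
    have h1 : (s x * s y)⁻¹ * (x * y) ∈ N := by
      have h2 := hnorm (s y)⁻¹ (inv_mem (hSG (hsS y hy))) _ (hsN x hx)
      have h3 := mul_mem h2 (hsN y hy)
      convert h3 using 1
      group
    have h2 : (s x * s y)⁻¹ * s (x * y) ∈ S ⊓ N := by
      refine Subgroup.mem_inf.mpr
        ⟨mul_mem (inv_mem (mul_mem (hsS x hx) (hsS y hy))) (hsS _ (mul_mem hx hy)), ?_⟩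
      have h3 := mul_mem h1 (inv_mem (hsN (x * y) (mul_mem hx hy)))
      convert h3 using 1
      group
    rw [hSN, Subgroup.mem_bot, inv_mul_eq_one] at h2
    exact h2.symm
  let sh : F →* G := MonoidHom.mk' (fun x => ⟨s x, hSG (hsS x (hF x.2))⟩) (by
    intro x y
    apply Subtype.ext
    exact hmul x (hF x.2) y (hF y.2))
  let fh : F →* G := Subgroup.inclusion hF
  obtain ⟨c, hc, h⟩ := exists_conj_of_rep ρ hρ (N.subgroupOf G) hN'
    (fun n hn => isNilpotent_subRTr hW (hNu _ hn)) hm (by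
      intro g hg
      obtain ⟨h, h1, h2⟩ := exists_root_of_isUnip (hNu _ hg) hm
      have hh : h ∈ N := hN fun a ha => h2 a fun j => ha _ (pow_mem hg j)
      refine ⟨⟨h, hNG hh⟩, hh, Subtype.ext h1, fun φ v hφ => ?_⟩
      obtain ⟨b, hb⟩ := isAlg_subRTr hW φ v
      have h3 := h2 (b - algebraMap K A (φ v)) (fun j => by
        have h4 : ((g : Pt K A) ^ j) b = φ v := by
          rw [← hb]
          exact hφ j
        change ((g : Pt K A) ^ j).ofConv (b - algebraMap K A (φ v)) = 0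
        rw [map_sub, AlgHom.commutes, sub_eq_zero]
        exact h4)
      change h.ofConv (b - algebraMap K A (φ v)) = 0 at h3
      rw [map_sub, AlgHom.commutes, sub_eq_zero] at h3
      exact (hb h).trans h3)
    sh fh (fun x => hsN x (hF x.2))
  refine ⟨c, hc, fun x hx => ?_⟩
  have h1 := congrArg Subtype.val (h ⟨x, hx⟩)
  change (c : Pt K A) * x * (c : Pt K A)⁻¹ = s x at h1
  rw [h1]
  exact hsS x (hF hx)

/-- An increasing union of finite subgroups of order prime to the characteristic. -/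
theorem exists_conj_of_chain {G N S : Subgroup (Pt K A)} (hNG : N ≤ G)
    (hGN : G ≤ Subgroup.normalizer (N : Set (Pt K A))) (hN : IsCl (N : Set (Pt K A)))
    (hNu : ∀ g ∈ N, IsUnip g) (hSG : S ≤ G) (hS : IsCl (S : Set (Pt K A))) (hSN : S ⊓ N = ⊥)
    (hG : ∀ g ∈ G, ∃ s ∈ S, s⁻¹ * g ∈ N)
    (F : ℕ → Subgroup (Pt K A)) (hfin : ∀ i, Finite (F i)) (hmono : Monotone F)
    (hF : ∀ i, F i ≤ G) (hm : ∀ i, (Nat.card (F i) : K) ≠ 0)
    (T : Set (Pt K A)) (hT : ∀ a : A, (∀ i, ∀ x ∈ F i, x a = 0) → ∀ x ∈ T, x a = 0) :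
    ∃ c ∈ N, ∀ x ∈ T, c * x * c⁻¹ ∈ S := by
  let B : ℕ → Set (Pt K A) := fun i => (N : Set (Pt K A)) ∩
    ⋂ x : F i, (fun g : Pt K A => g * x * g⁻¹) ⁻¹' (S : Set (Pt K A))
  have hB : ∀ i, IsCl (B i) := fun i =>
    hN.inter (isCl_iInter fun x => hS.preimage_self (IsRegSelf.conj _))
  have hmem : ∀ i c, c ∈ B i ↔ c ∈ N ∧ ∀ x ∈ F i, c * x * c⁻¹ ∈ S := by
    intro i c
    simp only [B, Set.mem_inter_iff, Set.mem_iInter, Set.mem_preimage, SetLike.mem_coe]
    exact and_congr_right fun _ => ⟨fun h x hx => h ⟨x, hx⟩, fun h x => h x x.2⟩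
  have hanti : ∀ i j, i ≤ j → B j ⊆ B i := by
    intro i j hij c hc
    rw [hmem] at hc ⊢
    exact ⟨hc.1, fun x hx => hc.2 x (hmono hij hx)⟩
  have : IsNoetherianRing A := Algebra.FiniteType.isNoetherianRing K A
  obtain ⟨n, hn⟩ := monotone_stabilizes_iff_noetherian.mpr
    (inferInstance : IsNoetherian A A) ⟨fun i => vanIdeal (B i), fun i j hij =>
      vanIdeal_anti (hanti i j hij)⟩
  have hfi := hfin n
  obtain ⟨c, hc, h⟩ := exists_conj_of_finite hNG hGN hN hNu hSG hSN hG (F n) (hF n) (hm n)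
  refine ⟨c, hc, fun x hx => ?_⟩
  have hcB : ∀ i, c ∈ B i := by
    intro i
    have h1 : c ∈ B n := (hmem n c).mpr ⟨hc, h⟩
    rcases le_total i n with hi | hi
    · exact hanti i n hi h1
    · rw [← (hB n).ext (hB i) (hn i hi)]
      exact h1
  have hcl : IsCl ((fun g : Pt K A => c * g * c⁻¹) ⁻¹' (S : Set (Pt K A))) :=
    hS.preimage_self (IsRegSelf.conj' c)
  exact hcl fun a ha => hT a (fun i y hy => ha y (((hmem i c).mp (hcB i)).2 y hy)) x hx

end Main

section TorusTorsion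

variable (K) in
lemma exists_prime_ne_zero : ∃ l : ℕ, l.Prime ∧ (l : K) ≠ 0 := by
  by_cases h : ((2 : ℕ) : K) = 0
  · refine ⟨3, Nat.prime_three, fun h3 => one_ne_zero (α := K) ?_⟩
    have : (1 : K) = ((3 : ℕ) : K) - ((2 : ℕ) : K) := by push_cast; norm_num
    rw [this, h, h3, sub_zero]
  · exact ⟨2, Nat.prime_two, h⟩

/-- The `m`-torsion of the group of homomorphisms `ℤ ^ n → Kˣ`. -/
def torsHom (K : Type u) [Field K] (n m : ℕ) : Subgroup (Multiplicative (Fin n → ℤ) →* Kˣ) where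
  carrier := {t | ∀ x, t x ^ m = 1}
  mul_mem' := by
    intro a b ha hb x
    rw [MonoidHom.mul_apply, mul_pow, ha, hb, one_mul]
  one_mem' := fun x => by rw [MonoidHom.one_apply, one_pow]
  inv_mem' := by
    intro a ha x
    rw [MonoidHom.inv_apply, inv_pow, ha, inv_one]

lemma mem_torsHom {n m : ℕ} {t : Multiplicative (Fin n → ℤ) →* Kˣ} :
    t ∈ torsHom K n m ↔ ∀ x, t x ^ m = 1 := Iff.rfl

lemma hom_ext_basis {n : ℕ} {s t : Multiplicative (Fin n → ℤ) →* Kˣ}
    (h : ∀ i : Fin n, s (Multiplicative.ofAdd (Pi.single i 1)) =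
      t (Multiplicative.ofAdd (Pi.single i 1))) : s = t := by
  have key : ∀ u : Multiplicative (Fin n → ℤ) →* Kˣ, ∀ x : Fin n → ℤ,
      u (Multiplicative.ofAdd x) = ∏ i, u (Multiplicative.ofAdd (Pi.single i 1)) ^ (x i) := by
    intro u x
    have h1 : x = ∑ i, x i • (Pi.single i 1 : Fin n → ℤ) := by
      conv_lhs => rw [pi_eq_sum_univ x]
      refine Finset.sum_congr rfl fun i _ => ?_
      congr 1
      ext j
      simp [Pi.single_apply, eq_comm]
    conv_lhs => rw [h1]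
    rw [ofAdd_sum, map_prod]
    refine Finset.prod_congr rfl fun i _ => ?_
    rw [ofAdd_zsmul, map_zpow]
  apply MonoidHom.ext
  intro x
  have h1 := key s (Multiplicative.toAdd x)
  have h2 := key t (Multiplicative.toAdd x)
  rw [ofAdd_toAdd] at h1 h2
  rw [h1, h2]
  simp only [h]

instance finite_torsHom (n m : ℕ) [NeZero m] : Finite (torsHom K n m) := by
  let f : torsHom K n m → (Fin n → rootsOfUnity m K) := fun t i =>
    ⟨(t : Multiplicative (Fin n → ℤ) →* Kˣ) (Multiplicative.ofAdd (Pi.single i 1)), by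
      rw [mem_rootsOfUnity]; exact t.2 _⟩
  apply Finite.of_injective f
  intro s t hst
  apply Subtype.ext
  apply hom_ext_basis
  intro i
  exact congrArg Subtype.val (congrFun hst i)

lemma torsHom_mono (l n : ℕ) : Monotone fun i => torsHom K n (l ^ i) := by
  intro i j hij t ht x
  rw [← Nat.add_sub_cancel' hij, pow_add, pow_mul, ht, one_pow]

/-- A function on a torus vanishing on all torsion points of `l`-power order vanishes. -/
lemma eq_zero_of_torsion [IsAlgClosed K] {l : ℕ} (hl : l.Prime) (hl0 : (l : K) ≠ 0) {n : ℕ}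
    (f : MonoidAlgebra K (Multiplicative (Fin n → ℤ)))
    (h : ∀ i, ∀ t ∈ torsHom K n (l ^ i), (torPt _ t : Pt K _) f = 0) : f = 0 := by
  classical
  let M := Multiplicative (Fin n → ℤ)
  let Φ : Subgroup (M →* Kˣ) := ⨆ i, torsHom K n (l ^ i)
  have hΦ : ∀ t : M →* Kˣ, t ∈ Φ ↔ ∃ i, t ∈ torsHom K n (l ^ i) := fun t =>
    Subgroup.mem_iSup_of_directed (torsHom_mono l n).directed_le
  let χ : M → (Φ →* K) := fun m =>
    { toFun := fun t => (((t : M →* Kˣ) m : Kˣ) : K)
      map_one' := by simp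
      map_mul' := by intro a b; simp }
  have hχ : Function.Injective χ := by
    intro m m' hmm
    by_contra hne
    obtain ⟨j, hj⟩ : ∃ j, Multiplicative.toAdd m j ≠ Multiplicative.toAdd m' j := by
      by_contra hcon
      push Not at hcon
      exact hne (Multiplicative.toAdd.injective (funext hcon))
    have hd0 : Multiplicative.toAdd m j - Multiplicative.toAdd m' j ≠ 0 := sub_ne_zero.mpr hj
    obtain ⟨e, he⟩ : ∃ e : ℕ, e = (Multiplicative.toAdd m j - Multiplicative.toAdd m' j).natAbs :=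
      ⟨_, rfl⟩
    have hlt := Nat.lt_pow_self (n := e) hl.one_lt
    have hne0 : NeZero ((l ^ e : ℕ) : K) := ⟨by rw [Nat.cast_pow]; exact pow_ne_zero _ hl0⟩
    obtain ⟨ζ, hζ⟩ := HasEnoughRootsOfUnity.exists_primitiveRoot K (l ^ e)
    have hpos : 0 < l ^ e := pow_pos hl.pos _
    obtain ⟨u, rfl⟩ := hζ.isUnit hpos.ne'
    rw [IsPrimitiveRoot.coe_units_iff] at hζ
    let t : M →* Kˣ :=
      { toFun := fun x => u ^ (Multiplicative.toAdd x j)
        map_one' := zpow_zero u
        map_mul' := fun a b => zpow_add u _ _ }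
    have ht : t ∈ Φ := by
      rw [hΦ]
      refine ⟨e, fun x => ?_⟩
      change (u ^ (Multiplicative.toAdd x j)) ^ (l ^ e) = 1
      rw [← zpow_natCast, ← zpow_mul, mul_comm, zpow_mul, zpow_natCast, hζ.pow_eq_one, one_zpow]
    have h1 := congrArg (fun v : Φ →* K => v ⟨t, ht⟩) hmm
    have h2 : t m = t m' := Units.ext h1
    have h3 : u ^ (Multiplicative.toAdd m j - Multiplicative.toAdd m' j) = 1 := by
      rw [zpow_sub, mul_inv_eq_one]
      exact h2
    have h4 : u ^ e = 1 := by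
      rcases Int.natAbs_eq (Multiplicative.toAdd m j - Multiplicative.toAdd m' j) with h | h
      · rw [h, zpow_natCast, ← he] at h3
        exact h3
      · rw [h, zpow_neg, zpow_natCast, inv_eq_one, ← he] at h3
        exact h3
    have h5 := hζ.dvd_of_pow_eq_one _ h4
    have h6 := Nat.le_of_dvd (he ▸ Int.natAbs_pos.mpr hd0) h5
    omega
  have hli : LinearIndependent K (fun m : M => (χ m : Φ → K)) :=
    (linearIndependent_monoidHom Φ K).comp χ hχ
  rw [linearIndependent_iff] at hli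
  have h0 := hli f.coeff (by
    ext t
    obtain ⟨i, hi⟩ := (hΦ t).mp t.2
    have h1 := h i t hi
    have h2 := MonoidAlgebra.lift_apply (R := K) (A := K)
      ((Units.coeHom K).comp (t : M →* Kˣ)) f
    rw [Finsupp.linearCombination_apply, Finsupp.sum, Finset.sum_apply, Pi.zero_apply, ← h1]
    refine Eq.trans ?_ h2.symm
    rfl)
  exact MonoidAlgebra.coeff_eq_zero.mp h0

end TorusTorsion

section Main2

variable [IsAlgClosed K] [Algebra.FiniteType K A] [IsReduced A]

/-- **Conjugacy of tori.**  Let `G = S ⋉ N` be a group of points with `N` closed unipotent and `S`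
closed.  Every torus of `G` is conjugate into `S` by an element of `N`. -/
theorem exists_conj_of_torus {G N S T : Subgroup (Pt K A)} (hNG : N ≤ G)
    (hGN : G ≤ Subgroup.normalizer (N : Set (Pt K A))) (hN : IsCl (N : Set (Pt K A)))
    (hNu : ∀ g ∈ N, IsUnip g) (hSG : S ≤ G) (hS : IsCl (S : Set (Pt K A))) (hSN : S ⊓ N = ⊥)
    (hG : ∀ g ∈ G, ∃ s ∈ S, s⁻¹ * g ∈ N) (hT : IsTorusSub T) (hTG : T ≤ G) :
    ∃ c ∈ N, ∀ x ∈ T, c * x * c⁻¹ ∈ S := by
  obtain ⟨n, π, hπ, rfl⟩ := hT
  obtain ⟨l, hl, hl0⟩ := exists_prime_ne_zero K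
  have hnz : ∀ i, NeZero (l ^ i) := fun i => ⟨pow_ne_zero _ hl.ne_zero⟩
  let ψ : (Multiplicative (Fin n → ℤ) →* Kˣ) →* Pt K A := (Pt.map π).comp (torPt _).toMonoidHom
  have hψ : ∀ t, ψ t = Pt.map π (torPt _ t) := fun t => rfl
  refine exists_conj_of_chain hNG hGN hN hNu hSG hS hSN hG
    (fun i => (torsHom K n (l ^ i)).map ψ) (fun i => ?_) (fun i j hij => ?_) (fun i => ?_)
    (fun i => ?_) _ (fun a ha => ?_)
  · have := hnz i
    have := finite_torsHom (K := K) n (l ^ i)
    exact Finite.of_surjective _ (ψ.subgroupMap_surjective (torsHom K n (l ^ i)))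
  · exact Subgroup.map_mono (torsHom_mono l n hij)
  · rintro _ ⟨t, -, rfl⟩
    exact hTG ⟨torPt _ t, rfl⟩
  · have := hnz i
    have := finite_torsHom (K := K) n (l ^ i)
    have hfin : Finite ((torsHom K n (l ^ i)).map ψ) :=
      Finite.of_surjective _ (ψ.subgroupMap_surjective (torsHom K n (l ^ i)))
    have hp : IsPGroup l ((torsHom K n (l ^ i)).map ψ) := by
      rintro ⟨_, t, ht, rfl⟩
      refine ⟨i, Subtype.ext ?_⟩
      change (ψ t) ^ (l ^ i) = 1
      rw [← map_pow]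
      have : t ^ (l ^ i) = 1 := by
        apply MonoidHom.ext
        intro x
        exact ht x
      rw [this, map_one]
    have := Fact.mk hl
    obtain ⟨k, hk⟩ := IsPGroup.iff_card.mp hp
    rw [hk, Nat.cast_pow]
    exact pow_ne_zero _ hl0
  · have h0 : π a = 0 := eq_zero_of_torsion hl hl0 (π a) fun i t ht => ha i _ ⟨t, ht, rfl⟩
    rintro _ ⟨x, rfl⟩
    rw [Pt.map_apply, h0]
    exact map_zero x.ofConv

end Main2

end Groth.Agent.Sga3B.RG
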