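import Groth.Agent.Books.PointsAC
import Mathlib.RingTheory.Spectrum.Prime.Chevalley
import Mathlib.RingTheory.FinitePresentation
import Mathlib.RingTheory.Polynomial.Basic

/-!
# Chevalley's theorem for points over an algebraically closed field

The image of a morphism `Hom(A, K) → K^ι` (with `A` a domain of finite type over the algebraically
closed field `K`) contains a nonempty principal open subset of its closure.
-/

set_option autoImplicit false
universe u v w

namespace Groth.Agent.Sga3B.RG

open MvPolynomial PrimeSpectrum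

theorem exists_mvPolynomial_image {K : Type u} [Field K] [IsAlgClosed K] {A : Type v} [CommRing A]
    [IsDomain A] [Algebra K A] [Algebra.FiniteType K A] {ι : Type w} [Finite ι] (x : ι → A) :
    ∃ P : MvPolynomial ι K, aeval x P ≠ 0 ∧ ∀ w : ι → K,
      (∀ Q : MvPolynomial ι K, aeval x Q = 0 → eval w Q = 0) → eval w P ≠ 0 →
      ∃ g : A →ₐ[K] K, ∀ i, g (x i) = w i := by
  classical
  let φ : MvPolynomial ι K →+* A := (aeval x : MvPolynomial ι K →ₐ[K] A).toRingHom
  have hφ : ∀ Q, φ Q = aeval x Q := fun _ => rfl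
  have hft : φ.FiniteType := by
    have h1 : (φ.comp (algebraMap K (MvPolynomial ι K))).FiniteType := by
      have h2 : φ.comp (algebraMap K (MvPolynomial ι K)) = algebraMap K A :=
        (aeval x : MvPolynomial ι K →ₐ[K] A).comp_algebraMap
      rw [h2]
      exact (RingHom.finiteType_algebraMap).mpr inferInstance
    exact RingHom.FiniteType.of_comp_finiteType h1
  have hfp : φ.FinitePresentation := RingHom.FinitePresentation.of_finiteType.mp hft
  obtain ⟨S, hS⟩ := exists_constructibleSetData_iff.mpr (isConstructible_range_comap hfp)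
  have hbot : (⊥ : Ideal A).IsPrime := Ideal.isPrime_bot
  have h0 : comap φ ⟨⊥, hbot⟩ ∈ S.toSet := by
    rw [hS]
    exact ⟨_, rfl⟩
  simp only [ConstructibleSetData.toSet, Set.mem_iUnion] at h0
  obtain ⟨C, hC, hgC, hfC⟩ := h0
  have hmem0 : ∀ Q, Q ∈ (comap φ ⟨⊥, hbot⟩).asIdeal ↔ aeval x Q = 0 := by
    intro Q
    rw [comap_asIdeal, Ideal.mem_comap]
    exact Iff.rfl
  refine ⟨C.f, ?_, fun w hw hwf => ?_⟩
  · intro h
    apply hfC
    rw [mem_zeroLocus, Set.singleton_subset_iff]
    exact (hmem0 _).mpr h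
  · have hmax : (RingHom.ker (eval w : MvPolynomial ι K →+* K)).IsPrime := RingHom.ker_isPrime _
    have hmem : (⟨_, hmax⟩ : PrimeSpectrum (MvPolynomial ι K)) ∈ S.toSet := by
      simp only [ConstructibleSetData.toSet, Set.mem_iUnion]
      refine ⟨C, hC, ?_, ?_⟩
      · rw [mem_zeroLocus]
        rintro _ ⟨i, rfl⟩
        refine hw _ ((hmem0 _).mp ?_)
        exact hgC ⟨i, rfl⟩
      · rw [mem_zeroLocus, Set.singleton_subset_iff]
        exact hwf
    rw [hS] at hmem
    obtain ⟨q, hq⟩ := hmem
    have hqker : ∀ Q, eval w Q = 0 → φ Q ∈ q.asIdeal := by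
      intro Q hQ
      have h1 : Q ∈ (comap φ q).asIdeal := by
        rw [hq]
        exact hQ
      exact h1
    let I : Ideal A := Ideal.map φ (RingHom.ker (eval w : MvPolynomial ι K →+* K))
    have hI : I ≤ q.asIdeal := Ideal.map_le_iff_le_comap.mpr fun Q hQ => hqker Q hQ
    have hnt : Nontrivial (A ⧸ I) := Ideal.Quotient.nontrivial_iff.mpr
      (fun h => q.2.ne_top (top_le_iff.mp (h ▸ hI)))
    obtain ⟨g⟩ := Groth.Agent.Books.PointsAC.exists_point K (A ⧸ I)
    refine ⟨g.comp (Ideal.Quotient.mkₐ K I), fun i => ?_⟩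
    have h1 : aeval x (X i - MvPolynomial.C (w i)) ∈ I :=
      Ideal.mem_map_of_mem φ (by simp [RingHom.mem_ker])
    have h2 : (Ideal.Quotient.mkₐ K I) (x i - algebraMap K A (w i)) = 0 := by
      rw [map_sub, aeval_X, aeval_C] at h1
      exact Ideal.Quotient.eq_zero_iff_mem.mpr h1
    have h3 : g ((Ideal.Quotient.mkₐ K I) (x i - algebraMap K A (w i))) = 0 := by
      rw [h2, map_zero]
    rw [map_sub, map_sub, sub_eq_zero, AlgHom.commutes, AlgHom.commutes] at h3
    exact h3

end Groth.Agent.Sga3B.RG
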