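import Mathlib.RingTheory.HopfAlgebra.Quotient
import Mathlib.RingTheory.HopfAlgebra.Convolution
import Mathlib.RingTheory.HopfAlgebra.MonoidAlgebra
import Mathlib.Algebra.Polynomial.Laurent
import Mathlib.RepresentationTheory.Basic
import Mathlib.LinearAlgebra.Dual.Defs
import Mathlib.LinearAlgebra.Dimension.Finrank
import Mathlib.RingTheory.FiniteType
import Mathlib.RingTheory.Nilpotent.Defs
import Mathlib.FieldTheory.IsAlgClosed.Basic

/-!
# Linear algebraic groups over an algebraically closed field, in the language of points

`A` is a finitely generated commutative Hopf algebra over the field `K`, `Pt K A` the group of its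
`K`-points.  Basic definitions shared by the structure theory of reductive groups
(conjugacy of maximal tori, centralizers of tori, roots).
-/

set_option autoImplicit false

universe u w

open WithConv TensorProduct Coalgebra

namespace Groth.Agent.Sga3B.RG

section Basic

variable (K : Type u) [Field K] (A : Type u) [CommRing A] [HopfAlgebra K A]

/-- The group of `K`-points of the Hopf algebra `A`. -/
abbrev Pt : Type u := WithConv (A →ₐ[K] K)

end Basic

section Points

variable {K : Type u} [Field K] {A : Type u} [CommRing A] [HopfAlgebra K A]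
variable {B : Type u} [CommRing B] [HopfAlgebra K B]

/-- Functoriality of points: a bialgebra map `A → B` gives `Pt K B →* Pt K A`. -/
noncomputable def Pt.map (φ : A →ₐc[K] B) : Pt K B →* Pt K A where
  toFun g := toConv (g.ofConv.comp (φ : A →ₐ[K] B))
  map_one' := by
    apply WithConv.ofConv_injective
    ext a
    simp [AlgHom.convOne_def]
  map_mul' g h := by
    apply WithConv.ofConv_injective
    rw [ofConv_toConv]
    exact AlgHom.convMul_comp_bialgHom_distrib g h φ

@[simp] lemma Pt.map_apply (φ : A →ₐc[K] B) (g : Pt K B) (a : A) :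
    (Pt.map φ g) a = g (φ a) := rfl

/-- Points are determined by their values. -/
lemma Pt.ext' {g h : Pt K A} (H : ∀ a : A, g a = h a) : g = h :=
  WithConv.ofConv_injective (AlgHom.ext H)

lemma Pt.one_apply (a : A) : (1 : Pt K A) a = counit (R := K) a := by
  rw [AlgHom.convOne_apply]; rfl

lemma Pt.mul_apply (g h : Pt K A) (a : A) :
    (g * h) a = Algebra.TensorProduct.lift g.ofConv h.ofConv (fun _ _ ↦ .all ..) (comul (R := K) a) :=
  AlgHom.convMul_apply g h a

lemma Pt.inv_apply (g : Pt K A) (a : A) : (g⁻¹) a = g (HopfAlgebra.antipode K a) := rfl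

/-- Vanishing ideal of a set of points. -/
def vanIdeal (H : Set (Pt K A)) : Ideal A where
  carrier := {a | ∀ h ∈ H, h a = 0}
  add_mem' := by
    intro a b ha hb h hh
    have h1 : h.ofConv (a + b) = h.ofConv a + h.ofConv b := map_add _ _ _
    have h2 := ha h hh
    have h3 := hb h hh
    change h.ofConv (a + b) = 0
    rw [h1]
    change h.ofConv a = 0 at h2
    change h.ofConv b = 0 at h3
    rw [h2, h3, add_zero]
  zero_mem' := fun h _ => map_zero h.ofConv
  smul_mem' := by
    intro c x hx h hh
    change h.ofConv (c * x) = 0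
    rw [map_mul]
    have : h.ofConv x = 0 := hx h hh
    rw [this, mul_zero]

lemma mem_vanIdeal {H : Set (Pt K A)} {a : A} : a ∈ vanIdeal H ↔ ∀ h ∈ H, h a = 0 := Iff.rfl

/-- Zero locus of an ideal. -/
def zeros (J : Ideal A) : Set (Pt K A) := {g | ∀ a ∈ J, g a = 0}

lemma mem_zeros {J : Ideal A} {g : Pt K A} : g ∈ zeros J ↔ ∀ a ∈ J, g a = 0 := Iff.rfl

/-- A set of points is closed when it is the zero locus of its vanishing ideal. -/
def IsCl (H : Set (Pt K A)) : Prop := zeros (vanIdeal H) ⊆ H

/-- A set of points is irreducible ("connected" for closed subgroups) when its vanishing ideal is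
prime. -/
def IsConn (H : Set (Pt K A)) : Prop := (vanIdeal H).IsPrime

/-- Right translation: `(rTr g a)(x) = a(x g)`. -/
noncomputable def rTr (g : Pt K A) : A →ₐ[K] A :=
  ((Algebra.TensorProduct.rid K K A).toAlgHom.comp
    (Algebra.TensorProduct.map (AlgHom.id K A) g.ofConv)).comp (Bialgebra.comulAlgHom K A)

/-- Left translation: `(lTr g a)(x) = a(g⁻¹ x)`. -/
noncomputable def lTr (g : Pt K A) : A →ₐ[K] A :=
  ((Algebra.TensorProduct.lid K A).toAlgHom.comp
    (Algebra.TensorProduct.map (g⁻¹).ofConv (AlgHom.id K A))).comp (Bialgebra.comulAlgHom K A)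

/-- `g` is unipotent: right translation by `g` is locally unipotent on `A`. -/
def IsUnip (g : Pt K A) : Prop := ∀ a : A, ∃ n : ℕ, (((rTr g).toLinearMap - 1) ^ n) a = 0

section Rep

variable {V : Type w} [AddCommGroup V] [Module K V]

/-- A representation of the group of points is algebraic when its matrix coefficients are
functions in `A`. -/
def IsAlg (ρ : Representation K (Pt K A) V) : Prop :=
  ∀ (f : Module.Dual K V) (v : V), ∃ a : A, ∀ g : Pt K A, f (ρ g v) = g a

/-- Stable submodules. -/
def IsStable (ρ : Representation K (Pt K A) V) (W : Submodule K V) : Prop :=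
  ∀ g, ∀ w ∈ W, ρ g w ∈ W

/-- Simple representations. -/
def IsSimpleRep (ρ : Representation K (Pt K A) V) : Prop :=
  Nontrivial V ∧ ∀ W : Submodule K V, IsStable ρ W → W = ⊥ ∨ W = ⊤

end Rep

section Tori

open scoped LaurentPolynomial

/-- The subgroup of points `T` is a (split, closed) torus. -/
def IsTorusSub (T : Subgroup (Pt K A)) : Prop :=
  ∃ (n : ℕ) (π : A →ₐc[K] MonoidAlgebra K (Multiplicative (Fin n → ℤ))),
    Function.Surjective π ∧ T = (Pt.map π).range

/-- `T` is a maximal torus of the group of points. -/
def IsMaxTorusSub (T : Subgroup (Pt K A)) : Prop :=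
  IsTorusSub T ∧ ∀ T' : Subgroup (Pt K A), IsTorusSub T' → T ≤ T' → T' = T

end Tori

variable (K A) in
/-- The group of points is reductive: every closed connected normal subgroup all of whose elements
are unipotent is trivial. -/
def IsRedPt : Prop :=
  ∀ N : Subgroup (Pt K A), N.Normal → IsCl (N : Set (Pt K A)) → IsConn (N : Set (Pt K A)) →
    (∀ g ∈ N, IsUnip g) → N = ⊥

/-- Relative version for a subgroup `G` of the group of points: every closed connected subgroup of
`G` normalised by `G` all of whose elements are unipotent is trivial. -/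
def IsRedSub (G : Subgroup (Pt K A)) : Prop :=
  ∀ N : Subgroup (Pt K A), N ≤ G → G ≤ Subgroup.normalizer (N : Set (Pt K A)) →
    IsCl (N : Set (Pt K A)) → IsConn (N : Set (Pt K A)) → (∀ g ∈ N, IsUnip g) → N = ⊥

end Points

end Groth.Agent.Sga3B.RG
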