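import Groth.Agent.Sga3B.RG.FinProj
import Groth.Agent.Sga3B.RG.Defs
import Mathlib.LinearAlgebra.Dual.Lemmas

/-!
# Luna's argument: connected groups fixing enough functionals act trivially on a closed cone

* `IsZClosed Y`: Zariski closed subsets of a vector space (coordinate free).
* `finite_values`: on a closed cone `Y` where a set `F` of functionals has no common zero except
  `0`, every functional takes only finitely many values on the fibres of `F`.
* `luna_cone`: a connected group of points which preserves `Y` and the restrictions to `Y` of the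
  functionals in `F` acts trivially on `Y`.
* `luna_simple`: hence trivially on `V` if `V` is simple and `Y ≠ {0}` is stable.
-/

set_option autoImplicit false

universe u w

open MvPolynomial

namespace Groth.Agent.Sga3B.RG

open FinProj

section Closed

variable {K : Type u} [Field K] {V : Type w} [AddCommGroup V] [Module K V]

/-- Evaluation of a polynomial in the functionals at a vector. -/
noncomputable def evVec (y : V) : MvPolynomial (Module.Dual K V) K →ₐ[K] K :=
  aeval (fun f : Module.Dual K V => f y)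

@[simp] lemma evVec_X (y : V) (f : Module.Dual K V) : evVec y (X f : MvPolynomial _ K) = f y := by
  simp [evVec]

variable (K) in
/-- Zariski closed subsets of a vector space. -/
def IsZClosed (Y : Set V) : Prop :=
  ∀ v : V, (∀ F : MvPolynomial (Module.Dual K V) K, (∀ y ∈ Y, evVec y F = 0) → evVec v F = 0) →
    v ∈ Y

variable {ι : Type*} [Fintype ι] (b : Module.Basis ι K V)

/-- The linear form in the coordinates attached to a functional. -/
noncomputable def lin (f : Module.Dual K V) : MvPolynomial ι K := ∑ i, C (f (b i)) * X i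

lemma isHomogeneous_lin (f : Module.Dual K V) : (lin b f).IsHomogeneous 1 := by
  refine IsHomogeneous.sum _ _ _ fun i _ => ?_
  exact isHomogeneous_C_mul_X _ _

lemma aeval_lin (f : Module.Dual K V) (y : V) : aeval (b.equivFun y) (lin b f) = f y := by
  conv_rhs => rw [← b.sum_equivFun y]
  simp only [lin, map_sum, map_mul, aeval_X, map_smul, smul_eq_mul]
  refine Finset.sum_congr rfl fun i _ => ?_
  rw [mul_comm]
  congr 1
  exact aeval_C _ _

lemma aeval_aeval_lin (F : MvPolynomial (Module.Dual K V) K) (y : V) :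
    aeval (b.equivFun y) (aeval (lin b) F) = evVec y F := by
  have h : (aeval (b.equivFun y)).comp (aeval (lin b)) = evVec (K := K) y := by
    refine algHom_ext fun f => ?_
    rw [AlgHom.comp_apply, aeval_X, aeval_lin, evVec_X]
  exact DFunLike.congr_fun h F

lemma zeroLocus_vanishingIdeal_subset {Y : Set V} (hY : IsZClosed K Y) :
    zeroLocus K (vanishingIdeal K (b.equivFun '' Y)) ⊆ b.equivFun '' Y := by
  intro x hx
  refine ⟨b.equivFun.symm x, hY _ fun F hF => ?_, b.equivFun.apply_symm_apply x⟩
  rw [← aeval_aeval_lin b F, LinearEquiv.apply_symm_apply]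
  refine hx _ ?_
  rintro _ ⟨y, hy, rfl⟩
  rw [aeval_aeval_lin]
  exact hF y hy

end Closed

section Finite

variable {K : Type u} [Field K] [IsAlgClosed K] {V : Type w} [AddCommGroup V] [Module K V]
  [Module.Finite K V]

/-- **Finiteness trick**: on a closed cone on which the functionals in `F` have no common zero
except `0`, the fibres of `F` are finite. -/
theorem finite_values {Y : Set V} (hcone : ∀ (c : K), ∀ y ∈ Y, c • y ∈ Y)
    (hclosed : IsZClosed K Y) {F : Set (Module.Dual K V)}
    (hF : ∀ y ∈ Y, (∀ f ∈ F, f y = 0) → y = 0) (l : Module.Dual K V) (y0 : V) :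
    {c : K | ∃ y ∈ Y, (∀ f ∈ F, f y = f y0) ∧ l y = c}.Finite := by
  classical
  by_cases hne : ∃ y ∈ Y, ∀ f ∈ F, f y = f y0
  swap
  · convert Set.finite_empty
    ext c
    simp only [Set.mem_ofPred_eq, Set.mem_empty_iff_false, iff_false]
    rintro ⟨y, hy, h, -⟩
    exact hne ⟨y, hy, h⟩
  obtain ⟨y1, -, hy1⟩ := hne
  let b := Module.finBasis K V
  let S : Set (Fin (Module.finrank K V) → K) := b.equivFun '' Y
  let E : Set (MvPolynomial (Fin (Module.finrank K V)) K) := (lin b) '' F
  have hconeS : ∀ (c : K), ∀ s ∈ S, c • s ∈ S := by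
    rintro c _ ⟨y, hy, rfl⟩
    exact ⟨c • y, hcone c y hy, map_smul _ _ _⟩
  have hES : ∀ e ∈ E, e.IsHomogeneous 1 := by
    rintro _ ⟨f, _, rfl⟩
    exact isHomogeneous_lin b f
  have hE0 : ∀ s ∈ S, (∀ e ∈ E, aeval s e = 0) → s = 0 := by
    rintro _ ⟨y, hy, rfl⟩ h
    have : y = 0 := hF y hy fun f hf => by
      rw [← aeval_lin b f y]
      exact h _ ⟨f, hf, rfl⟩
    rw [this, map_zero]
  obtain ⟨Q, hQ, hQ0⟩ := exists_monic hconeS (zeroLocus_vanishingIdeal_subset b hclosed) hES hE0
    (lin b l)
  let q : Polynomial K := Q.map ((aeval (R := K) (b.equivFun y1)).toRingHom.comp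
    (Algebra.adjoin K E).val.toRingHom)
  have hq : q.Monic := hQ.map _
  refine (Polynomial.finite_setOfPred_isRoot hq.ne_zero).subset ?_
  rintro c ⟨y, hy, hyF, rfl⟩
  have hagree : ((aeval (R := K) (b.equivFun y)).comp (Algebra.adjoin K E).val) =
      ((aeval (R := K) (b.equivFun y1)).comp (Algebra.adjoin K E).val) := by
    refine AlgHom.adjoin_ext ?_
    rintro _ ⟨f, hf, rfl⟩
    change aeval (b.equivFun y) (lin b f) = aeval (b.equivFun y1) (lin b f)
    rw [aeval_lin, aeval_lin, hyF f hf, hy1 f hf]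
  have h1 : aeval (b.equivFun y) (Polynomial.aeval (lin b l) Q) = 0 := hQ0 _ ⟨y, hy, rfl⟩
  have h2 : aeval (R := K) (b.equivFun y) (Polynomial.aeval (lin b l) Q) =
      Polynomial.eval (l y) q := by
    have h3 : ((aeval (R := K) (b.equivFun y)).comp (Algebra.adjoin K E).val).toRingHom =
      ((aeval (R := K) (b.equivFun y1)).toRingHom.comp
        (Algebra.adjoin K E).val.toRingHom) := by rw [hagree]; rfl
    rw [Polynomial.eval_map, ← h3, ← aeval_lin b l y, Polynomial.aeval_def]
    exact Polynomial.hom_eval₂ Q _ (aeval (R := K) (b.equivFun y)).toRingHom _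
  rw [Set.mem_ofPred_eq, Polynomial.IsRoot.def, ← h2, h1]

end Finite

section Luna

variable {K : Type u} [Field K] {A : Type u} [CommRing A] [HopfAlgebra K A]

/-- A regular function which takes finitely many values on an irreducible set of points is
constant. -/
lemma const_of_finite {H : Set (Pt K A)} (hH : IsConn H) {a : A}
    (hfin : {c : K | ∃ h ∈ H, h a = c}.Finite) : ∃ c : K, ∀ h ∈ H, h a = c := by
  classical
  let Z := hfin.toFinset
  have h1 : ∏ c ∈ Z, (a - algebraMap K A c) ∈ vanIdeal H := by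
    intro h hh
    change h.ofConv _ = 0
    rw [map_prod]
    refine Finset.prod_eq_zero (i := h a) (hfin.mem_toFinset.2 ⟨h, hh, rfl⟩) ?_
    rw [map_sub, AlgHom.commutes]
    exact sub_self _
  have hp : (vanIdeal H).IsPrime := hH
  obtain ⟨c, -, hc⟩ := hp.prod_mem_iff.1 h1
  refine ⟨c, fun h hh => ?_⟩
  have h2 : h.ofConv (a - algebraMap K A c) = 0 := hc h hh
  rw [map_sub, AlgHom.commutes, sub_eq_zero] at h2
  exact h2

variable [IsAlgClosed K] {V : Type w} [AddCommGroup V] [Module K V] [Module.Finite K V]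

/-- **Luna**: an irreducible set of points containing `1` which preserves a closed cone `Y` and a
set of functionals without common zero on `Y \ {0}` acts trivially on `Y`. -/
theorem luna_cone {ρ : Representation K (Pt K A) V} (hρ : IsAlg ρ) {H : Set (Pt K A)}
    (hH : IsConn H) (h1 : (1 : Pt K A) ∈ H) {Y : Set V} (hcone : ∀ (c : K), ∀ y ∈ Y, c • y ∈ Y)
    (hclosed : IsZClosed K Y) {F : Set (Module.Dual K V)}
    (hF : ∀ y ∈ Y, (∀ f ∈ F, f y = 0) → y = 0)
    (hHY : ∀ h ∈ H, ∀ y ∈ Y, ρ h y ∈ Y)
    (hHF : ∀ h ∈ H, ∀ f ∈ F, ∀ y ∈ Y, f (ρ h y) = f y) :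
    ∀ h ∈ H, ∀ y ∈ Y, ρ h y = y := by
  intro h hh y hy
  rw [← sub_eq_zero, ← Module.forall_dual_apply_eq_zero_iff K]
  intro l
  obtain ⟨a, ha⟩ := hρ l y
  obtain ⟨c, hc⟩ := const_of_finite hH (a := a) (by
    refine (finite_values hcone hclosed hF l y).subset ?_
    rintro c ⟨g, hg, rfl⟩
    exact ⟨ρ g y, hHY g hg y hy, fun f hf => hHF g hg f hf y hy, ha g⟩)
  have e1 : l (ρ h y) = c := (ha h).trans (hc h hh)
  have e2 : l y = c := by
    have := (ha 1).trans (hc 1 h1)
    rwa [map_one] at this
  rw [map_sub, e1, e2, sub_self]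

/-- **Luna, simple representations**: if moreover `V` is simple and `Y ≠ {0}` is stable under the
whole group, then `H` acts trivially on `V`. -/
theorem luna_simple {ρ : Representation K (Pt K A) V} (hρ : IsAlg ρ) (hsimple : IsSimpleRep ρ)
    {H : Set (Pt K A)} (hH : IsConn H) (h1 : (1 : Pt K A) ∈ H) {Y : Set V}
    (hcone : ∀ (c : K), ∀ y ∈ Y, c • y ∈ Y) (hclosed : IsZClosed K Y)
    (hY0 : ∃ y ∈ Y, y ≠ 0) (hYG : ∀ g, ∀ y ∈ Y, ρ g y ∈ Y) {F : Set (Module.Dual K V)}
    (hF : ∀ y ∈ Y, (∀ f ∈ F, f y = 0) → y = 0)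
    (hHF : ∀ h ∈ H, ∀ f ∈ F, ∀ y ∈ Y, f (ρ h y) = f y) :
    ∀ h ∈ H, ∀ v, ρ h v = v := by
  have key := luna_cone hρ hH h1 hcone hclosed hF (fun h _ => hYG h) hHF
  have hspan : Submodule.span K Y = ⊤ := by
    refine (hsimple.2 _ ?_).resolve_left ?_
    · intro g w hw
      induction hw using Submodule.span_induction with
      | mem y hy => exact Submodule.subset_span (hYG g y hy)
      | zero => rw [map_zero]; exact Submodule.zero_mem _
      | add x y _ _ hx hy => rw [map_add]; exact Submodule.add_mem _ hx hy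
      | smul c x _ hx => rw [map_smul]; exact Submodule.smul_mem _ _ hx
    · obtain ⟨y, hy, hy0⟩ := hY0
      intro hbot
      exact hy0 ((Submodule.mem_bot K).1 (hbot ▸ Submodule.subset_span hy))
  intro h hh v
  have hv : v ∈ Submodule.span K Y := hspan ▸ Submodule.mem_top
  induction hv using Submodule.span_induction with
  | mem y hy => exact key h hh y hy
  | zero => rw [map_zero]
  | add x y _ _ hx hy => rw [map_add, hx, hy]
  | smul c x _ hx => rw [map_smul, hx]

end Luna

end Groth.Agent.Sga3B.RG
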