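import Groth.Agent.Sga3B.RG.ConeBasic
import Groth.Agent.Sga3B.RG.ChevPts
import Groth.Agent.Sga3B.RG.Wt
import Groth.Agent.Sga3B.RG.Luna
import Mathlib.RingTheory.Polynomial.Basic

/-!
# Closed orbit cones

* `orbCone ρ v`: the cone over the orbit of `v`;
* `orbCone_zclosed`: it is Zariski closed as soon as `v` lies in every nonzero closed stable cone
  contained in its closure;
* `limit_mem`: limits along a cocharacter stay in closed stable cones;
* `mem_of_topSpace`: a vector spanning the top weight space of a simple representation lies in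
  every nonzero closed stable cone;
* `topCone`: hence its orbit cone is closed.
-/

set_option autoImplicit false

universe u w

open WithConv TensorProduct Coalgebra Module
open scoped LaurentPolynomial

namespace Groth.Agent.Sga3B.RG

section Closedness

variable {K : Type u} [Field K] {V : Type w} [AddCommGroup V] [Module K V]

theorem polyFun_evVec (F : MvPolynomial (Dual K V) K) : (fun y : V => evVec y F) ∈ PolyFun K V := by
  induction F using MvPolynomial.induction_on with
  | C a =>
    have : (fun y : V => evVec y (MvPolynomial.C a : MvPolynomial (Dual K V) K)) = fun _ => a := by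
      funext y; simp [evVec]
    rw [this]
    exact polyFun_const a
  | add p q hp hq =>
    have := (PolyFun K V).add_mem hp hq
    simp only [map_add]
    exact this
  | mul_X p f hp =>
    have := (PolyFun K V).mul_mem hp (polyFun_of_dual f)
    simp only [map_mul, evVec_X]
    exact this

theorem exists_evVec {p : V → K} (hp : p ∈ PolyFun K V) :
    ∃ F : MvPolynomial (Dual K V) K, ∀ y, p y = evVec y F := by
  induction hp using Algebra.adjoin_induction with
  | mem x hx =>
    obtain ⟨f, rfl⟩ := hx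
    exact ⟨MvPolynomial.X f, fun y => (evVec_X y f).symm⟩
  | algebraMap r => exact ⟨MvPolynomial.C r, fun y => by simp [evVec]⟩
  | add x y _ _ hx hy =>
    obtain ⟨P, hP⟩ := hx
    obtain ⟨Q, hQ⟩ := hy
    exact ⟨P + Q, fun v => by simp [hP, hQ]⟩
  | mul x y _ _ hx hy =>
    obtain ⟨P, hP⟩ := hx
    obtain ⟨Q, hQ⟩ := hy
    exact ⟨P * Q, fun v => by simp [hP, hQ]⟩

/-- The two notions of Zariski closed subsets agree. -/
theorem isZClosed_iff {Y : Set V} : IsZClosed K Y ↔ ZClosed K Y := by
  constructor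
  · intro h v hv
    exact h v fun F hF => hv _ (polyFun_evVec F) hF
  · intro h v hv
    refine h v fun p hp hpY => ?_
    obtain ⟨F, hF⟩ := exists_evVec hp
    rw [hF]
    exact hv F fun y hy => by rw [← hF]; exact hpY y hy

end Closedness

section Orbit

variable {K : Type u} [Field K] {A : Type u} [CommRing A] [HopfAlgebra K A]
  {V : Type w} [AddCommGroup V] [Module K V]

/-- The cone over the orbit of `v`. -/
def orbCone (ρ : Representation K (Pt K A) V) (v : V) : Set V :=
  {w | ∃ (c : K) (g : Pt K A), w = c • ρ g v}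

variable {ρ : Representation K (Pt K A) V}

theorem mem_orbCone {v w : V} : w ∈ orbCone ρ v ↔ ∃ (c : K) (g : Pt K A), w = c • ρ g v := Iff.rfl

theorem self_mem_orbCone (v : V) : v ∈ orbCone ρ v := ⟨1, 1, by simp⟩

theorem isCone_orbCone (v : V) : IsCone K (orbCone ρ v) := by
  rintro c _ ⟨d, g, rfl⟩
  exact ⟨c * d, g, by rw [mul_smul]⟩

theorem stable_orbCone (v : V) (g : Pt K A) : ∀ y ∈ orbCone ρ v, ρ g y ∈ orbCone ρ v := by
  rintro _ ⟨d, h, rfl⟩
  exact ⟨d, g * h, by rw [map_smul, map_mul]; rfl⟩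

/-- the closure of a stable set is stable -/
theorem stable_zclosure {Y : Set V} (hY : ∀ g : Pt K A, ∀ y ∈ Y, ρ g y ∈ Y) (g : Pt K A) :
    ∀ y ∈ zclosure K Y, ρ g y ∈ zclosure K Y := by
  intro y hy p hp hpY
  exact hy (fun v => p (ρ g v)) (polyFun_comp (ρ g) hp) fun z hz => hpY _ (hY g z hz)

theorem orbCone_subset {Y : Set V} (hcone : IsCone K Y) (hY : ∀ g : Pt K A, ∀ y ∈ Y, ρ g y ∈ Y)
    {v : V} (hv : v ∈ Y) : orbCone ρ v ⊆ Y := by
  rintro _ ⟨c, g, rfl⟩
  exact hcone c _ (hY g v hv)

variable [IsAlgClosed K] [Algebra.FiniteType K A] [IsDomain A] [FiniteDimensional K V]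

/-- The orbit cone contains a nonempty open subset of its closure. -/
theorem exists_open_orbCone (hρ : IsAlg ρ) {v : V} (hv : v ≠ 0) :
    ∃ p ∈ PolyFun K V, p 0 = 0 ∧ (∃ y ∈ orbCone ρ v, p y ≠ 0) ∧
      ∀ y ∈ zclosure K (orbCone ρ v), p y ≠ 0 → y ∈ orbCone ρ v := by
  classical
  let b := finBasis K V
  choose a ha using fun i => hρ (b.coord i) v
  let x : Fin (finrank K V) → Polynomial A := fun i => Polynomial.C (a i) * Polynomial.X
  -- points of `A[X]`
  let pt : Pt K A → K → (Polynomial A →ₐ[K] K) := fun g c =>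
    Polynomial.eval₂AlgHom g.ofConv c (fun _ => Commute.all _ _)
  have hptx : ∀ g c i, pt g c (x i) = b.repr (c • ρ g v) i := by
    intro g c i
    have h1 : b.coord i (ρ g v) = g (a i) := ha i g
    rw [Basis.coord_apply] at h1
    simp only [pt, x, map_mul, map_smul, Finsupp.smul_apply, smul_eq_mul, h1]
    simp [mul_comm]
  have hpte : ∀ g c (Q : MvPolynomial (Fin (finrank K V)) K),
      pt g c (MvPolynomial.aeval x Q) = MvPolynomial.eval (fun i => b.repr (c • ρ g v) i) Q := by
    intro g c Q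
    have h1 : (fun i => pt g c (x i)) = fun i => b.repr (c • ρ g v) i := funext fun i => hptx g c i
    rw [MvPolynomial.comp_aeval_apply, h1]
    rfl
  have hptsurj : ∀ h : Polynomial A →ₐ[K] K, ∃ g c, h = pt g c := by
    intro h
    refine ⟨toConv (h.comp (Polynomial.CAlgHom)), h Polynomial.X, ?_⟩
    ext y
    · simp [pt]
    · simp [pt]
  obtain ⟨P, hP0, hP⟩ := exists_mvPolynomial_image (K := K) x
  obtain ⟨i0, hi0⟩ : ∃ i, a i ≠ 0 := by
    by_contra h
    push Not at h
    apply hv
    refine b.ext_elem fun i => ?_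
    have h1 := ha i 1
    rw [map_one, h i] at h1
    rw [map_zero]
    exact h1.trans (map_zero _)
  have hx0 : x i0 ≠ 0 := mul_ne_zero (by simpa using hi0) Polynomial.X_ne_zero
  have hPX : MvPolynomial.aeval x (P * MvPolynomial.X i0) ≠ 0 := by
    rw [map_mul, MvPolynomial.aeval_X]
    exact mul_ne_zero hP0 hx0
  refine ⟨fun y => MvPolynomial.eval (fun i => b.repr y i) (P * MvPolynomial.X i0),
    (mem_polyFun_iff b _).mpr ⟨_, fun _ => rfl⟩, by simp, ?_, ?_⟩
  · obtain ⟨h, hh⟩ : ∃ h : Polynomial A →ₐ[K] K,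
        h (MvPolynomial.aeval x (P * MvPolynomial.X i0)) ≠ 0 := by
      by_contra hcon
      push Not at hcon
      exact hPX (Groth.Agent.Books.PointsAC.eq_zero_of_forall_point K _ _ hcon)
    obtain ⟨g, c, rfl⟩ := hptsurj h
    exact ⟨c • ρ g v, ⟨c, g, rfl⟩, by rwa [hpte] at hh⟩
  · intro y hy hpy
    change MvPolynomial.eval (fun i => b.repr y i) (P * MvPolynomial.X i0) ≠ 0 at hpy
    rw [map_mul] at hpy
    have hyQ : ∀ Q, MvPolynomial.aeval x Q = 0 → MvPolynomial.eval (fun i => b.repr y i) Q = 0 := by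
      intro Q hQ
      refine hy (fun y => MvPolynomial.eval (fun i => b.repr y i) Q)
        ((mem_polyFun_iff b _).mpr ⟨_, fun _ => rfl⟩) ?_
      rintro _ ⟨c, g, rfl⟩
      change MvPolynomial.eval (fun i => b.repr (c • ρ g v) i) Q = 0
      rw [← hpte, hQ, map_zero]
    obtain ⟨h, hh⟩ := hP (fun i => b.repr y i) hyQ (left_ne_zero_of_mul hpy)
    obtain ⟨g, c, rfl⟩ := hptsurj h
    refine ⟨c, g, b.ext_elem fun i => ?_⟩
    exact (hh i).symm.trans (hptx g c i)

/-- If `v` lies in every nonzero closed stable cone contained in the closure of its orbit cone, then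
the orbit cone is closed. -/
theorem orbCone_zclosed (hρ : IsAlg ρ) {v : V} (hv : v ≠ 0)
    (hmin : ∀ y ∈ zclosure K (orbCone ρ v), y ≠ 0 → v ∈ zclosure K (orbCone ρ y)) :
    ZClosed K (orbCone ρ v) := by
  obtain ⟨p, hp, hp0, ⟨y0, hy0, hpy0⟩, hopen⟩ := exists_open_orbCone hρ hv
  intro y hy
  change y ∈ zclosure K (orbCone ρ v) at hy
  by_cases hy00 : y = 0
  · exact ⟨0, 1, by rw [hy00, zero_smul]⟩
  have h1 : ∃ z ∈ orbCone ρ y, p z ≠ 0 := by
    by_contra hcon
    push Not at hcon
    have h2 := hmin y hy hy00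
    apply hpy0
    have h3 : y0 ∈ zclosure K (orbCone ρ y) :=
      orbCone_subset (zclosure_isCone (isCone_orbCone y)) (stable_zclosure (stable_orbCone y)) h2 hy0
    exact h3 p hp hcon
  obtain ⟨_, ⟨c, g, rfl⟩, hpz⟩ := h1
  have hc : c ≠ 0 := by
    rintro rfl
    rw [zero_smul] at hpz
    exact hpz hp0
  have h4 : c • ρ g y ∈ orbCone ρ v := by
    refine hopen _ ?_ hpz
    exact (zclosure_isCone (isCone_orbCone v)) c _ (stable_zclosure (stable_orbCone v) g y hy)
  have h5 := stable_orbCone v g⁻¹ _ (isCone_orbCone v c⁻¹ _ h4)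
  rw [smul_smul, inv_mul_cancel₀ hc, one_smul] at h5
  rwa [← Module.End.mul_apply, ← map_mul, inv_mul_cancel, map_one] at h5

end Orbit

section Limits

variable {K : Type u} [Field K] {A : Type u} [CommRing A] [HopfAlgebra K A]
  {V : Type w} [AddCommGroup V] [Module K V]

/-- A polynomial function along a polynomial curve is a polynomial. -/
theorem exists_polynomial_curve {p : V → K} (hp : p ∈ PolyFun K V) {ι : Type*} (s : Finset ι)
    (e : ι → ℕ) (x : ι → V) : ∃ q : Polynomial K, ∀ c : K, p (∑ i ∈ s, c ^ e i • x i) = q.eval c := by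
  induction hp using Algebra.adjoin_induction with
  | mem f hf =>
    obtain ⟨f, rfl⟩ := hf
    refine ⟨∑ i ∈ s, Polynomial.C (f (x i)) * Polynomial.X ^ e i, fun c => ?_⟩
    change f (∑ i ∈ s, c ^ e i • x i) = _
    rw [Polynomial.eval_finsetSum, map_sum]
    refine Finset.sum_congr rfl fun i _ => ?_
    rw [Polynomial.eval_mul, Polynomial.eval_C, Polynomial.eval_pow, Polynomial.eval_X, map_smul,
      smul_eq_mul, mul_comm]
  | algebraMap r => exact ⟨Polynomial.C r, fun c => by simp⟩
  | add x y _ _ hx hy =>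
    obtain ⟨P, hP⟩ := hx
    obtain ⟨Q, hQ⟩ := hy
    exact ⟨P + Q, fun v => by simp [hP, hQ]⟩
  | mul x y _ _ hx hy =>
    obtain ⟨P, hP⟩ := hx
    obtain ⟨Q, hQ⟩ := hy
    exact ⟨P * Q, fun v => by simp [hP, hQ]⟩

/-- Limits along a cocharacter stay in closed stable cones: the component of highest weight of
an element of the cone lies in the cone. -/
theorem limit_mem [Infinite K] {lam : A →ₐc[K] K[T;T⁻¹]} {ρ : Representation K (Pt K A) V}
    (d : WtDec.Dec (gmChar K) (ρ.comp (cochPt lam))) {Y : Set V} (hcone : IsCone K Y)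
    (hcl : ZClosed K Y) (hst : ∀ t : Kˣ, ∀ y ∈ Y, ρ (cochPt lam t) y ∈ Y) {y : V} (hy : y ∈ Y)
    {N : ℤ} (hN : ∀ n, N < n → d.P n y = 0) : d.P N y ∈ Y := by
  classical
  refine hcl _ fun p hp hpY => ?_
  obtain ⟨q, hq⟩ := exists_polynomial_curve hp (d.S.filter fun n => n ≤ N)
    (fun n => (N - n).toNat) (fun n => d.P n y)
  have hcurve : ∀ s : Kˣ, ∑ n ∈ d.S.filter (fun n => n ≤ N), (s : K) ^ (N - n).toNat • d.P n y =
      ((s ^ N : Kˣ) : K) • ρ (cochPt lam s⁻¹) y := by
    intro s
    have h1 := d.sum_smul s⁻¹ y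
    rw [MonoidHom.comp_apply] at h1
    rw [← h1, Finset.smul_sum, Finset.sum_filter]
    refine Finset.sum_congr rfl fun n _ => ?_
    split_ifs with h
    · rw [smul_smul]
      congr 1
      rw [gmChar_apply, ← Units.val_mul, inv_zpow', ← zpow_add, ← sub_eq_add_neg]
      have : s ^ (N - n) = s ^ (N - n).toNat := by
        rw [← zpow_natCast, Int.toNat_of_nonneg (by lia)]
      rw [this, Units.val_pow_eq_pow_val]
    · rw [hN n (not_le.mp h), smul_zero, smul_zero]
  have hq0 : ∀ s : Kˣ, q.eval (s : K) = 0 := by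
    intro s
    rw [← hq, hcurve]
    exact hpY _ (hcone _ _ (hst _ _ hy))
  have hqz : q = 0 := by
    apply Polynomial.eq_zero_of_infinite_isRoot
    have : Set.Infinite {x : K | x ≠ 0} := by
      have := (Set.finite_singleton (0 : K)).infinite_compl
      convert this using 1
      ext x
      simp
    refine this.mono fun x hx => ?_
    exact hq0 (Units.mk0 x hx)
  have h0 := hq 0
  rw [hqz, Polynomial.eval_zero] at h0
  rw [← h0]
  congr 1
  rw [Finset.sum_filter]
  by_cases hNS : N ∈ d.S
  · rw [Finset.sum_eq_single N]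
    · simp
    · intro n _ hn
      split_ifs with h
      · rw [zero_pow (by lia), zero_smul]
      · rfl
    · exact fun h => absurd hNS h
  · rw [d.P_eq_zero N hNS, LinearMap.zero_apply, Finset.sum_eq_zero]
    intro n hn
    split_ifs with h
    · have : n ≠ N := fun h' => hNS (h' ▸ hn)
      rw [zero_pow (by lia), zero_smul]
    · rfl

/-- Every nonzero vector has a component of highest weight. -/
theorem exists_top {M : Type*} [LinearOrder M] {D : Type*} [CommMonoid D] {χ : M → D →* K}
    {σ : D →* (V →ₗ[K] V)} (d : WtDec.Dec χ σ) {y : V} (hy : y ≠ 0) :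
    ∃ N, d.P N y ≠ 0 ∧ ∀ n, N < n → d.P n y = 0 := by
  classical
  let s := d.S.filter fun n => d.P n y ≠ 0
  have hs : s.Nonempty := by
    by_contra h
    rw [Finset.not_nonempty_iff_eq_empty] at h
    apply hy
    rw [← d.sum_P y]
    refine Finset.sum_eq_zero fun n hn => ?_
    by_contra hne
    have : n ∈ s := Finset.mem_filter.mpr ⟨hn, hne⟩
    rw [h] at this
    exact absurd this (Finset.notMem_empty n)
  obtain ⟨N, hN, hmax⟩ := s.exists_max_image id hs
  refine ⟨N, (Finset.mem_filter.mp hN).2, fun n hn => ?_⟩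
  by_contra hne
  exact absurd (hmax n (Finset.mem_filter.mpr ⟨d.mem_S_of_ne_zero hne, hne⟩)) (not_le.mpr hn)

end Limits

section Top

variable {K : Type u} [Field K] {A : Type u} [CommRing A] [HopfAlgebra K A]
  {V : Type w} [AddCommGroup V] [Module K V]

/-- `v` spans the highest weight space of the cocharacter `lam` on `V`. -/
def IsTopVec (lam : A →ₐc[K] K[T;T⁻¹]) (ρ : Representation K (Pt K A) V) (v : V) : Prop :=
  v ≠ 0 ∧ ∃ N : ℤ, cwt lam ρ N = K ∙ v ∧ ∀ n, N < n → cwt lam ρ n = ⊥

variable {lam : A →ₐc[K] K[T;T⁻¹]} {ρ : Representation K (Pt K A) V}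

/-- In a simple representation the orbit of a nonzero vector is not contained in a proper
subspace. -/
theorem exists_orbit_notMem (hs : IsSimpleRep ρ) {y : V} (hy : y ≠ 0) {W : Submodule K V}
    (hW : W ≠ ⊤) : ∃ g : Pt K A, ρ g y ∉ W := by
  by_contra h
  push Not at h
  let U : Submodule K V := Submodule.span K (Set.range fun g : Pt K A => ρ g y)
  have hU : IsStable ρ U := by
    intro g x hx
    induction hx using Submodule.span_induction with
    | mem x hx =>
      obtain ⟨g', rfl⟩ := hx
      refine Submodule.subset_span ⟨g * g', ?_⟩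
      change ρ (g * g') y = ρ g (ρ g' y)
      rw [map_mul]; rfl
    | zero => rw [map_zero]; exact Submodule.zero_mem _
    | add a b _ _ ha hb => rw [map_add]; exact Submodule.add_mem _ ha hb
    | smul c a _ ha => rw [map_smul]; exact Submodule.smul_mem _ _ ha
  have hUW : U ≤ W := by
    rw [Submodule.span_le]
    rintro _ ⟨g, rfl⟩
    exact h g
  rcases hs.2 U hU with h1 | h1
  · apply hy
    have : y ∈ U := Submodule.subset_span ⟨1, by simp⟩
    rw [h1] at this
    exact (Submodule.mem_bot K).mp this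
  · exact hW (top_le_iff.mp (h1 ▸ hUW))

variable [IsAlgClosed K] [FiniteDimensional K V]

/-- A vector spanning the top weight space lies in every nonzero closed stable cone. -/
theorem mem_of_isTopVec (hρ : IsAlg ρ) (hs : IsSimpleRep ρ) {v : V} (hv : IsTopVec lam ρ v)
    {Y : Set V} (hcone : IsCone K Y) (hcl : ZClosed K Y) (hst : ∀ g, ∀ y ∈ Y, ρ g y ∈ Y)
    {y : V} (hy : y ∈ Y) (hy0 : y ≠ 0) : v ∈ Y := by
  obtain ⟨d⟩ := nonempty_cochDec lam hρ
  obtain ⟨hv0, N, hN, htop⟩ := hv
  have hvN : v ∈ cwt lam ρ N := by rw [hN]; exact Submodule.mem_span_singleton_self v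
  have hker : LinearMap.ker (d.P N) ≠ ⊤ := by
    intro h
    apply hv0
    rw [← d.P_of_mem gmChar_injective hvN]
    have : v ∈ LinearMap.ker (d.P N) := h ▸ Submodule.mem_top
    exact this
  obtain ⟨g, hg⟩ := exists_orbit_notMem hs hy0 hker
  have h1 : d.P N (ρ g y) ∈ Y := by
    refine limit_mem d hcone hcl (fun t => hst _) (hst g y hy) fun n hn => ?_
    have : d.P n (ρ g y) ∈ cwt lam ρ n := d.P_mem gmChar_injective n _
    rw [htop n hn] at this
    exact (Submodule.mem_bot K).mp this
  have h2 : d.P N (ρ g y) ∈ K ∙ v := hN ▸ d.P_mem gmChar_injective N _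
  obtain ⟨c, hc⟩ := Submodule.mem_span_singleton.mp h2
  have hc0 : c ≠ 0 := by
    rintro rfl
    rw [zero_smul] at hc
    exact hg hc.symm
  have h3 := hcone c⁻¹ _ h1
  rwa [← hc, smul_smul, inv_mul_cancel₀ hc0, one_smul] at h3

/-- The orbit cone of a vector spanning the top weight space of a simple representation is
closed. -/
theorem zclosed_orbCone_of_isTopVec [Algebra.FiniteType K A] [IsDomain A] (hρ : IsAlg ρ)
    (hs : IsSimpleRep ρ) {v : V} (hv : IsTopVec lam ρ v) : ZClosed K (orbCone ρ v) :=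
  orbCone_zclosed hρ hv.1 fun y _ hy0 => mem_of_isTopVec hρ hs hv
    (zclosure_isCone (isCone_orbCone y)) (zclosed_zclosure _) (stable_zclosure (stable_orbCone y))
    (subset_zclosure _ (self_mem_orbCone y)) hy0

omit [IsAlgClosed K] [FiniteDimensional K V] in
/-- The nonzero elements of the orbit cone are the nonzero multiples of the translates. -/
theorem exists_of_mem_orbCone {v y : V} (hy : y ∈ orbCone ρ v) (hy0 : y ≠ 0) :
    ∃ (c : K) (g : Pt K A), c ≠ 0 ∧ y = c • ρ g v := by
  obtain ⟨c, g, rfl⟩ := hy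
  exact ⟨c, g, fun h => hy0 (by rw [h, zero_smul]), rfl⟩

end Top

end Groth.Agent.Sga3B.RG
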