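import Groth.Agent.Sga3B.RG.RepAlg
import Groth.Agent.Sga3B.RG.Luna
import Groth.Agent.Sga3B.RG.ConeOrbit
import Groth.Agent.Books.LieKolchin

/-!
# Lie–Kolchin and Borel's fixed point theorem for cones, in the language of points

* `exists_eigen`: a connected solvable group of points has an eigenvector in every nonzero stable
  subspace of an algebraic representation;
* `exists_fixed_line`: it stabilises a line in every nonzero closed stable cone.
-/

set_option autoImplicit false

universe u w w'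

open WithConv TensorProduct Coalgebra Pointwise

namespace Groth.Agent.Sga3B.RG.SolvFix

variable {K : Type u} [Field K] {A : Type u} [CommRing A] [HopfAlgebra K A]

lemma finConst_of_isConn {H : Set (Pt K A)} (hH : IsConn H) :
    Groth.Agent.Books.HopfPoints.FinConst (k := K) (A := A) H := by
  intro a hfin g hg h hh
  refine hH.const_of_finite_image' (fun g : Pt K A => g a) hfin (fun q => ?_) hg hh
  exact (isFun_apply a).isCl_eq (isFun_const q)

variable {V : Type w} [AddCommGroup V] [Module K V] [FiniteDimensional K V]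

/-- **Lie–Kolchin**: a connected solvable group of points has an eigenvector in every nonzero
stable subspace of an algebraic representation. -/
theorem exists_eigen [IsAlgClosed K] {ρ : Representation K (Pt K A) V} (hρ : IsAlg ρ)
    {H : Subgroup (Pt K A)} (hH : IsConn (H : Set (Pt K A))) (hs : Group.IsSolvable H)
    (W : Submodule K V) (hne : W ≠ ⊥) (hW : ∀ g ∈ H, ∀ w ∈ W, ρ g w ∈ W) :
    ∃ v ∈ W, v ≠ 0 ∧ ∀ g ∈ H, ∃ c : K, ρ g v = c • v := by
  obtain ⟨N, hN⟩ := hs.solvable
  let D : ℕ → Subgroup (Pt K A) := fun n => (derivedSeries H n).map H.subtype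
  have hD0 : D 0 = H := by
    simp only [D]
    rw [derivedSeries_zero, ← MonoidHom.range_eq_map, Subgroup.range_subtype]
  have hDsucc : ∀ n, D (n + 1) = ⁅D n, D n⁆ := by
    intro n
    simp only [D]
    rw [derivedSeries_succ, Subgroup.map_commutator]
  have hDN : D N = ⊥ := by
    simp only [D]
    rw [hN, Subgroup.map_bot]
  have hfc : ∀ n, Groth.Agent.Books.HopfPoints.FinConst (k := K) (A := A)
      (D n : Set (Pt K A)) := by
    intro n
    induction n with
    | zero => rw [hD0]; exact finConst_of_isConn hH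
    | succ n ih =>
      rw [hDsucc]
      exact Groth.Agent.Books.HopfPoints.FinConst.commutator _ ih
  have hreg : Groth.Agent.Books.LieKolchin.RegRep (k := K) (A := A) ρ := fun v f => hρ f v
  have key : ∀ m : ℕ, ∀ n : ℕ, n + m = N → ∀ W : Submodule K V, W ≠ ⊥ →
      (∀ g ∈ D n, ∀ w ∈ W, ρ g w ∈ W) →
      ∃ v ∈ W, v ≠ 0 ∧ ∀ g ∈ D n, ∃ c : K, ρ g v = c • v := by
    intro m
    induction m with
    | zero =>
      rintro n rfl W hW -
      obtain ⟨v, hv, hv0⟩ := Submodule.exists_mem_ne_zero_of_ne_bot hW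
      refine ⟨v, hv, hv0, fun g hg => ⟨1, ?_⟩⟩
      have h1 : g ∈ D (n + 0) := hg
      rw [hDN, Subgroup.mem_bot] at h1
      rw [h1, map_one, one_smul]
      rfl
    | succ m ih =>
      intro n hn W hne hW
      apply Groth.Agent.Books.LieKolchin.step ρ hreg (D n) (hfc n) _ W hne hW
      intro W' hne' hW'
      rw [← hDsucc] at hW' ⊢
      exact ih (n + 1) (by omega) W' hne' hW'
  obtain ⟨v, hv, hv0, h⟩ := key N 0 (by omega) W hne (by rw [hD0]; exact hW)
  rw [hD0] at h
  exact ⟨v, hv, hv0, h⟩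

/-- Borel's fixed point theorem in cone form, for the whole group. -/
theorem exists_fixed_line_top [IsAlgClosed K] {ρ : Representation K (Pt K A) V} (hρ : IsAlg ρ)
    (hG : IsConn (Set.univ : Set (Pt K A))) (hs : Group.IsSolvable (Pt K A)) {Y : Set V}
    (hcone : ∀ (c : K), ∀ y ∈ Y, c • y ∈ Y) (hcl : ZClosed K Y)
    (hst : ∀ g, ∀ y ∈ Y, ρ g y ∈ Y) (hne : ∃ y ∈ Y, y ≠ 0) :
    ∃ y ∈ Y, y ≠ 0 ∧ ∀ g, ∃ c : K, ρ g y = c • y := by
  suffices H : ∀ (n : ℕ) (V : Type w) [AddCommGroup V] [Module K V] [FiniteDimensional K V]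
      (ρ : Representation K (Pt K A) V), IsAlg ρ → ∀ Y : Set V,
      (∀ (c : K), ∀ y ∈ Y, c • y ∈ Y) → ZClosed K Y → (∀ g, ∀ y ∈ Y, ρ g y ∈ Y) →
      (∃ y ∈ Y, y ≠ 0) → Module.finrank K V = n →
      ∃ y ∈ Y, y ≠ 0 ∧ ∀ g, ∃ c : K, ρ g y = c • y from
    H _ V ρ hρ Y hcone hcl hst hne rfl
  clear hρ hcone hcl hst hne Y ρ
  intro n
  induction n using Nat.strong_induction_on with
  | _ n ih =>
  intro V _ _ _ ρ hρ Y hcone hcl hst hne hn
  obtain ⟨y0, hy0, hy00⟩ := hne
  have : Nontrivial V := ⟨⟨y0, 0, hy00⟩⟩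
  have hs' : Group.IsSolvable (⊤ : Subgroup (Pt K A)) := inferInstance
  obtain ⟨f, -, hf0, hf⟩ := exists_eigen hρ.dual (H := ⊤) (by rw [Subgroup.coe_top]; exact hG)
    hs' ⊤ top_ne_bot (fun _ _ _ _ => trivial)
  choose! χ hχ using hf
  have hfχ : ∀ g v, f (ρ g v) = χ g⁻¹ * f v := by
    intro g v
    have h1 := LinearMap.congr_fun (hχ g⁻¹ trivial) v
    change f (ρ g⁻¹⁻¹ v) = χ g⁻¹ * f v at h1
    rwa [inv_inv] at h1
  by_cases hcase : ∃ y ∈ Y, y ≠ 0 ∧ f y = 0
  · -- descend to the kernel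
    obtain ⟨y1, hy1, hy10, hfy1⟩ := hcase
    let W : Submodule K V := LinearMap.ker f
    have hW : ∀ g, W ≤ W.comap (ρ g) := by
      intro g w hw
      rw [Submodule.mem_comap, LinearMap.mem_ker, hfχ, LinearMap.mem_ker.1 hw, mul_zero]
    have hlt : Module.finrank K W < n := by
      rw [← hn]
      refine Submodule.finrank_lt ?_
      intro h
      rw [LinearMap.ker_eq_top] at h
      exact hf0 h
    obtain ⟨y, hy, hy0, hyfix⟩ := ih _ hlt W (ρ.subrepresentation W hW)
      (hρ.subrepresentation W hW) (W.subtype ⁻¹' Y)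
      (fun c y hy => by
        change W.subtype (c • y) ∈ Y
        rw [map_smul]; exact hcone c _ hy)
      (hcl.preimage W.subtype)
      (fun g y hy => hst g _ hy) ⟨⟨y1, LinearMap.mem_ker.2 hfy1⟩, hy1, fun h => hy10
        (congrArg Subtype.val h)⟩ rfl
    refine ⟨y, hy, fun h => hy0 (Subtype.ext h), fun g => ?_⟩
    obtain ⟨c, hc⟩ := hyfix g
    exact ⟨c, congrArg Subtype.val hc⟩
  · push Not at hcase
    have hfy0 : f y0 ≠ 0 := hcase y0 hy0 hy00
    refine ⟨y0, hy0, hy00, ?_⟩
    -- the map `g ↦ (f (ρ g y0))⁻¹ • ρ g y0` has finite image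
    let z : Pt K A → V := fun g => (f (ρ g y0))⁻¹ • (f y0 • ρ g y0)
    have hχ0 : ∀ g, f (ρ g y0) ≠ 0 := fun g => hcase _ (hst g y0 hy0) (by
      intro h
      apply hy00
      apply (ρ.apply_bijective g).1
      rw [h, map_zero])
    have hzY : ∀ g, z g ∈ Y := fun g => hcone _ _ (hcone _ _ (hst g y0 hy0))
    have hfz : ∀ g, f (z g) = f y0 := fun g => by
      simp only [z, map_smul, smul_eq_mul]
      rw [mul_comm (f y0), ← mul_assoc, inv_mul_cancel₀ (hχ0 g), one_mul]
    have hfinite : (z '' Set.univ).Finite := by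
      let b := Module.finBasis K V
      have h1 : ∀ i, {c : K | ∃ y ∈ Y, (∀ f' ∈ ({f} : Set (Module.Dual K V)), f' y = f' y0) ∧
          b.coord i y = c}.Finite := fun i =>
        finite_values hcone (isZClosed_iff.2 hcl) (F := {f}) (fun y hy h => by
          by_contra hy0
          exact hcase y hy hy0 (h f rfl)) (b.coord i) y0
      have h2 : (Set.univ.pi fun i => {c : K | ∃ y ∈ Y,
          (∀ f' ∈ ({f} : Set (Module.Dual K V)), f' y = f' y0) ∧ b.coord i y = c}).Finite :=
        Set.Finite.pi h1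
      have h3 : (b.equivFun '' (z '' Set.univ)).Finite := by
        refine h2.subset ?_
        rintro _ ⟨_, ⟨g, -, rfl⟩, rfl⟩ i -
        refine ⟨z g, hzY g, fun f' hf' => ?_, rfl⟩
        rw [Set.mem_singleton_iff.1 hf']
        exact hfz g
      exact Set.Finite.of_finite_image h3 b.equivFun.injective.injOn
    intro g
    have hcst := hG.const_of_finite_image z hfinite (fun x _ => by
      refine ⟨{g | f y0 • ρ g y0 = f (ρ g y0) • z x}, ?_, fun y _ hy => ?_, fun y _ hy => ?_⟩
      · have : {g | f y0 • ρ g y0 = f (ρ g y0) • z x} =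
          ⋂ l : Module.Dual K V, {g | f y0 * l (ρ g y0) = l (z x) * f (ρ g y0)} := by
          ext g
          simp only [Set.mem_ofPred_eq, Set.mem_iInter]
          constructor
          · intro h l
            have := congrArg l h
            simpa [mul_comm] using this
          · intro h
            rw [← sub_eq_zero, ← Module.forall_dual_apply_eq_zero_iff K]
            intro l
            rw [map_sub, map_smul, map_smul, smul_eq_mul, smul_eq_mul, h l, mul_comm, sub_self]
        rw [this]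
        exact isCl_iInter fun l => ((hρ.isFun l y0).const_mul _).isCl_eq
          ((hρ.isFun f y0).const_mul _)
      · change f y0 • ρ y y0 = f (ρ y y0) • z x
        rw [← hy]
        simp only [z]
        rw [smul_smul, mul_inv_cancel₀ (hχ0 y), one_smul]
      · change f y0 • ρ y y0 = f (ρ y y0) • z x at hy
        simp only [z] at hy ⊢
        rw [hy, smul_smul, inv_mul_cancel₀ (hχ0 y), one_smul]) (Set.mem_univ g) (Set.mem_univ 1)
    have hz1 : z 1 = y0 := by
      simp only [z, map_one, Module.End.one_apply, smul_smul]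
      rw [inv_mul_cancel₀ hfy0, one_smul]
    rw [hz1] at hcst
    refine ⟨(f y0)⁻¹ * f (ρ g y0), ?_⟩
    have h5 : ((f y0)⁻¹ * f (ρ g y0)) • z g = ρ g y0 := by
      simp only [z]
      rw [smul_smul, smul_smul]
      have h6 : (f y0)⁻¹ * f (ρ g y0) * (f (ρ g y0))⁻¹ * f y0 = 1 := by
        rw [mul_assoc (f y0)⁻¹, mul_inv_cancel₀ (hχ0 g), mul_one, inv_mul_cancel₀ hfy0]
      rw [h6, one_smul]
    rw [hcst] at h5
    exact h5.symm

/-- **Borel's fixed point theorem** in cone form: a closed connected solvable group of points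
stabilises a line in every nonzero closed stable cone of an algebraic representation. -/
theorem exists_fixed_line [IsAlgClosed K] [Algebra.FiniteType K A]
    {ρ : Representation K (Pt K A) V} (hρ : IsAlg ρ) {H : Subgroup (Pt K A)}
    (hHcl : IsCl (H : Set (Pt K A))) (hH : IsConn (H : Set (Pt K A))) (hs : Group.IsSolvable H)
    {Y : Set V} (hcone : ∀ (c : K), ∀ y ∈ Y, c • y ∈ Y) (hcl : ZClosed K Y)
    (hst : ∀ g ∈ H, ∀ y ∈ Y, ρ g y ∈ Y) (hne : ∃ y ∈ Y, y ≠ 0) :
    ∃ y ∈ Y, y ≠ 0 ∧ ∀ g ∈ H, ∃ c : K, ρ g y = c • y := by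
  let J : Ideal A := vanIdeal (H : Set (Pt K A))
  have hdom : IsDomain (A ⧸ J) := by
    rw [Ideal.Quotient.isDomain_iff_prime]; exact hH
  have hs' : Group.IsSolvable (Pt K (A ⧸ J)) :=
    Group.isSolvable_of_isSolvable_injective (f := (subEquiv H hHcl).toMonoidHom)
      (subEquiv H hHcl).injective
  obtain ⟨y, hy, hy0, hfix⟩ := exists_fixed_line_top (A := A ⧸ J)
    (ρ := ρ.comp (quotMap (K := K) J)) (hρ.comp_map _) isConn_univ hs' hcone hcl
    (fun g y hy => hst _ (subEquiv H hHcl g).2 y hy) hne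
  refine ⟨y, hy, hy0, fun g hg => ?_⟩
  obtain ⟨c, hc⟩ := hfix ((subEquiv H hHcl).symm ⟨g, hg⟩)
  refine ⟨c, ?_⟩
  have h1 : quotMap (K := K) J ((subEquiv H hHcl).symm ⟨g, hg⟩) = g := by
    rw [← subEquiv_apply H hHcl, MulEquiv.apply_symm_apply]
  rw [← hc]
  change _ = ρ (quotMap (K := K) J ((subEquiv H hHcl).symm ⟨g, hg⟩)) y
  rw [h1]

end Groth.Agent.Sga3B.RG.SolvFix
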