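import Groth.Agent.Sga3B.RG.GenSpec
import Mathlib.RingTheory.FiniteStability
import Mathlib.LinearAlgebra.Matrix.Charpoly.Eigs
import Mathlib.LinearAlgebra.Matrix.ToLinearEquiv
import Mathlib.RingTheory.Ideal.GoingUp
import Mathlib.FieldTheory.IsAlgClosed.AlgebraicClosure
import Mathlib.RingTheory.Localization.FractionRing

/-!
# Central cocharacters and eigenvalues

`A` is a finitely generated Hopf domain over an algebraically closed field and `a` a matrix of
matrix coefficients.  If every cocharacter acts by scalars then every point has a single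
eigenvalue.
-/

set_option autoImplicit false

universe u v w x

open TensorProduct Polynomial
open Groth.Agent.Books.ComodDual Groth.Agent.Books.ComodSocle
open Groth.Agent.Sga3B.RG.GenEig Groth.Agent.Sga3B.RG.GenSpec

namespace Groth.Agent.Sga3B.RG.GenMat

section comat

variable {K : Type u} [Field K] {A : Type v} [CommRing A] [HopfAlgebra K A]
  {ι : Type w} [Fintype ι] [DecidableEq ι]

variable (K) in
/-- A matrix of matrix coefficients: a homomorphism to `GL_n`. -/
structure IsComat (a : Matrix ι ι A) : Prop where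
  comul : ∀ i j, CoalgebraStruct.comul (R := K) (a i j) = ∑ k, a i k ⊗ₜ[K] a k j
  counit : ∀ i j, CoalgebraStruct.counit (R := K) (a i j) = if i = j then 1 else 0

/-- the generic point -/
noncomputable def gpt {L : Type x} [Field L] [Algebra K L] (j : A →ₐ[K] L) : L ⊗[K] A →ₐ[L] L :=
  Algebra.TensorProduct.lift (AlgHom.id L L) j (fun _ _ => Commute.all _ _)

lemma gpt_tmul {L : Type x} [Field L] [Algebra K L] (j : A →ₐ[K] L) (l : L) (a : A) :
    gpt j (l ⊗ₜ[K] a) = l * j a := by
  simp [gpt]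

/-- The functions attached to an eigenvector of the generic matrix. -/
lemma eigen_generic {L : Type x} [Field L] [Algebra K L] (j : A →ₐ[K] L) {a : Matrix ι ι A}
    (ha : IsComat K a) (y : ι → L) (l : L) (hy : (a.map j).mulVec y = l • y) (i : ι) :
    cact (V := L ⊗[K] A) (gpt j).toLinearMap (∑ m, y m ⊗ₜ[K] a i m) =
      l • ∑ m, y m ⊗ₜ[K] a i m := by
  have h1 : ∀ m, cact (V := L ⊗[K] A) (gpt j).toLinearMap (y m ⊗ₜ[K] a i m) =
      ∑ k, (y m * j (a k m)) ⊗ₜ[K] a i k := by
    intro m
    have h2 : (y m ⊗ₜ[K] a i m : L ⊗[K] A) = y m • ((1 : L) ⊗ₜ[K] a i m) := by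
      rw [TensorProduct.smul_tmul', smul_eq_mul, mul_one]
    rw [h2, map_smul, cact_regular, comul_one_tmul (a i m) Finset.univ _ _ (ha.comul i m),
      map_sum, Finset.smul_sum]
    refine Finset.sum_congr rfl fun k _ => ?_
    rw [contr_tmul, AlgHom.toLinearMap_apply, gpt_tmul, one_mul, TensorProduct.smul_tmul',
      TensorProduct.smul_tmul', smul_eq_mul, smul_eq_mul, mul_one]
  rw [map_sum]
  simp only [h1]
  rw [Finset.sum_comm, Finset.smul_sum]
  refine Finset.sum_congr rfl fun k _ => ?_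
  rw [← TensorProduct.sum_tmul, TensorProduct.smul_tmul', smul_eq_mul]
  congr 1
  have h3 := congrFun hy k
  rw [Matrix.mulVec, dotProduct] at h3
  simp only [Matrix.map_apply, Pi.smul_apply, smul_eq_mul] at h3
  rw [← h3]
  exact Finset.sum_congr rfl fun m _ => mul_comm _ _

lemma counit_generic {L : Type x} [Field L] [Algebra K L] {a : Matrix ι ι A}
    (ha : IsComat K a) (y : ι → L) (i : ι) :
    CoalgebraStruct.counit (R := L) (∑ m, y m ⊗ₜ[K] a i m : L ⊗[K] A) = y i := by
  rw [map_sum, Finset.sum_eq_single i]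
  · rw [TensorProduct.counit_tmul, ha.counit, if_pos rfl, one_smul]
    rfl
  · intro m _ hm
    rw [TensorProduct.counit_tmul, ha.counit, if_neg (Ne.symm hm), zero_smul]
  · intro h
    exact absurd (Finset.mem_univ _) h

end comat

section sep

variable {K : Type u} [Field K] [IsAlgClosed K] {A : Type v} [CommRing A] [HopfAlgebra K A]
  [Algebra.FiniteType K A] {ι : Type w} [Fintype ι] [DecidableEq ι]

/-- Two eigenvalues of the generic matrix whose ratio is not a root of unity are separated by a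
cocharacter defined over `K`. -/
theorem exists_separating {L : Type x} [Field L] [IsAlgClosed L] [Algebra K L] (j : A →ₐ[K] L)
    {a : Matrix ι ι A} (ha : IsComat K a) (y₁ y₂ : ι → L) (l₁ l₂ : L)
    (hy₁ : y₁ ≠ 0) (hy₂ : y₂ ≠ 0)
    (h₁ : (a.map j).mulVec y₁ = l₁ • y₁) (h₂ : (a.map j).mulVec y₂ = l₂ • y₂)
    (hr : ∀ n : ℕ, 0 < n → l₁ ^ n ≠ l₂ ^ n) :
    ∃ (c : A →ₐc[K] MonoidAlgebra K (Multiplicative ℤ)) (n₁ n₂ : Multiplicative ℤ)
      (i₁ j₁ i₂ j₂ : ι), n₁ ≠ n₂ ∧ (c (a i₁ j₁)).coeff n₁ ≠ 0 ∧ (c (a i₂ j₂)).coeff n₂ ≠ 0 := by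
  classical
  obtain ⟨Λ, hΛ, D, hD, hev⟩ := exists_diag (L := L) (B := L ⊗[K] A) (gpt j)
  obtain ⟨i₁, hi₁⟩ := Function.ne_iff.1 hy₁
  obtain ⟨i₂, hi₂⟩ := Function.ne_iff.1 hy₂
  have hev' : ∀ (y : ι → L) (l : L) (i : ι), y i ≠ 0 → (a.map j).mulVec y = l • y →
      Module.End.HasEigenvalue (cact (V := L ⊗[K] A) (gpt j).toLinearMap) l := by
    intro y l i hi hy
    refine Module.End.hasEigenvalue_of_hasEigenvector
      (x := (∑ m, y m ⊗ₜ[K] a i m : L ⊗[K] A)) ?_
    rw [Module.End.hasEigenvector_iff, Module.End.mem_eigenspace_iff]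
    refine ⟨eigen_generic j ha y l hy i, ?_⟩
    intro h0
    apply hi
    have := counit_generic ha y i
    rw [h0, map_zero] at this
    exact this.symm
  obtain ⟨m₁, hm₁⟩ := hev l₁ (hev' y₁ l₁ i₁ hi₁ h₁)
  obtain ⟨m₂, hm₂⟩ := hev l₂ (hev' y₂ l₂ i₂ hi₂ h₂)
  obtain ⟨h, hh⟩ := exists_hom_int (m₁ / m₂) (by
    intro n hn h0
    apply hr n hn
    rw [div_pow, div_eq_one] at h0
    rw [← hm₁, ← hm₂, ← Units.val_pow_eq_pow_val, ← Units.val_pow_eq_pow_val]
    congr 1
    have := congrArg (fun x : Λ => (x : Lˣ)) h0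
    simpa using this)
  let cL : L ⊗[K] A →ₐc[L] MonoidAlgebra L (Multiplicative ℤ) :=
    (MonoidAlgebra.mapDomainBialgHom L h).comp D
  have hcL : ∀ (y : ι → L) (l : L) (m : Λ), ((m : Lˣ) : L) = l →
      (a.map j).mulVec y = l • y → ∀ i, y i ≠ 0 →
      ∃ k, (cL ((1 : L) ⊗ₜ[K] a i k)).coeff (h m) ≠ 0 := by
    intro y l m hm hy i hi
    by_contra hcon
    push Not at hcon
    apply hi
    have h3 : (∑ m, y m ⊗ₜ[K] a i m : L ⊗[K] A) ∈
        Module.End.maxGenEigenspace (cact (V := L ⊗[K] A) (gpt j).toLinearMap)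
          ((m : Lˣ) : L) := by
      rw [Module.End.mem_maxGenEigenspace, hm]
      exact ⟨1, by rw [pow_one, LinearMap.sub_apply, LinearMap.smul_apply, Module.End.one_apply,
        eigen_generic j ha y l hy i, sub_self]⟩
    have h4 := hD m _ h3
    rw [counit_generic ha y i] at h4
    have h5 : cL (∑ m, y m ⊗ₜ[K] a i m : L ⊗[K] A) = MonoidAlgebra.single (h m) (y i) := by
      change (MonoidAlgebra.mapDomainBialgHom L h) (D _) = _
      rw [h4, MonoidAlgebra.mapDomainBialgHom_single]
    have h6 : (∑ m, y m ⊗ₜ[K] a i m : L ⊗[K] A) = ∑ m, y m • ((1 : L) ⊗ₜ[K] a i m) := by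
      refine Finset.sum_congr rfl fun m _ => ?_
      rw [TensorProduct.smul_tmul', smul_eq_mul, mul_one]
    rw [h6, map_sum] at h5
    have h7 := congrArg (fun z => z.coeff (h m)) h5
    simp only [MonoidAlgebra.coeff_sum, MonoidAlgebra.coeff_single, Finsupp.single_eq_same] at h7
    rw [Finsupp.finsetSum_apply] at h7
    rw [← h7]
    apply Finset.sum_eq_zero
    intro k _
    rw [map_smul, MonoidAlgebra.coeff_smul_apply, hcon k, smul_zero]
  obtain ⟨j₁, hj₁⟩ := hcL y₁ l₁ m₁ hm₁ h₁ i₁ hi₁
  obtain ⟨j₂, hj₂⟩ := hcL y₂ l₂ m₂ hm₂ h₂ i₂ hi₂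
  have hfam := isFam_of_bialgHom cL
  obtain ⟨R, σ, c', hc', hS⟩ := exists_spec _ hfam
    {(cL ((1 : L) ⊗ₜ[K] a i₁ j₁)).coeff (h m₁), (cL ((1 : L) ⊗ₜ[K] a i₂ j₂)).coeff (h m₂)}
    (by
      intro s hs
      simp only [Finset.mem_insert, Finset.mem_singleton] at hs
      rcases hs with rfl | rfl
      · exact hj₁
      · exact hj₂)
  refine ⟨c', h m₁, h m₂, i₁, j₁, i₂, j₂, ?_, ?_, ?_⟩
  · intro heq
    apply hh
    rw [_root_.map_div, div_eq_one]
    exact heq
  · obtain ⟨h8, h9⟩ := hc' (a i₁ j₁) (h m₁)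
    rw [h9]
    obtain ⟨h10, h11⟩ := hS _ (Finset.mem_insert_self _ _)
    exact h11
  · obtain ⟨h8, h9⟩ := hc' (a i₂ j₂) (h m₂)
    rw [h9]
    obtain ⟨h10, h11⟩ := hS _ (Finset.mem_insert_of_mem (Finset.mem_singleton_self _))
    exact h11

/-- Extension of a `K`-point along an integral finitely generated extension. -/
lemma exists_extension {A : Type v} [CommRing A] [Algebra K A] [Algebra.FiniteType K A]
    {S : Type x} [CommRing S] [Algebra A S] [Algebra K S] [IsScalarTower K A S]
    [Algebra.FiniteType A S] [Algebra.IsIntegral A S]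
    (hinj : Function.Injective (algebraMap A S)) (p : A →ₐ[K] K) :
    ∃ q : S →ₐ[K] K, ∀ a, q (algebraMap A S a) = p a := by
  have hsurj : Function.Surjective p := fun r => ⟨algebraMap K A r, p.commutes r⟩
  have hmax : (RingHom.ker p).IsMaximal := RingHom.ker_isMaximal_of_surjective p hsurj
  obtain ⟨Q, hQ, hQP⟩ := Ideal.exists_ideal_over_maximal_of_isIntegral (S := S)
    (RingHom.ker p) (by
      rw [(RingHom.injective_iff_ker_eq_bot _).1 hinj]
      exact bot_le)
  have : Nontrivial (S ⧸ Q) := Ideal.Quotient.nontrivial_iff.2 hQ.ne_top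
  have : Algebra.FiniteType K S := Algebra.FiniteType.trans (S := A) inferInstance inferInstance
  obtain ⟨f⟩ := exists_point (K := K) (S ⧸ Q)
  refine ⟨f.comp (Ideal.Quotient.mkₐ K Q), ?_⟩
  intro a
  have h1 : a - algebraMap K A (p a) ∈ RingHom.ker p := by
    rw [RingHom.mem_ker, map_sub, AlgHom.commutes]
    exact sub_self _
  rw [← hQP, Ideal.mem_comap, _root_.map_sub, ← IsScalarTower.algebraMap_apply] at h1
  have h2 : Ideal.Quotient.mkₐ K Q (algebraMap A S a) =
      Ideal.Quotient.mkₐ K Q (algebraMap K S (p a)) :=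
    Ideal.Quotient.eq.2 h1
  rw [AlgHom.comp_apply, h2, ← AlgHom.comp_apply, AlgHom.commutes]
  rfl

/-- A root of unity in an extension of an algebraically closed field. -/
lemma mem_range_of_pow_eq_one {L : Type x} [Field L] [Algebra K L] {z : L} {n : ℕ} (hn : 0 < n)
    (hz : z ^ n = 1) : ∃ r : K, algebraMap K L r = z := by
  have hint : IsIntegral K z := ⟨X ^ n - 1, monic_X_pow_sub_C 1 hn.ne', by simp [hz]⟩
  have h1 := IsAlgClosed.degree_eq_one_of_irreducible K (minpoly.irreducible hint)
  exact minpoly.mem_range_of_degree_eq_one K z h1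

/-- Eigenvectors from roots of the characteristic polynomial. -/
lemma exists_eigenvector {L : Type x} [Field L] (M : Matrix ι ι L) {l : L}
    (hl : M.charpoly.IsRoot l) : ∃ y : ι → L, y ≠ 0 ∧ M.mulVec y = l • y := by
  rw [IsRoot, Matrix.eval_charpoly] at hl
  obtain ⟨y, hy, h⟩ := Matrix.exists_mulVec_eq_zero_iff.2 hl
  refine ⟨y, hy, ?_⟩
  rw [Matrix.sub_mulVec, sub_eq_zero] at h
  rw [← h, Matrix.scalar_apply, Matrix.diagonal_const_mulVec]

section single

variable [IsDomain A]

/-- **Single eigenvalues.**  If every cocharacter acts by scalars on the module with matrix `a`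
then every point acts with a single eigenvalue. -/
theorem single_eigenvalue {a : Matrix ι ι A} (ha : IsComat K a)
    (hc : ∀ c : A →ₐc[K] MonoidAlgebra K (Multiplicative ℤ), ∃ m : Multiplicative ℤ,
      ∀ i j, c (a i j) = if i = j then MonoidAlgebra.single m 1 else 0)
    (p : A →ₐ[K] K) : ∃ μ : K, (a.map p).charpoly = (X - C μ) ^ Fintype.card ι := by
  classical
  rcases isEmpty_or_nonempty ι with hι | hι
  · refine ⟨0, ?_⟩
    rw [Matrix.charpoly, Matrix.det_isEmpty, Fintype.card_eq_zero, pow_zero]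
  let L := AlgebraicClosure (FractionRing A)
  have hinj : Function.Injective (algebraMap A L) := by
    rw [IsScalarTower.algebraMap_eq A (FractionRing A) L]
    exact (algebraMap (FractionRing A) L).injective.comp (IsFractionRing.injective A (FractionRing A))
  let j : A →ₐ[K] L := IsScalarTower.toAlgHom K A L
  let P : L[X] := (a.map j).charpoly
  have hP : P = a.charpoly.map (algebraMap A L) := Matrix.charpoly_map a (algebraMap A L)
  have hPmonic : P.Monic := Matrix.charpoly_monic _
  have hint : ∀ l, P.IsRoot l → IsIntegral A l := by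
    intro l hl
    refine ⟨a.charpoly, Matrix.charpoly_monic a, ?_⟩
    rw [IsRoot, hP, eval_map] at hl
    exact hl
  -- two roots are equal
  have heq : ∀ l l' : L, P.IsRoot l → P.IsRoot l' → l = l' := by
    intro l l' hl hl'
    obtain ⟨y, hy0, hy⟩ := exists_eigenvector _ hl
    obtain ⟨y', hy0', hy'⟩ := exists_eigenvector _ hl'
    have h1 : ∃ n : ℕ, 0 < n ∧ l ^ n = l' ^ n := by
      by_contra hcon
      push Not at hcon
      obtain ⟨c, n₁, n₂, i₁, j₁, i₂, j₂, hne, h1, h2⟩ :=
        exists_separating j ha y y' l l' hy0 hy0' hy hy' hcon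
      obtain ⟨m, hm⟩ := hc c
      have h3 : ∀ (i j : ι) (n : Multiplicative ℤ), (c (a i j)).coeff n ≠ 0 → n = m := by
        intro i j n hn
        by_contra hnm
        apply hn
        rw [hm]
        split_ifs with hij
        · rw [MonoidAlgebra.coeff_single, Finsupp.single_eq_of_ne hnm]
        · rfl
      exact hne ((h3 _ _ _ h1).trans (h3 _ _ _ h2).symm)
    obtain ⟨n, hn, hn'⟩ := h1
    by_cases hl0 : l' = 0
    · rw [hl0] at hn' ⊢
      rw [zero_pow hn.ne'] at hn'
      exact pow_eq_zero_iff hn.ne' |>.1 hn'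
    have h2 : (l / l') ^ n = 1 := by
      rw [div_pow, hn', div_self (pow_ne_zero _ hl0)]
    obtain ⟨ζ, hζ⟩ := mem_range_of_pow_eq_one (K := K) hn h2
    have h3 : l = algebraMap K L ζ * l' := by
      rw [hζ, div_mul_cancel₀ _ hl0]
    let S := Algebra.adjoin A ({l, l'} : Set L)
    have hSl : l ∈ S := Algebra.subset_adjoin (Set.mem_insert _ _)
    have hSl' : l' ∈ S := Algebra.subset_adjoin (Set.mem_insert_of_mem _ rfl)
    have hSfin : Algebra.FiniteType A S := by
      rw [← Subalgebra.fg_iff_finiteType]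
      exact ⟨{l, l'}, by simp [S]⟩
    have hSint : Algebra.IsIntegral A S := by
      apply Algebra.IsIntegral.adjoin
      intro z hz
      rcases hz with rfl | hz
      · exact hint _ hl
      · rw [Set.mem_singleton_iff] at hz
        rw [hz]
        exact hint _ hl'
    have hSinj : Function.Injective (algebraMap A S) := by
      intro x y hxy
      exact hinj (congrArg Subtype.val hxy)
    obtain ⟨σ, hσ⟩ := exists_extension hSinj (Bialgebra.counitAlgHom K A)
    have h4 : ∀ z (hz : z ∈ S), P.IsRoot z → σ ⟨z, hz⟩ = 1 := by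
      intro z hz hroot
      have h5 : eval₂ (algebraMap A S) ⟨z, hz⟩ a.charpoly = 0 := by
        apply Subtype.val_injective
        rw [IsRoot, hP, eval_map] at hroot
        have h6 := hom_eval₂ a.charpoly (algebraMap A S) (S.val : S →+* L) ⟨z, hz⟩
        exact h6.trans hroot
      have h6 := hom_eval₂ a.charpoly (algebraMap A S) (σ : S →+* K) ⟨z, hz⟩
      rw [h5, _root_.map_zero] at h6
      have h7 : (σ : S →+* K).comp (algebraMap A S) = (Bialgebra.counitAlgHom K A : A →+* K) :=
        RingHom.ext hσ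
      rw [h7, ← eval_map, ← Matrix.charpoly_map] at h6
      have h8 : a.map (Bialgebra.counitAlgHom K A : A →+* K) = 1 := by
        ext i j
        rw [Matrix.map_apply, Matrix.one_apply]
        exact ha.counit i j
      rw [h8, Matrix.charpoly_one, eval_pow, eval_sub, eval_X, eval_one] at h6
      have h9 := pow_eq_zero_iff (Fintype.card_ne_zero (α := ι)) |>.1 h6.symm
      exact sub_eq_zero.1 h9
    have h5 : (⟨l, hSl⟩ : S) = ζ • ⟨l', hSl'⟩ := by
      apply Subtype.ext
      change l = ζ • l'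
      rw [Algebra.smul_def]
      exact h3
    have h6 := congrArg σ h5
    rw [_root_.map_smul, h4 _ _ hl, h4 _ _ hl', smul_eq_mul, mul_one] at h6
    rw [h3, ← h6, _root_.map_one, one_mul]
  -- a root
  obtain ⟨l, hl⟩ : ∃ l, P.IsRoot l := by
    apply IsAlgClosed.exists_root
    rw [Polynomial.degree_eq_natDegree hPmonic.ne_zero, Matrix.charpoly_natDegree_eq_dim]
    exact_mod_cast Fintype.card_ne_zero
  have hPpow : P = (X - C l) ^ Fintype.card ι := by
    have h1 := (IsAlgClosed.splits P).eq_prod_roots_of_monic hPmonic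
    have h2 : P.roots = Multiset.replicate (Multiset.card P.roots) l :=
      Multiset.eq_replicate_card.2 fun z hz => heq z l (isRoot_of_mem_roots hz) hl
    have h3 : Multiset.card P.roots = Fintype.card ι := by
      rw [← (IsAlgClosed.splits P).natDegree_eq_card_roots]
      exact Matrix.charpoly_natDegree_eq_dim _
    rw [h3] at h2
    rw [h1, h2, Multiset.map_replicate, Multiset.prod_replicate]
  let S := Algebra.adjoin A ({l} : Set L)
  have hSl : l ∈ S := Algebra.subset_adjoin rfl
  have hSfin : Algebra.FiniteType A S := by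
    rw [← Subalgebra.fg_iff_finiteType]
    exact ⟨{l}, by simp [S]⟩
  have hSint : Algebra.IsIntegral A S := by
    apply Algebra.IsIntegral.adjoin
    intro z hz
    rw [Set.mem_singleton_iff] at hz
    rw [hz]
    exact hint _ hl
  have hSinj : Function.Injective (algebraMap A S) := by
    intro x y hxy
    exact hinj (congrArg Subtype.val hxy)
  obtain ⟨q, hq⟩ := exists_extension hSinj p
  refine ⟨q ⟨l, hSl⟩, ?_⟩
  have h1 : a.charpoly.map (algebraMap A S) = (X - C ⟨l, hSl⟩) ^ Fintype.card ι := by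
    apply Polynomial.map_injective (S.val : S →+* L) Subtype.val_injective
    rw [Polynomial.map_map, Polynomial.map_pow, Polynomial.map_sub, Polynomial.map_X,
      Polynomial.map_C]
    exact hP.symm.trans hPpow
  have h2 := congrArg (Polynomial.map (q : S →+* K)) h1
  rw [Polynomial.map_map, Polynomial.map_pow, Polynomial.map_sub, Polynomial.map_X,
    Polynomial.map_C] at h2
  have h3 : (q : S →+* K).comp (algebraMap A S) = (p : A →+* K) := RingHom.ext hq
  rw [h3] at h2
  exact (Matrix.charpoly_map a (p : A →+* K)).trans h2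

end single

end sep

end Groth.Agent.Sga3B.RG.GenMat
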