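import Groth.Agent.Sga3B.RG.GenEig
import Mathlib.RingTheory.Jacobson.Ring
import Mathlib.RingTheory.HopfAlgebra.TensorProduct
import Mathlib.FieldTheory.IsAlgClosed.Basic
import Mathlib.LinearAlgebra.TensorProduct.Basis
import Mathlib.Algebra.MonoidAlgebra.Module

/-!
# Families of homomorphisms from diagonalizable groups and their specialisation

`A` is a commutative Hopf algebra over a field `K`, `R` a commutative `K`-algebra.  A family of
homomorphisms `D(G)_R → Spec A ×_K R` is an algebra map `c : A → R[G]` whose coefficients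
`F_m : A → R` satisfy `∑ F_m(a₁) F_n(a₂) = δ_{mn} F_m(a)` and `∑ F_m(a) = ε(a)`.  If `R` is a field
extension `L` of the algebraically closed field `K` we specialise the family to a homomorphism
over `K` keeping finitely many given elements of `L` nonzero.
-/

set_option autoImplicit false

universe u v w x

open TensorProduct

namespace Groth.Agent.Sga3B.RG.GenSpec

section fam

variable {K : Type u} [Field K] {A : Type v} [CommRing A] [HopfAlgebra K A] {G : Type w} [Group G]

/-- The coefficient functional. -/
noncomputable def cf (K : Type u) [Field K] {R : Type x} [CommRing R] [Algebra K R] (m : G) :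
    MonoidAlgebra R G →ₗ[K] R :=
  (Finsupp.lapply m) ∘ₗ (MonoidAlgebra.coeffLinearEquiv K).toLinearMap

omit [Group G] in
lemma cf_apply {R : Type x} [CommRing R] [Algebra K R] (m : G) (y : MonoidAlgebra R G) :
    cf K m y = y.coeff m := rfl

/-- The coefficient functional, linear over the coefficients. -/
noncomputable def cfL (R : Type x) [CommRing R] (m : G) :
    MonoidAlgebra R G →ₗ[R] R :=
  (Finsupp.lapply m) ∘ₗ (MonoidAlgebra.coeffLinearEquiv R).toLinearMap

omit [Group G] in
lemma cfL_apply {R : Type x} [CommRing R] (m : G) (y : MonoidAlgebra R G) :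
    cfL R m y = y.coeff m := rfl

/-- `F ⋆ F'`, the convolution product of two `R`-valued functionals. -/
noncomputable def cv {R : Type x} [CommRing R] [Algebra K R] (F F' : A →ₗ[K] R) : A →ₗ[K] R :=
  (TensorProduct.lift ((LinearMap.mul K R).compl₁₂ F F')) ∘ₗ
    (CoalgebraStruct.comul (R := K) (A := A))

/-- Families of homomorphisms `D(G)_R → (Spec A)_R`. -/
structure IsFam {R : Type x} [CommRing R] [Algebra K R] (c : A →ₐ[K] MonoidAlgebra R G) :
    Prop where
  counit : ∀ a, (c a).coeff.sum (fun _ r => r) =
    algebraMap K R (CoalgebraStruct.counit (R := K) a)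
  comul : ∀ (m n : G) (a : A), (m ≠ n → cv (cf K m ∘ₗ c.toLinearMap) (cf K n ∘ₗ c.toLinearMap) a =
    0) ∧ cv (cf K m ∘ₗ c.toLinearMap) (cf K m ∘ₗ c.toLinearMap) a = (c a).coeff m

lemma lift_comp {R : Type x} [CommRing R] [Algebra K R] {S : Type*} [CommRing S] [Algebra K S]
    (f : R →ₐ[K] S) (F F' : A →ₗ[K] R) (a : A) :
    cv (f.toLinearMap ∘ₗ F) (f.toLinearMap ∘ₗ F') a = f (cv F F' a) := by
  rw [cv, cv, LinearMap.comp_apply, LinearMap.comp_apply]
  generalize CoalgebraStruct.comul (R := K) (A := A) a = z
  induction z with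
  | zero => simp
  | add x y hx hy => simp only [map_add, hx, hy]
  | tmul x y => simp

/-- A family over `K` is a bialgebra map. -/
lemma IsFam.exists_bialgHom {c : A →ₐ[K] MonoidAlgebra K G} (hc : IsFam c) :
    ∃ c' : A →ₐc[K] MonoidAlgebra K G, ∀ a, c' a = c a := by
  classical
  have h1 : (Bialgebra.counitAlgHom K (MonoidAlgebra K G)).comp c = Bialgebra.counitAlgHom K A := by
    apply AlgHom.ext
    intro a
    have h2 := hc.counit a
    have h3 : ∀ y : MonoidAlgebra K G, CoalgebraStruct.counit (R := K) y =
        y.coeff.sum (fun _ r => r) := by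
      intro y
      induction y using MonoidAlgebra.induction_linear with
      | zero => simp
      | add f g hf hg =>
        rw [map_add, hf, hg, MonoidAlgebra.coeff_add, Finsupp.sum_add_index']
        · intro _; rfl
        · intro _ _ _; rfl
      | single m r => simp [MonoidAlgebra.counit_single]
    change CoalgebraStruct.counit (R := K) (c a) = CoalgebraStruct.counit (R := K) a
    rw [h3, h2]
    rfl
  have h2 : (Algebra.TensorProduct.map c c).comp (Bialgebra.comulAlgHom K A) =
      (Bialgebra.comulAlgHom K (MonoidAlgebra K G)).comp c := by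
    apply AlgHom.ext
    intro a
    have hsep : ∀ y z : MonoidAlgebra K G ⊗[K] MonoidAlgebra K G,
        (∀ m n : G, TensorProduct.lift ((LinearMap.mul K K).compl₁₂ (cf K m) (cf K n)) y =
          TensorProduct.lift ((LinearMap.mul K K).compl₁₂ (cf K m) (cf K n)) z) → y = z := by
      intro y z hyz
      let b := (MonoidAlgebra.basis G K).tensorProduct (MonoidAlgebra.basis G K)
      have hb : ∀ (m n : G) (y : MonoidAlgebra K G ⊗[K] MonoidAlgebra K G), b.repr y (m, n) =
          TensorProduct.lift ((LinearMap.mul K K).compl₁₂ (cf K m) (cf K n)) y := by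
        intro m n y
        induction y with
        | zero => simp
        | add x y hx hy => rw [map_add, Finsupp.add_apply, hx, hy, map_add]
        | tmul x y =>
          rw [Module.Basis.tensorProduct_repr_tmul_apply, TensorProduct.lift.tmul]
          simp only [LinearMap.compl₁₂_apply, LinearMap.mul_apply', cf_apply, smul_eq_mul]
          rw [mul_comm]
          rfl
      apply b.repr.injective
      ext ⟨m, n⟩
      rw [hb, hb, hyz]
    apply hsep
    intro m n
    have h3 : ∀ y : A ⊗[K] A,
        TensorProduct.lift ((LinearMap.mul K K).compl₁₂ (cf K m) (cf K n))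
          (Algebra.TensorProduct.map c c y) =
        TensorProduct.lift ((LinearMap.mul K K).compl₁₂ (cf K m ∘ₗ c.toLinearMap)
          (cf K n ∘ₗ c.toLinearMap)) y := by
      intro y
      induction y with
      | zero => simp
      | add x y hx hy => simp only [map_add, hx, hy]
      | tmul x y => simp
    have h4 : ∀ y : MonoidAlgebra K G,
        TensorProduct.lift ((LinearMap.mul K K).compl₁₂ (cf K m) (cf K n))
          (CoalgebraStruct.comul (R := K) y) = if m = n then y.coeff m else 0 := by
      intro y
      induction y using MonoidAlgebra.induction_linear with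
      | zero => simp
      | add f g hf hg =>
        rw [map_add, map_add, hf, hg, MonoidAlgebra.coeff_add]
        split_ifs <;> simp
      | single l r =>
        rw [MonoidAlgebra.comul_single]
        simp only [CommSemiring.comul_apply, TensorProduct.map_tmul, MonoidAlgebra.lsingle_apply,
          TensorProduct.lift.tmul, LinearMap.compl₁₂_apply, LinearMap.mul_apply', cf_apply,
          MonoidAlgebra.coeff_single, Finsupp.single_apply]
        split_ifs <;> simp_all
    change TensorProduct.lift _ (Algebra.TensorProduct.map c c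
      (CoalgebraStruct.comul (R := K) a)) = TensorProduct.lift _
        (CoalgebraStruct.comul (R := K) (c a))
    rw [h3, h4]
    have h5 := hc.comul m n a
    split_ifs with hmn
    · subst hmn
      exact h5.2
    · exact h5.1 hmn
  exact ⟨BialgHom.ofAlgHom c h1 h2, fun a => rfl⟩

end fam

section spec

variable {K : Type u} [Field K] [IsAlgClosed K]

/-- Nullstellensatz: a nonzero finitely generated algebra over `K` has a `K`-point. -/
lemma exists_point (R : Type v) [CommRing R] [Nontrivial R] [Algebra K R]
    [Algebra.FiniteType K R] : Nonempty (R →ₐ[K] K) := by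
  obtain ⟨m, hm⟩ := Ideal.exists_maximal R
  let _ := Ideal.Quotient.field m
  have : Algebra.FiniteType K (R ⧸ m) := inferInstance
  have hfin : Module.Finite K (R ⧸ m) := finite_of_finite_type_of_isJacobsonRing K (R ⧸ m)
  exact ⟨(IsAlgClosed.lift : (R ⧸ m) →ₐ[K] K).comp (Ideal.Quotient.mkₐ K m)⟩

variable {A : Type v} [CommRing A] [HopfAlgebra K A] {G : Type w} [Group G]

/-- **Specialisation of families.** -/
theorem exists_spec [Algebra.FiniteType K A] {L : Type x} [Field L] [Algebra K L]
    (c : A →ₐ[K] MonoidAlgebra L G) (hc : IsFam c) (S : Finset L) (hS : ∀ s ∈ S, s ≠ 0) :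
    ∃ (R : Subalgebra K L) (σ : R →ₐ[K] K) (c' : A →ₐc[K] MonoidAlgebra K G),
      (∀ (a : A) (m : G), ∃ h : (c a).coeff m ∈ R, (c' a).coeff m = σ ⟨_, h⟩) ∧
      (∀ s ∈ S, ∃ h : s ∈ R, σ ⟨s, h⟩ ≠ 0) := by
  classical
  obtain ⟨t, ht⟩ := (Algebra.FiniteType.out : (⊤ : Subalgebra K A).FG)
  let gens : Finset L := S ∪ S.image (fun s => s⁻¹) ∪
    t.biUnion (fun a => (c a).coeff.support.image (fun m => (c a).coeff m))
  let R : Subalgebra K L := Algebra.adjoin K (gens : Set L)
  have hRfin : Algebra.FiniteType K R := by
    rw [← Subalgebra.fg_iff_finiteType]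
    exact ⟨gens, rfl⟩
  have hSR : ∀ s ∈ S, s ∈ R := fun s hs => Algebra.subset_adjoin (by
    simp only [gens, Finset.coe_union, Set.mem_union, Finset.mem_coe]
    exact Or.inl (Or.inl hs))
  have hSR' : ∀ s ∈ S, s⁻¹ ∈ R := fun s hs => Algebra.subset_adjoin (by
    simp only [gens, Finset.coe_union, Set.mem_union, Finset.mem_coe]
    exact Or.inl (Or.inr (Finset.mem_image_of_mem _ hs)))
  have htR : ∀ a ∈ t, ∀ m, (c a).coeff m ∈ R := by
    intro a ha m
    by_cases hm : m ∈ (c a).coeff.support
    · apply Algebra.subset_adjoin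
      simp only [gens, Finset.coe_union, Set.mem_union, Finset.mem_coe]
      exact Or.inr (Finset.mem_biUnion.2 ⟨a, ha, Finset.mem_image_of_mem _ hm⟩)
    · rw [Finsupp.notMem_support_iff.1 hm]
      exact zero_mem _
  have hinj : Function.Injective (MonoidAlgebra.mapAlgHom G R.val) := by
    intro y z hyz
    apply MonoidAlgebra.coeff_injective
    ext m
    have := congrArg (fun w => w.coeff m) hyz
    simpa using this
  have hrange : ∀ y : MonoidAlgebra L G, (∀ m, y.coeff m ∈ R) →
      y ∈ (MonoidAlgebra.mapAlgHom G R.val).range := by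
    intro y hy
    refine ⟨MonoidAlgebra.ofCoeff (Finsupp.onFinset y.coeff.support (fun m => ⟨y.coeff m, hy m⟩)
      (fun m hm => ?_)), ?_⟩
    · rw [Finsupp.mem_support_iff]
      intro h0
      apply hm
      exact Subtype.ext h0
    · apply MonoidAlgebra.coeff_injective
      ext m
      change (MonoidAlgebra.mapAlgHom G R.val _).coeff m = _
      rw [MonoidAlgebra.coeff_mapAlgHom]
      rfl
  have hcrange : ∀ a, c a ∈ (MonoidAlgebra.mapAlgHom G R.val).range := by
    have : Algebra.adjoin K (t : Set A) ≤ ((MonoidAlgebra.mapAlgHom G R.val).range).comap c := by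
      rw [Algebra.adjoin_le_iff]
      intro a ha
      exact hrange _ (htR a ha)
    rw [ht] at this
    intro a
    exact this (show a ∈ (⊤ : Subalgebra K A) from trivial)
  let e := AlgEquiv.ofInjective (MonoidAlgebra.mapAlgHom G R.val) hinj
  let cR : A →ₐ[K] MonoidAlgebra R G :=
    e.symm.toAlgHom.comp (c.codRestrict (MonoidAlgebra.mapAlgHom G R.val).range hcrange)
  have hcR : ∀ a, MonoidAlgebra.mapAlgHom G R.val (cR a) = c a := by
    intro a
    have h1 : e (cR a) = ⟨c a, hcrange a⟩ := e.apply_symm_apply _
    exact congrArg Subtype.val h1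
  have hcoef : ∀ a m, (c a).coeff m = ((cR a).coeff m : L) := by
    intro a m
    rw [← hcR a, MonoidAlgebra.coeff_mapAlgHom]
    rfl
  obtain ⟨σ⟩ := exists_point (K := K) R
  let cσ : A →ₐ[K] MonoidAlgebra K G := (MonoidAlgebra.mapAlgHom G σ).comp cR
  have hcσ : ∀ a m, (cσ a).coeff m = σ ((cR a).coeff m) := by
    intro a m
    exact MonoidAlgebra.coeff_mapAlgHom σ (cR a) m
  -- the equations over `R`
  have hfamR : IsFam cR := by
    constructor
    · intro a
      have h1 := hc.counit a
      apply Subtype.val_injective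
      change _ = algebraMap K L _
      rw [← h1, ← hcR a, Finsupp.sum, Finsupp.sum]
      have hsup : (MonoidAlgebra.mapAlgHom G R.val (cR a)).coeff.support =
          (cR a).coeff.support := by
        ext m
        rw [Finsupp.mem_support_iff, Finsupp.mem_support_iff, MonoidAlgebra.coeff_mapAlgHom]
        simp
      rw [hsup]
      simp only [MonoidAlgebra.coeff_mapAlgHom]
      exact map_sum R.val _ _
    · intro m n a
      have hF : ∀ l : G, cf K l ∘ₗ c.toLinearMap =
          R.val.toLinearMap ∘ₗ (cf K l ∘ₗ cR.toLinearMap) := by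
        intro l
        ext a
        exact hcoef a l
      constructor
      · intro hmn
        have h1 := (hc.comul m n a).1 hmn
        rw [hF, hF, lift_comp] at h1
        exact Subtype.val_injective h1
      · have h1 := (hc.comul m m a).2
        rw [hF, lift_comp, hcoef] at h1
        exact Subtype.val_injective h1
  have hfamσ : IsFam cσ := by
    constructor
    · intro a
      have h1 := congrArg σ (hfamR.counit a)
      rw [AlgHom.commutes] at h1
      rw [← h1, Finsupp.sum, Finsupp.sum, map_sum]
      simp only [hcσ]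
      apply Finset.sum_subset
      · intro m hm
        rw [Finsupp.mem_support_iff] at hm ⊢
        intro h0
        apply hm
        rw [hcσ, h0, map_zero]
      · intro m _ hm
        rw [Finsupp.notMem_support_iff] at hm
        rw [← hcσ, hm]
    · intro m n a
      have hF : ∀ l : G, cf K l ∘ₗ cσ.toLinearMap =
          σ.toLinearMap ∘ₗ (cf K l ∘ₗ cR.toLinearMap) := by
        intro l
        ext a
        exact hcσ a l
      constructor
      · intro hmn
        rw [hF, hF, lift_comp, (hfamR.comul m n a).1 hmn, map_zero]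
      · rw [hF, lift_comp, (hfamR.comul m m a).2, hcσ]
  obtain ⟨c', hc'⟩ := hfamσ.exists_bialgHom
  refine ⟨R, σ, c', ?_, ?_⟩
  · intro a m
    refine ⟨by rw [hcoef]; exact ((cR a).coeff m).2, ?_⟩
    rw [hc', hcσ]
    congr 1
    apply Subtype.ext
    exact (hcoef a m).symm
  · intro s hs
    refine ⟨hSR s hs, ?_⟩
    intro h0
    have h1 : (⟨s, hSR s hs⟩ : R) * ⟨s⁻¹, hSR' s hs⟩ = 1 :=
      Subtype.ext (mul_inv_cancel₀ (hS s hs))
    have h2 := congrArg σ h1
    rw [map_mul, h0, zero_mul, map_one] at h2
    exact zero_ne_one h2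

end spec

section base

variable {K : Type u} [Field K] {A : Type v} [CommRing A] [HopfAlgebra K A] {G : Type w} [Group G]
  {L : Type x} [Field L] [Algebra K L]

/-- The comultiplication of `L ⊗ A` on `1 ⊗ a`. -/
lemma comul_one_tmul (a : A) {ι : Type*} (s : Finset ι) (y z : ι → A)
    (h : CoalgebraStruct.comul (R := K) a = ∑ i ∈ s, y i ⊗ₜ[K] z i) :
    CoalgebraStruct.comul (R := L) ((1 : L) ⊗ₜ[K] a) =
      ∑ i ∈ s, ((1 : L) ⊗ₜ[K] y i) ⊗ₜ[L] ((1 : L) ⊗ₜ[K] z i) := by
  rw [TensorProduct.comul_tmul, h, TensorProduct.tmul_sum, map_sum]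
  refine Finset.sum_congr rfl fun i _ => ?_
  rw [CommSemiring.comul_apply]
  rfl

lemma counit_one_tmul (a : A) :
    CoalgebraStruct.counit (R := L) ((1 : L) ⊗ₜ[K] a) =
      algebraMap K L (CoalgebraStruct.counit (R := K) a) := by
  rw [TensorProduct.counit_tmul, CommSemiring.counit_apply, Algebra.smul_def, mul_one]

/-- The family attached to a homomorphism over the extension `L`. -/
lemma isFam_of_bialgHom (c : L ⊗[K] A →ₐc[L] MonoidAlgebra L G) :
    IsFam (((c : L ⊗[K] A →ₐ[L] MonoidAlgebra L G).restrictScalars K).comp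
      (Algebra.TensorProduct.includeRight : A →ₐ[K] L ⊗[K] A)) := by
  classical
  have h3 : ∀ y : MonoidAlgebra L G, CoalgebraStruct.counit (R := L) y =
      y.coeff.sum (fun _ r => r) := by
    intro y
    induction y using MonoidAlgebra.induction_linear with
    | zero => simp
    | add f g hf hg =>
      rw [map_add, hf, hg, MonoidAlgebra.coeff_add, Finsupp.sum_add_index']
      · intro _; rfl
      · intro _ _ _; rfl
    | single m r => simp [MonoidAlgebra.counit_single]
  have h4 : ∀ (m n : G) (y : MonoidAlgebra L G),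
      TensorProduct.lift ((LinearMap.mul L L).compl₁₂ (GenSpec.cfL L m) (GenSpec.cfL L n))
        (CoalgebraStruct.comul (R := L) y) = if m = n then y.coeff m else 0 := by
    intro m n y
    induction y using MonoidAlgebra.induction_linear with
    | zero => simp
    | add f g hf hg =>
      rw [map_add, map_add, hf, hg, MonoidAlgebra.coeff_add]
      split_ifs <;> simp
    | single l r =>
      rw [MonoidAlgebra.comul_single]
      simp only [CommSemiring.comul_apply, TensorProduct.map_tmul, MonoidAlgebra.lsingle_apply,
        TensorProduct.lift.tmul, LinearMap.compl₁₂_apply, LinearMap.mul_apply', cfL_apply,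
        MonoidAlgebra.coeff_single, Finsupp.single_apply]
      split_ifs <;> simp_all
  constructor
  · intro a
    rw [← h3]
    change CoalgebraStruct.counit (R := L) (c ((1 : L) ⊗ₜ[K] a)) = _
    rw [CoalgHomClass.counit_comp_apply, counit_one_tmul]
  · intro m n a
    have key : ∀ m n : G, cv (cf K m ∘ₗ (((c : L ⊗[K] A →ₐ[L] MonoidAlgebra L G).restrictScalars
        K).comp (Algebra.TensorProduct.includeRight : A →ₐ[K] L ⊗[K] A)).toLinearMap)
        (cf K n ∘ₗ (((c : L ⊗[K] A →ₐ[L] MonoidAlgebra L G).restrictScalars
        K).comp (Algebra.TensorProduct.includeRight : A →ₐ[K] L ⊗[K] A)).toLinearMap) a =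
        if m = n then (c ((1 : L) ⊗ₜ[K] a)).coeff m else 0 := by
      intro m n
      rw [← h4, ← CoalgHomClass.map_comp_comul_apply]
      have hr := (Coalgebra.Repr.arbitrary K a).eq
      rw [comul_one_tmul a _ _ _ hr.symm, map_sum, map_sum, cv, LinearMap.comp_apply, ← hr, map_sum]
      refine Finset.sum_congr rfl fun i _ => ?_
      rfl
    refine ⟨fun hmn => ?_, ?_⟩
    · rw [key, if_neg hmn]
    · rw [key, if_pos rfl]
      rfl

end base

end Groth.Agent.Sga3B.RG.GenSpec
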