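import Groth.Agent.Sga3B.RG.GenEig
import Groth.Agent.Sga3B.RG.GenSpec
import Groth.Agent.Sga3B.RG.GenMat

/-!
# The diagonalizable group of eigenvalues, with prescribed character group

Variant of `GenEig.exists_diag`: `X` is any commutative group with an injection `e` to `Lˣ` whose
image contains the eigenvalues of translation by the point `g`.
-/

set_option autoImplicit false

universe u v w x

open TensorProduct HopfRep
open Groth.Agent.Books.ComodDual Groth.Agent.Books.ComodSocle
open Groth.Agent.Sga3B.RG.GenEig

namespace Groth.Agent.Sga3B.RG.GenDiag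

variable {L : Type u} {B : Type v} [Field L] [CommRing B] [HopfAlgebra L B]

/-- If all eigenvalues are in the image of `e`, the generalized eigenspaces indexed by `X` span. -/
theorem iSup_eq_top [IsAlgClosed L] {X : Type w} [CommGroup X] (e : X →* Lˣ) (g : B →ₐ[L] L)
    (he : ∀ l : L, Module.End.HasEigenvalue (cact (V := B) g.toLinearMap) l →
      ∃ x : X, ((e x : Lˣ) : L) = l) :
    (⨆ x : X, Module.End.maxGenEigenspace (cact (V := B) g.toLinearMap) ((e x : Lˣ) : L)) = ⊤ := by
  classical
  set φ : Module.End L B := cact g.toLinearMap with hφ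
  rw [eq_top_iff]
  intro b _
  obtain ⟨W, hWsub, hWfin, hsW⟩ := exists_finite_subcomod (k := L) (A := B) (V := B) {b}
  have hbW : b ∈ W := hsW b (by simp)
  have hWφ : ∀ x ∈ W, φ x ∈ W := fun x hx => (isSubcomod_iff W).1 hWsub _ x hx
  let ψ : Module.End L W := φ.restrict hWφ
  have htop := Module.End.iSup_maxGenEigenspace_eq_top ψ
  have hx' : (⟨b, hbW⟩ : W) ∈ (⨆ μ, Module.End.maxGenEigenspace ψ μ : Submodule L W) := by
    rw [htop]; trivial
  have hrel : ∀ (μ : L) (n : ℕ) (y : W), (((ψ - μ • (1 : Module.End L W)) ^ n) y : B) =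
      ((φ - μ • (1 : Module.End L B)) ^ n) (y : B) := by
    intro μ n
    induction n with
    | zero => intro y; simp
    | succ n ih =>
      intro y
      rw [pow_succ, Module.End.mul_apply, ih, pow_succ, Module.End.mul_apply]
      rfl
  have := Submodule.iSup_induction (fun μ => Module.End.maxGenEigenspace ψ μ)
    (motive := fun y : W => (y : B) ∈ (⨆ x : X, Module.End.maxGenEigenspace φ
      ((e x : Lˣ) : L) : Submodule L B)) hx' ?_ ?_ ?_
  · exact this
  · intro μ y hy
    by_cases hy0 : y = 0
    · rw [hy0]; exact Submodule.zero_mem _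
    have hev : Module.End.HasEigenvalue φ μ := by
      rw [Module.End.hasEigenvalue_iff]
      intro h0
      have hinj : Function.Injective (φ - μ • (1 : Module.End L B)) := by
        rw [← LinearMap.ker_eq_bot]
        rw [Module.End.eigenspace_def] at h0
        rw [← h0]
      rw [Module.End.mem_maxGenEigenspace] at hy
      obtain ⟨n, hn⟩ := hy
      have hinj2 : Function.Injective ((φ - μ • (1 : Module.End L B)) ^ n) := by
        rw [Module.End.coe_pow]
        exact hinj.iterate n
      apply hy0
      apply Subtype.ext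
      apply hinj2
      rw [← hrel, hn, ZeroMemClass.coe_zero, map_zero]
    obtain ⟨x, hx⟩ := he μ hev
    refine Submodule.mem_iSup_of_mem x ?_
    rw [hx, Module.End.mem_maxGenEigenspace]
    rw [Module.End.mem_maxGenEigenspace] at hy
    obtain ⟨n, hn⟩ := hy
    exact ⟨n, by rw [← hrel, hn, ZeroMemClass.coe_zero]⟩
  · exact Submodule.zero_mem _
  · intro y z hy hz
    exact Submodule.add_mem _ hy hz

/-- The bialgebra map from `B` to the group algebra of `X`. -/
theorem exists_diag_of_top {X : Type w} [CommGroup X] (e : X →* Lˣ) (hei : Function.Injective e)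
    (g : B →ₐ[L] L)
    (htop : (⨆ x : X, Module.End.maxGenEigenspace (cact (V := B) g.toLinearMap)
      ((e x : Lˣ) : L)) = ⊤) :
    ∃ D : B →ₐc[L] MonoidAlgebra L X,
      ∀ (x : X) (b : B), b ∈ Module.End.maxGenEigenspace (cact (V := B) g.toLinearMap)
        ((e x : Lˣ) : L) → D b = MonoidAlgebra.single x (CoalgebraStruct.counit (R := L) b) := by
  classical
  set φ : Module.End L B := cact g.toLinearMap with hφ
  have hφ' : (rtr g).toLinearMap = φ := rtr_toLinearMap g
  let E : X → Submodule L B := fun l => Module.End.maxGenEigenspace φ ((e l : Lˣ) : L)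
  have hind := Module.End.independent_maxGenEigenspace φ
  have hinj : Function.Injective (fun l : X => ((e l : Lˣ) : L)) := fun a b h =>
    hei (Units.ext h)
  have hindE : iSupIndep E := hind.comp hinj
  have hint : DirectSum.IsInternal E :=
    DirectSum.isInternal_submodule_of_iSupIndep_of_iSup_eq_top hindE htop
  let e' : (DirectSum X fun l => E l) ≃ₗ[L] B :=
    LinearEquiv.ofBijective (DirectSum.coeLinearMap E) hint
  let D₀ : B →ₗ[L] MonoidAlgebra L X :=
    (DirectSum.toModule L X (MonoidAlgebra L X) fun l =>
      (MonoidAlgebra.lsingle l ∘ₗ (CoalgebraStruct.counit (R := L) (A := B))) ∘ₗ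
        (E l).subtype) ∘ₗ e'.symm.toLinearMap
  have hD₀ : ∀ (l : X) (b : B), b ∈ E l →
      D₀ b = MonoidAlgebra.single l (CoalgebraStruct.counit (R := L) b) := by
    intro l b hb
    have h1 : e'.symm b = DirectSum.lof L X (fun l => E l) l ⟨b, hb⟩ := by
      rw [LinearEquiv.symm_apply_eq]
      change _ = DirectSum.coeLinearMap E _
      rw [DirectSum.coeLinearMap_lof]
    change DirectSum.toModule L X (MonoidAlgebra L X) _ (e'.symm b) = _
    rw [h1, DirectSum.toModule_lof]
    rfl
  have hmulE : ∀ {l m : X} {x y : B}, x ∈ E l → y ∈ E m → x * y ∈ E (l * m) := by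
    intro l m x y hx hy
    have h1 := mul_mem_maxGenEigenspace (rtr g) ((e l : Lˣ) : L) ((e m : Lˣ) : L)
      (x := x) (y := y) (by rw [hφ']; exact hx) (by rw [hφ']; exact hy)
    rw [hφ'] at h1
    change x * y ∈ Module.End.maxGenEigenspace φ ((e (l * m) : Lˣ) : L)
    rw [map_mul, Units.val_mul]
    exact h1
  have honeE : (1 : B) ∈ E 1 := by
    have h1 := one_mem_maxGenEigenspace (rtr g)
    rw [hφ'] at h1
    change (1 : B) ∈ Module.End.maxGenEigenspace φ ((e 1 : Lˣ) : L)
    rw [map_one, Units.val_one]
    exact h1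
  have hmul : ∀ x y : B, D₀ (x * y) = D₀ x * D₀ y := by
    intro x y
    have hx' : x ∈ (⨆ l, E l : Submodule L B) := by rw [htop]; trivial
    have hy' : y ∈ (⨆ l, E l : Submodule L B) := by rw [htop]; trivial
    refine Submodule.iSup_induction E (motive := fun x => D₀ (x * y) = D₀ x * D₀ y) hx' ?_ ?_ ?_
    · intro l x hx
      refine Submodule.iSup_induction E (motive := fun y => D₀ (x * y) = D₀ x * D₀ y) hy' ?_ ?_ ?_
      · intro m y hy
        rw [hD₀ _ _ (hmulE hx hy), hD₀ _ _ hx, hD₀ _ _ hy, MonoidAlgebra.single_mul_single,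
          Bialgebra.counit_mul]
      · simp
      · intro y z hy hz
        rw [mul_add, map_add, map_add, mul_add, hy, hz]
    · simp
    · intro x z hx hz
      rw [add_mul, map_add, map_add, add_mul, hx, hz]
  have hone : D₀ 1 = 1 := by
    rw [hD₀ _ _ honeE, Bialgebra.counit_one]
    rfl
  let D₁ : B →ₐ[L] MonoidAlgebra L X := AlgHom.ofLinearMap D₀ hone hmul
  have hcounit : (Bialgebra.counitAlgHom L (MonoidAlgebra L X)).comp D₁ =
      Bialgebra.counitAlgHom L B := by
    apply AlgHom.ext
    intro x
    have hx' : x ∈ (⨆ l, E l : Submodule L B) := by rw [htop]; trivial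
    refine Submodule.iSup_induction E (motive := fun x =>
      ((Bialgebra.counitAlgHom L (MonoidAlgebra L X)).comp D₁) x =
      Bialgebra.counitAlgHom L B x) hx' ?_ ?_ ?_
    · intro l x hx
      change CoalgebraStruct.counit (R := L) (D₀ x) = CoalgebraStruct.counit (R := L) x
      rw [hD₀ _ _ hx, MonoidAlgebra.counit_single]
      simp
    · rw [map_zero, map_zero]
    · intro y z hy hz
      rw [map_add, map_add, hy, hz]
  have hcomul : (Algebra.TensorProduct.map D₁ D₁).comp (Bialgebra.comulAlgHom L B) =
      (Bialgebra.comulAlgHom L (MonoidAlgebra L X)).comp D₁ := by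
    apply AlgHom.ext
    intro x
    have hx' : x ∈ (⨆ l, E l : Submodule L B) := by rw [htop]; trivial
    refine Submodule.iSup_induction E (motive := fun x =>
      ((Algebra.TensorProduct.map D₁ D₁).comp (Bialgebra.comulAlgHom L B)) x =
      ((Bialgebra.comulAlgHom L (MonoidAlgebra L X)).comp D₁) x) hx' ?_ ?_ ?_
    · intro l x hx
      have hmem := comul_mem_of_mem_maxGenEigenspace g.toLinearMap ((e l : Lˣ) : L) hx
      have key : ∀ z ∈ LinearMap.range ((E l).subtype.lTensor B),
          Algebra.TensorProduct.map D₁ D₁ z =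
          D₁ (TensorProduct.rid L B ((CoalgebraStruct.counit (R := L) (A := B)).lTensor B z))
            ⊗ₜ[L] MonoidAlgebra.single l (1 : L) := by
        rintro _ ⟨w, rfl⟩
        induction w with
        | zero => simp
        | add x y hx hy =>
          rw [map_add, map_add, map_add, map_add, map_add, hx, hy, TensorProduct.add_tmul]
        | tmul x y =>
          rw [LinearMap.lTensor_tmul, Algebra.TensorProduct.map_tmul, LinearMap.lTensor_tmul,
            TensorProduct.rid_tmul]
          have : D₁ ((E l).subtype y) = MonoidAlgebra.single l (CoalgebraStruct.counit (R := L)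
            ((E l).subtype y)) := hD₀ l _ y.2
          rw [this, map_smul, TensorProduct.smul_tmul, MonoidAlgebra.smul_single, smul_eq_mul,
            mul_one]
      change Algebra.TensorProduct.map D₁ D₁ (CoalgebraStruct.comul (R := L) x) =
        CoalgebraStruct.comul (R := L) (D₁ x)
      rw [key _ hmem, Coalgebra.lTensor_counit_comul]
      have h3 : D₁ x = MonoidAlgebra.single l (CoalgebraStruct.counit (R := L) x) := hD₀ _ _ hx
      rw [TensorProduct.rid_tmul, one_smul, h3, MonoidAlgebra.comul_single]
      simp only [CommSemiring.comul_apply, TensorProduct.map_tmul, MonoidAlgebra.lsingle_apply]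
      generalize CoalgebraStruct.counit (R := L) x = c
      have h4 : MonoidAlgebra.single l c = c • (MonoidAlgebra.single l (1 : L)) := by
        rw [MonoidAlgebra.smul_single, smul_eq_mul, mul_one]
      rw [h4, TensorProduct.smul_tmul]
    · rw [map_zero, map_zero]
    · intro y z hy hz
      rw [map_add, map_add, hy, hz]
  exact ⟨BialgHom.ofAlgHom D₁ hcounit hcomul, fun l b hb => hD₀ l b hb⟩

end Groth.Agent.Sga3B.RG.GenDiag
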