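import Groth.Agent.Sga3B.RG.Trig
import Groth.Agent.Sga3B.RG.GenDiag

/-!
# Connected trigonalizable groups are `T ⋉ G_u`

`A` is a finitely generated Hopf domain over the algebraically closed field `K` such that all
simple representations are one-dimensional.

* `exists_retraction` : a bialgebra map `A → K[X]`, `X` the group of group-like elements, which is
  the identity on `X`;
* `exists_torus` : a maximal torus `T` with `G = T ⋉ G_u`;
* `isConn_Gu` : `G_u` is connected.
-/

set_option autoImplicit false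

universe u w

open WithConv TensorProduct Coalgebra
open Groth.Agent.Books.ComodDual Groth.Agent.Books.ComodSocle
open Groth.Agent.Sga3B.RG.CentralPt Groth.Agent.Sga3B.RG.Trig
open Groth.Agent.Sga3B.RG.GenEig Groth.Agent.Sga3B.RG.GenMat

namespace Groth.Agent.Sga3B.RG.TrigTorus

variable {K : Type u} [Field K] {A : Type u} [CommRing A] [HopfAlgebra K A]

variable (K A) in
/-- Translation by the universal point. -/
noncomputable def uTr : A ⊗[K] A →ₐ[K] A ⊗[K] A :=
  Algebra.TensorProduct.lift Algebra.TensorProduct.includeLeft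
    ((Algebra.TensorProduct.comm K A A).toAlgHom.comp (Bialgebra.comulAlgHom K A))
    (fun _ _ => Commute.all _ _)

lemma uTr_one_tmul (a : A) : uTr K A (1 ⊗ₜ a) = TensorProduct.comm K A A (comul (R := K) a) := by
  rw [uTr, Algebra.TensorProduct.lift_tmul, map_one, one_mul]
  rfl

lemma uTr_tmul_one (a : A) : uTr K A (a ⊗ₜ 1) = a ⊗ₜ 1 := by
  rw [uTr, Algebra.TensorProduct.lift_tmul, map_one, mul_one]
  rfl

lemma evLeft_uTr (g : Pt K A) (z : A ⊗[K] A) :
    evLeft A g.ofConv (uTr K A z) = rTr g (evLeft A g.ofConv z) := by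
  have h : (evLeft A g.ofConv).comp (uTr K A) = (rTr g).comp (evLeft A g.ofConv) := by
    apply Algebra.TensorProduct.ext'
    intro x w
    have h1 : (x ⊗ₜ[K] w : A ⊗[K] A) = (x ⊗ₜ 1) * (1 ⊗ₜ w) := by
      rw [Algebra.TensorProduct.tmul_mul_tmul, mul_one, one_mul]
    rw [h1, map_mul, map_mul]
    congr 1
    · rw [AlgHom.comp_apply, AlgHom.comp_apply, uTr_tmul_one, evLeft_tmul, map_smul, map_one]
    · rw [AlgHom.comp_apply, AlgHom.comp_apply, uTr_one_tmul, evLeft_tmul, map_one, one_smul,
        rTr_eq_cact, cact_regular]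
      generalize comul (R := K) w = z
      induction z with
      | zero => simp
      | add x y hx hy => simp only [map_add, hx, hy]
      | tmul x y => simp
  exact DFunLike.congr_fun h z

variable {L : Type u} [Field L] [Algebra K L]

lemma map_uTr (j : A →ₐ[K] L) (z : A ⊗[K] A) :
    Algebra.TensorProduct.map j (AlgHom.id K A) (uTr K A z) =
      rtr (gpt j) (Algebra.TensorProduct.map j (AlgHom.id K A) z) := by
  have h : (Algebra.TensorProduct.map j (AlgHom.id K A)).comp (uTr K A) =
      ((rtr (gpt j)).restrictScalars K).comp (Algebra.TensorProduct.map j (AlgHom.id K A)) := by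
    apply Algebra.TensorProduct.ext'
    intro x w
    have h1 : (x ⊗ₜ[K] w : A ⊗[K] A) = (x ⊗ₜ 1) * (1 ⊗ₜ w) := by
      rw [Algebra.TensorProduct.tmul_mul_tmul, mul_one, one_mul]
    rw [h1, map_mul, map_mul]
    congr 1
    · rw [AlgHom.comp_apply, AlgHom.comp_apply, uTr_tmul_one, Algebra.TensorProduct.map_tmul,
        map_one]
      change _ = rtr (gpt j) ((j x) ⊗ₜ[K] (1 : A))
      have h2 : ((j x) ⊗ₜ[K] (1 : A) : L ⊗[K] A) = algebraMap L (L ⊗[K] A) (j x) := rfl
      rw [h2, AlgHom.commutes]
    · rw [AlgHom.comp_apply, AlgHom.comp_apply, uTr_one_tmul, Algebra.TensorProduct.map_tmul,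
        map_one]
      change _ = rtr (gpt j) ((1 : L) ⊗ₜ[K] w)
      have hr := (Coalgebra.Repr.arbitrary K w).eq
      rw [rtr_apply, cact_regular, GenSpec.comul_one_tmul w _ _ _ hr.symm, ← hr, map_sum,
        map_sum, map_sum]
      refine Finset.sum_congr rfl fun i _ => ?_
      rw [TensorProduct.comm_tmul, Algebra.TensorProduct.map_tmul, contr_tmul,
        AlgHom.toLinearMap_apply, gpt_tmul, one_mul, TensorProduct.smul_tmul', smul_eq_mul,
        mul_one]
      rfl
  exact DFunLike.congr_fun h z

/-- The operator `∏ (uTr - χ)`. -/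
noncomputable def opN (l : List (GroupLike K A)) : Module.End K (A ⊗[K] A) :=
  (l.map fun χ => (uTr K A).toLinearMap - LinearMap.mulLeft K (χ.val ⊗ₜ[K] (1 : A))).prod

lemma evLeft_opN (g : Pt K A) (l : List (GroupLike K A)) (z : A ⊗[K] A) :
    evLeft A g.ofConv (opN l z) =
      (l.map fun χ => ((rTr g).toLinearMap - (g χ.val) • (1 : Module.End K A))).prod
        (evLeft A g.ofConv z) := by
  induction l generalizing z with
  | nil => simp [opN]
  | cons χ l ih =>
    have h1 : opN (χ :: l) z = uTr K A (opN l z) - (χ.val ⊗ₜ[K] (1 : A)) * opN l z := rfl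
    rw [h1, map_sub, evLeft_uTr, map_mul, ih, List.map_cons, List.prod_cons,
      Module.End.mul_apply, LinearMap.sub_apply, LinearMap.smul_apply, Module.End.one_apply,
      evLeft_tmul, smul_mul_assoc, one_mul]
    rfl

lemma map_opN (j : A →ₐ[K] L) (l : List (GroupLike K A)) (z : A ⊗[K] A) :
    Algebra.TensorProduct.map j (AlgHom.id K A) (opN l z) =
      (l.map fun χ => ((rtr (gpt j)).toLinearMap -
        (j χ.val) • (1 : Module.End L (L ⊗[K] A)))).prod
        (Algebra.TensorProduct.map j (AlgHom.id K A) z) := by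
  induction l generalizing z with
  | nil => simp [opN]
  | cons χ l ih =>
    have h1 : opN (χ :: l) z = uTr K A (opN l z) - (χ.val ⊗ₜ[K] (1 : A)) * opN l z := rfl
    rw [h1, map_sub, map_uTr, map_mul, ih, List.map_cons, List.prod_cons,
      Module.End.mul_apply, LinearMap.sub_apply, LinearMap.smul_apply, Module.End.one_apply,
      Algebra.TensorProduct.map_tmul, map_one, Algebra.smul_def]
    rfl

variable [IsAlgClosed K] [Algebra.FiniteType K A] [IsReduced A]

/-- The eigenvalues of the generic point are characters. -/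
theorem exists_groupLike_of_hasEigenvalue (hT : IsTrig K A) (j : A →ₐ[K] L) {μ : L}
    (hμ : Module.End.HasEigenvalue (cact (V := L ⊗[K] A) (gpt j).toLinearMap) μ) :
    ∃ χ : GroupLike K A, j χ.val = μ := by
  classical
  obtain ⟨b, hb⟩ := hμ.exists_hasEigenvector
  obtain ⟨S, hS⟩ := TensorProduct.exists_finset b
  obtain ⟨W, hW, hfin, hsW⟩ := exists_finite_stable (K := K) (A := A) (S.image Prod.snd)
  obtain ⟨l, hl⟩ := exists_list hT _ W (subRep (rTrRep K A) W hW)
    (isAlg_subRep CentralPt.isAlg_rTrRep W hW) rfl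
  have hcoe : ∀ (g : Pt K A) (l : List (GroupLike K A)) (w : W),
      (((l.map fun χ => (subRep (rTrRep K A) W hW g - (g χ.val) • (1 : Module.End K W))).prod w :
        W) : A) = (l.map fun χ => ((rTr g).toLinearMap -
          (g χ.val) • (1 : Module.End K A))).prod (w : A) := by
    intro g l
    induction l with
    | nil => intro w; simp
    | cons χ l ih =>
      intro w
      rw [List.map_cons, List.prod_cons, Module.End.mul_apply, List.map_cons, List.prod_cons,
        Module.End.mul_apply, ← ih]
      rfl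
  have hzero : ∀ w ∈ W, opN l ((1 : A) ⊗ₜ[K] w) = 0 := by
    intro w hw
    apply tensor_eq_zero_of_evLeft
    intro f
    have h1 := evLeft_opN (toConv f) l ((1 : A) ⊗ₜ[K] w)
    rw [ofConv_toConv, evLeft_tmul, map_one, one_smul] at h1
    rw [h1]
    have h2 := hcoe (toConv f) l ⟨w, hw⟩
    rw [hl, ZeroMemClass.coe_zero] at h2
    exact h2.symm
  have hzero2 : ∀ w ∈ W, (l.map fun χ => ((rtr (gpt j)).toLinearMap -
        (j χ.val) • (1 : Module.End L (L ⊗[K] A)))).prod ((1 : L) ⊗ₜ[K] w) = 0 := by
    intro w hw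
    have h1 := map_opN j l ((1 : A) ⊗ₜ[K] w)
    rw [hzero w hw, map_zero, Algebra.TensorProduct.map_tmul, map_one] at h1
    exact h1.symm
  have hb0 : (l.map fun χ => ((rtr (gpt j)).toLinearMap -
        (j χ.val) • (1 : Module.End L (L ⊗[K] A)))).prod b = 0 := by
    rw [hS, map_sum]
    apply Finset.sum_eq_zero
    intro i hi
    have h1 : (i.1 ⊗ₜ[K] i.2 : L ⊗[K] A) = i.1 • ((1 : L) ⊗ₜ[K] i.2) := by
      rw [TensorProduct.smul_tmul', smul_eq_mul, mul_one]
    rw [h1, map_smul, hzero2 _ (hsW _ (Finset.mem_image_of_mem _ hi)), smul_zero]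
  have hprod : ∀ l : List (GroupLike K A), (l.map fun χ => ((rtr (gpt j)).toLinearMap -
        (j χ.val) • (1 : Module.End L (L ⊗[K] A)))).prod b =
        (l.map fun χ => μ - j χ.val).prod • b := by
    intro l
    induction l with
    | nil => simp
    | cons χ l ih =>
      rw [List.map_cons, List.prod_cons, Module.End.mul_apply, ih, map_smul, LinearMap.sub_apply,
        LinearMap.smul_apply, Module.End.one_apply, rtr_toLinearMap, hb.apply_eq_smul, ← sub_smul,
        smul_smul, List.map_cons, List.prod_cons, mul_comm]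
  rw [hprod, smul_eq_zero] at hb0
  rcases hb0 with hb0 | hb0
  · rw [List.prod_eq_zero_iff, List.mem_map] at hb0
    obtain ⟨χ, -, hχ⟩ := hb0
    exact ⟨χ, (sub_eq_zero.1 hχ).symm⟩
  · exact absurd hb0 hb.2

/-- **The retraction** of `A` onto the group algebra of its group-like elements. -/
theorem exists_retraction [IsDomain A] (hT : IsTrig K A) :
    ∃ c : A →ₐc[K] MonoidAlgebra K (GroupLike K A),
      ∀ χ : GroupLike K A, c χ.val = MonoidAlgebra.single χ 1 := by
  classical
  let L := AlgebraicClosure (FractionRing A)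
  have hinj : Function.Injective (algebraMap A L) := by
    rw [IsScalarTower.algebraMap_eq A (FractionRing A) L]
    exact (algebraMap (FractionRing A) L).injective.comp (IsFractionRing.injective A (FractionRing A))
  let j : A →ₐ[K] L := IsScalarTower.toAlgHom K A L
  have hj : Function.Injective j := hinj
  let e : GroupLike K A →* Lˣ := (Units.map (j : A →* L)).comp (GroupLike.toUnits K)
  have he : ∀ χ, ((e χ : Lˣ) : L) = j χ.val := fun χ => rfl
  have hei : Function.Injective e := by
    intro χ χ' h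
    apply GroupLike.val_injective
    apply hj
    rw [← he, ← he, h]
  have htop := GenDiag.iSup_eq_top e (gpt j) (fun l hl => by
    obtain ⟨χ, hχ⟩ := exists_groupLike_of_hasEigenvalue hT j hl
    exact ⟨χ, hχ⟩)
  obtain ⟨D, hD⟩ := GenDiag.exists_diag_of_top e hei (gpt j) htop
  have hD1 : ∀ χ : GroupLike K A, D ((1 : L) ⊗ₜ[K] χ.val) = MonoidAlgebra.single χ 1 := by
    intro χ
    have h1 : ((1 : L) ⊗ₜ[K] χ.val : L ⊗[K] A) ∈ Module.End.maxGenEigenspace
        (cact (V := L ⊗[K] A) (gpt j).toLinearMap) ((e χ : Lˣ) : L) := by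
      rw [Module.End.mem_maxGenEigenspace]
      refine ⟨1, ?_⟩
      rw [pow_one, LinearMap.sub_apply, LinearMap.smul_apply, Module.End.one_apply, sub_eq_zero,
        cact_regular, GenSpec.comul_one_tmul χ.val Finset.univ (fun _ : Unit => χ.val)
          (fun _ : Unit => χ.val) (by
            rw [Finset.univ_unique, Finset.sum_singleton]
            exact χ.2.comul_eq_tmul_self),
        Finset.univ_unique, Finset.sum_singleton, contr_tmul, AlgHom.toLinearMap_apply, gpt_tmul,
        one_mul, he]
    rw [hD χ _ h1, GenSpec.counit_one_tmul]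
    congr 1
    rw [show CoalgebraStruct.counit (R := K) χ.val = 1 from χ.2.counit_eq_one, map_one]
  obtain ⟨R, σ, c, hc, -⟩ := GenSpec.exists_spec _ (GenSpec.isFam_of_bialgHom D) ∅ (by simp)
  refine ⟨c, fun χ => ?_⟩
  apply MonoidAlgebra.coeff_injective
  ext m
  obtain ⟨h, hh⟩ := hc χ.val m
  rw [hh, MonoidAlgebra.coeff_single]
  have h2 : (D ((1 : L) ⊗ₜ[K] χ.val)).coeff m = (Finsupp.single χ (1 : L)) m := by
    rw [hD1, MonoidAlgebra.coeff_single]
  by_cases hm : m = χ
  · subst hm
    rw [Finsupp.single_eq_same] at h2 ⊢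
    rw [← map_one σ]
    congr 1
    exact Subtype.ext h2
  · rw [Finsupp.single_eq_of_ne hm] at h2 ⊢
    rw [← map_zero σ]
    congr 1
    exact Subtype.ext h2

section domain

variable [IsDomain A]

omit [IsReduced A] [Algebra.FiniteType K A] in
/-- The character group of a connected group is torsion-free. -/
lemma groupLike_torsionFree {χ : GroupLike K A} {n : ℕ} (hn : 0 < n) (h : χ ^ n = 1) : χ = 1 := by
  have h1 : χ.val ^ n = (1 : A) ^ n := by
    rw [one_pow, ← GroupLike.val_pow, h, GroupLike.val_one]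
  obtain ⟨ζ, hζ⟩ := SimpleOne.eq_smul_of_pow_eq (K := K) hn h1
  have h2 := congrArg (counit (R := K)) hζ
  rw [χ.2.counit_eq_one, map_smul, Bialgebra.counit_one, smul_eq_mul, mul_one] at h2
  apply GroupLike.val_injective
  rw [hζ, ← h2, one_smul, GroupLike.val_one]

/-- The character group of a connected trigonalizable group is finitely generated. -/
lemma groupLike_fg (hT : IsTrig K A) : Group.FG (GroupLike K A) := by
  obtain ⟨c, hc⟩ := exists_retraction hT
  have hsurj : Function.Surjective (c : A →ₐ[K] MonoidAlgebra K (GroupLike K A)) := by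
    have h1 : (c : A →ₐ[K] MonoidAlgebra K (GroupLike K A)).range = ⊤ := by
      rw [eq_top_iff]
      intro y _
      have h2 : y = ∑ h ∈ y.coeff.support, (y.coeff h) • MonoidAlgebra.single h (1 : K) := by
        apply MonoidAlgebra.coeff_injective
        ext g
        rw [MonoidAlgebra.coeff_sum, Finsupp.finsetSum_apply]
        classical
        simp only [MonoidAlgebra.smul_single, smul_eq_mul, mul_one, MonoidAlgebra.coeff_single,
          Finsupp.single_apply, Finset.sum_ite_eq', Finsupp.mem_support_iff, ne_eq, ite_not]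
        split_ifs with h <;> simp [h]
      rw [h2]
      apply Subalgebra.sum_mem
      intro h _
      apply Subalgebra.smul_mem
      exact ⟨h.val, hc h⟩
    intro y
    have : y ∈ (c : A →ₐ[K] MonoidAlgebra K (GroupLike K A)).range := by rw [h1]; trivial
    exact this
  have hft : Algebra.FiniteType K (MonoidAlgebra K (GroupLike K A)) :=
    Algebra.FiniteType.of_surjective (c : A →ₐ[K] MonoidAlgebra K (GroupLike K A)) hsurj
  exact MonoidAlgebra.finiteType_iff_group_fg.1 hft

/-- The character group of a connected trigonalizable group is free of finite rank. -/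
lemma exists_groupLike_equiv (hT : IsTrig K A) :
    ∃ r : ℕ, Nonempty (GroupLike K A ≃* Multiplicative (Fin r → ℤ)) := by
  have hfg := groupLike_fg hT
  let M := Additive (GroupLike K A)
  have hfin : Module.Finite ℤ M := by
    rw [Module.Finite.iff_addGroup_fg]
    infer_instance
  have htf : Module.IsTorsionFree ℤ M := by
    rw [Module.isTorsionFree_iff_smul_eq_zero]
    intro n m hnm
    by_cases hn : n = 0
    · exact Or.inl hn
    right
    have h1 : (Additive.toMul m) ^ n = 1 := hnm
    have h2 : (Additive.toMul m) ^ n.natAbs = 1 := by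
      rcases Int.natAbs_eq n with h | h
      · rw [h, zpow_natCast] at h1; exact h1
      · rw [h, zpow_neg, zpow_natCast, inv_eq_one] at h1; exact h1
    exact groupLike_torsionFree (Int.natAbs_pos.2 hn) h2
  let b := Module.finBasis ℤ M
  exact ⟨Module.finrank ℤ M, ⟨AddEquiv.toMultiplicativeRight b.equivFun.toAddEquiv⟩⟩

/-- **The torus** of a connected trigonalizable group, dual to its character group. -/
theorem exists_torusMap (hT : IsTrig K A) :
    ∃ (r : ℕ) (e : GroupLike K A ≃* Multiplicative (Fin r → ℤ))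
      (π : A →ₐc[K] MonoidAlgebra K (Multiplicative (Fin r → ℤ))), Function.Surjective π ∧
      ∀ χ : GroupLike K A, π χ.val = MonoidAlgebra.single (e χ) 1 := by
  obtain ⟨c, hc⟩ := exists_retraction hT
  obtain ⟨r, ⟨e⟩⟩ := exists_groupLike_equiv hT
  let E : MonoidAlgebra K (GroupLike K A) →ₐc[K] MonoidAlgebra K (Multiplicative (Fin r → ℤ)) :=
    MonoidAlgebra.mapDomainBialgHom K e.toMonoidHom
  have hE : ∀ χ : GroupLike K A, (E.comp c) χ.val = MonoidAlgebra.single (e χ) 1 := by
    intro χ
    rw [BialgHom.comp_apply, hc]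
    exact MonoidAlgebra.mapDomainBialgHom_single _ _ _
  refine ⟨r, e, E.comp c, ?_, hE⟩
  have h1 : ((E.comp c : A →ₐc[K] _) : A →ₐ[K] MonoidAlgebra K
      (Multiplicative (Fin r → ℤ))).range = ⊤ := by
    rw [eq_top_iff]
    intro y _
    have h2 : y = ∑ h ∈ y.coeff.support, (y.coeff h) • MonoidAlgebra.single h (1 : K) := by
      apply MonoidAlgebra.coeff_injective
      ext1 g
      rw [MonoidAlgebra.coeff_sum, Finsupp.finsetSum_apply]
      classical
      simp only [MonoidAlgebra.smul_single, smul_eq_mul, mul_one, MonoidAlgebra.coeff_single,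
        Finsupp.single_apply, Finset.sum_ite_eq', Finsupp.mem_support_iff, ne_eq, ite_not]
      split_ifs with h <;> simp [h]
    rw [h2]
    apply Subalgebra.sum_mem
    intro h _
    apply Subalgebra.smul_mem
    refine ⟨(e.symm h).val, ?_⟩
    have h3 := hE (e.symm h)
    rw [MulEquiv.apply_symm_apply] at h3
    exact h3
  intro y
  have : y ∈ ((E.comp c : A →ₐc[K] _) : A →ₐ[K] MonoidAlgebra K
      (Multiplicative (Fin r → ℤ))).range := by rw [h1]; trivial
  exact this

section parts

variable {r : ℕ} (e : GroupLike K A ≃* Multiplicative (Fin r → ℤ))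
  (π : A →ₐc[K] MonoidAlgebra K (Multiplicative (Fin r → ℤ)))

/-- The characters evaluated at a point. -/
noncomputable def charHom (g : Pt K A) : Multiplicative (Fin r → ℤ) →* Kˣ :=
  (((g.ofConv : A →* K).comp (GroupLike.valMonoidHom K A)).comp
    e.symm.toMonoidHom).toHomUnits

omit [IsAlgClosed K] [Algebra.FiniteType K A] [IsReduced A] [IsDomain A] in
lemma charHom_apply (g : Pt K A) (m : Multiplicative (Fin r → ℤ)) :
    ((charHom e g m : Kˣ) : K) = g (e.symm m).val := rfl

/-- The torus part of a point. -/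
noncomputable def sPart (g : Pt K A) : Pt K A := Pt.map π (torPt _ (charHom e g))

omit [IsAlgClosed K] [Algebra.FiniteType K A] [IsReduced A] [IsDomain A] in
lemma sPart_mem (g : Pt K A) : sPart e π g ∈ (Pt.map π).range := ⟨_, rfl⟩

variable {e π} (hπ : ∀ χ : GroupLike K A, π χ.val = MonoidAlgebra.single (e χ) 1)

include hπ

omit [IsAlgClosed K] [Algebra.FiniteType K A] [IsReduced A] [IsDomain A] in
lemma sPart_groupLike (g : Pt K A) (χ : GroupLike K A) : sPart e π g χ.val = g χ.val := by
  rw [sPart, Pt.map_apply, hπ, torPt_single, one_mul, charHom_apply, MulEquiv.symm_apply_apply]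

omit [IsDomain A] in
lemma uPart_mem (g : Pt K A) : (sPart e π g)⁻¹ * g ∈ Gu K A := by
  intro χ
  rw [groupLike_mul, ← sPart_groupLike hπ g χ]
  exact apply_inv_mul_self χ _

omit [IsAlgClosed K] [Algebra.FiniteType K A] [IsReduced A] [IsDomain A] in
lemma eq_one_of_mem {g : Pt K A} (hg : g ∈ (Pt.map π).range) (hu : g ∈ Gu K A) : g = 1 := by
  obtain ⟨x, rfl⟩ := hg
  have h1 : (torPt _).symm x = 1 := by
    apply MonoidHom.ext
    intro m
    apply Units.ext
    have h2 := hu (e.symm m)
    rw [Pt.map_apply, hπ, MulEquiv.apply_symm_apply] at h2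
    have h3 : x = torPt _ ((torPt _).symm x) := (MulEquiv.apply_symm_apply _ _).symm
    rw [h3, torPt_single, one_mul] at h2
    exact h2
  have h4 : x = 1 := by
    rw [← MulEquiv.apply_symm_apply (torPt _) x, h1, map_one]
  rw [h4, map_one]

omit [IsDomain A] in
lemma sPart_eq_one_iff {g : Pt K A} : sPart e π g = 1 ↔ g ∈ Gu K A := by
  constructor
  · intro h
    have h1 := uPart_mem hπ g
    rw [h, inv_one, one_mul] at h1
    exact h1
  · intro hg
    apply eq_one_of_mem hπ (sPart_mem e π g)
    intro χ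
    rw [sPart_groupLike hπ]
    exact hg χ

omit [IsAlgClosed K] [Algebra.FiniteType K A] [IsReduced A] [IsDomain A] hπ in
lemma isReg_sPart : IsReg (sPart e π) := by
  intro a
  refine ⟨∑ m ∈ (π a).coeff.support, (π a).coeff m • (e.symm m).val, fun g => ?_⟩
  rw [Pt.apply_sum]
  have h1 : sPart e π g a = (torPt _ (charHom e g) :
    Pt K (MonoidAlgebra K (Multiplicative (Fin r → ℤ)))) (π a) := rfl
  rw [h1, torPt_apply, Finsupp.sum]
  refine Finset.sum_congr rfl fun m _ => ?_
  rw [Pt.apply_smul, torChar_apply, charHom_apply]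

end parts

/-- **`G_u` is connected.** -/
theorem isConn_Gu (hT : IsTrig K A) : IsConn (Gu K A : Set (Pt K A)) := by
  obtain ⟨r, e, π, -, hπ⟩ := exists_torusMap hT
  have h1 : IsReg (fun g : Pt K A => (sPart e π g)⁻¹ * g) := (isReg_sPart).inv.mul isReg_id
  have h2 := (isConn_univ (K := K) (A := A)).image_reg h1
  convert h2
  ext g
  constructor
  · intro hg
    refine ⟨g, trivial, ?_⟩
    change (sPart e π g)⁻¹ * g = g
    rw [(sPart_eq_one_iff hπ).2 hg, inv_one, one_mul]
  · rintro ⟨g, -, rfl⟩
    exact uPart_mem hπ g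

omit [Algebra.FiniteType K A] [IsReduced A] [IsDomain A] in
/-- Unipotent points of a torus are trivial. -/
lemma eq_one_of_isTorusSub {T : Subgroup (Pt K A)} (hT : IsTorusSub T) {u : Pt K A} (hu : u ∈ T)
    (hg : IsUnip u) : u = 1 := by
  have hK : Infinite K := IsAlgClosed.instInfinite
  obtain ⟨n, π, hπ, rfl⟩ := hT
  obtain ⟨x, rfl⟩ := hu
  have hx : IsUnip x := isUnip_of_map hπ hg
  suffices h : x = 1 by rw [h, map_one]
  have h1 : (torPt _).symm x = 1 := by
    apply MonoidHom.ext
    intro m
    apply Units.ext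
    obtain ⟨k, hk⟩ := hx (MonoidAlgebra.single m 1)
    let χ : GroupLike K (MonoidAlgebra K (Multiplicative (Fin n → ℤ))) :=
      ⟨MonoidAlgebra.single m 1, MonoidAlgebra.isGroupLikeElem_single_one m⟩
    have h2 : rTr x (MonoidAlgebra.single m (1 : K)) =
        (x (MonoidAlgebra.single m (1 : K))) • MonoidAlgebra.single m (1 : K) := by
      rw [rTr_eq_cact, cact_regular, MonoidAlgebra.comul_single]
      simp only [CommSemiring.comul_apply, TensorProduct.map_tmul, MonoidAlgebra.lsingle_apply,
        contr_tmul, AlgHom.toLinearMap_apply]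
    have h3 := CentralTorus.pow_apply_eigen (μ₀ := 1) h2 k
    rw [one_smul, hk] at h3
    have h4 : x (MonoidAlgebra.single m (1 : K)) = 1 := by
      rcases smul_eq_zero.1 h3.symm with h5 | h5
      · by_cases hk0 : k = 0
        · rw [hk0, pow_zero] at h5
          exact absurd h5 one_ne_zero
        · exact sub_eq_zero.1 ((pow_eq_zero_iff hk0).1 h5)
      · exact absurd (MonoidAlgebra.single_eq_zero.1 h5) one_ne_zero
    have h6 : x = torPt _ ((torPt _).symm x) := (MulEquiv.apply_symm_apply _ _).symm
    rw [h6, torPt_single, one_mul] at h4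
    exact h4
  rw [← MulEquiv.apply_symm_apply (torPt _) x, h1, map_one]

/-- **Structure of connected trigonalizable groups**: `G = T ⋉ G_u`. -/
theorem exists_torus (hT : IsTrig K A) : ∃ T : Subgroup (Pt K A), IsMaxTorusSub T ∧
    T ⊓ Gu K A = ⊥ ∧ ∀ g, ∃ s ∈ T, ∃ u ∈ Gu K A, g = s * u := by
  obtain ⟨r, e, π, hsurj, hπ⟩ := exists_torusMap hT
  have hdec : ∀ g : Pt K A, ∃ s ∈ (Pt.map π).range, ∃ u ∈ Gu K A, g = s * u := fun g =>
    ⟨_, sPart_mem e π g, _, uPart_mem hπ g, by group⟩
  refine ⟨(Pt.map π).range, ⟨⟨r, π, hsurj, rfl⟩, ?_⟩, ?_, hdec⟩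
  · intro T' hT' hle
    refine le_antisymm ?_ hle
    intro g hg
    obtain ⟨s, hs, u, hu, rfl⟩ := hdec g
    have hu' : u ∈ T' := by
      have := T'.mul_mem (T'.inv_mem (hle hs)) hg
      rwa [inv_mul_cancel_left] at this
    rw [eq_one_of_isTorusSub hT' hu' ((isUnip_iff hT u).2 hu), mul_one]
    exact hs
  · rw [eq_bot_iff]
    rintro g ⟨hg1, hg2⟩
    exact eq_one_of_mem hπ hg1 hg2

end domain

end Groth.Agent.Sga3B.RG.TrigTorus
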