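import Groth.Agent.Sga3B.RG.Closed2
import Mathlib.RingTheory.FiniteType

/-!
# The identity component of a closed subgroup
-/

set_option autoImplicit false

universe u w

open WithConv TensorProduct Coalgebra
open scoped Pointwise

namespace Groth.Agent.Sga3B.RG

variable {K : Type u} [Field K] {A : Type u} [CommRing A] [HopfAlgebra K A]
  [IsAlgClosed K] [Algebra.FiniteType K A]

/-- The irreducible components of a closed set `X`: zero loci of the minimal primes over its
vanishing ideal. -/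
def comps (X : Set (Pt K A)) : Set (Set (Pt K A)) :=
  {Y | ∃ p ∈ (vanIdeal X).minimalPrimes, Y = zeros p}

omit [IsAlgClosed K] in
lemma finite_comps (X : Set (Pt K A)) : (comps X).Finite := by
  have : IsNoetherianRing A := Algebra.FiniteType.isNoetherianRing K A
  have h := Ideal.finite_minimalPrimes_of_isNoetherianRing A (vanIdeal X)
  refine (h.image fun p : Ideal A => (zeros p : Set (Pt K A))).subset ?_
  rintro _ ⟨p, hp, rfl⟩
  exact ⟨p, hp, rfl⟩

lemma isCl_of_mem_comps {X Y : Set (Pt K A)} (hY : Y ∈ comps X) : IsCl Y := by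
  obtain ⟨p, -, rfl⟩ := hY
  exact isCl_zeros p

lemma isConn_of_mem_comps {X Y : Set (Pt K A)} (hY : Y ∈ comps X) : IsConn Y := by
  obtain ⟨p, hp, rfl⟩ := hY
  have : p.IsPrime := hp.1.1
  rw [IsConn, vanIdeal_zeros, this.radical]
  exact this

omit [IsAlgClosed K] [Algebra.FiniteType K A] in
lemma subset_of_mem_comps {X Y : Set (Pt K A)} (hX : IsCl X) (hY : Y ∈ comps X) : Y ⊆ X := by
  obtain ⟨p, hp, rfl⟩ := hY
  exact (zeros_anti hp.1.2).trans hX

/-- Maximality of components. -/
lemma eq_of_comps_subset {X Y Z : Set (Pt K A)} (hY : Y ∈ comps X) (hZX : Z ⊆ X)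
    (hZ : IsConn Z) (hYZ : Y ⊆ Z) : Y = Z := by
  have h1 := isCl_of_mem_comps hY
  apply Set.Subset.antisymm hYZ
  rw [h1.subset_iff]
  obtain ⟨p, hp, rfl⟩ := hY
  have : p.IsPrime := hp.1.1
  rw [vanIdeal_zeros, this.radical]
  refine hp.2 ⟨hZ, vanIdeal_anti hZX⟩ ?_
  have := vanIdeal_anti hYZ
  rwa [vanIdeal_zeros, ‹p.IsPrime›.radical] at this

/-- Every irreducible subset of `X` is contained in a component. -/
lemma IsConn.exists_subset_comp {X Z : Set (Pt K A)} (hX : IsCl X) (hZ : IsConn Z) (hZX : Z ⊆ X) :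
    ∃ Y ∈ comps X, Z ⊆ Y := by
  have : (vanIdeal Z).IsPrime := hZ
  obtain ⟨p, hp, hpZ⟩ := Ideal.exists_minimalPrimes_le (J := vanIdeal Z) (vanIdeal_anti hZX)
  exact ⟨_, ⟨p, hp, rfl⟩, (subset_zeros_vanIdeal Z).trans (zeros_anti hpZ)⟩

lemma exists_mem_comp {X : Set (Pt K A)} (hX : IsCl X) {x : Pt K A} (hx : x ∈ X) :
    ∃ Y ∈ comps X, x ∈ Y := by
  obtain ⟨Y, hY, h⟩ := (isConn_singleton x).exists_subset_comp hX (by simpa using hx)
  exact ⟨Y, hY, h rfl⟩

/-- There is a point lying on exactly one component. -/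
lemma exists_mem_unique_comp {X : Set (Pt K A)} (hX : IsCl X) {Y : Set (Pt K A)}
    (hY : Y ∈ comps X) : ∃ x ∈ Y, ∀ Z ∈ comps X, x ∈ Z → Z = Y := by
  classical
  by_contra! hcon
  let s := (finite_comps X).toFinset.erase Y
  obtain ⟨Z, hZ, hYZ⟩ := (isConn_of_mem_comps hY).subset_of_subset_iUnion s id (by
    intro Z hZ
    exact isCl_of_mem_comps ((finite_comps X).mem_toFinset.1 (Finset.mem_of_mem_erase hZ))) (by
    intro x hx
    obtain ⟨Z, hZ, hxZ, hne⟩ := hcon x hx
    exact Set.mem_biUnion (x := Z) (Finset.mem_erase.2 ⟨hne, (finite_comps X).mem_toFinset.2 hZ⟩) hxZ)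
  have hZ' := (finite_comps X).mem_toFinset.1 (Finset.mem_of_mem_erase hZ)
  exact Finset.ne_of_mem_erase hZ
    (eq_of_comps_subset hY (subset_of_mem_comps hX hZ') (isConn_of_mem_comps hZ') hYZ).symm

section Transl

omit [IsAlgClosed K] [Algebra.FiniteType K A] in
lemma IsCl.smul_iff {X : Set (Pt K A)} (g : Pt K A) : IsCl (g • X) ↔ IsCl X :=
  ⟨fun h => by simpa using h.smul g⁻¹, fun h => h.smul g⟩

lemma smul_mem_comps {X Y : Set (Pt K A)} (hX : IsCl X) (hY : Y ∈ comps X) {g : Pt K A} :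
    g • Y ∈ comps (g • X) := by
  have hgY : IsConn (g • Y) := (isConn_of_mem_comps hY).smul g
  have hsub : g • Y ⊆ g • X := Set.smul_set_mono (subset_of_mem_comps hX hY)
  obtain ⟨Z, hZ, hYZ⟩ := hgY.exists_subset_comp (hX.smul g) hsub
  have h1 : Y ⊆ g⁻¹ • Z := by
    rw [Set.subset_smul_set_iff, inv_inv]; exact hYZ
  have h2 : g⁻¹ • Z ⊆ X := by
    rw [Set.smul_set_subset_iff_subset_inv_smul_set, inv_inv]
    exact subset_of_mem_comps (hX.smul g) hZ
  have := eq_of_comps_subset hY h2 ((isConn_of_mem_comps hZ).smul g⁻¹) h1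
  rw [this, smul_inv_smul]
  exact hZ

end Transl

section Group

variable (H : Subgroup (Pt K A))

/-- Every point of a closed subgroup lies on a unique component. -/
lemma existsUnique_comp (hH : IsCl (H : Set (Pt K A))) {x : Pt K A} (hx : x ∈ H) :
    ∃! Y, Y ∈ comps (H : Set (Pt K A)) ∧ x ∈ Y := by
  obtain ⟨Y₀, hY₀, -⟩ := exists_mem_comp hH H.one_mem
  obtain ⟨y, hy, hyu⟩ := exists_mem_unique_comp hH hY₀
  have hyH : y ∈ H := subset_of_mem_comps hH hY₀ hy
  have key : ∀ Z ∈ comps (H : Set (Pt K A)), x ∈ Z → (y * x⁻¹) • Z = Y₀ := by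
    intro Z hZ hxZ
    have h1 := smul_mem_comps hH hZ (g := y * x⁻¹)
    have h2 : (y * x⁻¹) • (H : Set (Pt K A)) = H := by
      have h3 : y * x⁻¹ ∈ H := H.mul_mem hyH (H.inv_mem hx)
      ext z
      rw [Set.mem_smul_set_iff_inv_smul_mem, smul_eq_mul]
      exact H.mul_mem_cancel_left (H.inv_mem h3)
    rw [h2] at h1
    exact hyu _ h1 ⟨x, hxZ, by simp⟩
  obtain ⟨Y, hY, hxY⟩ := exists_mem_comp hH hx
  refine ⟨Y, ⟨hY, hxY⟩, ?_⟩
  rintro Z ⟨hZ, hxZ⟩
  have h1 := key Y hY hxY
  have h2 := key Z hZ hxZ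
  rw [← h1] at h2
  exact smul_left_cancel _ h2

/-- The identity component of a closed subgroup, as a set (any subgroup: the component of `1` of
its closure). -/
noncomputable def idCompSet : Set (Pt K A) :=
  (existsUnique_comp (clSub H) (isCl_clSub H) (one_mem _)).choose

lemma idCompSet_mem : idCompSet H ∈ comps (clSub H : Set (Pt K A)) :=
  (existsUnique_comp (clSub H) (isCl_clSub H) (one_mem _)).choose_spec.1.1

lemma one_mem_idCompSet : (1 : Pt K A) ∈ idCompSet H :=
  (existsUnique_comp (clSub H) (isCl_clSub H) (one_mem _)).choose_spec.1.2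

variable {H} in
lemma eq_idCompSet {Y : Set (Pt K A)} (hY : Y ∈ comps (clSub H : Set (Pt K A)))
    (h1 : (1 : Pt K A) ∈ Y) : Y = idCompSet H :=
  (existsUnique_comp (clSub H) (isCl_clSub H) (one_mem _)).choose_spec.2 _ ⟨hY, h1⟩

omit [IsAlgClosed K] [Algebra.FiniteType K A] in
lemma smul_coe_eq {H : Subgroup (Pt K A)} {g : Pt K A} (hg : g ∈ H) :
    g • (H : Set (Pt K A)) = H := by
  ext z
  rw [Set.mem_smul_set_iff_inv_smul_mem, smul_eq_mul]
  exact H.mul_mem_cancel_left (H.inv_mem hg)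

lemma idCompSet_subset : idCompSet H ⊆ clSub H :=
  subset_of_mem_comps (isCl_clSub H) (idCompSet_mem H)

/-- The identity component of (the closure of) a subgroup. -/
noncomputable def idComp : Subgroup (Pt K A) where
  carrier := idCompSet H
  one_mem' := one_mem_idCompSet H
  mul_mem' := by
    intro a b ha hb
    have h1 : a⁻¹ • idCompSet H = idCompSet H := by
      apply eq_idCompSet
      · have := smul_mem_comps (isCl_clSub H) (idCompSet_mem H) (g := a⁻¹)
        rwa [smul_coe_eq (inv_mem (idCompSet_subset H ha))] at this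
      · exact ⟨a, ha, by simp⟩
    have h2 : b ∈ a⁻¹ • idCompSet H := by rw [h1]; exact hb
    rwa [Set.mem_smul_set_iff_inv_smul_mem, inv_inv] at h2
  inv_mem' := by
    intro a ha
    have h1 : a⁻¹ • idCompSet H = idCompSet H := by
      apply eq_idCompSet
      · have := smul_mem_comps (isCl_clSub H) (idCompSet_mem H) (g := a⁻¹)
        rwa [smul_coe_eq (inv_mem (idCompSet_subset H ha))] at this
      · exact ⟨a, ha, by simp⟩
    rw [← h1]
    exact ⟨1, one_mem_idCompSet H, by simp⟩

lemma coe_idComp : (idComp H : Set (Pt K A)) = idCompSet H := rfl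

lemma isCl_idComp : IsCl (idComp H : Set (Pt K A)) := isCl_of_mem_comps (idCompSet_mem H)

lemma isConn_idComp : IsConn (idComp H : Set (Pt K A)) := isConn_of_mem_comps (idCompSet_mem H)

lemma idComp_le_clSub : idComp H ≤ clSub H := idCompSet_subset H

omit [IsAlgClosed K] [Algebra.FiniteType K A] in
lemma clSub_eq_self {H : Subgroup (Pt K A)} (hH : IsCl (H : Set (Pt K A))) : clSub H = H :=
  le_antisymm (clSub_le le_rfl hH) (le_clSub H)

lemma idComp_le {H : Subgroup (Pt K A)} (hH : IsCl (H : Set (Pt K A))) : idComp H ≤ H := by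
  have := idComp_le_clSub H
  rwa [clSub_eq_self hH] at this

/-- Irreducible subsets of `H` containing `1` are contained in the identity component. -/
lemma IsConn.subset_idComp {H : Subgroup (Pt K A)} {X : Set (Pt K A)} (hX : IsConn X)
    (h1 : (1 : Pt K A) ∈ X) (hXH : X ⊆ H) : X ⊆ idComp H := by
  obtain ⟨Y, hY, hXY⟩ := hX.exists_subset_comp (isCl_clSub H) (hXH.trans (le_clSub H))
  have := eq_idCompSet hY (hXY h1)
  rw [coe_idComp, ← this]
  exact hXY

lemma le_idComp {H N : Subgroup (Pt K A)} (hN : IsConn (N : Set (Pt K A))) (h : N ≤ H) :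
    N ≤ idComp H := hN.subset_idComp N.one_mem h

lemma idComp_eq_self {H : Subgroup (Pt K A)} (hH : IsCl (H : Set (Pt K A)))
    (hc : IsConn (H : Set (Pt K A))) : idComp H = H :=
  le_antisymm (idComp_le hH) (le_idComp hc le_rfl)

lemma idComp_mono {H H' : Subgroup (Pt K A)} (h : H ≤ H') : idComp H ≤ idComp H' := by
  have h1 : (idComp H : Set (Pt K A)) ⊆ clSub H' :=
    (idComp_le_clSub H).trans (clSub_le (h.trans (le_clSub H')) (isCl_clSub H'))
  have h2 := (isConn_idComp H).subset_idComp (H := clSub H') (one_mem _) h1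
  intro x hx
  have h3 := h2 hx
  have h4 : clSub (clSub H') = clSub H' := clSub_eq_self (isCl_clSub H')
  have h5 : idComp (clSub H') = idComp H' := by
    apply SetLike.coe_injective
    rw [coe_idComp]
    apply eq_idCompSet
    · have h6 := idCompSet_mem (clSub H')
      rwa [h4] at h6
    · exact one_mem_idCompSet (clSub H')
  rwa [h5] at h3

/-- The identity component has finite index. -/
lemma relIndex_idComp_ne_zero {H : Subgroup (Pt K A)} (hH : IsCl (H : Set (Pt K A))) :
    (idComp H).relIndex H ≠ 0 := by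
  classical
  rw [Subgroup.relIndex]
  rw [Subgroup.index_ne_zero_iff_finite]
  have : Finite (comps (H : Set (Pt K A))) := finite_comps _
  -- left cosets are components
  have hcos : ∀ x ∈ H, x • (idComp H : Set (Pt K A)) ∈ comps (H : Set (Pt K A)) := by
    intro x hx
    have h1 := smul_mem_comps (isCl_clSub H) (idCompSet_mem H) (g := x)
    rwa [smul_coe_eq (le_clSub H hx), clSub_eq_self hH] at h1
  let f : H ⧸ (idComp H).subgroupOf H → comps (H : Set (Pt K A)) := fun q =>
    ⟨(q.out : Pt K A) • (idComp H : Set (Pt K A)), hcos _ q.out.2⟩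
  apply Finite.of_injective f
  intro q q' hqq
  have h1 : (q.out : Pt K A) • (idComp H : Set (Pt K A)) =
      (q'.out : Pt K A) • (idComp H : Set (Pt K A)) := congr_arg Subtype.val hqq
  rw [← q.out_eq, ← q'.out_eq]
  apply QuotientGroup.eq.2
  rw [Subgroup.mem_subgroupOf]
  have h2 : (q'.out : Pt K A) ∈ (q.out : Pt K A) • (idComp H : Set (Pt K A)) := by
    rw [h1]; exact ⟨1, (idComp H).one_mem, by simp⟩
  rw [Set.mem_smul_set_iff_inv_smul_mem, smul_eq_mul] at h2
  simpa using h2

/-- Conjugates of irreducible sets are irreducible. -/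
lemma IsConn.conj {X : Set (Pt K A)} (hX : IsConn X) (g : Pt K A) :
    IsConn ((fun x => g * x * g⁻¹) '' X) := by
  have : (fun x => g * x * g⁻¹) '' X = ({g} * X) * {g⁻¹} := by
    rw [Set.singleton_mul, Set.mul_singleton, Set.image_image]
  rw [this]
  exact ((isConn_singleton g).mul hX).mul (isConn_singleton _)

/-- Conjugates of closed sets are closed. -/
lemma IsCl.conj {X : Set (Pt K A)} (hX : IsCl X) (g : Pt K A) :
    IsCl ((fun x => g * x * g⁻¹) '' X) := by
  intro y hy
  refine ⟨g⁻¹ * y * g, ?_, by group⟩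
  apply hX
  intro a ha
  rw [← rTr_apply_pt, ← inv_inv g⁻¹, ← inv_inv g, inv_inv g, ← lTr_apply_pt]
  rw [inv_inv]
  apply hy
  rintro _ ⟨x, hx, rfl⟩
  rw [lTr_apply_pt, rTr_apply_pt]
  have : g⁻¹ * (g * x * g⁻¹) * g = x := by group
  rw [this]
  exact ha x hx

/-- An element normalising `H` normalises its identity component. -/
lemma conj_mem_idComp {H : Subgroup (Pt K A)} (hH : IsCl (H : Set (Pt K A))) {g : Pt K A}
    (hg : ∀ h ∈ H, g * h * g⁻¹ ∈ H) {x : Pt K A} (hx : x ∈ idComp H) :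
    g * x * g⁻¹ ∈ idComp H := by
  have h1 : IsConn ((fun x => g * x * g⁻¹) '' (idComp H : Set (Pt K A))) :=
    (isConn_idComp H).conj g
  have h2 := h1.subset_idComp (H := H) ⟨1, (idComp H).one_mem, by simp⟩ (by
    rintro _ ⟨y, hy, rfl⟩
    exact hg y (idComp_le hH hy))
  exact h2 ⟨x, hx, rfl⟩

lemma normal_idComp {H : Subgroup (Pt K A)} (hH : IsCl (H : Set (Pt K A))) (hn : H.Normal) :
    (idComp H).Normal :=
  ⟨fun _ hx g => conj_mem_idComp hH (fun h hh => hn.conj_mem h hh g) hx⟩

end Group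

end Groth.Agent.Sga3B.RG
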