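import Groth.Agent.Sga3B.RG.CentralTorus
import Groth.Agent.Sga3B.RG.UnipRep
import Mathlib.RingTheory.HopfAlgebra.GroupLike

/-!
# Trigonalizable groups: unipotent elements and characters

`IsTrig K A` : every nonzero finite-dimensional algebraic representation has a stable line.

* `isUnip_iff` : in a trigonalizable group `g` is unipotent iff all characters are `1` at `g`;
* `Gu` : the closed normal subgroup of unipotent elements, it contains all commutators.
-/

set_option autoImplicit false

universe u w

open WithConv TensorProduct Coalgebra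
open Groth.Agent.Sga3B.RG.CentralPt

namespace Groth.Agent.Sga3B.RG.Trig

variable {K : Type u} [Field K] {A : Type u} [CommRing A] [HopfAlgebra K A]

variable (K A) in
/-- The group of points is trigonalizable: every nonzero finite-dimensional algebraic
representation has a stable line. -/
def IsTrig : Prop :=
  ∀ (V : Type u) [AddCommGroup V] [Module K V] [FiniteDimensional K V] [Nontrivial V]
    (ρ : Representation K (Pt K A) V), IsAlg ρ →
    ∃ v : V, v ≠ 0 ∧ ∀ g, ∃ c : K, ρ g v = c • v

/-- It suffices that simple representations are one-dimensional. -/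
lemma isTrig_of_simple (h : ∀ (V : Type u) [AddCommGroup V] [Module K V] [FiniteDimensional K V]
    (ρ : Representation K (Pt K A) V), IsAlg ρ → IsSimpleRep ρ → Module.finrank K V = 1) :
    IsTrig K A := by
  intro V _ _ _ _ ρ hρ
  obtain ⟨W, -, hW0, hW, hmin⟩ := exists_simple_le ρ ⊤ (fun _ => le_top) top_ne_bot
  have hst : IsStable ρ W := fun g w hw => hW g hw
  have hnt : Nontrivial W := Submodule.nontrivial_iff_ne_bot.2 hW0
  have hsimple : IsSimpleRep (subRep ρ W hst) := by
    refine ⟨hnt, fun U hU => ?_⟩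
    have h1 := hmin (U.map W.subtype) (Submodule.map_subtype_le W U) (by
      rintro g _ ⟨u, hu, rfl⟩
      exact ⟨subRep ρ W hst g u, hU g u hu, rfl⟩)
    rcases h1 with h1 | h1
    · left
      rw [eq_bot_iff]
      intro x hx
      have h2 : (x : V) ∈ U.map W.subtype := ⟨x, hx, rfl⟩
      rw [h1, Submodule.mem_bot] at h2
      exact Subtype.ext h2
    · right
      rw [eq_top_iff]
      intro x _
      have h2 : (x : V) ∈ U.map W.subtype := by rw [h1]; exact x.2
      obtain ⟨y, hy, hyx⟩ := h2
      have : y = x := Subtype.ext hyx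
      rw [← this]
      exact hy
  have hdim := h W (subRep ρ W hst) (isAlg_subRep hρ W hst) hsimple
  obtain ⟨v, hv0, hv⟩ := finrank_eq_one_iff'.1 hdim
  refine ⟨v, fun h0 => hv0 (Subtype.ext h0), fun g => ?_⟩
  obtain ⟨c, hc⟩ := hv (subRep ρ W hst g v)
  exact ⟨c, (congrArg Subtype.val hc).symm⟩

variable [IsAlgClosed K] [Algebra.FiniteType K A]

section gl

variable [IsReduced A]

/-- A function which is multiplicative on points is group-like. -/
lemma isGroupLike_of_mul {a : A} (h1 : (1 : Pt K A) a = 1)
    (hmul : ∀ g h : Pt K A, (g * h) a = g a * h a) : IsGroupLikeElem K a := by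
  constructor
  · rw [← h1, Pt.one_apply]
  · rw [← sub_eq_zero]
    have hF : ∀ v : A, (∀ f ∈ Set.range (fun f : Pt K A => f.ofConv.toLinearMap), f v = 0) →
        v = 0 := by
      intro v hv
      exact eq_zero_of_forall_pt fun g => hv _ ⟨g, rfl⟩
    refine tensor_eq_zero_of_forall hF hF _ ?_
    rintro _ ⟨g, rfl⟩ _ ⟨h, rfl⟩
    rw [map_sub, map_sub, sub_eq_zero, TorusGen.mul'_map_comul, TensorProduct.map_tmul,
      LinearMap.mul'_apply]
    exact hmul g h

/-- A stable line gives a group-like function. -/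
lemma exists_groupLike {V : Type w} [AddCommGroup V] [Module K V]
    {ρ : Representation K (Pt K A) V} (hρ : IsAlg ρ) {v : V} (hv0 : v ≠ 0)
    (hv : ∀ g, ∃ c : K, ρ g v = c • v) : ∃ χ : GroupLike K A, ∀ g, ρ g v = (g χ.val) • v := by
  obtain ⟨f, hf⟩ : ∃ f : Module.Dual K V, f v = 1 := by
    obtain ⟨ξ, hξ⟩ := Module.Projective.exists_dual_ne_zero K hv0
    exact ⟨(ξ v)⁻¹ • ξ, by rw [LinearMap.smul_apply, smul_eq_mul, inv_mul_cancel₀ hξ]⟩
  obtain ⟨a, ha⟩ := hρ f v
  have hact : ∀ g, ρ g v = (g a) • v := by
    intro g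
    obtain ⟨c, hc⟩ := hv g
    have h1 := ha g
    rw [hc, map_smul, hf, smul_eq_mul, mul_one] at h1
    rw [hc, h1]
  refine ⟨⟨a, isGroupLike_of_mul ?_ ?_⟩, hact⟩
  · rw [← ha, map_one, Module.End.one_apply, hf]
  · intro g h
    rw [← ha, map_mul, Module.End.mul_apply, hact h, map_smul, map_smul, ha, smul_eq_mul, mul_comm]

omit [IsAlgClosed K] [Algebra.FiniteType K A] [IsReduced A] in
lemma groupLike_mul (χ : GroupLike K A) (g h : Pt K A) : (g * h) χ.val = g χ.val * h χ.val := by
  rw [← TorusGen.mul'_map_comul, χ.2.comul_eq_tmul_self, TensorProduct.map_tmul,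
    LinearMap.mul'_apply]
  rfl

omit [IsAlgClosed K] [Algebra.FiniteType K A] [IsReduced A] in
lemma groupLike_one (χ : GroupLike K A) : (1 : Pt K A) χ.val = 1 := by
  rw [Pt.one_apply]
  exact χ.2.counit_eq_one

lemma rTr_groupLike (g : Pt K A) (χ : GroupLike K A) : rTr g χ.val = (g χ.val) • χ.val := by
  apply eq_of_forall_pt (K := K)
  intro x
  rw [rTr_apply_pt, groupLike_mul]
  have : x.ofConv (g χ.val • χ.val) = g χ.val • x.ofConv χ.val := map_smul _ _ _
  rw [this, smul_eq_mul, mul_comm]

/-- The list of characters of a representation: the product of the operators `ρ g - χ(g)` is `0`. -/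
theorem exists_list (hT : IsTrig K A) (n : ℕ) : ∀ (V : Type u) [AddCommGroup V] [Module K V]
    [FiniteDimensional K V] (ρ : Representation K (Pt K A) V), IsAlg ρ →
    Module.finrank K V = n → ∃ l : List (GroupLike K A), ∀ (g : Pt K A) (v : V),
      (l.map fun χ => (ρ g - (g χ.val) • (1 : Module.End K V))).prod v = 0 := by
  induction n with
  | zero =>
    intro V _ _ _ ρ _ hn
    refine ⟨[], fun g v => ?_⟩
    have hV : Subsingleton V := Module.finrank_zero_iff.1 hn
    exact Subsingleton.elim _ _
  | succ n ih =>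
    intro V _ _ _ ρ hρ hn
    have hnt : Nontrivial V := Module.nontrivial_of_finrank_pos (R := K) (by omega)
    obtain ⟨v₀, hv₀, hv⟩ := hT V ρ hρ
    obtain ⟨χ, hχ⟩ := exists_groupLike hρ hv₀ hv
    let U : Submodule K V := K ∙ v₀
    have hUact : ∀ g, ∀ u ∈ U, ρ g u = (g χ.val) • u := by
      intro g u hu
      obtain ⟨c, rfl⟩ := Submodule.mem_span_singleton.1 hu
      rw [map_smul, hχ, smul_comm]
    have hU : ∀ g, U ≤ U.comap (ρ g) := fun g u hu => by
      rw [Submodule.mem_comap, hUact g u hu]; exact U.smul_mem _ hu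
    have hrank : Module.finrank K (V ⧸ U) = n := by
      have h1 := Submodule.finrank_quotient_add_finrank U
      have h2 : Module.finrank K U = 1 := finrank_span_singleton hv₀
      omega
    obtain ⟨l, hl⟩ := ih (V ⧸ U) (ρ.quotient U hU) (hρ.quotient U hU) hrank
    refine ⟨χ :: l, fun g v => ?_⟩
    rw [List.map_cons, List.prod_cons, Module.End.mul_apply]
    have hmk : ∀ (l : List (GroupLike K A)) (v : V), U.mkQ ((l.map fun χ =>
        (ρ g - (g χ.val) • (1 : Module.End K V))).prod v) =
        (l.map fun χ => (ρ.quotient U hU g - (g χ.val) • (1 : Module.End K (V ⧸ U)))).prod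
          (U.mkQ v) := by
      intro l
      induction l with
      | nil => intro v; simp
      | cons χ' l ih =>
        intro v
        rw [List.map_cons, List.prod_cons, Module.End.mul_apply, List.map_cons, List.prod_cons,
          Module.End.mul_apply, ← ih]
        rfl
    have hmem : (l.map fun χ => (ρ g - (g χ.val) • (1 : Module.End K V))).prod v ∈ U := by
      rw [← Submodule.ker_mkQ U, LinearMap.mem_ker, hmk, hl]
    rw [LinearMap.sub_apply, LinearMap.smul_apply, Module.End.one_apply, hUact g _ hmem, sub_self]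

/-- **Unipotent elements of a trigonalizable group.** -/
theorem isUnip_iff (hT : IsTrig K A) (g : Pt K A) :
    IsUnip g ↔ ∀ χ : GroupLike K A, g χ.val = 1 := by
  constructor
  · intro hg χ
    obtain ⟨n, hn⟩ := hg χ.val
    have h1 := CentralTorus.pow_apply_eigen (μ₀ := 1) (rTr_groupLike g χ) n
    rw [one_smul, hn] at h1
    have hχ0 : χ.val ≠ 0 := by
      intro h0
      have h2 := groupLike_one χ
      rw [h0] at h2
      exact zero_ne_one ((map_zero (1 : Pt K A).ofConv).symm.trans h2)
    rcases smul_eq_zero.1 h1.symm with h2 | h2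
    · by_cases hn0 : n = 0
      · rw [hn0, pow_zero] at h2
        exact absurd h2 one_ne_zero
      · exact sub_eq_zero.1 ((pow_eq_zero_iff hn0).1 h2)
    · exact absurd h2 hχ0
  · intro hg a
    obtain ⟨W, hW, hfin, hs⟩ := exists_finite_stable (K := K) (A := A) {a}
    obtain ⟨l, hl⟩ := exists_list hT _ W (subRep (rTrRep K A) W hW)
      (isAlg_subRep CentralPt.isAlg_rTrRep W hW) rfl
    have h1 := hl g ⟨a, hs a (by simp)⟩
    simp only [hg] at h1
    rw [List.map_const', List.prod_replicate] at h1
    refine ⟨l.length, ?_⟩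
    have key : ∀ (m : ℕ) (w : W), (((subRep (rTrRep K A) W hW g - (1 : K) •
        (1 : Module.End K W)) ^ m) w : A) = (((rTr g).toLinearMap - 1) ^ m) (w : A) := by
      intro m
      induction m with
      | zero => intro w; simp
      | succ m ih =>
        intro w
        rw [pow_succ, Module.End.mul_apply, ih, pow_succ, Module.End.mul_apply]
        congr 1
        change rTr g (w : A) - (1 : K) • (w : A) = _
        rw [one_smul]
        rfl
    have h2 := key l.length ⟨a, hs a (by simp)⟩
    rw [h1] at h2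
    exact h2.symm

variable (K A) in
/-- The closed normal subgroup of elements at which all characters are trivial. -/
noncomputable def Gu : Subgroup (Pt K A) where
  carrier := {g | ∀ χ : GroupLike K A, g χ.val = 1}
  mul_mem' := by
    intro g h hg hh χ
    rw [groupLike_mul, hg χ, hh χ, one_mul]
  one_mem' := groupLike_one
  inv_mem' := by
    intro g hg χ
    have h1 := groupLike_mul χ g⁻¹ g
    rw [inv_mul_cancel, groupLike_one, hg χ, mul_one] at h1
    exact h1.symm

lemma mem_Gu {g : Pt K A} : g ∈ Gu K A ↔ ∀ χ : GroupLike K A, g χ.val = 1 := Iff.rfl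

lemma isCl_Gu : IsCl (Gu K A : Set (Pt K A)) := by
  intro g hg χ
  have h1 : χ.val - 1 ∈ vanIdeal (Gu K A : Set (Pt K A)) := by
    intro h hh
    change h.ofConv (χ.val - 1) = 0
    rw [map_sub, map_one, sub_eq_zero]
    exact hh χ
  have h2 := hg _ h1
  have h3 : g.ofConv (χ.val - 1) = 0 := h2
  rw [map_sub, map_one, sub_eq_zero] at h3
  exact h3

lemma apply_inv_mul_self (χ : GroupLike K A) (g : Pt K A) : g⁻¹ χ.val * g χ.val = 1 := by
  rw [← groupLike_mul, inv_mul_cancel, groupLike_one]

/-- Commutators are unipotent. -/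
lemma commutator_mem_Gu (g h : Pt K A) : g * h * g⁻¹ * h⁻¹ ∈ Gu K A := by
  intro χ
  rw [groupLike_mul, groupLike_mul, groupLike_mul]
  have h1 := apply_inv_mul_self χ g
  have h2 := apply_inv_mul_self χ h
  calc g χ.val * h χ.val * g⁻¹ χ.val * h⁻¹ χ.val =
      (g⁻¹ χ.val * g χ.val) * (h⁻¹ χ.val * h χ.val) := by ring
    _ = 1 := by rw [h1, h2, one_mul]

instance normal_Gu : (Gu K A).Normal := by
  constructor
  intro n hn g
  have h1 := (Gu K A).mul_mem (commutator_mem_Gu g n) hn
  have h2 : g * n * g⁻¹ * n⁻¹ * n = g * n * g⁻¹ := by group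
  rw [h2] at h1
  exact h1

lemma commutator_le_Gu : commutator (Pt K A) ≤ Gu K A := by
  rw [commutator_eq_closure, Subgroup.closure_le]
  rintro _ ⟨g, h, rfl⟩
  rw [commutatorElement_def]
  exact commutator_mem_Gu g h

end gl

end Groth.Agent.Sga3B.RG.Trig
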