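import Groth.Agent.Sga3B.RG.Wt
import Groth.Agent.Sga3B.RG.Closed2
import Groth.Agent.Sga3B.RG.CentralPt
import Mathlib.Algebra.Category.Grp.Injective
import Mathlib.LinearAlgebra.FreeModule.PID
import Mathlib.RingTheory.Flat.Basic
import Mathlib.Data.Fin.Tuple.Basic

/-!
# Images of tori are tori; commuting tori generate a torus

* `isTorusSub_range` : the image of a homomorphism `D(ℤⁿ) → G` is a torus;
* `exists_coch_torus` : the image of a cocharacter is a torus;
* `IsTorusSub.sup` : the subgroup generated by two commuting tori is a torus;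
* `IsMaxTorusSub.coch_mem` : a cocharacter commuting with a maximal torus lies in it.
-/

set_option autoImplicit false

universe u w

open WithConv TensorProduct Coalgebra
open scoped LaurentPolynomial

namespace Groth.Agent.Sga3B.RG.TorusGen

variable {K : Type u} [Field K]

section sep

variable {G : Type} [CommGroup G]

/-- Points separate the elements of the group algebra. -/
lemma eq_zero_of_torPt (hG : Function.Injective (torChar K G)) {x : MonoidAlgebra K G}
    (h : ∀ t : G →* Kˣ, (torPt G t : Pt K (MonoidAlgebra K G)) x = 0) : x = 0 := by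
  have h1 := WtDec.coeff_eq_zero (K := K) (χ := torChar K G) hG x.coeff.support
    (fun n => x.coeff n) (by
      intro t
      have := h t
      rw [torPt_apply] at this
      exact this)
  apply MonoidAlgebra.coeff_injective
  ext n
  by_cases hn : n ∈ x.coeff.support
  · exact h1 n hn
  · exact Finsupp.notMem_support_iff.1 hn

lemma eq_of_torPt (hG : Function.Injective (torChar K G)) {x y : MonoidAlgebra K G}
    (h : ∀ t : G →* Kˣ, (torPt G t : Pt K (MonoidAlgebra K G)) x =
      (torPt G t : Pt K (MonoidAlgebra K G)) y) : x = y := by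
  rw [← sub_eq_zero]
  apply eq_zero_of_torPt hG
  intro t
  have h1 : (torPt G t : Pt K (MonoidAlgebra K G)).ofConv (x - y) =
    (torPt G t : Pt K (MonoidAlgebra K G)).ofConv x -
    (torPt G t : Pt K (MonoidAlgebra K G)).ofConv y := map_sub _ _ _
  refine h1.trans ?_
  rw [sub_eq_zero]
  exact h t

/-- Divisibility of `Kˣ`: characters extend from subgroups. -/
lemma exists_extend_char [IsAlgClosed K] (H : Subgroup G) (f : H →* Kˣ) :
    ∃ F : G →* Kˣ, ∀ h : H, F h = f h := by
  have hsurj : ∀ {n : ℤ}, n ≠ 0 → Function.Surjective (fun a : Additive Kˣ => n • a) := by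
    intro n hn a
    have hnat : 0 < n.natAbs := Int.natAbs_pos.2 hn
    obtain ⟨z, hz⟩ := IsAlgClosed.exists_pow_nat_eq ((a.toMul : Kˣ) : K) hnat
    have hz0 : z ≠ 0 := by
      intro h0
      rw [h0, zero_pow hnat.ne'] at hz
      exact (a.toMul : Kˣ).ne_zero hz.symm
    let y : Kˣ := Units.mk0 z hz0
    have hy : y ^ n.natAbs = a.toMul := Units.ext (by rw [Units.val_pow_eq_pow_val]; exact hz)
    rcases Int.natAbs_eq n with h | h
    · refine ⟨Additive.ofMul y, ?_⟩
      change n • Additive.ofMul y = a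
      rw [← ofMul_zpow, h, zpow_natCast, hy]
      rfl
    · refine ⟨Additive.ofMul y⁻¹, ?_⟩
      change n • Additive.ofMul y⁻¹ = a
      rw [← ofMul_zpow, h, zpow_neg, inv_zpow, inv_inv, zpow_natCast, hy]
      rfl
  have hdiv : DivisibleBy (Additive Kˣ) ℤ := divisibleByOfSMulRightSurj _ _ hsurj
  obtain ⟨F, hF⟩ := (Module.Baer.of_divisible (Additive Kˣ)).extension_property_addMonoidHom
    (MonoidHom.toAdditive H.subtype) (by
      intro x y hxy
      exact Additive.toMul.injective (Subtype.ext (Additive.ofMul.injective hxy)))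
    (MonoidHom.toAdditive f)
  refine ⟨MonoidHom.toAdditive.symm F, fun h => ?_⟩
  exact congrArg Additive.toMul (DFunLike.congr_fun hF (Additive.ofMul h))

end sep

section image

variable {A : Type u} [CommRing A] [HopfAlgebra K A] {G : Type} [CommGroup G]

lemma map_comul {B C : Type*} [CommRing B] [HopfAlgebra K B] [CommRing C] [HopfAlgebra K C]
    (f : B →ₐc[K] C) (b : B) :
    TensorProduct.map (f : B →ₐ[K] C).toLinearMap (f : B →ₐ[K] C).toLinearMap
      (comul (R := K) b) = comul (R := K) (f b) :=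
  CoalgHomClass.map_comp_comul_apply f b

/-- Contraction of the comultiplication of a group algebra. -/
lemma rid_lTensor_comul (h : G) (x : MonoidAlgebra K G) :
    TensorProduct.rid K (MonoidAlgebra K G)
      ((GenSpec.cf K h).lTensor (MonoidAlgebra K G) (comul (R := K) x)) =
      x.coeff h • MonoidAlgebra.single h (1 : K) := by
  classical
  induction x using MonoidAlgebra.induction_linear with
  | zero => simp
  | add f g hf hg =>
    rw [map_add, map_add, map_add, hf, hg, MonoidAlgebra.coeff_add, Finsupp.add_apply, add_smul]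
  | single l r =>
    rw [MonoidAlgebra.comul_single]
    simp only [CommSemiring.comul_apply, TensorProduct.map_tmul, MonoidAlgebra.lsingle_apply,
      LinearMap.lTensor_tmul, TensorProduct.rid_tmul, GenSpec.cf_apply,
      MonoidAlgebra.coeff_single, Finsupp.single_apply]
    split_ifs with hl
    · subst hl
      rfl
    · rw [zero_smul, zero_smul]

/-- The support of an element in the image of a bialgebra map is in the image. -/
lemma single_mem_range (φ : A →ₐc[K] MonoidAlgebra K G) (a : A) (h : G)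
    (hh : (φ a).coeff h ≠ 0) : ∃ b : A, φ b = MonoidAlgebra.single h 1 := by
  have h1 := rid_lTensor_comul h (φ a)
  rw [← CoalgHomClass.map_comp_comul_apply] at h1
  refine ⟨((φ a).coeff h)⁻¹ • TensorProduct.rid K A
    ((GenSpec.cf K h ∘ₗ (φ : A →ₗ[K] MonoidAlgebra K G)).lTensor A (comul (R := K) a)), ?_⟩
  rw [map_smul, inv_smul_eq_iff₀ hh, ← h1]
  generalize comul (R := K) a = z
  induction z with
  | zero => simp
  | add x y hx hy => simp only [map_add, hx, hy]
  | tmul x y =>
    simp only [LinearMap.lTensor_tmul, TensorProduct.rid_tmul, map_smul, TensorProduct.map_tmul]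
    rfl

/-- The group of characters of the image. -/
noncomputable def imGrp (hG : Function.Injective (torChar K G))
    (φ : A →ₐc[K] MonoidAlgebra K G) : Subgroup G where
  carrier := {h | ∃ b : A, φ b = MonoidAlgebra.single h 1}
  mul_mem' := by
    rintro g h ⟨a, ha⟩ ⟨b, hb⟩
    exact ⟨a * b, by rw [map_mul, ha, hb, MonoidAlgebra.single_mul_single, one_mul]⟩
  one_mem' := ⟨1, by rw [map_one]; rfl⟩
  inv_mem' := by
    rintro h ⟨a, ha⟩
    refine ⟨HopfAlgebra.antipode K a, ?_⟩
    apply eq_of_torPt hG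
    intro t
    have h1 : (torPt G t : Pt K (MonoidAlgebra K G)) (φ (HopfAlgebra.antipode K a)) =
        ((Pt.map φ (torPt G t))⁻¹ : Pt K A) a := rfl
    rw [h1, ← map_inv, ← map_inv, Pt.map_apply, ha, torPt_single, torPt_single]
    simp

lemma mem_imGrp {hG : Function.Injective (torChar K G)} {φ : A →ₐc[K] MonoidAlgebra K G} {h : G} :
    h ∈ imGrp hG φ ↔ ∃ b : A, φ b = MonoidAlgebra.single h 1 := Iff.rfl

/-- Factorization of a bialgebra map through the group algebra of its image. -/
theorem exists_factor (hG : Function.Injective (torChar K G)) (φ : A →ₐc[K] MonoidAlgebra K G) :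
    ∃ ψ : A →ₐc[K] MonoidAlgebra K (imGrp hG φ), Function.Surjective ψ ∧
      (MonoidAlgebra.mapDomainBialgHom K (imGrp hG φ).subtype).comp ψ = φ := by
  classical
  set H := imGrp hG φ with hH
  let ι : MonoidAlgebra K H →ₐc[K] MonoidAlgebra K G := MonoidAlgebra.mapDomainBialgHom K H.subtype
  have hιinj : Function.Injective ι := MonoidAlgebra.mapDomain_injective Subtype.val_injective
  have hιs : ∀ (h : H) (r : K), ι (MonoidAlgebra.single h r) = MonoidAlgebra.single (h : G) r :=
    fun h r => MonoidAlgebra.mapDomainBialgHom_single _ _ _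
  let ιa : MonoidAlgebra K H →ₐ[K] MonoidAlgebra K G := ι
  have hrange : ∀ a, (φ : A →ₐ[K] MonoidAlgebra K G) a ∈ ιa.range := by
    intro a
    have h1 : ∀ x : MonoidAlgebra K G, (∀ h, x.coeff h ≠ 0 → h ∈ H) → x ∈ ιa.range := by
      intro x hx
      have h2 : x = ∑ h ∈ x.coeff.support, MonoidAlgebra.single h (x.coeff h) := by
        apply MonoidAlgebra.coeff_injective
        ext g
        rw [MonoidAlgebra.coeff_sum, Finsupp.finsetSum_apply]
        simp only [MonoidAlgebra.coeff_single, Finsupp.single_apply, Finset.sum_ite_eq',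
          Finsupp.mem_support_iff, ne_eq, ite_not]
        split_ifs with h <;> simp [h]
      rw [h2]
      apply Subalgebra.sum_mem
      intro h hh
      exact ⟨MonoidAlgebra.single ⟨h, hx h (Finsupp.mem_support_iff.1 hh)⟩ (x.coeff h),
        hιs _ _⟩
    apply h1
    intro h hh
    exact single_mem_range φ a h hh
  let e := AlgEquiv.ofInjective ιa hιinj
  let ψ₀ : A →ₐ[K] MonoidAlgebra K H :=
    e.symm.toAlgHom.comp ((φ : A →ₐ[K] MonoidAlgebra K G).codRestrict ιa.range hrange)
  have hψ₀ : ∀ a, ι (ψ₀ a) = φ a := by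
    intro a
    have h1 : e (ψ₀ a) = ⟨φ a, hrange a⟩ := e.apply_symm_apply _
    exact congrArg Subtype.val h1
  have hcounit : (Bialgebra.counitAlgHom K (MonoidAlgebra K H)).comp ψ₀ =
      Bialgebra.counitAlgHom K A := by
    apply AlgHom.ext
    intro a
    change counit (R := K) (ψ₀ a) = counit (R := K) a
    rw [← CoalgHomClass.counit_comp_apply ι, hψ₀, CoalgHomClass.counit_comp_apply]
  have hcomul : (Algebra.TensorProduct.map ψ₀ ψ₀).comp (Bialgebra.comulAlgHom K A) =
      (Bialgebra.comulAlgHom K (MonoidAlgebra K H)).comp ψ₀ := by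
    apply AlgHom.ext
    intro a
    have hinj2 : Function.Injective (TensorProduct.map ιa.toLinearMap ιa.toLinearMap) :=
      TensorProduct.map_injective_of_flat_flat ιa.toLinearMap ιa.toLinearMap hιinj hιinj
    apply hinj2
    have h1 : TensorProduct.map ιa.toLinearMap ιa.toLinearMap (comul (R := K) (ψ₀ a)) =
        comul (R := K) (φ a) := by
      rw [← hψ₀]
      exact map_comul ι (ψ₀ a)
    refine Eq.trans ?_ h1.symm
    rw [← map_comul]
    change TensorProduct.map _ _ (Algebra.TensorProduct.map ψ₀ ψ₀ (comul (R := K) a)) = _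
    generalize comul (R := K) a = z
    induction z with
    | zero => simp
    | add x y hx hy => simp only [map_add, hx, hy]
    | tmul x y =>
      rw [Algebra.TensorProduct.map_tmul, TensorProduct.map_tmul, TensorProduct.map_tmul]
      change ι (ψ₀ x) ⊗ₜ ι (ψ₀ y) = φ x ⊗ₜ φ y
      rw [hψ₀, hψ₀]
  refine ⟨BialgHom.ofAlgHom ψ₀ hcounit hcomul, ?_, ?_⟩
  · have h1 : ψ₀.range = ⊤ := by
      rw [eq_top_iff]
      intro y _
      have h2 : y = ∑ h ∈ y.coeff.support, (y.coeff h) • MonoidAlgebra.single h (1 : K) := by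
        apply MonoidAlgebra.coeff_injective
        ext g
        rw [MonoidAlgebra.coeff_sum, Finsupp.finsetSum_apply]
        simp only [MonoidAlgebra.smul_single, smul_eq_mul, mul_one, MonoidAlgebra.coeff_single,
          Finsupp.single_apply, Finset.sum_ite_eq', Finsupp.mem_support_iff, ne_eq, ite_not]
        split_ifs with h <;> simp [h]
      rw [h2]
      apply Subalgebra.sum_mem
      intro h _
      apply Subalgebra.smul_mem
      obtain ⟨b, hb⟩ := h.2
      refine ⟨b, ?_⟩
      apply hιinj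
      change ι (ψ₀ b) = _
      rw [hψ₀, hιs]
      exact hb
    intro y
    have : y ∈ ψ₀.range := by rw [h1]; trivial
    exact this
  · apply BialgHom.ext
    intro a
    exact hψ₀ a

/-- A subgroup of `ℤⁿ` is isomorphic to `ℤᵏ`. -/
lemma exists_equiv_fin {n : ℕ} (H : Subgroup (Multiplicative (Fin n → ℤ))) :
    ∃ k : ℕ, Nonempty (H ≃* Multiplicative (Fin k → ℤ)) := by
  let M := Additive H
  let f : M →+ (Fin n → ℤ) :=
    { toFun := fun x => Multiplicative.toAdd ((Additive.toMul x : H) : Multiplicative (Fin n → ℤ))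
      map_zero' := rfl
      map_add' := fun _ _ => rfl }
  have hf : Function.Injective f.toIntLinearMap := by
    intro x y hxy
    exact Additive.toMul.injective (Subtype.ext (Multiplicative.toAdd.injective hxy))
  have hfin : Module.Finite ℤ M := Module.Finite.of_injective f.toIntLinearMap hf
  have hfree : Module.Free ℤ M :=
    Module.Free.of_equiv (LinearEquiv.ofInjective f.toIntLinearMap hf).symm
  let b := Module.finBasis ℤ M
  exact ⟨Module.finrank ℤ M, ⟨AddEquiv.toMultiplicativeRight b.equivFun.toAddEquiv⟩⟩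

variable [IsAlgClosed K]

/-- **The image of a homomorphism from a torus is a torus.** -/
theorem isTorusSub_range {n : ℕ} (φ : A →ₐc[K] MonoidAlgebra K (Multiplicative (Fin n → ℤ))) :
    IsTorusSub (Pt.map φ).range := by
  have hK : Infinite K := IsAlgClosed.instInfinite
  have hG := torChar_injective (K := K) n
  obtain ⟨ψ, hψ, hψφ⟩ := exists_factor hG φ
  have hψφ' : ∀ a, (MonoidAlgebra.mapDomainBialgHom K (imGrp hG φ).subtype) (ψ a) = φ a :=
    fun a => DFunLike.congr_fun hψφ a
  obtain ⟨k, ⟨e⟩⟩ := exists_equiv_fin (imGrp hG φ)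
  let E : MonoidAlgebra K (imGrp hG φ) ≃ₐc[K] MonoidAlgebra K (Multiplicative (Fin k → ℤ)) :=
    MonoidAlgebra.domCongrBialgEquiv K K e
  let E' : MonoidAlgebra K (imGrp hG φ) →ₐc[K] MonoidAlgebra K (Multiplicative (Fin k → ℤ)) := E
  let Es : MonoidAlgebra K (Multiplicative (Fin k → ℤ)) →ₐc[K] MonoidAlgebra K (imGrp hG φ) :=
    E.symm
  refine ⟨k, E'.comp ψ, E.surjective.comp hψ, ?_⟩
  apply le_antisymm
  · rintro _ ⟨x, rfl⟩
    refine ⟨Pt.map Es (Pt.map (MonoidAlgebra.mapDomainBialgHom K (imGrp hG φ).subtype) x), ?_⟩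
    apply Pt.ext'
    intro a
    simp only [Pt.map_apply]
    change x _ = x (φ a)
    congr 1
    rw [← hψφ']
    change (MonoidAlgebra.mapDomainBialgHom K (imGrp hG φ).subtype) (E.symm (E (ψ a))) = _
    rw [BialgEquiv.symm_apply_apply]
  · rintro _ ⟨x, rfl⟩
    -- extend the character
    let y : Pt K (MonoidAlgebra K (imGrp hG φ)) := Pt.map E' x
    obtain ⟨F, hF⟩ := exists_extend_char (imGrp hG φ) ((torPt (imGrp hG φ)).symm y)
    refine ⟨torPt _ F, ?_⟩
    apply Pt.ext'
    intro a
    rw [Pt.map_apply, ← hψφ']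
    change (torPt _ F : Pt K (MonoidAlgebra K (Multiplicative (Fin n → ℤ))))
      ((MonoidAlgebra.mapDomainBialgHom K (imGrp hG φ).subtype) (ψ a)) = y (ψ a)
    generalize ψ a = z
    have h1 : y = torPt _ ((torPt (imGrp hG φ)).symm y) := (MulEquiv.apply_symm_apply _ _).symm
    rw [h1]
    have h2 : ((torPt _ F : Pt K (MonoidAlgebra K (Multiplicative (Fin n → ℤ)))).ofConv.comp
        ((MonoidAlgebra.mapDomainBialgHom K (imGrp hG φ).subtype : MonoidAlgebra K (imGrp hG φ)
          →ₐc[K] _) : MonoidAlgebra K (imGrp hG φ) →ₐ[K] _)) =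
        (torPt _ ((torPt (imGrp hG φ)).symm y) : Pt K (MonoidAlgebra K (imGrp hG φ))).ofConv := by
      apply MonoidAlgebra.algHom_ext
      · intro m
        have h3 : ((MonoidAlgebra.mapDomainBialgHom K (imGrp hG φ).subtype :
            MonoidAlgebra K (imGrp hG φ) →ₐc[K] MonoidAlgebra K (Multiplicative (Fin n → ℤ))) :
            MonoidAlgebra K (imGrp hG φ) →ₐ[K] MonoidAlgebra K (Multiplicative (Fin n → ℤ)))
          (MonoidAlgebra.single m (1 : K)) =
            MonoidAlgebra.single (m : Multiplicative (Fin n → ℤ)) (1 : K) :=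
          MonoidAlgebra.mapDomainBialgHom_single _ _ _
        rw [AlgHom.comp_apply, h3]
        refine (torPt_single _ F _ 1).trans ?_
        refine Eq.trans ?_ (torPt_single _ _ m 1).symm
        rw [← hF]
      · ext
    exact congr($h2 z)

end image

section product

variable {A : Type u} [CommRing A] [HopfAlgebra K A] {G : Type} [CommGroup G]

lemma mul'_map_comul {B : Type u} [CommRing B] [HopfAlgebra K B] (s t : Pt K B) (b : B) :
    LinearMap.mul' K K (TensorProduct.map s.ofConv.toLinearMap t.ofConv.toLinearMap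
      (comul (R := K) b)) = (s * t) b := by
  rw [Pt.mul_apply]
  generalize comul (R := K) b = z
  induction z with
  | zero => simp
  | add x y hx hy => simp only [map_add, hx, hy]
  | tmul x y => simp

/-- The product of two commuting homomorphisms from a torus. -/
theorem exists_mul (hG : Function.Injective (torChar K G)) (ψ₁ ψ₂ : A →ₐc[K] MonoidAlgebra K G)
    (hc : ∀ s t : Pt K (MonoidAlgebra K G), Pt.map ψ₁ s * Pt.map ψ₂ t =
      Pt.map ψ₂ t * Pt.map ψ₁ s) :
    ∃ ψ : A →ₐc[K] MonoidAlgebra K G, ∀ s, Pt.map ψ s = Pt.map ψ₁ s * Pt.map ψ₂ s := by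
  let ψ₀ : A →ₐ[K] MonoidAlgebra K G :=
    (toConv (ψ₁ : A →ₐ[K] MonoidAlgebra K G) * toConv (ψ₂ : A →ₐ[K] MonoidAlgebra K G)).ofConv
  have hψ₀ : ∀ s : Pt K (MonoidAlgebra K G),
      toConv (s.ofConv.comp ψ₀) = Pt.map ψ₁ s * Pt.map ψ₂ s := by
    intro s
    exact congrArg toConv (AlgHom.comp_convMul_distrib _ _ _)
  have hcounit : (Bialgebra.counitAlgHom K (MonoidAlgebra K G)).comp ψ₀ =
      Bialgebra.counitAlgHom K A := by
    have h1 := hψ₀ 1
    rw [map_one, map_one, mul_one] at h1
    exact congrArg WithConv.ofConv h1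
  have hcomul : (Algebra.TensorProduct.map ψ₀ ψ₀).comp (Bialgebra.comulAlgHom K A) =
      (Bialgebra.comulAlgHom K (MonoidAlgebra K G)).comp ψ₀ := by
    apply AlgHom.ext
    intro a
    rw [← sub_eq_zero]
    have hF : ∀ v : MonoidAlgebra K G, (∀ f ∈ Set.range (fun t : G →* Kˣ =>
        (torPt G t : Pt K (MonoidAlgebra K G)).ofConv.toLinearMap), f v = 0) → v = 0 := by
      intro v hv
      exact eq_zero_of_torPt hG fun t => hv _ ⟨t, rfl⟩
    refine tensor_eq_zero_of_forall hF hF _ ?_
    rintro _ ⟨s, rfl⟩ _ ⟨t, rfl⟩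
    rw [map_sub, map_sub, sub_eq_zero]
    set s' : Pt K (MonoidAlgebra K G) := torPt G s
    set t' : Pt K (MonoidAlgebra K G) := torPt G t
    change LinearMap.mul' K K (TensorProduct.map s'.ofConv.toLinearMap t'.ofConv.toLinearMap
      (Algebra.TensorProduct.map ψ₀ ψ₀ (comul (R := K) a))) =
      LinearMap.mul' K K (TensorProduct.map s'.ofConv.toLinearMap t'.ofConv.toLinearMap
        (comul (R := K) (ψ₀ a)))
    rw [mul'_map_comul]
    have h1 : LinearMap.mul' K K (TensorProduct.map s'.ofConv.toLinearMap t'.ofConv.toLinearMap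
      (Algebra.TensorProduct.map ψ₀ ψ₀ (comul (R := K) a))) =
      (toConv (s'.ofConv.comp ψ₀) * toConv (t'.ofConv.comp ψ₀) : Pt K A) a := by
      rw [← mul'_map_comul]
      generalize comul (R := K) a = z
      induction z with
      | zero => simp
      | add x y hx hy => simp only [map_add, hx, hy]
      | tmul x y => simp
    have h2 : (s' * t') (ψ₀ a) = (toConv ((s' * t').ofConv.comp ψ₀) : Pt K A) a := rfl
    rw [h1, h2, hψ₀, hψ₀, hψ₀, map_mul, map_mul]
    congr 1
    rw [mul_assoc, ← mul_assoc (Pt.map ψ₂ s'), ← hc t' s']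
    simp only [mul_assoc]
  refine ⟨BialgHom.ofAlgHom ψ₀ hcounit hcomul, fun s => ?_⟩
  rw [← hψ₀]
  rfl

/-- The trivial homomorphism of tori. -/
lemma map_mapDomain_one {G' : Type} [CommGroup G'] (x : Pt K (MonoidAlgebra K G)) :
    Pt.map (MonoidAlgebra.mapDomainBialgHom K (1 : G' →* G)) x = 1 := by
  apply Pt.ext'
  intro a
  rw [Pt.map_apply, Pt.one_apply]
  induction a using MonoidAlgebra.induction_linear with
  | zero =>
    rw [map_zero]
    exact (map_zero x.ofConv).trans (map_zero (counit (R := K) (A := MonoidAlgebra K G'))).symm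
  | add f g hf hg =>
    rw [map_add]
    refine (map_add x.ofConv _ _).trans ?_
    refine Eq.trans ?_ (map_add (counit (R := K) (A := MonoidAlgebra K G')) f g).symm
    exact congrArg₂ (· + ·) hf hg
  | single m r =>
    rw [MonoidAlgebra.mapDomainBialgHom_single, MonoidAlgebra.counit_single]
    have h1 : (MonoidAlgebra.single ((1 : G' →* G) m) r : MonoidAlgebra K G) =
        algebraMap K _ r := rfl
    rw [h1]
    exact x.ofConv.commutes r

variable [IsAlgClosed K]

/-- Commuting tori generate a torus. -/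
theorem isTorusSub_sup {T₁ T₂ : Subgroup (Pt K A)} (h₁ : IsTorusSub T₁) (h₂ : IsTorusSub T₂)
    (hc : ∀ x ∈ T₁, ∀ y ∈ T₂, x * y = y * x) : IsTorusSub (T₁ ⊔ T₂) := by
  have hK : Infinite K := IsAlgClosed.instInfinite
  obtain ⟨n, π₁, hπ₁, rfl⟩ := h₁
  obtain ⟨m, π₂, hπ₂, rfl⟩ := h₂
  let j₁ : (Fin n → ℤ) →+ (Fin (n + m) → ℤ) :=
    { toFun := fun f => Fin.append f 0
      map_zero' := by
        ext i
        refine Fin.addCases (fun i => ?_) (fun i => ?_) i <;> simp
      map_add' := fun f g => by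
        ext i
        refine Fin.addCases (fun i => ?_) (fun i => ?_) i <;> simp }
  let j₂ : (Fin m → ℤ) →+ (Fin (n + m) → ℤ) :=
    { toFun := fun f => Fin.append 0 f
      map_zero' := by
        ext i
        refine Fin.addCases (fun i => ?_) (fun i => ?_) i <;> simp
      map_add' := fun f g => by
        ext i
        refine Fin.addCases (fun i => ?_) (fun i => ?_) i <;> simp }
  let r₁ : (Fin (n + m) → ℤ) →+ (Fin n → ℤ) :=
    { toFun := fun f i => f (Fin.castAdd m i)
      map_zero' := rfl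
      map_add' := fun _ _ => rfl }
  let r₂ : (Fin (n + m) → ℤ) →+ (Fin m → ℤ) :=
    { toFun := fun f i => f (Fin.natAdd n i)
      map_zero' := rfl
      map_add' := fun _ _ => rfl }
  let J₁ : Multiplicative (Fin n → ℤ) →* Multiplicative (Fin (n + m) → ℤ) :=
    AddMonoidHom.toMultiplicative j₁
  let J₂ : Multiplicative (Fin m → ℤ) →* Multiplicative (Fin (n + m) → ℤ) :=
    AddMonoidHom.toMultiplicative j₂
  let R₁ : Multiplicative (Fin (n + m) → ℤ) →* Multiplicative (Fin n → ℤ) :=
    AddMonoidHom.toMultiplicative r₁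
  let R₂ : Multiplicative (Fin (n + m) → ℤ) →* Multiplicative (Fin m → ℤ) :=
    AddMonoidHom.toMultiplicative r₂
  have e11 : R₁.comp J₁ = MonoidHom.id _ := by
    apply MonoidHom.ext
    intro f
    apply Multiplicative.toAdd.injective
    ext i
    exact Fin.append_left _ _ i
  have e12 : R₁.comp J₂ = 1 := by
    apply MonoidHom.ext
    intro f
    apply Multiplicative.toAdd.injective
    ext i
    exact Fin.append_left _ _ i
  have e22 : R₂.comp J₂ = MonoidHom.id _ := by
    apply MonoidHom.ext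
    intro f
    apply Multiplicative.toAdd.injective
    ext i
    exact Fin.append_right _ _ i
  have e21 : R₂.comp J₁ = 1 := by
    apply MonoidHom.ext
    intro f
    apply Multiplicative.toAdd.injective
    ext i
    exact Fin.append_right _ _ i
  let ψ₁ : A →ₐc[K] MonoidAlgebra K (Multiplicative (Fin (n + m) → ℤ)) :=
    (MonoidAlgebra.mapDomainBialgHom K J₁).comp π₁
  let ψ₂ : A →ₐc[K] MonoidAlgebra K (Multiplicative (Fin (n + m) → ℤ)) :=
    (MonoidAlgebra.mapDomainBialgHom K J₂).comp π₂
  have h1 : ∀ s, Pt.map ψ₁ s = Pt.map π₁ (Pt.map (MonoidAlgebra.mapDomainBialgHom K J₁) s) :=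
    fun _ => rfl
  have h2 : ∀ s, Pt.map ψ₂ s = Pt.map π₂ (Pt.map (MonoidAlgebra.mapDomainBialgHom K J₂) s) :=
    fun _ => rfl
  obtain ⟨ψ, hψ⟩ := exists_mul (torChar_injective (K := K) (n + m)) ψ₁ ψ₂ (by
    intro s t
    rw [h1, h2]
    exact hc _ ⟨_, rfl⟩ _ ⟨_, rfl⟩)
  have hmm : ∀ {a b c : ℕ} (R : Multiplicative (Fin b → ℤ) →* Multiplicative (Fin a → ℤ))
      (J : Multiplicative (Fin c → ℤ) →* Multiplicative (Fin b → ℤ))
      (x : Pt K (MonoidAlgebra K (Multiplicative (Fin a → ℤ)))),
      Pt.map (MonoidAlgebra.mapDomainBialgHom K J) (Pt.map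
        (MonoidAlgebra.mapDomainBialgHom K R) x) =
      Pt.map (MonoidAlgebra.mapDomainBialgHom K (R.comp J)) x := by
    intro a b c R J x
    rw [MonoidAlgebra.mapDomainBialgHom_comp]
    rfl
  have hid : ∀ {a : ℕ} (x : Pt K (MonoidAlgebra K (Multiplicative (Fin a → ℤ)))),
      Pt.map (MonoidAlgebra.mapDomainBialgHom K (MonoidHom.id _)) x = x := by
    intro a x
    rw [MonoidAlgebra.mapDomainBialgHom_id]
    rfl
  have hle : (Pt.map π₁).range ⊔ (Pt.map π₂).range = (Pt.map ψ).range := by
    apply le_antisymm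
    · apply sup_le
      · rintro _ ⟨x, rfl⟩
        refine ⟨Pt.map (MonoidAlgebra.mapDomainBialgHom K R₁) x, ?_⟩
        rw [hψ, h1, h2, hmm, hmm, e11, e12, hid, map_mapDomain_one, map_one, mul_one]
      · rintro _ ⟨x, rfl⟩
        refine ⟨Pt.map (MonoidAlgebra.mapDomainBialgHom K R₂) x, ?_⟩
        rw [hψ, h1, h2, hmm, hmm, e22, e21, hid, map_mapDomain_one, map_one, one_mul]
    · rintro _ ⟨x, rfl⟩
      rw [hψ, h1, h2]
      exact mul_mem (Subgroup.mem_sup_left ⟨_, rfl⟩) (Subgroup.mem_sup_right ⟨_, rfl⟩)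
  rw [hle]
  exact isTorusSub_range ψ

omit [IsAlgClosed K] in
/-- All points of the multiplicative group. -/
lemma gmPt_surjective : Function.Surjective (gmPt (K := K)) := by
  intro y
  let f : Multiplicative ℤ →* K :=
    ((y.ofConv : K[T;T⁻¹] →ₐ[K] K) : K[T;T⁻¹] →* K).comp (AddMonoidAlgebra.of K ℤ)
  have hf : ∀ n : ℤ, y (LaurentPolynomial.T n) = f (Multiplicative.ofAdd n) := fun _ => rfl
  let t : Kˣ := f.toHomUnits (Multiplicative.ofAdd 1)
  refine ⟨t, ?_⟩
  apply WithConv.ofConv_injective
  apply algHom_laurent_ext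
  intro n
  refine (gmPt_T t n).trans ?_
  refine Eq.trans ?_ (hf n).symm
  have h1 : Multiplicative.ofAdd n = (Multiplicative.ofAdd (1 : ℤ)) ^ n := by
    rw [← ofAdd_zsmul, smul_eq_mul, mul_one]
  have h2 : f (Multiplicative.ofAdd n) = ((f.toHomUnits (Multiplicative.ofAdd n) : Kˣ) : K) := rfl
  rw [h2, h1, map_zpow]

omit [IsAlgClosed K] in
/-- A cocharacter as a homomorphism from the one-dimensional torus. -/
lemma exists_coch_hom (c : A →ₐc[K] K[T;T⁻¹]) :
    ∃ φ : A →ₐc[K] MonoidAlgebra K (Multiplicative (Fin 1 → ℤ)),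
      (cochPt c).range = (Pt.map φ).range := by
  let e : Multiplicative ℤ →* Multiplicative (Fin 1 → ℤ) :=
    AddMonoidHom.toMultiplicative
      { toFun := fun z _ => z
        map_zero' := rfl
        map_add' := fun _ _ => rfl }
  let r : Multiplicative (Fin 1 → ℤ) →* Multiplicative ℤ :=
    AddMonoidHom.toMultiplicative (Pi.evalAddMonoidHom (fun _ : Fin 1 => ℤ) 0)
  have her : r.comp e = MonoidHom.id _ := rfl
  let E : K[T;T⁻¹] →ₐc[K] MonoidAlgebra K (Multiplicative ℤ) :=
    (AddMonoidAlgebra.toMultiplicativeBialgEquiv K K ℤ :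
      AddMonoidAlgebra K ℤ →ₐc[K] MonoidAlgebra K (Multiplicative ℤ))
  have hE : ∀ x, GenEig.toLaurent (E x) = x := fun x =>
    (AddMonoidAlgebra.toMultiplicativeBialgEquiv K K ℤ).symm_apply_apply x
  refine ⟨((MonoidAlgebra.mapDomainBialgHom K e).comp E).comp c, ?_⟩
  apply le_antisymm
  · rintro _ ⟨t, rfl⟩
    refine ⟨Pt.map (MonoidAlgebra.mapDomainBialgHom K r) (Pt.map GenEig.toLaurent (gmPt t)), ?_⟩
    apply Pt.ext'
    intro a
    simp only [Pt.map_apply]
    change (gmPt t : Pt K K[T;T⁻¹]) (GenEig.toLaurent (MonoidAlgebra.mapDomainBialgHom K r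
      (MonoidAlgebra.mapDomainBialgHom K e (E (c a))))) = (gmPt t : Pt K K[T;T⁻¹]) (c a)
    rw [MonoidAlgebra.mapDomainBialgHom_mapDomainBialgHom, her,
      MonoidAlgebra.mapDomainBialgHom_id]
    change (gmPt t : Pt K K[T;T⁻¹]) (GenEig.toLaurent (E (c a))) = _
    rw [hE]
  · rintro _ ⟨x, rfl⟩
    obtain ⟨t, ht⟩ := gmPt_surjective
      (Pt.map ((MonoidAlgebra.mapDomainBialgHom K e).comp E) x)
    refine ⟨t, ?_⟩
    change Pt.map c (gmPt t) = _
    rw [ht]
    rfl

/-- The image of a cocharacter is a torus. -/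
lemma isTorusSub_coch (c : A →ₐc[K] K[T;T⁻¹]) : IsTorusSub (cochPt c).range := by
  obtain ⟨φ, hφ⟩ := exists_coch_hom c
  rw [hφ]
  exact isTorusSub_range φ

/-- A torus commuting with a maximal torus is contained in it. -/
theorem le_of_commute {T : Subgroup (Pt K A)} (hT : IsMaxTorusSub T) {S : Subgroup (Pt K A)}
    (hS : IsTorusSub S) (hc : ∀ x ∈ T, ∀ y ∈ S, x * y = y * x) : S ≤ T := by
  have h1 := hT.2 (T ⊔ S) (isTorusSub_sup hT.1 hS hc) le_sup_left
  rw [← h1]
  exact le_sup_right

/-- A cocharacter commuting with a maximal torus lies in it. -/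
theorem coch_mem {T : Subgroup (Pt K A)} (hT : IsMaxTorusSub T) (c : A →ₐc[K] K[T;T⁻¹])
    (hc : ∀ x ∈ T, ∀ t : Kˣ, x * cochPt c t = cochPt c t * x) (t : Kˣ) : cochPt c t ∈ T :=
  le_of_commute hT (isTorusSub_coch c) (by
    rintro x hx _ ⟨t, rfl⟩
    exact hc x hx t) ⟨t, rfl⟩

end product

end Groth.Agent.Sga3B.RG.TorusGen
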