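import Mathlib.LinearAlgebra.FreeModule.PID
import Mathlib.LinearAlgebra.Dual.Lemmas
import Mathlib.GroupTheory.Archimedean

/-!
# Saturated rank one subgroups of a lattice
-/

set_option autoImplicit false

namespace Groth.Agent.Sga3B.RG.QC

variable {n : ℕ}

/-- The line spanned by a nonzero vector `a` of a lattice, intersected with the lattice, is
generated by a vector `b` which is part of a basis. -/
theorem exists_primitive (a : Fin n → ℤ) (ha : a ≠ 0) :
    ∃ (b : Fin n → ℤ) (l : (Fin n → ℤ) →+ ℤ), l b = 1 ∧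
      ∀ m : Fin n → ℤ, (∃ k c : ℤ, k ≠ 0 ∧ k • m = c • a) ↔ ∃ c : ℤ, m = c • b := by
  classical
  obtain ⟨i, hi⟩ : ∃ i, a i ≠ 0 := by
    by_contra h
    push Not at h
    exact ha (funext h)
  -- the saturation
  let Ψ : AddSubgroup (Fin n → ℤ) :=
    { carrier := {m | ∃ k c : ℤ, k ≠ 0 ∧ k • m = c • a}
      zero_mem' := ⟨1, 0, one_ne_zero, by simp⟩
      add_mem' := by
        rintro x y ⟨k, c, hk, h⟩ ⟨k', c', hk', h'⟩
        refine ⟨k * k', k' * c + k * c', mul_ne_zero hk hk', ?_⟩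
        rw [smul_add, mul_smul, smul_comm k k' x, h, mul_smul, h', smul_smul, smul_smul, add_smul]
      neg_mem' := by
        rintro x ⟨k, c, hk, h⟩
        exact ⟨k, -c, hk, by rw [smul_neg, h, neg_smul]⟩ }
  have hΨ : ∀ m, m ∈ Ψ ↔ ∃ k c : ℤ, k ≠ 0 ∧ k • m = c • a := fun m => Iff.rfl
  have hcoord : ∀ m ∈ Ψ, m i = 0 → m = 0 := by
    rintro m ⟨k, c, hk, h⟩ hmi
    have h1 := congrFun h i
    simp only [Pi.smul_apply, smul_eq_mul, hmi, mul_zero] at h1
    have hc : c = 0 := by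
      rcases mul_eq_zero.1 h1.symm with h2 | h2
      · exact h2
      · exact absurd h2 hi
    rw [hc, zero_smul] at h
    exact (smul_eq_zero.1 h).resolve_left hk
  let ev : (Fin n → ℤ) →+ ℤ := Pi.evalAddMonoidHom (fun _ => ℤ) i
  obtain ⟨d, hd⟩ : ∃ d : ℤ, Ψ.map ev = AddSubgroup.zmultiples d := by
    obtain ⟨d, hd⟩ := Int.subgroup_cyclic (Ψ.map ev)
    exact ⟨d, by rw [hd, AddSubgroup.zmultiples_eq_closure]⟩
  obtain ⟨b, hbΨ, hbd⟩ : ∃ b ∈ Ψ, ev b = d := by
    have : d ∈ Ψ.map ev := by rw [hd]; exact AddSubgroup.mem_zmultiples d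
    exact this
  have hgen : ∀ m ∈ Ψ, ∃ c : ℤ, m = c • b := by
    intro m hm
    have h1 : ev m ∈ Ψ.map ev := ⟨m, hm, rfl⟩
    rw [hd, AddSubgroup.mem_zmultiples_iff] at h1
    obtain ⟨c, hc⟩ := h1
    refine ⟨c, ?_⟩
    have h2 : m - c • b ∈ Ψ := Ψ.sub_mem hm (Ψ.zsmul_mem hbΨ c)
    rw [← sub_eq_zero]
    apply hcoord _ h2
    change ev (m - c • b) = 0
    rw [map_sub, map_zsmul, hbd, hc, sub_self]
  have hb0 : b ≠ 0 := by
    rintro rfl
    obtain ⟨c, hc⟩ := hgen a ⟨1, 1, one_ne_zero, rfl⟩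
    rw [smul_zero] at hc
    exact ha hc
  -- the ideal of values of linear forms on `b`
  obtain ⟨g, hg⟩ : ∃ g : ℤ, (AddMonoidHom.range
      ((AddMonoidHom.flip (AddMonoidHom.id ((Fin n → ℤ) →+ ℤ))) b)) = AddSubgroup.zmultiples g := by
    obtain ⟨g, hg⟩ := Int.subgroup_cyclic (AddMonoidHom.range
      ((AddMonoidHom.flip (AddMonoidHom.id ((Fin n → ℤ) →+ ℤ))) b))
    exact ⟨g, by rw [hg, AddSubgroup.zmultiples_eq_closure]⟩
  have hdiv : ∀ j, ∃ c : ℤ, b j = c * g := by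
    intro j
    have : b j ∈ AddSubgroup.zmultiples g := by
      rw [← hg]
      exact ⟨Pi.evalAddMonoidHom (fun _ => ℤ) j, rfl⟩
    obtain ⟨c, hc⟩ := AddSubgroup.mem_zmultiples_iff.1 this
    exact ⟨c, by rw [← hc]; simp⟩
  choose b' hb' using hdiv
  have hbb' : b = g • b' := by
    ext j
    rw [hb' j, Pi.smul_apply, smul_eq_mul, mul_comm]
  have hg0 : g ≠ 0 := by
    rintro rfl
    rw [zero_smul] at hbb'
    exact hb0 hbb'
  have hb'Ψ : b' ∈ Ψ := by
    obtain ⟨k, c, hk, h⟩ := hbΨ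
    refine ⟨k * g, c, mul_ne_zero hk hg0, ?_⟩
    rw [mul_smul, ← hbb', h]
  obtain ⟨c, hc⟩ := hgen b' hb'Ψ
  have hcg : g * c = 1 := by
    have h1 : (g * c) • b = (1 : ℤ) • b := by
      rw [one_smul, mul_smul, ← hc, ← hbb']
    have h2 : (g * c - 1) • b = 0 := by rw [sub_smul, h1, sub_self]
    have := (smul_eq_zero.1 h2).resolve_right hb0
    linarith
  obtain ⟨l, hl⟩ : ∃ l : (Fin n → ℤ) →+ ℤ, l b = 1 := by
    have : (1 : ℤ) ∈ AddSubgroup.zmultiples g :=
      AddSubgroup.mem_zmultiples_iff.2 ⟨c, by rw [smul_eq_mul, mul_comm]; exact hcg⟩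
    rw [← hg] at this
    obtain ⟨l, hl⟩ := this
    exact ⟨l, hl⟩
  refine ⟨b, l, hl, fun m => ⟨fun h => hgen m h, ?_⟩⟩
  rintro ⟨c, rfl⟩
  exact Ψ.zsmul_mem hbΨ c

/-- The quotient of a lattice by the line spanned by a vector with `l b = 1` is a lattice. -/
theorem exists_quot (b : Fin n → ℤ) (l : (Fin n → ℤ) →+ ℤ) (hl : l b = 1) :
    ∃ (r : ℕ) (f : (Fin n → ℤ) →+ (Fin r → ℤ)), Function.Surjective f ∧
      ∀ m, f m = 0 ↔ ∃ c : ℤ, m = c • b := by
  classical
  let L : (Fin n → ℤ) →ₗ[ℤ] ℤ := l.toIntLinearMap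
  let N : Submodule ℤ (Fin n → ℤ) := LinearMap.ker L
  have hfree : Module.Free ℤ N := inferInstance
  have hfin : Module.Finite ℤ N := inferInstance
  let e := Module.finBasis ℤ N
  let g : (Fin n → ℤ) →ₗ[ℤ] N := LinearMap.codRestrict N
    (LinearMap.id - L.smulRight b) (fun m => by
      rw [LinearMap.mem_ker]
      change L (m - L m • b) = 0
      rw [map_sub, map_smul]
      change L m - L m • (l b) = 0
      rw [hl, smul_eq_mul, mul_one, sub_self])
  have hg : ∀ m, (g m : Fin n → ℤ) = m - L m • b := fun m => rfl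
  refine ⟨Module.finrank ℤ N, (e.equivFun.toLinearMap.comp g).toAddMonoidHom, ?_, ?_⟩
  · intro x
    obtain ⟨y, rfl⟩ := e.equivFun.surjective x
    refine ⟨y, ?_⟩
    change e.equivFun (g y) = e.equivFun y
    congr 1
    apply Subtype.ext
    rw [hg]
    have : L y = 0 := y.2
    rw [this, zero_smul, sub_zero]
  · intro m
    have h1 : (e.equivFun.toLinearMap.comp g).toAddMonoidHom m = 0 ↔ g m = 0 := by
      change e.equivFun (g m) = 0 ↔ _
      rw [LinearEquiv.map_eq_zero_iff]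
    rw [h1, ← Subtype.coe_inj, hg]
    constructor
    · intro h
      exact ⟨L m, sub_eq_zero.1 h⟩
    · rintro ⟨c, rfl⟩
      have h2 : L (c • b) = c := by
        rw [map_smul]
        change c • l b = c
        rw [hl, smul_eq_mul, mul_one]
      rw [h2, sub_self]
      rfl

end Groth.Agent.Sga3B.RG.QC
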