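import Groth.Agent.Sga3B.RG.BrDiag
import Groth.Agent.Sga3B.RG.Closed
import Groth.Agent.Sga3B.RG.ConjDeform
import Groth.Agent.Sga3B.RG.Wt

/-!
# Centralizers of diagonalizable groups: points and schemes

* `exists_factor_of_specOver`: factoring through a monomorphism can be checked on affine opens.
* `isCentralizerOf_incl`: over any ring `k`, `Spec (A / JC π)` is the centralizer of
  `π : D(M) → Spec A`.
* `exists_isCentralizerOf`: existence of centralizers of diagonalizable groups in affine groups,
  smooth if the group is smooth.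
* `K` algebraically closed, `A` finitely generated reduced, `π : A → K[ℤⁿ]`:
  `mem_zeros_JC_iff`, `isReduced_quotient_JC`, `JC_eq_ker` (a closed torus with `C_G(T) ≤ T` on
  `K`-points is its own scheme centralizer), `exists_factor_of_centralizes` (scheme form).
-/

set_option autoImplicit false

universe u

open WithConv TensorProduct Coalgebra
open CategoryTheory MonoidalCategory CartesianMonoidalCategory MonObj GrpObj AlgebraicGeometry
open Groth.Agent.Books.AffBridge Groth.Agent.Books.AffBridge2

namespace Groth.Agent.Sga3B.RG.BrCent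

open ConjGrade
open Groth.Agent.Books.DynBasic (mapPt ptGroup mapPt_apply inv_def)

section glue

/-- Factoring through a monomorphism can be checked Zariski-locally, on affine opens. -/
lemma exists_factor_of_affineOpens {S : Scheme.{u}} {N G X : Over S} (i : N ⟶ G) [Mono i.left]
    (g : X ⟶ G)
    (h : ∀ (R : CommRingCat.{u}) (y : Spec R ⟶ X.left), IsOpenImmersion y →
      ∃ t : Spec R ⟶ N.left, t ≫ i.left = y ≫ g.left) :
    ∃ t : X ⟶ N, t ≫ i = g := by
  let 𝒰 := X.left.affineOpenCover
  have h' : ∀ x : 𝒰.openCover.I₀, ∃ t : 𝒰.openCover.X x ⟶ N.left,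
      t ≫ i.left = 𝒰.openCover.f x ≫ g.left := fun x => h (𝒰.X x) (𝒰.f x) inferInstance
  choose t ht using h'
  let T : X.left ⟶ N.left := 𝒰.openCover.glueMorphisms t (by
    intro x y
    rw [← cancel_mono i.left, Category.assoc, Category.assoc, ht, ht]
    exact Limits.pullback.condition_assoc _)
  have hT : T ≫ i.left = g.left := by
    refine 𝒰.openCover.hom_ext _ _ fun x => ?_
    rw [← Category.assoc, Scheme.Cover.ι_glueMorphisms]
    exact ht x
  refine ⟨Over.homMk T ?_, ?_⟩
  · rw [← Over.w i, ← Category.assoc, hT, Over.w]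
  · ext1
    exact hT

/-- Factoring through a monomorphism over `Spec k` can be checked on points with values in
`k`-algebras. -/
lemma exists_factor_of_specOver {k : Type u} [CommRing k] {N G X : Over (Spec (CommRingCat.of k))}
    (i : N ⟶ G) [Mono i.left] (g : X ⟶ G)
    (h : ∀ (R : Type u) [CommRing R] [Algebra k R] (y : SpecOver k R ⟶ X),
      ∃ t : SpecOver k R ⟶ N, t ≫ i = y ≫ g) :
    ∃ t : X ⟶ N, t ≫ i = g := by
  refine exists_factor_of_affineOpens i g fun R y _ => ?_
  let φ : CommRingCat.of k ⟶ R := Spec.preimage (y ≫ X.hom)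
  let : Algebra k R := φ.hom.toAlgebra
  have hφ : Spec.map (CommRingCat.ofHom (algebraMap k R)) = y ≫ X.hom := Spec.map_preimage _
  obtain ⟨t, ht⟩ := h R (Over.homMk y hφ.symm)
  exact ⟨t.left, congrArg CommaMorphism.left ht⟩

/-- Equality of morphisms can be checked on affine opens. -/
lemma hom_ext_of_affineOpens {S : Scheme.{u}} {G X : Over S} (f g : X ⟶ G)
    (h : ∀ (R : CommRingCat.{u}) (y : Spec R ⟶ X.left), IsOpenImmersion y →
      y ≫ f.left = y ≫ g.left) : f = g := by
  ext1
  exact X.left.affineOpenCover.openCover.hom_ext _ _ fun x =>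
    h (X.left.affineOpenCover.X x) (X.left.affineOpenCover.f x) inferInstance

/-- Equality of morphisms over `Spec k` can be checked on points with values in `k`-algebras. -/
lemma hom_ext_of_specOver {k : Type u} [CommRing k] {G X : Over (Spec (CommRingCat.of k))}
    (f g : X ⟶ G)
    (h : ∀ (R : Type u) [CommRing R] [Algebra k R] (y : SpecOver k R ⟶ X), y ≫ f = y ≫ g) :
    f = g := by
  refine hom_ext_of_affineOpens f g fun R y _ => ?_
  let φ : CommRingCat.of k ⟶ R := Spec.preimage (y ≫ X.hom)
  let : Algebra k R := φ.hom.toAlgebra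
  have hφ : Spec.map (CommRingCat.ofHom (algebraMap k R)) = y ≫ X.hom := Spec.map_preimage _
  exact congrArg CommaMorphism.left (h R (Over.homMk y hφ.symm))

end glue

section ring

variable {k : Type u} [CommRing k] {A : Type u} [CommRing A] [HopfAlgebra k A]
variable {G : Type} [CommGroup G] (π : A →ₐc[k] MonoidAlgebra k G)
variable {R : Type u} [CommRing R] [Algebra k R]

lemma comm_of_mem_cent {g : WithConv (A →ₐ[k] R)} (hg : g ∈ cent π R) (χ : G →* R) :
    tau π χ * g = g * tau π χ := by
  rw [cent, Subgroup.mem_comap, Subgroup.mem_centralizer_singleton_iff] at hg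
  let E : MonoidAlgebra R G →ₐ[k] R := (MonoidAlgebra.lift R R G χ).restrictScalars k
  have h1 := congrArg (mapPt (A := A) E) hg
  rw [map_mul, map_mul, mapPt_tau] at h1
  have h2 : ((E : MonoidAlgebra R G →ₐ[k] R) : MonoidAlgebra R G →* R).comp
      (MonoidAlgebra.of R G) = χ := by
    ext m
    simp [E]
  have h3 : mapPt E (mapPt (cst k G R) g) = g := by
    apply WithConv.ofConv_injective
    ext a
    change E (MonoidAlgebra.single 1 (g.ofConv a)) = _
    simp [E]
  rw [h2, h3] at h1
  exact h1.symm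

lemma specPreimage_eq_lift (h : SpecOver k R ⟶ SpecOver k (MonoidAlgebra k G)) :
    ∃ χ : G →* R, h ≫ specMap k (π : A →ₐ[k] MonoidAlgebra k G) =
      specMap k (tau π χ).ofConv := by
  refine ⟨(MonoidAlgebra.lift k R G).symm (specPreimage k h), ?_⟩
  conv_lhs => rw [← specMap_specPreimage k h, ← specMap_comp]
  congr 1
  change _ = (MonoidAlgebra.lift k R G ((MonoidAlgebra.lift k R G).symm _)).comp _
  rw [Equiv.apply_symm_apply]

instance isHopfIdeal_JC' : (JC π).IsHopfIdeal k := isHopfIdeal_JC π

/-- The ideal of the centralizer is finitely generated if `A` is of finite type. -/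
lemma JC_fg [Algebra.FiniteType k A] : (JC π).FG := by
  classical
  obtain ⟨S, hS⟩ := (inferInstance : Algebra.FiniteType k A).out
  let S' : Finset A := S.biUnion fun s => ((rho π s).coeff.support.filter (· ≠ 1)).image
    fun m => pr π m s
  let J' : Ideal A := Ideal.span (S' : Set A)
  have h1 : J' ≤ JC π := by
    rw [Ideal.span_le]
    intro x hx
    simp only [S', Finset.coe_biUnion, Set.mem_iUnion, Finset.coe_image, Set.mem_image,
      Finset.coe_filter, Set.mem_ofPred_eq] at hx
    obtain ⟨s, -, m, ⟨-, hm⟩, rfl⟩ := hx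
    exact Ideal.subset_span ⟨m, hm, pr_mem_gr π m s⟩
  let q : MonoidAlgebra A G →ₐ[k] MonoidAlgebra (A ⧸ J') G :=
    MonoidAlgebra.mapAlgHom G (Ideal.Quotient.mkₐ k J')
  have hq : ∀ f : MonoidAlgebra A G, ∀ m, (q f).coeff m = Ideal.Quotient.mk J' (f.coeff m) := by
    intro f m
    rfl
  let B : Subalgebra k A := (MonoidAlgebra.singleOneAlgHom (R := k) (A := A ⧸ J') (M := G)).range.comap
    (q.comp (rho π))
  have hB : B = ⊤ := by
    rw [eq_top_iff, ← hS, Algebra.adjoin_le_iff]
    intro s hs
    refine ⟨Ideal.Quotient.mk J' (pr π 1 s), ?_⟩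
    ext m
    change (MonoidAlgebra.single 1 (Ideal.Quotient.mk J' (pr π 1 s)) :
      MonoidAlgebra (A ⧸ J') G).coeff m = (q (rho π s)).coeff m
    rw [hq, MonoidAlgebra.coeff_single, Finsupp.single_apply]
    split_ifs with hm
    · rw [← hm]; rfl
    · symm
      rw [Ideal.Quotient.eq_zero_iff_mem]
      by_cases h0 : (rho π s).coeff m = 0
      · rw [h0]; exact J'.zero_mem
      · refine Ideal.subset_span ?_
        simp only [S', Finset.coe_biUnion, Set.mem_iUnion, Finset.coe_image, Set.mem_image,
          Finset.coe_filter, Set.mem_ofPred_eq]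
        exact ⟨s, hs, m, ⟨Finsupp.mem_support_iff.2 h0, fun h => hm h.symm⟩, rfl⟩
  have h2 : JC π ≤ J' := by
    rw [JC, Ideal.span_le]
    rintro a ⟨m, hm, ha⟩
    have h3 : a ∈ B := by rw [hB]; trivial
    obtain ⟨b, hb⟩ := h3
    have h4 : (MonoidAlgebra.single 1 b : MonoidAlgebra (A ⧸ J') G).coeff m =
      (q (rho π a)).coeff m := congrArg (fun f => MonoidAlgebra.coeff f m) hb
    rw [hq, (mem_gr π).1 ha, MonoidAlgebra.coeff_single, MonoidAlgebra.coeff_single,
      Finsupp.single_eq_same, Finsupp.single_eq_of_ne hm] at h4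
    exact Ideal.Quotient.eq_zero_iff_mem.1 h4.symm
  exact ⟨S', (le_antisymm h1 h2)⟩

/-- The inclusion of the centralizer. -/
noncomputable def cincl : SpecOver k (A ⧸ JC π) ⟶ SpecOver k A :=
  specMap k (Ideal.Quotient.mkₐ k (JC π))

instance isMonHom_cincl : IsMonHom (cincl π) :=
  isMonHom_specMap k (Bialgebra.Quotient.mkBialgHom (R := k) (JC π))

instance isClosedImmersion_cincl : IsClosedImmersion (cincl π).left :=
  (isClosedImmersion_specMap_iff k _).2 Ideal.Quotient.mk_surjective

instance mono_cincl_left : Mono (cincl π).left := inferInstance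

lemma mono_of_mono_left {S : Scheme.{u}} {X Y : Over S} (f : X ⟶ Y) [Mono f.left] : Mono f :=
  (Over.forget S).mono_of_mono_map (inferInstanceAs (Mono f.left))

instance mono_cincl : Mono (cincl π) := mono_of_mono_left _

/-- `R`-points of the centralizer. -/
lemma exists_comp_cincl_iff (g : WithConv (A →ₐ[k] R)) :
    (∃ t : SpecOver k R ⟶ SpecOver k (A ⧸ JC π), t ≫ cincl π = specMap k g.ofConv) ↔
      g ∈ cent π R := by
  rw [← toConv_ofConv g, ← vanish_JC_iff]
  constructor
  · rintro ⟨t, ht⟩ a ha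
    rw [← specMap_specPreimage k t, cincl, ← specMap_comp] at ht
    have h1 := specMap_injective k ht
    rw [ofConv_toConv] at h1
    rw [← h1]
    change specPreimage k t (Ideal.Quotient.mk _ a) = 0
    rw [Ideal.Quotient.eq_zero_iff_mem.2 ha, map_zero]
  · intro h
    refine ⟨specMap k (Ideal.Quotient.liftₐ (JC π) g.ofConv h), ?_⟩
    rw [cincl, ← specMap_comp]
    rfl

/-- `Spec (A / JC π)` is the centralizer of `π`. -/
theorem isCentralizerOf_cincl (i : SpecOver k (MonoidAlgebra k G) ⟶ SpecOver k A)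
    (hi : i = specMap k (π : A →ₐ[k] MonoidAlgebra k G)) :
    Red.IsCentralizerOf i (cincl π) := by
  subst hi
  refine ⟨inferInstance, inferInstance, fun X g => ⟨?_, ?_⟩⟩
  · rintro ⟨z, rfl⟩ X' x h
    refine hom_ext_of_specOver _ _ fun R _ _ y => ?_
    obtain ⟨χ, hχ⟩ := specPreimage_eq_lift π (y ≫ h)
    have h1 := (exists_comp_cincl_iff π (WithConv.toConv (specPreimage k (y ≫ x ≫ z ≫ cincl π)))).1
      ⟨y ≫ x ≫ z, by rw [WithConv.ofConv_toConv, specMap_specPreimage]; simp⟩
    have h2 := comm_of_mem_cent π h1 χ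
    have h3 := congrArg (fun q : WithConv (A →ₐ[k] R) => specMap k q.ofConv) h2
    simp only [specMap_mul, specMap_specPreimage] at h3
    rw [← hχ] at h3
    rw [MonObj.comp_mul, MonObj.comp_mul, ← Category.assoc y h, ← h3]
  · intro hg
    refine exists_factor_of_specOver (cincl π) g fun R _ _ y => ?_
    have h1 : WithConv.toConv (specPreimage k (y ≫ g)) ∈ cent π R := by
      rw [cent, Subgroup.mem_comap, Subgroup.mem_centralizer_singleton_iff]
      apply WithConv.ofConv_injective
      apply specMap_injective k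
      have h2 := hg (SpecOver k (MonoidAlgebra R G)) (specMap k (cst k G R) ≫ y)
        (specMap k (MonoidAlgebra.lift k (MonoidAlgebra R G) G (MonoidAlgebra.of R G)))
      rw [specMap_mul, specMap_mul]
      have h3 : specMap k (mapPt (cst k G R) (WithConv.toConv (specPreimage k (y ≫ g)))).ofConv =
          (specMap k (cst k G R) ≫ y) ≫ g := by
        change specMap k ((cst k G R).comp (specPreimage k (y ≫ g))) = _
        rw [specMap_comp, specMap_specPreimage, Category.assoc]
      have h4 : specMap k (tau π (MonoidAlgebra.of R G)).ofConv =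
          specMap k (MonoidAlgebra.lift k (MonoidAlgebra R G) G (MonoidAlgebra.of R G)) ≫
            specMap k (π : A →ₐ[k] MonoidAlgebra k G) := by
        rw [← specMap_comp]
        rfl
      rw [h3, h4]
      exact h2
    obtain ⟨t, ht⟩ := (exists_comp_cincl_iff π _).2 h1
    exact ⟨t, by rw [ht, WithConv.ofConv_toConv, specMap_specPreimage]⟩

end ring

section transport

variable {S : Scheme.{u}} {H G Z H' G' : Over S} [GrpObj G] [GrpObj H] [GrpObj Z]
  [GrpObj G'] [GrpObj H']

omit [GrpObj H] [GrpObj H'] in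
/-- Centralizers are compatible with isomorphisms of groups. -/
lemma isCentralizerOf_of_iso {i : H ⟶ G} {i' : H' ⟶ G'} (eH : H ≅ H') (eG : G ≅ G')
    [IsMonHom eG.hom] (hi : eH.hom ≫ i' = i ≫ eG.hom) {j : Z ⟶ G'}
    (hj : Red.IsCentralizerOf i' j) : Red.IsCentralizerOf i (j ≫ eG.inv) := by
  obtain ⟨h1, h2, h3⟩ := hj
  have hinv : IsMonHom eG.inv := inferInstance
  refine ⟨inferInstance, inferInstance, fun X g => ?_⟩
  have key : (∃ z : X ⟶ Z, z ≫ j ≫ eG.inv = g) ↔ ∃ z : X ⟶ Z, z ≫ j = g ≫ eG.hom := by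
    refine exists_congr fun z => ?_
    rw [← Category.assoc, Iso.comp_inv_eq]
  rw [key, h3]
  constructor
  · intro h X' x t
    have h4 := h X' x (t ≫ eH.hom)
    have h5 : (t ≫ eH.hom) ≫ i' = (t ≫ i) ≫ eG.hom := by rw [Category.assoc, hi, Category.assoc]
    rw [h5, ← Category.assoc, ← MonObj.mul_comp, ← MonObj.mul_comp, cancel_mono] at h4
    exact h4
  · intro h X' x t
    have h4 := h X' x (t ≫ eH.inv)
    have h5 : t ≫ i' = ((t ≫ eH.inv) ≫ i) ≫ eG.hom := by
      rw [Category.assoc, Category.assoc, ← hi, Iso.inv_hom_id_assoc]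
    rw [h5, ← Category.assoc, ← MonObj.mul_comp, ← MonObj.mul_comp, h4]

end transport

section existence

variable {k : Type u} [CommRing k]

/-- Centralizers of split diagonalizable groups in affine groups over an affine base exist and are
closed; they are smooth if the group is smooth. -/
theorem exists_isCentralizerOf {T G : Over (Spec (CommRingCat.of k))} [GrpObj T] [GrpObj G]
    [IsAffine G.left] {M : Type} [CommGroup M] (e : T ≅ SpecOver k (MonoidAlgebra k M))
    [IsMonHom e.hom] (i : T ⟶ G) [IsMonHom i] :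
    ∃ (Z : Over (Spec (CommRingCat.of k))) (_ : GrpObj Z) (j : Z ⟶ G),
      Red.IsCentralizerOf i j ∧ IsClosedImmersion j.left ∧ (Smooth G.hom → Smooth Z.hom) := by
  obtain ⟨A, _, _, eG, heG⟩ := exists_hopf k G
  have heinv : IsMonHom e.inv := inferInstance
  obtain ⟨π, hπ⟩ := exists_bialgHom_of_isMonHom k (e.inv ≫ i ≫ eG.hom)
  refine ⟨SpecOver k (A ⧸ JC π), inferInstance, cincl π ≫ eG.inv,
    isCentralizerOf_of_iso e eG ?_ (isCentralizerOf_cincl π _ rfl), ?_, ?_⟩
  · rw [hπ, Iso.hom_inv_id_assoc]
  · rw [Over.comp_left]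
    infer_instance
  · intro hG
    have h1 : Smooth (SpecOver k A).hom := by
      rw [hom_eq_of_iso eG.symm]
      infer_instance
    rw [smooth_specOver_iff] at h1
    have h2 := formallySmooth_quotient_JC (k := k) π
    have h3 : Algebra.FinitePresentation k (A ⧸ JC π) :=
      Algebra.FinitePresentation.quotient (JC_fg π)
    exact (smooth_specOver_iff k (A ⧸ JC π)).2 ⟨h2, h3⟩

end existence

section Hopf

variable {K : Type u} [Field K] {A : Type u} [CommRing A] [HopfAlgebra K A]

/-- The points of the image of a diagonalizable group. -/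
lemma map_torPt {G : Type} [CommGroup G] (π : A →ₐc[K] MonoidAlgebra K G) (t : G →* Kˣ) :
    Pt.map π (torPt G t) = tau π ((Units.coeHom K).comp t) := rfl

lemma mem_range_iff {G : Type} [CommGroup G] (π : A →ₐc[K] MonoidAlgebra K G) (g : Pt K A) :
    g ∈ (Pt.map π).range ↔ ∃ t : G →* Kˣ, g = tau π ((Units.coeHom K).comp t) := by
  constructor
  · rintro ⟨x, rfl⟩
    obtain ⟨t, rfl⟩ := (torPt G).surjective x
    exact ⟨t, map_torPt π t⟩
  · rintro ⟨t, rfl⟩
    exact ⟨torPt G t, map_torPt π t⟩

/-- The `K`-points of the scheme centralizer of a torus are the points centralizing it. -/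
lemma mem_zeros_JC_iff [Infinite K] {n : ℕ}
    (π : A →ₐc[K] MonoidAlgebra K (Multiplicative (Fin n → ℤ))) (g : Pt K A) :
    g ∈ zeros (JC π) ↔ g ∈ Subgroup.centralizer ((Pt.map π).range : Set (Pt K A)) := by
  have h1 : g ∈ zeros (JC π) ↔ ∀ m ≠ 1, ∀ a ∈ gr π m, g.ofConv a = 0 := by
    rw [← mem_cent_iff, ← toConv_ofConv g, ← vanish_JC_iff]
    rfl
  rw [h1, Subgroup.mem_centralizer_iff]
  constructor
  · rintro h s hs
    obtain ⟨t, rfl⟩ := (mem_range_iff π s).1 hs
    exact comm_of_mem_cent π ((mem_cent_iff π g).2 h) _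
  · intro h m hm a ha
    have hex : ∃ t : Multiplicative (Fin n → ℤ) →* Kˣ, (t m : K) ≠ 1 := by
      by_contra hcon
      push Not at hcon
      refine hm (torChar_injective (K := K) n ?_)
      ext t
      simp [hcon t]
    obtain ⟨t, ht⟩ := hex
    have h2 := h _ ((mem_range_iff π _).2 ⟨t, rfl⟩)
    have h3 : tau π ((Units.coeHom K).comp t) * g * (tau π ((Units.coeHom K).comp t))⁻¹ = g := by
      rw [mul_inv_eq_iff_eq_mul]; exact h2
    have h4 := DFunLike.congr_fun (congrArg WithConv.ofConv h3) a
    rw [conj_apply_of_mem π ha] at h4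
    have h5 : g.ofConv a * ((t m : K) - 1) = 0 := by
      rw [mul_sub, _root_.mul_one, sub_eq_zero]
      exact h4
    rcases mul_eq_zero.1 h5 with h6 | h6
    · exact h6
    · exact absurd (sub_eq_zero.1 h6) ht

/-- A diagonalizable group centralizes itself. -/
lemma JC_le_ker {G : Type} [CommGroup G] (π : A →ₐc[K] MonoidAlgebra K G) :
    JC π ≤ RingHom.ker (π : A →ₐ[K] MonoidAlgebra K G) := by
  intro a ha
  have h1 : tau π (MonoidAlgebra.of K G) ∈ cent π (MonoidAlgebra K G) := tau_mem_cent π _
  have h2 := (vanish_JC_iff π ((tau π (MonoidAlgebra.of K G) :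
    WithConv (A →ₐ[K] MonoidAlgebra K G)).ofConv)).2 h1 a ha
  rw [tau_apply] at h2
  have h3 : MonoidAlgebra.lift K (MonoidAlgebra K G) G (MonoidAlgebra.of K G) = AlgHom.id K _ := by
    ext m
    simp
  rw [h3] at h2
  exact h2

variable [IsAlgClosed K] [Algebra.FiniteType K A] [_root_.IsReduced A]

/-- The scheme centralizer of a diagonalizable subgroup is reduced. -/
lemma isReduced_quotient_JC {G : Type} [CommGroup G] (π : A →ₐc[K] MonoidAlgebra K G) :
    _root_.IsReduced (A ⧸ JC π) := by
  have h0 := (BrPts.smooth_iff (K := K) A).2 inferInstance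
  have h0' : Algebra.Smooth K A := (smooth_specOver_iff K A).1 h0
  have h1 := formallySmooth_quotient_JC (k := K) π
  have h2 : Algebra.FiniteType K (A ⧸ JC π) := inferInstance
  have h3 : Algebra.FinitePresentation K (A ⧸ JC π) :=
    (Algebra.FinitePresentation.of_finiteType (R := K)).1 h2
  have h5 := (smooth_specOver_iff K (A ⧸ JC π)).2 ⟨h1, h3⟩
  exact (BrPts.smooth_iff (K := K) (A ⧸ JC π)).1 h5

/-- The scheme centralizer of a torus has as vanishing ideal of its points `JC π`. -/
theorem vanIdeal_centralizer {n : ℕ}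
    (π : A →ₐc[K] MonoidAlgebra K (Multiplicative (Fin n → ℤ))) :
    vanIdeal (Subgroup.centralizer ((Pt.map π).range : Set (Pt K A)) : Set (Pt K A)) = JC π := by
  have hred := isReduced_quotient_JC (K := K) π
  rw [← BrPts.vanIdeal_zeros (K := K) (JC π)]
  congr 1
  ext g
  exact (mem_zeros_JC_iff π g).symm

/-- A torus whose centralizer on `K`-points is contained in it is its own scheme centralizer. -/
theorem JC_eq_ker {n : ℕ} (π : A →ₐc[K] MonoidAlgebra K (Multiplicative (Fin n → ℤ)))
    (h : Subgroup.centralizer ((Pt.map π).range : Set (Pt K A)) ≤ (Pt.map π).range) :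
    JC π = RingHom.ker (π : A →ₐ[K] MonoidAlgebra K (Multiplicative (Fin n → ℤ))) := by
  refine le_antisymm (JC_le_ker π) ?_
  intro a ha
  rw [← vanIdeal_centralizer, mem_vanIdeal]
  intro g hg
  obtain ⟨x, rfl⟩ := h hg
  rw [Pt.map_apply]
  have : π a = 0 := ha
  rw [this]
  exact map_zero x.ofConv

end Hopf

section scheme

variable {K : Type u} [Field K] [IsAlgClosed K]

/-- Scheme form of `C_G(T) = T`: let `T` be a closed torus of a smooth affine group `G` over an
algebraically closed field such that every `K`-point of `G` commuting with the `K`-points of `T`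
is a point of `T`.  Then every point of `G` (with values in any scheme) commuting with `T` is a
point of `T`. -/
theorem exists_factor_of_centralizes {T G : Over (Spec (CommRingCat.of K))} [GrpObj T] [GrpObj G]
    [IsAffine G.left] [Smooth G.hom] {n : ℕ}
    (e : T ≅ SpecOver K (MonoidAlgebra K (Multiplicative (Fin n → ℤ)))) [IsMonHom e.hom]
    (i : T ⟶ G) [IsMonHom i] [IsClosedImmersion i.left]
    (hZ : ∀ g : 𝟙_ (Over (Spec (CommRingCat.of K))) ⟶ G,
      (∀ t : 𝟙_ (Over (Spec (CommRingCat.of K))) ⟶ T, g * (t ≫ i) = (t ≫ i) * g) →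
        ∃ t : 𝟙_ (Over (Spec (CommRingCat.of K))) ⟶ T, t ≫ i = g)
    (X : Over (Spec (CommRingCat.of K))) (g : X ⟶ G)
    (hg : ∀ (X' : Over (Spec (CommRingCat.of K))) (x : X' ⟶ X) (t : X' ⟶ T),
      (x ≫ g) * (t ≫ i) = (t ≫ i) * (x ≫ g)) : ∃ t : X ⟶ T, g = t ≫ i := by
  obtain ⟨A, _, _, eG, heG⟩ := exists_hopf K G
  have heinv : IsMonHom e.inv := inferInstance
  obtain ⟨π, hπ⟩ := exists_bialgHom_of_isMonHom K (e.inv ≫ i ≫ eG.hom)
  have hsm : Smooth (SpecOver K A).hom := by
    rw [hom_eq_of_iso eG.symm]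
    infer_instance
  have hft : Algebra.FiniteType K A :=
    (locallyOfFiniteType_specOver_iff K A).1 inferInstance
  have hred : _root_.IsReduced A := (BrPts.smooth_iff A).1 hsm
  have hsurj : Function.Surjective π := by
    have : IsClosedImmersion (specMap K (π : A →ₐ[K] MonoidAlgebra K (Multiplicative (Fin n → ℤ)))).left := by
      rw [hπ, Over.comp_left, Over.comp_left]
      infer_instance
    exact (isClosedImmersion_specMap_iff K _).1 this
  have hpts : ∀ x : Pt K (MonoidAlgebra K (Multiplicative (Fin n → ℤ))),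
      BrPts.ptEquiv K A (Pt.map π x) = (BrPts.ptEquiv K _ x ≫ e.inv ≫ i) ≫ eG.hom := by
    intro x
    rw [BrPts.ptEquiv_map, hπ]
    simp only [Category.assoc]
  have hcent : Subgroup.centralizer ((Pt.map π).range : Set (Pt K A)) ≤ (Pt.map π).range := by
    intro a ha
    rw [Subgroup.mem_centralizer_iff] at ha
    obtain ⟨t, ht⟩ := hZ (BrPts.ptEquiv K A a ≫ eG.inv) (by
      intro t
      have h1 := ha _ ⟨(BrPts.ptEquiv K _).symm (t ≫ e.hom), rfl⟩
      have h2 := congrArg (BrPts.ptEquiv K A) h1
      rw [map_mul, map_mul, hpts, MulEquiv.apply_symm_apply] at h2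
      have h3 : ((t ≫ e.hom) ≫ e.inv ≫ i) = t ≫ i := by
        rw [Category.assoc, Iso.hom_inv_id_assoc]
      rw [h3] at h2
      rw [← cancel_mono eG.hom, MonObj.mul_comp, MonObj.mul_comp, Category.assoc, Iso.inv_hom_id,
        Category.comp_id]
      exact h2.symm)
    refine ⟨(BrPts.ptEquiv K _).symm (t ≫ e.hom), (BrPts.ptEquiv K A).injective ?_⟩
    rw [hpts, MulEquiv.apply_symm_apply]
    have h3 : ((t ≫ e.hom) ≫ e.inv ≫ i) = t ≫ i := by
      rw [Category.assoc, Iso.hom_inv_id_assoc]
    rw [h3, ht, Category.assoc, Iso.inv_hom_id, Category.comp_id]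
  have hker := JC_eq_ker π hcent
  have hmono : Mono i.left := inferInstance
  obtain ⟨t, ht⟩ := exists_factor_of_specOver i g (fun R _ _ y => by
    have hC := isCentralizerOf_of_iso e eG (i := i) (by rw [hπ, Iso.hom_inv_id_assoc])
      (isCentralizerOf_cincl π _ rfl)
    obtain ⟨z, hz⟩ := (hC.2.2 _ (y ≫ g)).2 (fun X' x t => by
      rw [← Category.assoc]; exact hg X' (x ≫ y) t)
    -- lift through the surjection
    have h4 : ∀ a ∈ RingHom.ker (π : A →ₐ[K] MonoidAlgebra K (Multiplicative (Fin n → ℤ))), specPreimage K (z ≫ cincl π) a = 0 := by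
      rw [← hker]
      intro a ha
      rw [← specMap_specPreimage K z, cincl, ← specMap_comp, specPreimage_specMap]
      change specPreimage K z (Ideal.Quotient.mk _ a) = 0
      rw [Ideal.Quotient.eq_zero_iff_mem.2 ha, map_zero]
    let E := Ideal.quotientKerAlgEquivOfSurjective (f := (π : A →ₐ[K] MonoidAlgebra K (Multiplicative (Fin n → ℤ)))) hsurj
    let f : MonoidAlgebra K (Multiplicative (Fin n → ℤ)) →ₐ[K] R :=
      (Ideal.Quotient.liftₐ _ (specPreimage K (z ≫ cincl π)) h4).comp
        (E.symm : MonoidAlgebra K (Multiplicative (Fin n → ℤ)) →ₐ[K] _)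
    have hf : f.comp (π : A →ₐ[K] MonoidAlgebra K (Multiplicative (Fin n → ℤ))) = specPreimage K (z ≫ cincl π) := by
      refine AlgHom.ext fun a => ?_
      change Ideal.Quotient.liftₐ _ _ h4 (E.symm (π a)) = _
      have : E.symm (π a) = Ideal.Quotient.mk _ a := by
        rw [AlgEquiv.symm_apply_eq]
        rfl
      rw [this]
      rfl
    refine ⟨specMap K f ≫ e.inv, ?_⟩
    have h5 : specMap K f ≫ specMap K (π : A →ₐ[K] MonoidAlgebra K (Multiplicative (Fin n → ℤ))) = z ≫ cincl π := by
      rw [← specMap_comp, hf, specMap_specPreimage]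
    rw [hπ] at h5
    rw [← cancel_mono eG.hom, Category.assoc, Category.assoc, h5, ← hz, Category.assoc,
      Category.assoc, Iso.inv_hom_id, Category.comp_id])
  exact ⟨t, ht.symm⟩

end scheme

end Groth.Agent.Sga3B.RG.BrCent
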