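import Groth.Agent.Sga3B.RG.IdComp
import Groth.Agent.Sga3B.RG.Coch

/-!
# Regular maps between groups of points; connected groups acting

* `IsReg f`: regular maps between groups of points (pull back functions to functions); products,
  inverses, compositions; preimages of closed sets are closed; images of irreducible sets are
  irreducible; `isConn_image2` for separately regular maps of two variables;
* centralizers, normalizers and transporters of sets of points are closed;
* a map with closed fibres and finite image is constant on an irreducible set;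
* Noetherian induction on closed sets; the subgroup generated by irreducible sets through `1` is
  irreducible.
-/

set_option autoImplicit false

universe u w

open WithConv TensorProduct Coalgebra Pointwise

namespace Groth.Agent.Sga3B.RG

variable {K : Type u} [Field K] {A : Type u} [CommRing A] [HopfAlgebra K A]
variable {B : Type u} [CommRing B] [HopfAlgebra K B] {C : Type u} [CommRing C] [HopfAlgebra K C]

section Reg

/-- Regular maps between groups of points. -/
def IsReg (f : Pt K A → Pt K B) : Prop := ∀ b : B, ∃ a : A, ∀ g, (f g) b = g a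

lemma isReg_id : IsReg (fun g : Pt K A => g) := fun a => ⟨a, fun _ => rfl⟩

lemma isReg_const (h : Pt K B) : IsReg (fun _ : Pt K A => h) := fun b =>
  ⟨algebraMap K A (h b), fun g => by
    have : g (algebraMap K A (h b)) = h b := g.ofConv.commutes _
    rw [this]⟩

lemma IsReg.comp {f : Pt K B → Pt K C} {g : Pt K A → Pt K B} (hf : IsReg f) (hg : IsReg g) :
    IsReg (fun x => f (g x)) := fun c => by
  obtain ⟨b, hb⟩ := hf c
  obtain ⟨a, ha⟩ := hg b
  exact ⟨a, fun x => by rw [hb, ha]⟩

lemma isReg_map (φ : A →ₐc[K] B) : IsReg (fun g : Pt K B => Pt.map φ g) := fun a =>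
  ⟨φ a, fun _ => rfl⟩

lemma IsReg.mul {f g : Pt K A → Pt K B} (hf : IsReg f) (hg : IsReg g) :
    IsReg (fun x => f x * g x) := fun b => by
  let r := Coalgebra.Repr.arbitrary K b
  choose p hp using hf
  choose q hq using hg
  refine ⟨∑ i ∈ r.index, p (r.left i) * q (r.right i), fun x => ?_⟩
  rw [Pt.mul_apply_repr _ _ r]
  have : x (∑ i ∈ r.index, p (r.left i) * q (r.right i)) =
      ∑ i ∈ r.index, x (p (r.left i)) * x (q (r.right i)) := by
    have := map_sum x.ofConv (fun i => p (r.left i) * q (r.right i)) r.index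
    refine this.trans (Finset.sum_congr rfl fun i _ => map_mul x.ofConv _ _)
  rw [this]
  exact Finset.sum_congr rfl fun i _ => by rw [hp, hq]

lemma IsReg.inv {f : Pt K A → Pt K B} (hf : IsReg f) : IsReg (fun x => (f x)⁻¹) := fun b => by
  obtain ⟨a, ha⟩ := hf (HopfAlgebra.antipode K b)
  exact ⟨a, fun x => by rw [Pt.inv_apply, ha]⟩

lemma isReg_inv : IsReg (fun g : Pt K A => g⁻¹) := isReg_id.inv

lemma IsReg.mul_const {f : Pt K A → Pt K B} (hf : IsReg f) (h : Pt K B) :
    IsReg (fun x => f x * h) := hf.mul (isReg_const h)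

lemma IsReg.const_mul {f : Pt K A → Pt K B} (hf : IsReg f) (h : Pt K B) :
    IsReg (fun x => h * f x) := (isReg_const h).mul hf

/-- `g ↦ g y g⁻¹` is regular. -/
lemma isReg_conjArg (y : Pt K A) : IsReg (fun g : Pt K A => g * y * g⁻¹) :=
  (isReg_id.mul_const y).mul isReg_inv

/-- `y ↦ g y g⁻¹` is regular. -/
lemma isReg_conj (g : Pt K A) : IsReg (fun y : Pt K A => g * y * g⁻¹) :=
  (isReg_id.const_mul g).mul_const _

lemma IsReg.isCl_preimage {f : Pt K A → Pt K B} (hf : IsReg f) {Z : Set (Pt K B)} (hZ : IsCl Z) :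
    IsCl (f ⁻¹' Z) := by
  intro x hx
  refine hZ fun b hb => ?_
  obtain ⟨a, ha⟩ := hf b
  rw [ha]
  exact hx a fun y hy => by rw [← ha]; exact hb _ hy

lemma isCl_singleton (g : Pt K A) : IsCl ({g} : Set (Pt K A)) := by
  intro x hx
  rw [Set.mem_singleton_iff]
  refine Pt.ext' fun a => ?_
  have h1 := hx (a - algebraMap K A (g a)) (by
    intro y hy
    rw [Set.mem_singleton_iff.1 hy]
    change g.ofConv _ = 0
    rw [map_sub, AlgHom.commutes]
    exact sub_self _)
  change x.ofConv _ = 0 at h1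
  rw [map_sub, AlgHom.commutes] at h1
  exact sub_eq_zero.1 h1

lemma IsReg.isCl_eq {f g : Pt K A → Pt K B} (hf : IsReg f) (hg : IsReg g) :
    IsCl {x | f x = g x} := by
  have : {x | f x = g x} = (fun x => f x * (g x)⁻¹) ⁻¹' {1} := by
    ext x
    simp only [Set.mem_ofPred_eq, Set.mem_preimage, Set.mem_singleton_iff]
    exact mul_inv_eq_one.symm
  rw [this]
  exact (hf.mul hg.inv).isCl_preimage (isCl_singleton 1)

lemma IsConn.image_reg {X : Set (Pt K A)} (hX : IsConn X) {f : Pt K A → Pt K B} (hf : IsReg f) :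
    IsConn (f '' X) := by
  rw [isConn_iff]
  refine ⟨hX.nonempty.image f, fun a b hab => ?_⟩
  obtain ⟨a', ha'⟩ := hf a
  obtain ⟨b', hb'⟩ := hf b
  rcases (isConn_iff.1 hX).2 a' b' (fun x hx => by
    rcases hab _ ⟨x, hx, rfl⟩ with h | h
    · left; rw [← ha']; exact h
    · right; rw [← hb']; exact h) with h | h
  · left
    rintro _ ⟨x, hx, rfl⟩
    rw [ha']; exact h x hx
  · right
    rintro _ ⟨x, hx, rfl⟩
    rw [hb']; exact h x hx

/-- The image of two irreducible sets under a separately regular map is irreducible. -/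
lemma isConn_image2 {X : Set (Pt K A)} {Y : Set (Pt K B)} (hX : IsConn X) (hY : IsConn Y)
    (F : Pt K A → Pt K B → Pt K C) (h1 : ∀ y, IsReg fun x => F x y) (h2 : ∀ x, IsReg (F x)) :
    IsConn (Set.image2 F X Y) := by
  rw [isConn_iff]
  refine ⟨hX.nonempty.image2 hY.nonempty, fun a b hab => ?_⟩
  by_contra! hcon
  obtain ⟨⟨p, hp, hpa⟩, ⟨q, hq, hqb⟩⟩ := hcon
  obtain ⟨x, hx, y, hy, rfl⟩ := hp
  obtain ⟨x', hx', y', hy', rfl⟩ := hq
  obtain ⟨a1, ha1⟩ := h2 x a
  obtain ⟨b1, hb1⟩ := h2 x' b
  have h3 : ∃ y₀ ∈ Y, (F x y₀) a ≠ 0 ∧ (F x' y₀) b ≠ 0 := by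
    by_contra! hc
    rcases (isConn_iff.1 hY).2 a1 b1 (fun z hz => by
      by_cases h : (F x z) a = 0
      · left; rw [← ha1]; exact h
      · right; rw [← hb1]; exact hc z hz h) with h | h
    · exact hpa (by rw [ha1]; exact h y hy)
    · exact hqb (by rw [hb1]; exact h y' hy')
  obtain ⟨y₀, hy₀, h4, h5⟩ := h3
  obtain ⟨a2, ha2⟩ := h1 y₀ a
  obtain ⟨b2, hb2⟩ := h1 y₀ b
  rcases (isConn_iff.1 hX).2 a2 b2 (fun z hz => by
    rcases hab (F z y₀) ⟨z, hz, y₀, hy₀, rfl⟩ with h | h
    · left; rw [← ha2]; exact h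
    · right; rw [← hb2]; exact h) with h | h
  · exact h4 (by rw [ha2]; exact h x hx)
  · exact h5 (by rw [hb2]; exact h x' hx')

end Reg

section ClosedSubgroups

/-- Transporters into closed sets are closed. -/
lemma isCl_transporter (Y : Set (Pt K A)) {Z : Set (Pt K A)} (hZ : IsCl Z) :
    IsCl {g : Pt K A | ∀ y ∈ Y, g * y * g⁻¹ ∈ Z} := by
  have : {g : Pt K A | ∀ y ∈ Y, g * y * g⁻¹ ∈ Z} =
      ⋂ y : Y, (fun g : Pt K A => g * (y : Pt K A) * g⁻¹) ⁻¹' Z := by
    ext g; simp
  rw [this]
  exact isCl_iInter fun y => (isReg_conjArg _).isCl_preimage hZ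

lemma isCl_centralizer (X : Set (Pt K A)) : IsCl (Subgroup.centralizer X : Set (Pt K A)) := by
  have : (Subgroup.centralizer X : Set (Pt K A)) =
      ⋂ x : X, {g : Pt K A | (x : Pt K A) * g = g * (x : Pt K A)} := by
    ext g
    simp [Subgroup.mem_centralizer_iff]
  rw [this]
  exact isCl_iInter fun x => (isReg_id.const_mul _).isCl_eq (isReg_id.mul_const _)

lemma isCl_normalizer {H : Subgroup (Pt K A)} (hH : IsCl (H : Set (Pt K A))) :
    IsCl (Subgroup.normalizer (H : Set (Pt K A)) : Set (Pt K A)) := by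
  have : (Subgroup.normalizer (H : Set (Pt K A)) : Set (Pt K A)) =
      {g : Pt K A | ∀ y ∈ (H : Set (Pt K A)), g * y * g⁻¹ ∈ (H : Set (Pt K A))} ∩
      (fun g : Pt K A => g⁻¹) ⁻¹'
        {g : Pt K A | ∀ y ∈ (H : Set (Pt K A)), g * y * g⁻¹ ∈ (H : Set (Pt K A))} := by
    ext g
    simp only [SetLike.mem_coe, Subgroup.mem_normalizer_iff, Set.mem_inter_iff, Set.mem_ofPred_eq,
      Set.mem_preimage, inv_inv]
    constructor
    · intro h
      refine ⟨fun y hy => (h y).1 hy, fun y hy => (h _).2 ?_⟩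
      simpa [mul_assoc] using hy
    · rintro ⟨h1, h2⟩ y
      refine ⟨h1 y, fun hy => ?_⟩
      have := h2 _ hy
      simpa [mul_assoc] using this
  rw [this]
  exact (isCl_transporter _ hH).inter (isReg_inv.isCl_preimage (isCl_transporter _ hH))

/-- The closure of an abelian subgroup is abelian: `clSub H` centralizes what `H` centralizes. -/
lemma clSub_le_centralizer {H : Subgroup (Pt K A)} {X : Set (Pt K A)}
    (h : H ≤ Subgroup.centralizer X) : clSub H ≤ Subgroup.centralizer X :=
  clSub_le h (isCl_centralizer X)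

lemma clSub_le_normalizer {H N : Subgroup (Pt K A)}
    (h : H ≤ Subgroup.normalizer (N : Set (Pt K A))) (hN : IsCl (N : Set (Pt K A))) :
    clSub H ≤ Subgroup.normalizer (N : Set (Pt K A)) :=
  clSub_le h (isCl_normalizer hN)

lemma clSub_commute {H N : Subgroup (Pt K A)} (h : ∀ x ∈ H, ∀ y ∈ N, x * y = y * x) :
    ∀ x ∈ clSub H, ∀ y ∈ clSub N, x * y = y * x := by
  have h1 : H ≤ Subgroup.centralizer (N : Set (Pt K A)) := fun x hx => by
    rw [Subgroup.mem_centralizer_iff]
    exact fun y hy => (h x hx y hy).symm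
  have h2 : clSub N ≤ Subgroup.centralizer (clSub H : Set (Pt K A)) := by
    refine clSub_le (fun y hy => ?_) (isCl_centralizer _)
    rw [Subgroup.mem_centralizer_iff]
    intro x hx
    exact ((Subgroup.mem_centralizer_iff.1 (clSub_le_centralizer h1 hx)) y hy).symm
  intro x hx y hy
  exact (Subgroup.mem_centralizer_iff.1 (h2 hy)) x hx

end ClosedSubgroups

section Finite

/-- A map with finite image and closed fibres is constant on an irreducible set. -/
lemma IsConn.const_of_finite_image {X : Set (Pt K A)} (hX : IsConn X) {Q : Type*}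
    (f : Pt K A → Q) (hfin : (f '' X).Finite)
    (hcl : ∀ x ∈ X, ∃ Z : Set (Pt K A), IsCl Z ∧ (∀ y ∈ X, f y = f x → y ∈ Z) ∧
      ∀ y ∈ X, y ∈ Z → f y = f x) {x y : Pt K A} (hx : x ∈ X) (hy : y ∈ X) : f x = f y := by
  classical
  choose! Z hZ1 hZ2 hZ3 using hcl
  have hsub : ∀ q ∈ hfin.toFinset, ∃ x ∈ X, f x = q := fun q hq => by
    rw [Set.Finite.mem_toFinset] at hq
    exact hq
  choose! s hs1 hs2 using hsub
  obtain ⟨q, hq, hq'⟩ := hX.subset_of_subset_iUnion hfin.toFinset (fun q => Z (s q))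
    (fun q hq => hZ1 _ (hs1 q hq)) (by
      intro z hz
      have h1 : f z ∈ hfin.toFinset := by
        rw [Set.Finite.mem_toFinset]; exact ⟨z, hz, rfl⟩
      rw [Set.mem_iUnion₂]
      exact ⟨f z, h1, hZ2 _ (hs1 _ h1) z hz (hs2 _ h1).symm⟩)
  rw [hZ3 _ (hs1 q hq) x hx (hq' hx), hZ3 _ (hs1 q hq) y hy (hq' hy)]

/-- A map with finite image and closed fibres is constant on an irreducible set. -/
lemma IsConn.const_of_finite_image' {X : Set (Pt K A)} (hX : IsConn X) {Q : Type*}
    (f : Pt K A → Q) (hfin : (f '' X).Finite)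
    (hcl : ∀ q : Q, IsCl {x | f x = q}) {x y : Pt K A} (hx : x ∈ X) (hy : y ∈ X) : f x = f y :=
  hX.const_of_finite_image f hfin (fun x _ => ⟨_, hcl (f x), fun _ _ h => h, fun _ _ h => h⟩) hx hy

/-- An irreducible set of points containing `1` with finitely many conjugates of `x` centralizes
`x`. -/
lemma IsConn.commute_of_finite_conj {X : Set (Pt K A)} (hX : IsConn X) (h1 : (1 : Pt K A) ∈ X)
    (y : Pt K A) (hfin : ((fun g : Pt K A => g * y * g⁻¹) '' X).Finite) :
    ∀ g ∈ X, g * y = y * g := by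
  intro g hg
  have := hX.const_of_finite_image' (fun g : Pt K A => g * y * g⁻¹) hfin (fun q =>
    (isReg_conjArg y).isCl_eq (isReg_const q)) hg h1
  simp only [one_mul, inv_one, mul_one] at this
  exact mul_inv_eq_iff_eq_mul.1 this

/-- A connected set containing `1` which normalises a finite set of points centralizes it. -/
lemma IsConn.commute_of_finite {X : Set (Pt K A)} (hX : IsConn X) (h1 : (1 : Pt K A) ∈ X)
    {F : Set (Pt K A)} (hF : F.Finite) (hXF : ∀ g ∈ X, ∀ y ∈ F, g * y * g⁻¹ ∈ F) :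
    ∀ g ∈ X, ∀ y ∈ F, g * y = y * g := by
  intro g hg y hy
  refine hX.commute_of_finite_conj h1 y (hF.subset ?_) g hg
  rintro _ ⟨g, hg, rfl⟩
  exact hXF g hg y hy

end Finite

section Noetherian

variable [Algebra.FiniteType K A]

/-- Noetherian induction: every nonempty family of closed sets has a minimal element. -/
lemma exists_minimal_isCl (P : Set (Pt K A) → Prop) (h : ∃ X, IsCl X ∧ P X) :
    ∃ X, IsCl X ∧ P X ∧ ∀ Y, IsCl Y → P Y → Y ⊆ X → Y = X := by
  have : IsNoetherianRing A := Algebra.FiniteType.isNoetherianRing K A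
  obtain ⟨X₀, hX₀, hP₀⟩ := h
  let S : Set (Ideal A) := {I | ∃ X, IsCl X ∧ P X ∧ I = vanIdeal X}
  have hS : S.Nonempty := ⟨_, X₀, hX₀, hP₀, rfl⟩
  obtain ⟨I, ⟨X, hX, hP, rfl⟩, hmax⟩ := set_has_maximal_iff_noetherian.2 this S hS
  refine ⟨X, hX, hP, fun Y hY hPY hYX => ?_⟩
  by_contra hne
  refine hmax (vanIdeal Y) ⟨Y, hY, hPY, rfl⟩ (lt_of_le_of_ne (vanIdeal_anti hYX) fun he => hne ?_)
  exact (IsCl.ext hX hY he).symm

/-- Every nonempty family of closed subgroups has a minimal element. -/
lemma exists_minimal_closed_subgroup (P : Subgroup (Pt K A) → Prop)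
    (h : ∃ H : Subgroup (Pt K A), IsCl (H : Set (Pt K A)) ∧ P H) :
    ∃ H : Subgroup (Pt K A), IsCl (H : Set (Pt K A)) ∧ P H ∧
      ∀ H' : Subgroup (Pt K A), IsCl (H' : Set (Pt K A)) → P H' → H' ≤ H → H' = H := by
  obtain ⟨H₀, hH₀, hP₀⟩ := h
  obtain ⟨X, hX, ⟨H, rfl, hP⟩, hmin⟩ := exists_minimal_isCl
    (fun X : Set (Pt K A) => ∃ H : Subgroup (Pt K A), (H : Set (Pt K A)) = X ∧ P H)
    ⟨H₀, hH₀, H₀, rfl, hP₀⟩
  exact ⟨H, hX, hP, fun H' hH' hP' hle => SetLike.coe_injective (hmin H' hH' ⟨H', rfl, hP'⟩ hle)⟩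

end Noetherian

section Generation

/-- The set of all products of finitely many elements of a family of sets. -/
lemma isConn_subgroupClosure {ι : Type*} (X : ι → Set (Pt K A)) (hX : ∀ i, IsConn (X i))
    (h1 : ∀ i, (1 : Pt K A) ∈ X i) :
    IsConn (Subgroup.closure (⋃ i, X i) : Set (Pt K A)) := by
  classical
  -- words in the sets `Y j`, `j : ι ⊕ ι`, symmetric
  let Y : ι ⊕ ι → Set (Pt K A) := Sum.elim X (fun i => (X i)⁻¹)
  have hY : ∀ j, IsConn (Y j) := by
    rintro (i | i)
    · exact hX i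
    · exact (hX i).inv
  have hY1 : ∀ j, (1 : Pt K A) ∈ Y j := by
    rintro (i | i)
    · exact h1 i
    · simpa [Y] using h1 i
  let W : List (ι ⊕ ι) → Set (Pt K A) := fun l => (l.map Y).prod
  have hW : ∀ l, IsConn (W l) := by
    intro l
    induction l with
    | nil =>
      have : W [] = ({1} : Set (Pt K A)) := rfl
      rw [this]; exact isConn_singleton 1
    | cons j l ih =>
      have : W (j :: l) = Y j * W l := by simp [W]
      rw [this]; exact (hY j).mul ih
  have hW1 : ∀ l, (1 : Pt K A) ∈ W l := by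
    intro l
    induction l with
    | nil => simp [W]
    | cons j l ih =>
      have : W (j :: l) = Y j * W l := by simp [W]
      rw [this]
      exact ⟨1, hY1 j, 1, ih, mul_one 1⟩
  have hWapp : ∀ l m, W (l ++ m) = W l * W m := by
    intro l m
    simp [W]
  have hdir : Directed (· ⊆ ·) W := by
    intro l m
    refine ⟨l ++ m, ?_, ?_⟩
    · rw [hWapp]; exact fun x hx => ⟨x, hx, 1, hW1 m, mul_one x⟩
    · rw [hWapp]; exact fun x hx => ⟨1, hW1 l, x, hx, one_mul x⟩
  have hU := isConn_iUnion_of_directed hW hdir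
  have hsymm : ∀ j, ∃ j', Y j' = (Y j)⁻¹ := by
    rintro (i | i)
    · exact ⟨Sum.inr i, rfl⟩
    · exact ⟨Sum.inl i, by simp [Y]⟩
  let S : Subgroup (Pt K A) :=
    { carrier := ⋃ l, W l
      mul_mem' := by
        intro x y hx hy
        obtain ⟨l, hl⟩ := Set.mem_iUnion.1 hx
        obtain ⟨m, hm⟩ := Set.mem_iUnion.1 hy
        exact Set.mem_iUnion.2 ⟨l ++ m, by rw [hWapp]; exact ⟨x, hl, y, hm, rfl⟩⟩
      one_mem' := Set.mem_iUnion.2 ⟨[], hW1 _⟩
      inv_mem' := by
        intro x hx
        obtain ⟨l, hl⟩ := Set.mem_iUnion.1 hx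
        have : ∀ l x, x ∈ W l → x⁻¹ ∈ ⋃ l, W l := by
          intro l
          induction l with
          | nil =>
            intro x hx
            have : x = 1 := by simpa [W] using hx
            subst this
            exact Set.mem_iUnion.2 ⟨[], by simp [W]⟩
          | cons j l ih =>
            intro x hx
            have h2 : W (j :: l) = Y j * W l := by simp [W]
            rw [h2] at hx
            obtain ⟨y, hy, z, hz, rfl⟩ := hx
            obtain ⟨j', hj'⟩ := hsymm j
            obtain ⟨m, hm⟩ := Set.mem_iUnion.1 (ih z hz)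
            refine Set.mem_iUnion.2 ⟨m ++ [j'], ?_⟩
            rw [hWapp]
            refine ⟨z⁻¹, hm, y⁻¹, ?_, (mul_inv_rev y z).symm⟩
            have : W [j'] = Y j' := by simp [W]
            rw [this, hj', Set.inv_mem_inv]
            exact hy
        exact this l x hl }
  have hS : Subgroup.closure (⋃ i, X i) = S := by
    apply le_antisymm
    · rw [Subgroup.closure_le]
      intro x hx
      obtain ⟨i, hi⟩ := Set.mem_iUnion.1 hx
      refine Set.mem_iUnion.2 ⟨[Sum.inl i], ?_⟩
      have : W [Sum.inl i] = X i := by simp [W, Y]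
      rw [this]; exact hi
    · have hYc : ∀ j, ∀ y ∈ Y j, y ∈ Subgroup.closure (⋃ i, X i) := by
        rintro (i | i) y hy
        · exact Subgroup.subset_closure (Set.mem_iUnion.2 ⟨i, hy⟩)
        · have : y⁻¹ ∈ X i := hy
          rw [← Subgroup.inv_mem_iff]
          exact Subgroup.subset_closure (Set.mem_iUnion.2 ⟨i, this⟩)
      have key : ∀ l, ∀ x ∈ W l, x ∈ Subgroup.closure (⋃ i, X i) := by
        intro l
        induction l with
        | nil =>
          intro x hl
          have : x = 1 := by simpa [W] using hl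
          rw [this]; exact Subgroup.one_mem _
        | cons j l ih =>
          intro x hl
          have h2 : W (j :: l) = Y j * W l := by simp [W]
          rw [h2] at hl
          obtain ⟨y, hy, z, hz, rfl⟩ := hl
          exact Subgroup.mul_mem _ (hYc j y hy) (ih z hz)
      intro x hx
      obtain ⟨l, hl⟩ := Set.mem_iUnion.1 (show x ∈ ⋃ l, W l from hx)
      exact key l x hl
  rw [hS]
  exact hU

/-- The commutator of a connected subgroup with any subgroup is connected. -/
lemma isConn_commutator {H N : Subgroup (Pt K A)} (hH : IsConn (H : Set (Pt K A))) :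
    IsConn ((⁅H, N⁆ : Subgroup (Pt K A)) : Set (Pt K A)) := by
  have : ⁅H, N⁆ = Subgroup.closure (⋃ n : N,
      (fun h : Pt K A => h * (n : Pt K A) * h⁻¹ * (n : Pt K A)⁻¹) '' (H : Set (Pt K A))) := by
    rw [Subgroup.commutator_def]
    congr 1
    ext x
    simp only [Set.mem_ofPred_eq, Set.mem_iUnion, Set.mem_image, SetLike.mem_coe, Subtype.exists]
    constructor
    · rintro ⟨g₁, h1, g₂, h2, rfl⟩
      exact ⟨g₂, h2, g₁, h1, rfl⟩
    · rintro ⟨g₂, h2, g₁, h1, rfl⟩
      exact ⟨g₁, h1, g₂, h2, rfl⟩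
  have h2 := isConn_subgroupClosure
    (fun n : N => (fun h : Pt K A => h * (n : Pt K A) * h⁻¹ * (n : Pt K A)⁻¹) ''
      (H : Set (Pt K A)))
    (fun n => hH.image_reg ((isReg_conjArg _).mul_const _))
    (fun n => ⟨1, H.one_mem, by simp⟩)
  rw [← this] at h2
  exact h2

/-- The join of two connected subgroups is connected. -/
lemma IsConn.sup {H N : Subgroup (Pt K A)} (hH : IsConn (H : Set (Pt K A)))
    (hN : IsConn (N : Set (Pt K A))) : IsConn ((H ⊔ N : Subgroup (Pt K A)) : Set (Pt K A)) := by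
  have h2 := isConn_subgroupClosure (fun b : Bool => cond b (H : Set (Pt K A)) (N : Set (Pt K A)))
    (by rintro (_ | _); exacts [hN, hH]) (by rintro (_ | _); exacts [N.one_mem, H.one_mem])
  have h3 : H ⊔ N = Subgroup.closure (⋃ b : Bool, cond b (H : Set (Pt K A)) (N : Set (Pt K A))) := by
    apply le_antisymm
    · refine sup_le (fun x hx => Subgroup.subset_closure (Set.mem_iUnion.2 ⟨true, hx⟩))
        (fun x hx => Subgroup.subset_closure (Set.mem_iUnion.2 ⟨false, hx⟩))
    · rw [Subgroup.closure_le, Set.iUnion_subset_iff]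
      rintro (_ | _)
      · exact fun x hx => (le_sup_right : N ≤ H ⊔ N) hx
      · exact fun x hx => (le_sup_left : H ≤ H ⊔ N) hx
  rw [h3]
  exact h2

end Generation

end Groth.Agent.Sga3B.RG
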