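import Groth.Agent.Sga3B.RG.BcPt885
import Groth.Agent.Sga3B.RG.UnipRep
import Groth.Agent.Sga3B.RG.ConnAct

/-!
# Reductivity after extension of the algebraically closed base field

`K ⊆ L` algebraically closed fields, `A` a finitely generated Hopf domain over `K`.

* `finite_nuSet`: in a reductive group the union of all normal subgroups consisting of unipotent
  elements is finite;
* `isRedPt_ext`: if `A` is reductive then `L ⊗[K] A` is reductive;
* `isRedPt_ext_iff`.
-/

set_option autoImplicit false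
set_option linter.unusedSectionVars false

universe u

open WithConv TensorProduct Coalgebra
open Groth.Agent.Books.DynBasic

namespace Groth.Agent.Sga3B.RG.BcPt

section Fin

variable {K : Type u} [Field K] [IsAlgClosed K] {A : Type u} [CommRing A] [HopfAlgebra K A]
  [Algebra.FiniteType K A]

lemma normal_clSub [IsReduced A] {M : Subgroup (Pt K A)} (hM : M.Normal) : (clSub M).Normal := by
  refine ⟨fun n hn g => ?_⟩
  have h1 : clSub M ≤ (clSub M).comap (MulAut.conj g).toMonoidHom := by
    refine clSub_le (fun m hm => ?_) ?_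
    · exact le_clSub M (hM.conj_mem m hm g)
    · exact (isReg_conj g).isCl_preimage (isCl_clSub M)
  exact h1 hn

lemma eq_bot_of_finite {H : Subgroup (Pt K A)} (hconn : IsConn (H : Set (Pt K A)))
    (hfin : (H : Set (Pt K A)).Finite) : H = ⊥ := by
  have h1 : (⊥ : Subgroup (Pt K A)) = H := by
    refine IsConn.eq_of_finiteIndex hconn ?_ bot_le ?_
    · exact isCl_singleton 1
    · rw [Subgroup.relIndex_bot_left]
      have : Finite H := hfin
      exact Nat.card_pos.ne'
  exact h1.symm

lemma finite_of_idComp_eq_bot {H : Subgroup (Pt K A)} (hcl : IsCl (H : Set (Pt K A)))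
    (h : idComp H = ⊥) : (H : Set (Pt K A)).Finite := by
  have h1 := relIndex_idComp_ne_zero hcl
  rw [h, Subgroup.relIndex_bot_left] at h1
  exact Nat.finite_of_card_ne_zero h1

variable (K A) in
/-- The union of all normal subgroups consisting of unipotent elements. -/
def nuSet : Set (Pt K A) :=
  {g | ∃ M : Subgroup (Pt K A), M.Normal ∧ (∀ m ∈ M, IsUnip m) ∧ g ∈ M}

/-- The group of central unipotent elements. -/
def centralUnip [IsReduced A] : Subgroup (Pt K A) where
  carrier := {g | g ∈ Subgroup.center (Pt K A) ∧ IsUnip g}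
  mul_mem' {_ h} hg hh := ⟨mul_mem hg.1 hh.1, hg.2.mul hh.2
    ((Subgroup.mem_center_iff.1 hg.1 h).symm)⟩
  one_mem' := ⟨one_mem _, isUnip_one⟩
  inv_mem' hg := ⟨inv_mem hg.1, hg.2.inv⟩

lemma finite_of_normal_unip [IsReduced A] (hred : IsRedPt K A) {H : Subgroup (Pt K A)}
    (hn : H.Normal) (hcl : IsCl (H : Set (Pt K A))) (hu : ∀ g ∈ H, IsUnip g) :
    (H : Set (Pt K A)).Finite :=
  finite_of_idComp_eq_bot hcl (hred _ (normal_idComp hcl hn) (isCl_idComp _) (isConn_idComp _)
    fun g hg => hu g (idComp_le hcl hg))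

theorem finite_nuSet [IsDomain A] (hred : IsRedPt K A) : (nuSet K A).Finite := by
  have h1 : ((centralUnip : Subgroup (Pt K A)) : Set (Pt K A)).Finite := by
    refine finite_of_normal_unip hred ?_ ?_ (fun g hg => hg.2)
    · refine ⟨fun n hn g => ?_⟩
      have h2 : g * n * g⁻¹ = n := by
        rw [Subgroup.mem_center_iff.1 hn.1 g, mul_inv_cancel_right]
      rw [h2]
      exact hn
    · have h2 : ((centralUnip : Subgroup (Pt K A)) : Set (Pt K A)) =
          (Subgroup.centralizer (Set.univ : Set (Pt K A)) : Set (Pt K A)) ∩ {g | IsUnip g} := by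
        ext g
        change g ∈ Subgroup.center _ ∧ IsUnip g ↔ g ∈ Subgroup.centralizer _ ∧ IsUnip g
        rw [Subgroup.centralizer_univ]
      rw [h2]
      exact (isCl_centralizer _).inter (isCl_isUnip K A)
  refine h1.subset ?_
  rintro g ⟨M, hM, hu, hg⟩
  have h2 : ((clSub M : Subgroup (Pt K A)) : Set (Pt K A)).Finite :=
    finite_of_normal_unip hred (normal_clSub hM) (isCl_clSub M) (isUnip_clSub hu)
  refine ⟨?_, hu g hg⟩
  rw [Subgroup.mem_center_iff]
  intro y
  exact IsConn.commute_of_finite (X := Set.univ) isConn_univ trivial h2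
    (fun x _ z hz => (normal_clSub hM).conj_mem z hz x) y trivial g (le_clSub M hg)

end Fin

section Ext

variable {K L : Type u} [Field K] [IsAlgClosed K] [Field L] [IsAlgClosed L] [Algebra K L]
  {A : Type u} [CommRing A] [HopfAlgebra K A] [Algebra.FiniteType K A]

/-- Unipotency specializes. -/
lemma isUnip_specialize [IsDomain A] {R : Type u} [CommRing R] [Algebra K R]
    {i : R →ₐ[K] L} (hi : Function.Injective i) (χ : R →ₐ[K] K) {h : WithConv (A →ₐ[K] R)}
    (hu : IsUnip (ptL (mapPt i h))) : IsUnip (mapPt χ h : Pt K A) := by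
  intro a
  obtain ⟨n, hn⟩ := hu ((1 : L) ⊗ₜ[K] a)
  refine ⟨n, eq_zero_of_forall_pt (K := K) fun y => ?_⟩
  rw [← bin_K]
  have h1 : mapPt χ (mapPt (Algebra.ofId K R) y) = y := by
    apply WithConv.ofConv_injective
    ext b
    change χ (algebraMap K R (y b)) = y b
    rw [AlgHom.commutes]
    rfl
  have h2 : i (bin (mapPt (Algebra.ofId K R) y) h n a) = 0 := by
    rw [map_bin, ← bin_L, hn, map_zero]
  have h3 : bin (mapPt (Algebra.ofId K R) y) h n a = 0 := hi (by rw [h2, map_zero])
  have h4 := congrArg χ h3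
  rwa [map_bin, h1, map_zero] at h4

/-- Specializations of elements of normal unipotent subgroups. -/
lemma mem_nuSet_specialize [IsDomain A] {R : Type u} [CommRing R] [Algebra K R]
    {i : R →ₐ[K] L} (hi : Function.Injective i) (χ : R →ₐ[K] K) {x : WithConv (A →ₐ[K] R)}
    {N : Subgroup (Pt L (L ⊗[K] A))} (hN : N.Normal) (hu : ∀ g ∈ N, IsUnip g)
    (hx : ptL (mapPt i x) ∈ N) : (mapPt χ x : Pt K A) ∈ nuSet K A := by
  have hN' : (N.comap ((ptL (K := K) (L := L) (A := A)).toMonoidHom.comp (mapPt i))).Normal :=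
    hN.comap _
  have hsurj : Function.Surjective (mapPt χ : WithConv (A →ₐ[K] R) →* Pt K A) := by
    intro y
    refine ⟨mapPt (Algebra.ofId K R) y, ?_⟩
    apply WithConv.ofConv_injective
    ext b
    change χ (algebraMap K R (y b)) = y b
    rw [AlgHom.commutes]
    rfl
  refine ⟨(N.comap ((ptL (K := K) (L := L) (A := A)).toMonoidHom.comp (mapPt i))).map (mapPt χ),
    hN'.map _ hsurj, ?_, ⟨x, hx, rfl⟩⟩
  rintro _ ⟨h, hh, rfl⟩
  exact isUnip_specialize hi χ (hu _ hh)

theorem finite_of_normal_unip_ext [IsDomain A] (hred : IsRedPt K A)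
    {N : Subgroup (Pt L (L ⊗[K] A))} (hN : N.Normal) (hu : ∀ g ∈ N, IsUnip g) :
    (N : Set (Pt L (L ⊗[K] A))) ⊆ extPt L '' nuSet K A := by
  intro g hg
  obtain ⟨x, rfl⟩ := (ptL (K := K) (L := L) (A := A)).surjective g
  let R := x.ofConv.range
  let i : R →ₐ[K] L := x.ofConv.range.val
  have hi : Function.Injective i := Subtype.val_injective
  let xR : WithConv (A →ₐ[K] R) := toConv x.ofConv.rangeRestrict
  have hR : Algebra.FiniteType K R := Algebra.FiniteType.of_surjective x.ofConv.rangeRestrict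
    x.ofConv.rangeRestrict_surjective
  have hx : mapPt i xR = x := rfl
  have key : ∀ χ : R →ₐ[K] K, (mapPt χ xR : Pt K A) ∈ nuSet K A := fun χ =>
    mem_nuSet_specialize hi χ hN hu (by rw [hx]; exact hg)
  have hfin := finite_nuSet hred
  have h1 : ∀ a : A, x a ∈ (⊥ : Subalgebra K L) := by
    intro a
    have h2 : i (∏ h ∈ hfin.toFinset, (xR a - algebraMap K R (h a))) = 0 := by
      refine specialize (fun χ => ?_) i
      rw [map_prod]
      refine Finset.prod_eq_zero (i := mapPt χ xR) (hfin.mem_toFinset.2 (key χ)) ?_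
      rw [map_sub, AlgHom.commutes]
      exact sub_self _
    rw [map_prod, Finset.prod_eq_zero_iff] at h2
    obtain ⟨h, -, h3⟩ := h2
    rw [map_sub, AlgHom.commutes, sub_eq_zero] at h3
    rw [Algebra.mem_bot]
    exact ⟨h a, h3.symm⟩
  have h2 : R ≤ ⊥ := by
    rintro _ ⟨a, rfl⟩
    exact h1 a
  let χ : R →ₐ[K] K := (Algebra.botEquiv K L).toAlgHom.comp (Subalgebra.inclusion h2)
  refine ⟨mapPt χ xR, key χ, ?_⟩
  change ptL (mapPt (Algebra.ofId K L) (mapPt χ xR)) = ptL x
  congr 1
  apply WithConv.ofConv_injective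
  ext a
  change algebraMap K L ((Algebra.botEquiv K L) (Subalgebra.inclusion h2 (xR a))) = x a
  have h3 : ∀ z : (⊥ : Subalgebra K L), algebraMap K L (Algebra.botEquiv K L z) = z := by
    intro z
    obtain ⟨c, rfl⟩ := (Algebra.botEquiv K L).symm.surjective z
    rw [AlgEquiv.apply_symm_apply]
    rfl
  rw [h3]
  rfl

/-- **Reductivity is stable under extension of algebraically closed fields.** -/
theorem isRedPt_ext [IsDomain A] (hred : IsRedPt K A) : IsRedPt L (L ⊗[K] A) := by
  intro N hN _ hconn hu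
  exact eq_bot_of_finite hconn (((finite_nuSet hred).image _).subset
    (finite_of_normal_unip_ext hred hN hu))

theorem isRedPt_ext_iff [IsDomain A] : IsRedPt L (L ⊗[K] A) ↔ IsRedPt K A :=
  ⟨isRedPt_of_ext, isRedPt_ext⟩

end Ext

end Groth.Agent.Sga3B.RG.BcPt
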