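import Groth.Agent.Sga3B.RG.GenSpec
import Groth.Agent.Sga3B.RG.Rel885
import Groth.Agent.Sga3B.RG.Nullst
import Groth.Agent.Sga3B.CellDim
import Groth.Agent.Books.DynBasic

/-!
# Points after extension of the algebraically closed base field

`K ⊆ L` fields, `A` a commutative Hopf `K`-algebra.

* `ptL : WithConv (A →ₐ[K] L) ≃* Pt L (L ⊗[K] A)`;
* `specialize`: an element of a finite type `K`-algebra `R` killed by all `K`-points of `R` is
  killed by all `L`-points;
* `isRedPt_of_ext`: if `L ⊗[K] A` is reductive then `A` is reductive.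
-/

set_option autoImplicit false
set_option linter.unusedSectionVars false

universe u

open WithConv TensorProduct Coalgebra
open Groth.Agent.Books.DynBasic

namespace Groth.Agent.Sga3B.RG.BcPt

section Dict

variable {K L : Type u} [Field K] [Field L] [Algebra K L] {A : Type u} [CommRing A]
  [HopfAlgebra K A]

/-- `L`-points of `A` as points of the Hopf algebra `L ⊗[K] A`. -/
noncomputable def ptL : WithConv (A →ₐ[K] L) ≃* Pt L (L ⊗[K] A) where
  toFun x := toConv (Algebra.TensorProduct.lift (Algebra.ofId L L) x.ofConv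
    (fun _ _ => Commute.all _ _))
  invFun g := toConv ((g.ofConv.restrictScalars K).comp Algebra.TensorProduct.includeRight)
  left_inv x := by
    apply WithConv.ofConv_injective
    ext a
    simp
  right_inv g := by
    apply WithConv.ofConv_injective
    apply Algebra.TensorProduct.ext
    · ext
    · ext a
      simp
  map_mul' x y := by
    apply WithConv.ofConv_injective
    apply Algebra.TensorProduct.ext
    · ext
    · refine AlgHom.ext fun a => ?_
      have h1 := (ℛ K a).eq
      have h2 := Pt.mul_apply_sum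
        (toConv (Algebra.TensorProduct.lift (Algebra.ofId L L) x.ofConv
          (fun _ _ => Commute.all _ _)) : Pt L (L ⊗[K] A))
        (toConv (Algebra.TensorProduct.lift (Algebra.ofId L L) y.ofConv
          (fun _ _ => Commute.all _ _)) : Pt L (L ⊗[K] A))
        (ℛ K a).index _ _ (GenSpec.comul_one_tmul (L := L) a _ _ _ h1.symm)
      refine Eq.trans ?_ h2.symm
      change (Algebra.TensorProduct.lift (Algebra.ofId L L) (x * y).ofConv
          (fun _ _ => Commute.all _ _)) (1 ⊗ₜ a) = _
      rw [Algebra.TensorProduct.lift_tmul, map_one, one_mul]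
      rw [AlgHom.convMul_apply, ← h1, map_sum]
      refine Finset.sum_congr rfl fun i _ => ?_
      rw [Algebra.TensorProduct.lift_tmul]
      change _ = (Algebra.TensorProduct.lift (Algebra.ofId L L) x.ofConv
          (fun _ _ => Commute.all _ _)) (1 ⊗ₜ _) * (Algebra.TensorProduct.lift (Algebra.ofId L L)
          y.ofConv (fun _ _ => Commute.all _ _)) (1 ⊗ₜ _)
      rw [Algebra.TensorProduct.lift_tmul, Algebra.TensorProduct.lift_tmul, map_one, one_mul,
        one_mul]

@[simp] lemma ptL_tmul (x : WithConv (A →ₐ[K] L)) (l : L) (a : A) :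
    (ptL x) (l ⊗ₜ[K] a) = l * x a := by
  change (Algebra.TensorProduct.lift (Algebra.ofId L L) x.ofConv
          (fun _ _ => Commute.all _ _)) (l ⊗ₜ a) = _
  rw [Algebra.TensorProduct.lift_tmul]
  rfl

/-- `K`-points as `L`-points. -/
noncomputable def extPt (L : Type u) [Field L] [Algebra K L] : Pt K A →* Pt L (L ⊗[K] A) :=
  (ptL (K := K) (L := L) (A := A)).toMonoidHom.comp (mapPt (Algebra.ofId K L))

@[simp] lemma extPt_tmul (g : Pt K A) (l : L) (a : A) :
    extPt L g (l ⊗ₜ[K] a) = l * algebraMap K L (g a) :=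
  ptL_tmul _ _ _

lemma extPt_injective : Function.Injective (extPt (K := K) (A := A) L) := by
  intro g h hgh
  apply Pt.ext'
  intro a
  have h1 := congrArg (fun x : Pt L (L ⊗[K] A) => x ((1 : L) ⊗ₜ[K] a)) hgh
  simp only [extPt_tmul, one_mul] at h1
  exact (algebraMap K L).injective h1

end Dict

section Specialize

variable {K L : Type u} [Field K] [IsAlgClosed K] [Field L] [Algebra K L]

/-- Identities which hold on `K`-points hold on `L`-points. -/
theorem specialize {R : Type u} [CommRing R] [Algebra K R] [Algebra.FiniteType K R] {P : R}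
    (h : ∀ χ : R →ₐ[K] K, χ P = 0) (ψ : R →ₐ[K] L) : ψ P = 0 := by
  have h1 : P ∈ (⊥ : Ideal R).radical := by
    by_contra hcon
    obtain ⟨f, -, hf⟩ := exists_algHom_of_notMem_radical (K := K) hcon
    exact hf (h f)
  obtain ⟨n, hn⟩ := h1
  have h2 : P ^ n = 0 := by simpa using hn
  have h3 : (ψ P) ^ n = 0 := by rw [← map_pow, h2, map_zero]
  exact eq_zero_of_pow_eq_zero h3

end Specialize

section Binom

variable {K : Type u} [Field K] {A : Type u} [CommRing A] [HopfAlgebra K A]

lemma apply_pow_rTr (g y : Pt K A) (n : ℕ) (a : A) :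
    y (((rTr g).toLinearMap ^ n) a) = (y * g ^ n) a := by
  induction n generalizing a with
  | zero => simp
  | succ n ih =>
    rw [pow_succ, Module.End.mul_apply, ih]
    change (y * g ^ n) (rTr g a) = _
    rw [rTr_apply_pt, pow_succ, mul_assoc]

/-- Evaluation of `(rTr g - 1)^n a`. -/
lemma apply_sub_pow (g y : Pt K A) (n : ℕ) (a : A) :
    y ((((rTr g).toLinearMap - 1) ^ n) a) =
      ∑ k ∈ Finset.range (n + 1), (y * g ^ k) a * ((-1) ^ (n - k) * (n.choose k : K)) := by
  have e1 : (rTr g).toLinearMap - 1 = (rTr g).toLinearMap + algebraMap K (Module.End K A) (-1) := by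
    rw [map_neg, map_one, sub_eq_add_neg]
  have hc : Commute (rTr g).toLinearMap (algebraMap K (Module.End K A) (-1)) :=
    (Algebra.commutes _ _).symm
  rw [e1, hc.add_pow, LinearMap.sum_apply]
  have h1 : y (∑ k ∈ Finset.range (n + 1), ((rTr g).toLinearMap ^ k *
      (algebraMap K (Module.End K A) (-1)) ^ (n - k) *
      (n.choose k : Module.End K A)) a) = ∑ k ∈ Finset.range (n + 1),
      y (((rTr g).toLinearMap ^ k * (algebraMap K (Module.End K A) (-1)) ^ (n - k) *
        (n.choose k : Module.End K A)) a) :=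
    map_sum y.ofConv _ _
  rw [h1]
  refine Finset.sum_congr rfl fun k _ => ?_
  have h2 : (algebraMap K (Module.End K A) (-1)) ^ (n - k) * (n.choose k : Module.End K A) =
      algebraMap K (Module.End K A) ((-1) ^ (n - k) * (n.choose k : K)) := by
    rw [map_mul, map_pow, map_natCast]
  rw [mul_assoc, h2, Module.End.mul_apply, Module.algebraMap_end_apply, map_smul]
  have h3 : y (((-1) ^ (n - k) * (n.choose k : K)) • (((rTr g).toLinearMap ^ k) a)) =
      ((-1) ^ (n - k) * (n.choose k : K)) * y (((rTr g).toLinearMap ^ k) a) := by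
    exact map_smul y.ofConv _ _
  rw [h3, apply_pow_rTr, mul_comm]

end Binom

section Ext

variable {K L : Type u} [Field K] [IsAlgClosed K] [Field L] [IsAlgClosed L] [Algebra K L]
  {A : Type u} [CommRing A] [HopfAlgebra K A] [Algebra.FiniteType K A]

instance isDomain_ext [IsDomain A] : IsDomain (L ⊗[K] A) :=
  Groth.Agent.Sga3B.CellDim.isDomain_tensor

/-- The extension of scalars of a homomorphism. -/
noncomputable abbrev extHom (L : Type u) [Field L] [Algebra K L] {B : Type u} [CommRing B]
    [HopfAlgebra K B] (φ : A →ₐc[K] B) : L ⊗[K] A →ₐc[L] L ⊗[K] B :=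
  Bialgebra.TensorProduct.map (BialgHom.id L L) φ

omit [IsAlgClosed K] [IsAlgClosed L] [Algebra.FiniteType K A] in
lemma extHom_tmul {B : Type u} [CommRing B] [HopfAlgebra K B] (φ : A →ₐc[K] B) (l : L) (a : A) :
    extHom L φ (l ⊗ₜ[K] a) = l ⊗ₜ[K] φ a := rfl

omit [IsAlgClosed K] [IsAlgClosed L] [Algebra.FiniteType K A] in
lemma extHom_surjective {B : Type u} [CommRing B] [HopfAlgebra K B] {φ : A →ₐc[K] B}
    (hφ : Function.Surjective φ) : Function.Surjective (extHom L φ) := by
  intro z
  induction z with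
  | zero => exact ⟨0, map_zero _⟩
  | add x y hx hy =>
    obtain ⟨a, ha⟩ := hx
    obtain ⟨b, hb⟩ := hy
    exact ⟨a + b, by rw [map_add, ha, hb]⟩
  | tmul l b =>
    obtain ⟨a, rfl⟩ := hφ b
    exact ⟨l ⊗ₜ a, rfl⟩

/-- `L`-points of the image of a closed immersion. -/
lemma mem_range_extHom_iff {B : Type u} [CommRing B] [HopfAlgebra K B] {φ : A →ₐc[K] B}
    (hφ : Function.Surjective φ) {x : WithConv (A →ₐ[K] L)} :
    ptL x ∈ (Pt.map (extHom L φ)).range ↔ ∀ a, φ a = 0 → x a = 0 := by
  constructor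
  · rintro ⟨y, hy⟩ a ha
    have h1 := congrArg (fun x : Pt L (L ⊗[K] A) => x ((1 : L) ⊗ₜ[K] a)) hy
    simp only [Pt.map_apply, ptL_tmul, one_mul] at h1
    rw [← h1, extHom_tmul, ha, TensorProduct.tmul_zero]
    exact map_zero y.ofConv
  · intro h
    obtain ⟨χ, hχ⟩ : ∃ χ : B →ₐ[K] L, ∀ a, χ (φ a) = x a := by
      have hφ' : Function.Surjective (φ : A →ₐ[K] B) := hφ
      refine ⟨(Ideal.Quotient.liftₐ (RingHom.ker (φ : A →ₐ[K] B)) x.ofConv
        (fun a ha => h a ha)).comp
        (Ideal.quotientKerAlgEquivOfSurjective hφ').symm.toAlgHom, fun a => ?_⟩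
      have h1 : (Ideal.quotientKerAlgEquivOfSurjective hφ').symm (φ a) =
          Ideal.Quotient.mk _ a := by
        rw [AlgEquiv.symm_apply_eq]
        rfl
      change (Ideal.Quotient.liftₐ (RingHom.ker (φ : A →ₐ[K] B)) x.ofConv
        (fun a ha => h a ha)) ((Ideal.quotientKerAlgEquivOfSurjective hφ').symm (φ a)) = x a
      rw [h1]
      rfl
    refine ⟨ptL (toConv χ), ?_⟩
    apply Pt.ext'
    intro z
    rw [Pt.map_apply]
    induction z with
    | zero =>
      rw [map_zero]
      exact (map_zero (ptL (toConv χ)).ofConv).trans (map_zero (ptL x).ofConv).symm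
    | add p q hp hq =>
      rw [map_add]
      exact (map_add (ptL (toConv χ)).ofConv _ _).trans
        ((congrArg₂ (· + ·) hp hq).trans (map_add (ptL x).ofConv _ _).symm)
    | tmul l a =>
      rw [extHom_tmul, ptL_tmul, ptL_tmul]
      change l * χ (φ a) = _
      rw [hχ]

/-- Bounded unipotency on finitely many functions. -/
lemma exists_uniform_pow [IsReduced A] (a : A) : ∃ n : ℕ, ∀ g : Pt K A, IsUnip g →
    (((rTr g).toLinearMap - 1) ^ n) a = 0 := by
  obtain ⟨U, hU1, hU2, hU3, -⟩ := exists_stable (K := K) (Submodule.span K {a})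
  refine ⟨Module.finrank K U, fun g hg => ?_⟩
  have ha : a ∈ U := hU2 (Submodule.mem_span_singleton_self a)
  have h1 : IsNilpotent ((rTrRep K A).subrepresentation U hU3 g - 1) :=
    hg.rep ((isAlg_rTrRep K A).subrepresentation U hU3)
  have h2 := pow_finrank_of_isNilpotent h1
  have h3 := coe_pow_subrep hU3 g (Module.finrank K U) ⟨a, ha⟩
  rw [h2] at h3
  exact h3.symm

/-- The binomial expression attached to two points. -/
noncomputable def bin {R : Type u} [CommRing R] [Algebra K R] (y x : WithConv (A →ₐ[K] R)) (n : ℕ)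
    (a : A) : R :=
  ∑ k ∈ Finset.range (n + 1), (y * x ^ k).ofConv a * algebraMap K R ((-1) ^ (n - k) * (n.choose k : K))

lemma map_bin {R S : Type u} [CommRing R] [Algebra K R] [CommRing S] [Algebra K S]
    (f : R →ₐ[K] S) (y x : WithConv (A →ₐ[K] R)) (n : ℕ) (a : A) :
    f (bin y x n a) = bin (mapPt f y) (mapPt f x) n a := by
  rw [bin, bin, map_sum]
  refine Finset.sum_congr rfl fun k _ => ?_
  rw [map_mul, AlgHom.commutes, ← map_pow, ← map_mul]
  rfl

lemma bin_K (y g : Pt K A) (n : ℕ) (a : A) :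
    bin y g n a = y ((((rTr g).toLinearMap - 1) ^ n) a) := by
  rw [apply_sub_pow]
  rfl

lemma bin_L (y x : WithConv (A →ₐ[K] L)) (n : ℕ) (a : A) :
    (ptL y) ((((rTr (ptL x)).toLinearMap - 1) ^ n) ((1 : L) ⊗ₜ[K] a)) = bin y x n a := by
  rw [apply_sub_pow]
  refine Finset.sum_congr rfl fun k _ => ?_
  rw [← map_pow, ← map_mul, ptL_tmul, one_mul, map_mul, map_pow, map_neg, map_one, map_natCast]

/-- Unipotency extends from `K`-points to `L`-points. -/
theorem isUnip_ext [IsDomain A] {B : Type u} [CommRing B] [HopfAlgebra K B] {φ : A →ₐc[K] B}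
    (hφ : Function.Surjective φ) (h : ∀ g ∈ (Pt.map φ).range, IsUnip g) :
    ∀ g ∈ (Pt.map (extHom L φ)).range, IsUnip g := by
  have : Algebra.FiniteType K B := Algebra.FiniteType.of_surjective (φ : A →ₐ[K] B) hφ
  rintro _ ⟨g, rfl⟩
  obtain ⟨x, rfl⟩ := (ptL (K := K) (L := L) (A := B)).surjective g
  let x' : WithConv (A →ₐ[K] L) := toConv (x.ofConv.comp (φ : A →ₐ[K] B))
  have hx' : Pt.map (extHom L φ) (ptL x) = ptL x' := by
    apply Pt.ext'
    intro z
    rw [Pt.map_apply]
    induction z with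
    | zero =>
      rw [map_zero]
      exact (map_zero (ptL x).ofConv).trans (map_zero (ptL x').ofConv).symm
    | add p q hp hq =>
      rw [map_add]
      exact (map_add (ptL x).ofConv _ _).trans
        ((congrArg₂ (· + ·) hp hq).trans (map_add (ptL x').ofConv _ _).symm)
    | tmul l a =>
      rw [extHom_tmul, ptL_tmul, ptL_tmul]
      rfl
  rw [hx']
  have key : ∀ a : A, ∃ n : ℕ, (((rTr (ptL x')).toLinearMap - 1) ^ n) ((1 : L) ⊗ₜ[K] a) = 0 := by
    intro a
    obtain ⟨n, hn⟩ := exists_uniform_pow (K := K) a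
    refine ⟨n, ?_⟩
    apply eq_zero_of_forall_pt (K := L)
    intro y'
    obtain ⟨y, rfl⟩ := (ptL (K := K) (L := L) (A := A)).surjective y'
    rw [bin_L]
    let R := A ⊗[K] B
    have hR : Algebra.FiniteType K R := Algebra.FiniteType.trans (S := A) inferInstance
      (inferInstanceAs (Algebra.FiniteType A (A ⊗[K] B)))
    let yU : WithConv (A →ₐ[K] R) := toConv Algebra.TensorProduct.includeLeft
    let xU : WithConv (A →ₐ[K] R) := toConv ((Algebra.TensorProduct.includeRight).comp
      (φ : A →ₐ[K] B))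
    have h1 : ∀ χ : R →ₐ[K] K, χ (bin yU xU n a) = 0 := by
      intro χ
      rw [map_bin]
      have h2 : mapPt χ xU = Pt.map φ (toConv (χ.comp Algebra.TensorProduct.includeRight)) := rfl
      rw [h2]
      have h3 := bin_K (mapPt χ yU) (Pt.map φ (toConv (χ.comp
        Algebra.TensorProduct.includeRight))) n a
      rw [h3, hn _ (h _ ⟨_, rfl⟩)]
      exact map_zero (mapPt χ yU).ofConv
    have h4 := specialize h1 (Algebra.TensorProduct.lift y.ofConv x.ofConv
      (fun _ _ => Commute.all _ _) : R →ₐ[K] L)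
    rw [map_bin] at h4
    have h5 : mapPt (Algebra.TensorProduct.lift y.ofConv x.ofConv
      (fun _ _ => Commute.all _ _) : R →ₐ[K] L) yU = y := by
      apply WithConv.ofConv_injective
      ext b
      change Algebra.TensorProduct.lift y.ofConv x.ofConv (fun _ _ => Commute.all _ _) (b ⊗ₜ 1) = _
      rw [Algebra.TensorProduct.lift_tmul, map_one, mul_one]
    have h6 : mapPt (Algebra.TensorProduct.lift y.ofConv x.ofConv
      (fun _ _ => Commute.all _ _) : R →ₐ[K] L) xU = x' := by
      apply WithConv.ofConv_injective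
      ext b
      change Algebra.TensorProduct.lift y.ofConv x.ofConv (fun _ _ => Commute.all _ _) (1 ⊗ₜ (φ b)) = _
      rw [Algebra.TensorProduct.lift_tmul, map_one, one_mul]
      rfl
    rwa [h5, h6] at h4
  intro z
  induction z with
  | zero => exact ⟨0, map_zero _⟩
  | add p q hp hq =>
    obtain ⟨n, hn⟩ := hp
    obtain ⟨m, hm⟩ := hq
    refine ⟨n + m, ?_⟩
    rw [map_add, pow_add, Module.End.mul_apply, Module.End.mul_apply, hm, map_zero, add_zero,
      ← Module.End.mul_apply, ← pow_add, add_comm, pow_add, Module.End.mul_apply, hn, map_zero]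
  | tmul l a =>
    obtain ⟨n, hn⟩ := key a
    refine ⟨n, ?_⟩
    have h1 : l ⊗ₜ[K] a = l • ((1 : L) ⊗ₜ[K] a) := by
      rw [TensorProduct.smul_tmul', smul_eq_mul, mul_one]
    rw [h1, map_smul, hn, smul_zero]

/-- Normality extends from `K`-points to `L`-points. -/
theorem normal_ext {B : Type u} [CommRing B] [HopfAlgebra K B] {φ : A →ₐc[K] B}
    (hφ : Function.Surjective φ) (h : (Pt.map φ).range.Normal) :
    (Pt.map (extHom L φ)).range.Normal := by
  have : Algebra.FiniteType K B := Algebra.FiniteType.of_surjective (φ : A →ₐ[K] B) hφ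
  refine ⟨fun n hn g => ?_⟩
  obtain ⟨x, rfl⟩ := (ptL (K := K) (L := L) (A := A)).surjective n
  obtain ⟨y, rfl⟩ := (ptL (K := K) (L := L) (A := A)).surjective g
  rw [← map_inv, ← map_mul, ← map_mul, mem_range_extHom_iff hφ]
  rw [mem_range_extHom_iff hφ] at hn
  intro a ha
  obtain ⟨χ, hχ⟩ : ∃ χ : B →ₐ[K] L, ∀ a, χ (φ a) = x a := by
    have hφ' : Function.Surjective (φ : A →ₐ[K] B) := hφ
    refine ⟨(Ideal.Quotient.liftₐ (RingHom.ker (φ : A →ₐ[K] B)) x.ofConv
      (fun a ha => hn a ha)).comp
      (Ideal.quotientKerAlgEquivOfSurjective hφ').symm.toAlgHom, fun a => ?_⟩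
    have h1 : (Ideal.quotientKerAlgEquivOfSurjective hφ').symm (φ a) =
        Ideal.Quotient.mk _ a := by
      rw [AlgEquiv.symm_apply_eq]
      rfl
    change (Ideal.Quotient.liftₐ (RingHom.ker (φ : A →ₐ[K] B)) x.ofConv
      (fun a ha => hn a ha)) ((Ideal.quotientKerAlgEquivOfSurjective hφ').symm (φ a)) = x a
    rw [h1]
    rfl
  let R := A ⊗[K] B
  have hR : Algebra.FiniteType K R := Algebra.FiniteType.trans (S := A) inferInstance
    (inferInstanceAs (Algebra.FiniteType A (A ⊗[K] B)))
  let yU : WithConv (A →ₐ[K] R) := toConv Algebra.TensorProduct.includeLeft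
  let xU : WithConv (A →ₐ[K] R) := toConv ((Algebra.TensorProduct.includeRight).comp
    (φ : A →ₐ[K] B))
  have h1 : ∀ χ : R →ₐ[K] K, χ ((yU * xU * yU⁻¹).ofConv a) = 0 := by
    intro χ
    have h2 : χ ((yU * xU * yU⁻¹).ofConv a) = (mapPt χ (yU * xU * yU⁻¹)).ofConv a := rfl
    rw [h2, map_mul, map_mul, map_inv]
    have h3 := h.conj_mem (Pt.map φ (toConv (χ.comp Algebra.TensorProduct.includeRight)))
      ⟨_, rfl⟩ (mapPt χ yU)
    obtain ⟨w, hw⟩ := h3
    have h4 := congrArg (fun x : Pt K A => x a) hw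
    rw [Pt.map_apply, ha] at h4
    exact h4.symm.trans (map_zero w.ofConv)
  have h4 := specialize h1 (Algebra.TensorProduct.lift y.ofConv χ
    (fun _ _ => Commute.all _ _) : R →ₐ[K] L)
  have h2 : (Algebra.TensorProduct.lift y.ofConv χ (fun _ _ => Commute.all _ _) : R →ₐ[K] L)
      ((yU * xU * yU⁻¹).ofConv a) = (mapPt (Algebra.TensorProduct.lift y.ofConv χ
      (fun _ _ => Commute.all _ _) : R →ₐ[K] L) (yU * xU * yU⁻¹)).ofConv a := rfl
  rw [h2, map_mul, map_mul, map_inv] at h4
  have h5 : mapPt (Algebra.TensorProduct.lift y.ofConv χ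
    (fun _ _ => Commute.all _ _) : R →ₐ[K] L) yU = y := by
    apply WithConv.ofConv_injective
    ext b
    change Algebra.TensorProduct.lift y.ofConv χ (fun _ _ => Commute.all _ _) (b ⊗ₜ 1) = _
    rw [Algebra.TensorProduct.lift_tmul, map_one, mul_one]
  have h6 : mapPt (Algebra.TensorProduct.lift y.ofConv χ
    (fun _ _ => Commute.all _ _) : R →ₐ[K] L) xU = x := by
    apply WithConv.ofConv_injective
    ext b
    change Algebra.TensorProduct.lift y.ofConv χ (fun _ _ => Commute.all _ _) (1 ⊗ₜ (φ b)) = _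
    rw [Algebra.TensorProduct.lift_tmul, map_one, one_mul]
    exact hχ b
  rw [h5, h6] at h4
  exact h4

/-- If the extension to `L` is reductive, so is the group over `K`. -/
theorem isRedPt_of_ext [IsDomain A] (h : IsRedPt L (L ⊗[K] A)) : IsRedPt K A := by
  intro N hN hcl hconn hu
  have h0 := range_quotMap_vanIdeal N hcl
  have hs : Function.Surjective (Bialgebra.Quotient.mkBialgHom (R := K)
    (vanIdeal (N : Set (Pt K A)))) := Ideal.Quotient.mk_surjective
  have hdom : IsDomain (A ⧸ vanIdeal (N : Set (Pt K A))) :=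
    (Ideal.Quotient.isDomain_iff_prime _).2 hconn
  have h1 := h (Pt.map (extHom L (Bialgebra.Quotient.mkBialgHom (R := K)
    (vanIdeal (N : Set (Pt K A)))))).range (normal_ext hs (by rw [← h0] at hN; exact hN))
    (Pt.isCl_range_map (extHom_surjective hs)) (by
      have h2 : IsConn (Set.univ : Set (Pt L (L ⊗[K] (A ⧸ vanIdeal (N : Set (Pt K A)))))) :=
        isConn_univ
      have h3 := h2.image_map (extHom L (Bialgebra.Quotient.mkBialgHom (R := K)
        (vanIdeal (N : Set (Pt K A)))))
      rwa [Set.image_univ] at h3)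
    (isUnip_ext hs (by
      intro g hg
      exact hu g (by rw [← h0]; exact hg)))
  rw [eq_bot_iff]
  intro g hg
  have h2 : extPt L g ∈ (Pt.map (extHom L (Bialgebra.Quotient.mkBialgHom (R := K)
    (vanIdeal (N : Set (Pt K A)))))).range := by
    change ptL (mapPt (Algebra.ofId K L) g) ∈ _
    rw [mem_range_extHom_iff hs]
    intro a ha
    have ha' : a ∈ vanIdeal (N : Set (Pt K A)) := Ideal.Quotient.eq_zero_iff_mem.1 ha
    change algebraMap K L (g a) = 0
    rw [ha' g hg, map_zero]
  rw [h1, Subgroup.mem_bot] at h2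
  rw [Subgroup.mem_bot]
  exact extPt_injective (h2.trans (map_one _).symm)

end Ext

end Groth.Agent.Sga3B.RG.BcPt
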