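import Groth.Agent.Sga3B.RG.BrTorus
import Groth.Agent.Sga3B.RG.BrCent

/-!
# Maximal tori over an algebraically closed field: scheme form and points form

`K` algebraically closed.  `isIso_geomPt`: the geometric point of `Spec K` is an isomorphism;
`isMaximalTorus_iff_abs`: absolute form of maximality; `isMaximalTorus_iff`: points form.
-/

set_option autoImplicit false

universe u

open CategoryTheory MonoidalCategory CartesianMonoidalCategory MonObj GrpObj AlgebraicGeometry
open Groth.Agent.Books.AffBridge Groth.Agent.Books.AffBridge2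

namespace Groth.Agent.Sga3B.RG.BrMax

open BrPts BrTorus BrDiag

section geomPt

lemma isIso_fromSpecResidueField {k : Type u} [Field k] (s : Spec (CommRingCat.of k)) :
    IsIso ((Spec (CommRingCat.of k)).fromSpecResidueField s) := by
  have hsub : Subsingleton (Spec (CommRingCat.of k)) :=
    inferInstanceAs (Subsingleton (PrimeSpectrum k))
  have hr : Set.range ((Spec (CommRingCat.of k)).fromSpecResidueField s) = Set.univ := by
    rw [Scheme.range_fromSpecResidueField]
    ext x
    simp only [Set.mem_singleton_iff, Set.mem_univ, iff_true]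
    exact Subsingleton.elim _ _
  have h1 : IsClosedImmersion ((Spec (CommRingCat.of k)).fromSpecResidueField s) :=
    IsClosedImmersion.of_isPreimmersion _ (by rw [hr]; exact isClosed_univ)
  have h2 : Surjective ((Spec (CommRingCat.of k)).fromSpecResidueField s) :=
    ⟨Set.range_eq_univ.1 hr⟩
  exact isIso_of_isClosedImmersion_of_surjective _

lemma isAlgClosed_residueField {K : Type u} [Field K] [IsAlgClosed K]
    (s : Spec (CommRingCat.of K)) :
    IsAlgClosed ((Spec (CommRingCat.of K)).residueField s) := by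
  obtain ⟨φ, hφ⟩ := Spec.map_surjective ((Spec (CommRingCat.of K)).fromSpecResidueField s)
  have h1 := isIso_fromSpecResidueField s
  rw [← hφ] at h1
  have h2 : IsIso φ := by
    have h4 : IsIso (Scheme.Spec.map φ.op) := h1
    have h3 := isIso_of_reflects_iso φ.op Scheme.Spec
    exact (isIso_op_iff φ).1 h3
  exact IsAlgClosed.of_ringEquiv K _ (asIso φ).commRingCatIsoToRingEquiv

variable {K : Type u} [Field K] [IsAlgClosed K]

instance isIso_geomPt (s : Spec (CommRingCat.of K)) : IsIso (Red.geomPt s) := by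
  have h1 := isIso_fromSpecResidueField s
  have h2 := isAlgClosed_residueField s
  have h3 : Function.Bijective (algebraMap ((Spec (CommRingCat.of K)).residueField s)
      (AlgebraicClosure ((Spec (CommRingCat.of K)).residueField s))) :=
    IsAlgClosed.algebraMap_bijective_of_isIntegral
  have h4 : IsIso (Spec.map (CommRingCat.ofHom (algebraMap
      ((Spec (CommRingCat.of K)).residueField s)
      (AlgebraicClosure ((Spec (CommRingCat.of K)).residueField s))))) := by
    have : IsIso (CommRingCat.ofHom (algebraMap ((Spec (CommRingCat.of K)).residueField s)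
      (AlgebraicClosure ((Spec (CommRingCat.of K)).residueField s)))) := by
      rw [ConcreteCategory.isIso_iff_bijective]
      exact h3
    infer_instance
  infer_instance

end geomPt

section pullbackIso

variable {S S' : Scheme.{u}} (g : S' ⟶ S) [IsIso g]

instance isEquivalence_pullback : (Over.pullback g).IsEquivalence :=
  (Over.mapPullbackAdj g).isEquivalence_right_of_isEquivalence_left

end pullbackIso

section main

variable {K : Type u} [Field K] [IsAlgClosed K]

/-- Absolute form of maximality of tori. -/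
def IsAbsMax {T G : Over (Spec (CommRingCat.of K))} [GrpObj T] [GrpObj G] (i : T ⟶ G) : Prop :=
  IsMonHom i ∧ Mono i ∧ Red.IsTorus T ∧
    ∀ (T' : Over (Spec (CommRingCat.of K))) [GrpObj T'] (j : T' ⟶ G) [IsMonHom j] [Mono j]
      (f : T ⟶ T'), Red.IsTorus T' → f ≫ j = i → IsIso f

/-- Torus property is compatible with base change along the geometric point of `Spec K`. -/
lemma isTorus_geomFibre (s : Spec (CommRingCat.of K)) {T : Over (Spec (CommRingCat.of K))}
    [GrpObj T] (h : Red.IsTorus T) : Red.IsTorus (Red.geomFibre s T) := by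
  obtain ⟨n, hn⟩ := TorusAlgClosed.exists_isSplitTorusWith h
  exact isTorus_of_isSplitTorusWith (TorusAlgClosed.isSplitTorusWith_bc (Red.geomPt s) hn)

/-- Every group over the geometric point of `Spec K` comes from a group over `K`. -/
lemma exists_grp (s : Spec (CommRingCat.of K))
    (T' : Over (Spec (CommRingCat.of (AlgebraicClosure
      ((Spec (CommRingCat.of K)).residueField s))))) [GrpObj T'] :
    ∃ (T : Over (Spec (CommRingCat.of K))) (_ : GrpObj T),
      Nonempty (Grp.mk (Red.geomFibre s T) ≅ Grp.mk T') := by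
  obtain ⟨T, ⟨e⟩⟩ := (Functor.essImage_mapGrp (F := Over.pullback (Red.geomPt s))
    (G := Grp.mk T')).2 (Functor.EssSurj.mem_essImage _ T')
  exact ⟨T.X, inferInstance, ⟨e⟩⟩

lemma isTorus_of_geomFibre (s : Spec (CommRingCat.of K)) {T : Over (Spec (CommRingCat.of K))}
    [GrpObj T] (h : Red.IsTorus (Red.geomFibre s T)) : Red.IsTorus T := by
  obtain ⟨n, ⟨e⟩⟩ := TorusAlgClosed.exists_isSplitTorusWith h
  let e1 : Grp.mk (Red.bc (Red.geomPt s) T) ≅
      Grp.mk (Red.bc (Red.geomPt s) (Red.DS (Spec (CommRingCat.of K)) (Fin n → ℤ))) :=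
    e ≪≫ (TorusAlgClosed.dsBcIso (Red.geomPt s) (Fin n → ℤ)).symm
  exact isTorus_of_isSplitTorusWith ⟨(Over.pullback (Red.geomPt s)).mapGrp.preimageIso e1⟩

theorem isMaximalTorus_iff_abs {T G : Over (Spec (CommRingCat.of K))} [GrpObj T] [GrpObj G]
    (i : T ⟶ G) : Red.IsMaximalTorus i ↔ IsAbsMax i := by
  constructor
  · rintro ⟨h1, h2, h3, h4⟩
    refine ⟨h1, h2, h3, fun T' _ j _ _ f hT' hf => ?_⟩
    let s : Spec (CommRingCat.of K) := IsLocalRing.closedPoint K
    have h5 := h4 s (Red.geomFibre s T') ((Over.pullback (Red.geomPt s)).map j)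
      ((Over.pullback (Red.geomPt s)).map f) (isTorus_geomFibre s hT')
      (by rw [← Functor.map_comp, hf])
    exact isIso_of_reflects_iso f (Over.pullback (Red.geomPt s))
  · rintro ⟨h1, h2, h3, h4⟩
    refine ⟨h1, h2, h3, fun s T'' _ j _ _ f hT'' hf => ?_⟩
    obtain ⟨T', _, ⟨e⟩⟩ := exists_grp s T''
    let e' : Red.geomFibre s T' ≅ T'' := (Grp.forget _).mapIso e
    have he' : IsMonHom e'.hom := e.hom.hom.isMonHom_hom
    have hT' : Red.IsTorus (Red.geomFibre s T') := by
      obtain ⟨n, ⟨e1⟩⟩ := TorusAlgClosed.exists_isSplitTorusWith hT''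
      exact isTorus_of_isSplitTorusWith ⟨e ≪≫ e1⟩
    have hT := isTorus_of_geomFibre s hT'
    let E := Over.pullback (Red.geomPt s)
    let J0 : Grp.mk (Red.geomFibre s T') ⟶ Grp.mk (Red.geomFibre s G) :=
      Grp.homMk' (Mon.Hom.mk (e'.hom ≫ j))
    let J : E.mapGrp.obj (Grp.mk T') ⟶ E.mapGrp.obj (Grp.mk G) := J0
    let j' : Grp.mk T' ⟶ Grp.mk G := E.mapGrp.preimage J
    have hj' : E.map j'.hom.hom = e'.hom ≫ j :=
      congrArg (fun q => q.hom.hom) (E.mapGrp.map_preimage J)
    let f' : T ⟶ T' := E.preimage (f ≫ e'.inv)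
    have hf' : E.map f' = f ≫ e'.inv := E.map_preimage _
    have h5 : IsMonHom j'.hom.hom := j'.hom.isMonHom_hom
    have h6 : Mono (E.map j'.hom.hom) := by
      rw [hj']
      infer_instance
    have h7 : Mono j'.hom.hom := E.mono_of_mono_map h6
    have h8 : f' ≫ j'.hom.hom = i := by
      apply E.map_injective
      rw [Functor.map_comp, hf', hj', Category.assoc, Iso.inv_hom_id_assoc]
      exact hf
    have h9 := h4 T' j'.hom.hom f' hT h8
    have h10 : IsIso (E.map f') := inferInstance
    rw [hf'] at h10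
    exact IsIso.of_isIso_comp_right f e'.inv

omit [IsAlgClosed K] in
/-- Transport of absolute maximality along an isomorphism of the ambient group. -/
lemma isAbsMax_comp_iso {T G G' : Over (Spec (CommRingCat.of K))} [GrpObj T] [GrpObj G] [GrpObj G']
    (i : T ⟶ G) (e : G ≅ G') [IsMonHom e.hom] (h : IsAbsMax i) : IsAbsMax (i ≫ e.hom) := by
  obtain ⟨h1, h2, h3, h4⟩ := h
  have hinv : IsMonHom e.inv := inferInstance
  refine ⟨inferInstance, inferInstance, h3, fun T' _ j _ _ f hT' hf => ?_⟩
  refine h4 T' (j ≫ e.inv) f hT' ?_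
  rw [← Category.assoc, hf, Category.assoc, Iso.hom_inv_id, Category.comp_id]

/-- Maximal tori of `Spec A` in the language of points. -/
theorem isMaxTorusSub_of_isMaximalTorus {A : Type u} [CommRing A] [HopfAlgebra K A]
    [Algebra.FiniteType K A] {T G : Over (Spec (CommRingCat.of K))} [GrpObj T] [GrpObj G]
    (i : T ⟶ G) [IsMonHom i] (e : G ≅ SpecOver K A) [IsMonHom e.hom] (h : Red.IsMaximalTorus i) :
    IsMaxTorusSub (ptsSub (i ≫ e.hom)) := by
  have h1 := isAbsMax_comp_iso i e ((isMaximalTorus_iff_abs i).1 h)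
  have h2 := h1.2.1
  exact (isMaxTorusSub_iff (i ≫ e.hom) h1.2.2.1).2 h1.2.2.2

/-- Maximal tori in the sense of points are maximal tori. -/
theorem isMaximalTorus_of_isMaxTorusSub {A : Type u} [CommRing A] [HopfAlgebra K A]
    [Algebra.FiniteType K A] {T G : Over (Spec (CommRingCat.of K))} [GrpObj T] [GrpObj G]
    (i : T ⟶ G) [IsMonHom i] [Mono i] (hT : Red.IsTorus T) (e : G ≅ SpecOver K A) [IsMonHom e.hom]
    (h : IsMaxTorusSub (ptsSub (i ≫ e.hom))) : Red.IsMaximalTorus i := by
  rw [isMaximalTorus_iff_abs]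
  have hinv : IsMonHom e.inv := inferInstance
  have hinv' : IsMonHom e.symm.hom := hinv
  have h1 : IsAbsMax (i ≫ e.hom) :=
    ⟨inferInstance, inferInstance, hT, (isMaxTorusSub_iff (i ≫ e.hom) hT).1 h⟩
  have h2 := isAbsMax_comp_iso _ e.symm h1
  rw [Category.assoc, Iso.symm_hom, Iso.hom_inv_id, Category.comp_id] at h2
  exact h2

/-- Scheme form of `C_G(T) = T` for maximal tori: the hypothesis `hc` of S3003. -/
theorem exists_factor_of_isMaximalTorus {A : Type u} [CommRing A] [HopfAlgebra K A]
    [Algebra.FiniteType K A] [_root_.IsReduced A] {T G : Over (Spec (CommRingCat.of K))}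
    [GrpObj T] [GrpObj G] (e : G ≅ SpecOver K A) [IsMonHom e.hom] (i : T ⟶ G)
    (h : Red.IsMaximalTorus i)
    (hZ : ∀ T' : Subgroup (Pt K A), IsMaxTorusSub T' →
      Subgroup.centralizer (T' : Set (Pt K A)) ≤ T')
    (X : Over (Spec (CommRingCat.of K))) (g : X ⟶ G)
    (hg : ∀ (X' : Over (Spec (CommRingCat.of K))) (x : X' ⟶ X) (t : X' ⟶ T),
      (x ≫ g) * (t ≫ i) = (t ≫ i) * (x ≫ g)) : ∃ t : X ⟶ T, g = t ≫ i := by
  have hi : IsMonHom i := h.1
  have hm : Mono i := h.2.1
  have hmax := isMaxTorusSub_of_isMaximalTorus i e h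
  obtain ⟨n, eT, heT⟩ := isTorus_iff.1 h.2.2.1
  have hcl : IsClosedImmersion (i ≫ e.hom).left := isClosedImmersion_of_torus _ h.2.2.1
  have hsm : Smooth (SpecOver K A).hom := (smooth_iff A).2 inferInstance
  obtain ⟨t, ht⟩ := BrCent.exists_factor_of_centralizes eT (i ≫ e.hom) (fun a ha => by
    obtain ⟨a, rfl⟩ := (ptEquiv K A).surjective a
    refine hZ _ hmax ?_
    rw [Subgroup.mem_centralizer_iff]
    rintro b ⟨t, ht⟩
    apply (ptEquiv K A).injective
    rw [map_mul, map_mul, ← ht]
    exact (ha t).symm) X (g ≫ e.hom) (fun X' x t => by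
      have := hg X' x t
      rw [← Category.assoc, ← Category.assoc, ← MonObj.mul_comp, ← MonObj.mul_comp, this])
  refine ⟨t, ?_⟩
  rw [← Category.assoc, cancel_mono] at ht
  exact ht

end main

end Groth.Agent.Sga3B.RG.BrMax
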