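import Groth.Agent.Sga3B.RG.TorConj
import Groth.Agent.Sga3B.RG.ConnAct

/-!
# Rigidity of tori

A connected group normalising a torus centralises it; the Weyl group `N(T)/C(T)` is finite.
-/

set_option autoImplicit false

universe u w

open WithConv TensorProduct Coalgebra Pointwise

namespace Groth.Agent.Sga3B.RG.Rigid

variable {K : Type u} [Field K] {A : Type u} [CommRing A] [HopfAlgebra K A]

/-- The torsion points of a torus are dense: a closed set of points of the torus containing all
points of `l`-power order is everything. -/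
lemma mem_of_torsion [IsAlgClosed K] {l : ℕ} (hl : l.Prime) (hl0 : (l : K) ≠ 0) {n : ℕ}
    {Z : Set (Pt K (MonoidAlgebra K (Multiplicative (Fin n → ℤ))))} (hZ : IsCl Z)
    (h : ∀ i, ∀ t ∈ torsHom K n (l ^ i), torPt _ t ∈ Z) (s) : s ∈ Z := by
  refine hZ fun a ha => ?_
  have : a = 0 := eq_zero_of_torsion hl hl0 a fun i t ht => ha _ (h i t ht)
  rw [this]
  exact map_zero s.ofConv

/-- **Rigidity of tori**: a connected set of points through `1` normalising a torus centralises
it. -/
theorem commute_of_normalizes [IsAlgClosed K] {T : Subgroup (Pt K A)} (hT : IsTorusSub T)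
    {H : Set (Pt K A)} (hH : IsConn H) (h1 : (1 : Pt K A) ∈ H)
    (hn : ∀ h ∈ H, ∀ t ∈ T, h * t * h⁻¹ ∈ T) : ∀ h ∈ H, ∀ t ∈ T, h * t = t * h := by
  obtain ⟨n, π, hπ, rfl⟩ := hT
  obtain ⟨l, hl, hl0⟩ := exists_prime_ne_zero K
  have hinj := Pt.map_injective hπ
  -- torsion points are centralized
  have key : ∀ i, ∀ t ∈ torsHom K n (l ^ i), ∀ h ∈ H,
      h * Pt.map π (torPt _ t) = Pt.map π (torPt _ t) * h := by
    intro i t ht h hh
    have : NeZero (l ^ i) := ⟨pow_ne_zero _ hl.ne_zero⟩
    let F : Set (Pt K A) := (fun t => Pt.map π (torPt _ t)) '' (torsHom K n (l ^ i) : Set _)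
    have hF : F.Finite := Set.Finite.image _ (by
      have : Finite (torsHom K n (l ^ i)) := inferInstance
      exact Set.toFinite (torsHom K n (l ^ i) : Set (Multiplicative (Fin n → ℤ) →* Kˣ)))
    refine hH.commute_of_finite h1 hF (fun g hg y hy => ?_) h hh _ ⟨t, ht, rfl⟩
    obtain ⟨s, hs, rfl⟩ := hy
    obtain ⟨x, hx⟩ := hn g hg _ ⟨torPt _ s, rfl⟩
    obtain ⟨s', rfl⟩ := (torPt (K := K) (Multiplicative (Fin n → ℤ))).surjective x
    refine ⟨s', fun m => ?_, hx⟩
    have h2 : s ^ (l ^ i) = 1 := by
      refine MonoidHom.ext fun m => ?_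
      rw [MonoidHom.pow_apply]
      exact hs m
    have h3 : (g * Pt.map π (torPt _ s) * g⁻¹) ^ (l ^ i) = 1 := by
      rw [conj_pow, ← map_pow, ← map_pow, h2, map_one, map_one, mul_one, mul_inv_cancel]
    rw [← hx, ← map_pow, ← map_pow] at h3
    have h4 : s' ^ (l ^ i) = 1 := by
      have h5 := hinj (h3.trans (map_one _).symm)
      exact (torPt _).injective (h5.trans (map_one _).symm)
    have := DFunLike.congr_fun h4 m
    simpa using this
  rintro h hh _ ⟨s, rfl⟩
  have hcl : IsCl {s : Pt K (MonoidAlgebra K (Multiplicative (Fin n → ℤ))) |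
      h * Pt.map π s = Pt.map π s * h} :=
    ((isReg_map π).const_mul h).isCl_eq ((isReg_map π).mul_const h)
  exact mem_of_torsion hl hl0 hcl (fun i t ht => key i t ht h hh) s

/-- A connected subgroup normalising a torus lies in its centralizer. -/
theorem le_centralizer [IsAlgClosed K] {T H : Subgroup (Pt K A)} (hT : IsTorusSub T)
    (hH : IsConn (H : Set (Pt K A))) (hn : H ≤ Subgroup.normalizer (T : Set (Pt K A))) :
    H ≤ Subgroup.centralizer (T : Set (Pt K A)) := by
  intro h hh
  rw [Subgroup.mem_centralizer_iff]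
  intro t ht
  exact (commute_of_normalizes hT hH H.one_mem
    (fun h hh t ht => (Subgroup.mem_normalizer_iff.1 (hn hh) t).1 ht) h hh t ht).symm

lemma isCl_of_isTorusSub [IsAlgClosed K] {T : Subgroup (Pt K A)} (hT : IsTorusSub T) :
    IsCl (T : Set (Pt K A)) := by
  obtain ⟨n, π, hπ, rfl⟩ := hT
  exact Pt.isCl_range_map hπ

variable [IsAlgClosed K] [Algebra.FiniteType K A]

/-- The identity component of the normaliser of a torus centralises the torus. -/
theorem idComp_normalizer_le {T : Subgroup (Pt K A)} (hT : IsTorusSub T) :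
    idComp (Subgroup.normalizer (T : Set (Pt K A))) ≤ Subgroup.centralizer (T : Set (Pt K A)) :=
  le_centralizer hT (isConn_idComp _) (idComp_le (isCl_normalizer (isCl_of_isTorusSub hT)))

/-- If the centralizer of a torus is connected it is the identity component of the normaliser. -/
theorem idComp_normalizer_eq {T : Subgroup (Pt K A)} (hT : IsTorusSub T)
    (hC : IsConn (Subgroup.centralizer (T : Set (Pt K A)) : Set (Pt K A))) :
    idComp (Subgroup.normalizer (T : Set (Pt K A))) = Subgroup.centralizer (T : Set (Pt K A)) :=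
  le_antisymm (idComp_normalizer_le hT) (le_idComp hC (Subgroup.centralizer_le_normalizer _))

/-- The Weyl group `N(T)/C(T)` is finite. -/
theorem relIndex_centralizer_ne_zero {T : Subgroup (Pt K A)} (hT : IsTorusSub T) :
    (Subgroup.centralizer (T : Set (Pt K A))).relIndex
      (Subgroup.normalizer (T : Set (Pt K A))) ≠ 0 := by
  have h1 := relIndex_idComp_ne_zero
    (H := Subgroup.normalizer (T : Set (Pt K A))) (isCl_normalizer (isCl_of_isTorusSub hT))
  exact fun h => h1 (Subgroup.relIndex_eq_zero_of_le_left (idComp_normalizer_le hT) h)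

omit [Algebra.FiniteType K A] in
/-- A connected normal (or normalised by a connected group) torus is central. -/
theorem le_center_of_normal {T : Subgroup (Pt K A)} (hT : IsTorusSub T) (hn : T.Normal)
    (hG : IsConn (Set.univ : Set (Pt K A))) : T ≤ Subgroup.center (Pt K A) := by
  intro t ht
  rw [Subgroup.mem_center_iff]
  intro g
  exact commute_of_normalizes hT hG (Set.mem_univ _) (fun h _ t ht => hn.conj_mem t ht h) g
    (Set.mem_univ _) t ht

end Groth.Agent.Sga3B.RG.Rigid
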