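import Groth.Agent.Sga3B.RG.BrTorus
import Groth.Agent.Sga3B.RG.Closed2

/-!
# Bridge: reductive groups over an algebraically closed field, scheme form and point form
-/

set_option autoImplicit false

universe u

open CategoryTheory MonoidalCategory CartesianMonoidalCategory MonObj GrpObj AlgebraicGeometry
open Groth.Agent.Books.AffBridge Groth.Agent.Books.AffBridge2
open TensorProduct Coalgebra
open scoped LaurentPolynomial

namespace Groth.Agent.Sga3B.RG.BrRed

open BrPts BrDiag BrTorus

noncomputable section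

section unip

variable {K : Type u} [Field K] {A : Type u} [CommRing A] [HopfAlgebra K A]
  {B : Type u} [CommRing B] [HopfAlgebra K B]

lemma rTr_eq (g : Pt K A) (a : A) : rTr g a = (TensorProduct.rid K A)
    (TensorProduct.map LinearMap.id g.ofConv.toLinearMap (comul (R := K) a)) := rfl

/-- Right translations and bialgebra maps. -/
lemma rTr_map (φ : A →ₐc[K] B) (x : Pt K B) (a : A) : φ (rTr (Pt.map φ x) a) = rTr x (φ a) := by
  have h1 : TensorProduct.map (φ : A →ₗ[K] B) (φ : A →ₗ[K] B)
    (comul (R := K) a) = comul (R := K) (φ a) := CoalgHomClass.map_comp_comul_apply φ a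
  rw [rTr_eq, rTr_eq, ← h1]
  induction comul (R := K) a with
  | zero => simp
  | tmul b c =>
    simp only [TensorProduct.map_tmul, LinearMap.id_apply, TensorProduct.rid_tmul, map_smul]
    rfl
  | add s t hs ht => rw [map_add, map_add, map_add, hs, ht, map_add, map_add, map_add]

lemma pow_rTr_map (φ : A →ₐc[K] B) (x : Pt K B) (k : ℕ) (a : A) :
    φ ((((rTr (Pt.map φ x)).toLinearMap - 1) ^ k) a) = (((rTr x).toLinearMap - 1) ^ k) (φ a) := by
  induction k generalizing a with
  | zero => rfl
  | succ k ih =>
    rw [pow_succ, pow_succ, Module.End.mul_apply, Module.End.mul_apply, ih]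
    congr 1
    rw [LinearMap.sub_apply, LinearMap.sub_apply, map_sub]
    congr 1
    exact rTr_map φ x a

/-- Unipotence in a group implies unipotence in a closed subgroup. -/
lemma isUnip_of_map {φ : A →ₐc[K] B} (hφ : Function.Surjective φ) {x : Pt K B}
    (h : IsUnip (Pt.map φ x)) : IsUnip x := by
  intro b
  obtain ⟨a, rfl⟩ := hφ b
  obtain ⟨n, hn⟩ := h a
  exact ⟨n, by rw [← pow_rTr_map, hn, map_zero]⟩

/-- The coaction of `B` on `A`. -/
def coactR (φ : A →ₐc[K] B) : A →ₗ[K] A ⊗[K] B :=
  (TensorProduct.map LinearMap.id (φ : A →ₗ[K] B)) ∘ₗ comul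

lemma coactR_rTr (φ : A →ₐc[K] B) (x : Pt K B) (a : A) :
    coactR φ (rTr (Pt.map φ x) a) =
      TensorProduct.map LinearMap.id (rTr x).toLinearMap (coactR φ a) := by
  let L' : A ⊗[K] (A ⊗[K] A) →ₗ[K] A ⊗[K] B :=
    TensorProduct.map LinearMap.id ((TensorProduct.rid K B).toLinearMap ∘ₗ
      TensorProduct.map (φ : A →ₗ[K] B) (Pt.map φ x).ofConv.toLinearMap)
  have h1 : ∀ t : A ⊗[K] A, coactR φ ((TensorProduct.rid K A)
      (TensorProduct.map LinearMap.id (Pt.map φ x).ofConv.toLinearMap t)) =
      L' ((TensorProduct.assoc K A A A) ((comul (R := K)).rTensor A t)) := by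
    intro t
    induction t with
    | zero => simp
    | add s t hs ht => simp only [map_add, hs, ht]
    | tmul b c =>
      rw [TensorProduct.map_tmul, TensorProduct.rid_tmul, LinearMap.id_apply, map_smul,
        LinearMap.rTensor_tmul, coactR, LinearMap.comp_apply]
      induction comul (R := K) b with
      | zero => simp
      | add s t hs ht => simp only [map_add, smul_add, hs, ht, TensorProduct.add_tmul]
      | tmul p q =>
        simp only [TensorProduct.map_tmul, LinearMap.id_apply, TensorProduct.assoc_tmul, L',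
          LinearMap.comp_apply, LinearEquiv.coe_coe, TensorProduct.rid_tmul,
          TensorProduct.tmul_smul]
  have h2 : ∀ t : A ⊗[K] A, TensorProduct.map LinearMap.id (rTr x).toLinearMap
      (TensorProduct.map LinearMap.id (φ : A →ₗ[K] B) t) =
      L' ((comul (R := K)).lTensor A t) := by
    intro t
    induction t with
    | zero => simp
    | add s t hs ht => simp only [map_add, hs, ht]
    | tmul b c =>
      rw [TensorProduct.map_tmul, TensorProduct.map_tmul, LinearMap.id_apply,
        LinearMap.id_apply, LinearMap.lTensor_tmul]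
      change b ⊗ₜ[K] (rTr x (φ c)) = _
      rw [TensorProduct.map_tmul, LinearMap.id_apply]
      congr 1
      rw [← rTr_map, rTr_eq]
      induction comul (R := K) c with
      | zero => simp
      | add s t hs ht => simp only [map_add, hs, ht]
      | tmul p q =>
        simp only [TensorProduct.map_tmul, LinearMap.id_apply,
          LinearMap.comp_apply, LinearEquiv.coe_coe, TensorProduct.rid_tmul, map_smul]
        rfl
  rw [rTr_eq, h1, coassoc_apply, ← h2]
  rfl

lemma coactR_pow (φ : A →ₐc[K] B) (x : Pt K B) (k : ℕ) (a : A) :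
    coactR φ ((((rTr (Pt.map φ x)).toLinearMap - 1) ^ k) a) =
      TensorProduct.map LinearMap.id (((rTr x).toLinearMap - 1) ^ k) (coactR φ a) := by
  induction k generalizing a with
  | zero =>
    rw [pow_zero, pow_zero]
    change _ = TensorProduct.map LinearMap.id LinearMap.id _
    rw [TensorProduct.map_id]
    rfl
  | succ k ih =>
    rw [pow_succ, pow_succ, Module.End.mul_apply, ih]
    have h3 : coactR φ (((rTr (Pt.map φ x)).toLinearMap - 1) a) =
        TensorProduct.map LinearMap.id ((rTr x).toLinearMap - 1) (coactR φ a) := by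
      have h4 : TensorProduct.map (LinearMap.id : A →ₗ[K] A) ((rTr x).toLinearMap - 1) =
          TensorProduct.map LinearMap.id (rTr x).toLinearMap -
            TensorProduct.map LinearMap.id (1 : B →ₗ[K] B) := by
        ext p q
        simp [TensorProduct.tmul_sub]
      rw [LinearMap.sub_apply, map_sub, h4, LinearMap.sub_apply]
      congr 1
      · exact coactR_rTr φ x a
      · change _ = TensorProduct.map LinearMap.id LinearMap.id _
        rw [TensorProduct.map_id]
        rfl
    rw [h3, ← LinearMap.comp_apply, ← TensorProduct.map_comp]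
    rfl

lemma coactR_counit (φ : A →ₐc[K] B) (a : A) : (TensorProduct.rid K A)
    (TensorProduct.map LinearMap.id (counit (R := K) (A := B)) (coactR φ a)) = a := by
  have h1 : (counit (R := K) (A := B)) ∘ₗ (φ : A →ₗ[K] B) = counit (R := K) (A := A) := by
    ext a
    exact CoalgHomClass.counit_comp_apply φ a
  rw [coactR, LinearMap.comp_apply, ← LinearMap.comp_apply, ← TensorProduct.map_comp, h1]
  have := lTensor_counit_comul (R := K) a
  change (TensorProduct.rid K A) ((counit (R := K)).lTensor A (comul (R := K) a)) = a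
  rw [this]
  simp

/-- Unipotence is preserved by homomorphisms. -/
theorem isUnip_map (φ : A →ₐc[K] B) {x : Pt K B} (h : IsUnip x) : IsUnip (Pt.map φ x) := by
  intro a
  have h1 : ∀ t : A ⊗[K] B, ∃ n : ℕ, ∀ m ≥ n,
      TensorProduct.map LinearMap.id (((rTr x).toLinearMap - 1) ^ m) t = 0 := by
    intro t
    induction t with
    | zero => exact ⟨0, by simp⟩
    | add s t hs ht =>
      obtain ⟨n, hn⟩ := hs
      obtain ⟨m, hm⟩ := ht
      exact ⟨max n m, fun k hk => by
        rw [map_add, hn k (le_of_max_le_left hk), hm k (le_of_max_le_right hk), add_zero]⟩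
    | tmul p q =>
      obtain ⟨n, hn⟩ := h q
      refine ⟨n, fun m hm => ?_⟩
      obtain ⟨k, rfl⟩ := Nat.exists_eq_add_of_le' hm
      rw [TensorProduct.map_tmul, pow_add, Module.End.mul_apply, hn, map_zero,
        TensorProduct.tmul_zero]
  obtain ⟨n, hn⟩ := h1 (coactR φ a)
  refine ⟨n, ?_⟩
  have h2 := coactR_counit φ ((((rTr (Pt.map φ x)).toLinearMap - 1) ^ n) a)
  rw [coactR_pow, hn n le_rfl] at h2
  rw [← h2]
  simp

end unip

section main

variable {K : Type u} [Field K] [IsAlgClosed K]

/-- Unipotent closed subgroups contain no torus. -/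
theorem hasNoSubtorus_of_unip {A : Type u} [CommRing A] [HopfAlgebra K A]
    {U : Over (Spec (CommRingCat.of K))} [GrpObj U] (i : U ⟶ SpecOver K A) [IsMonHom i] [Mono i]
    (h : ∀ g ∈ ptsSub i, IsUnip g) : Red.HasNoSubtorus K U := by
  intro T _ j _ _ hT
  obtain ⟨n, π, e, he, hs, hj⟩ := exists_surjective_of_torus (j ≫ i) hT
  have := isClosedImmersion_of_torus (j ≫ i) hT
  have := TorusAlgClosed.smooth_of_isTorus hT
  apply isTrivialGrp_of_ptsSub_eq_bot (j ≫ i)
  rw [eq_bot_iff, ptsSub_eq_range (j ≫ i) π e hj]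
  rintro _ ⟨x, rfl⟩
  have h1 : Pt.map π x ∈ ptsSub i := by
    apply ptsSub_le_of_comp (j ≫ i) i j rfl
    rw [ptsSub_eq_range (j ≫ i) π e hj]
    exact ⟨x, rfl⟩
  rw [Subgroup.mem_bot, eq_one_of_unip π hs x (h _ h1), map_one]

/-- `Red.IsReductiveOver` implies reductivity in the language of points. -/
theorem isRedPt_of_isReductiveOver {A : Type u} [CommRing A] [HopfAlgebra K A]
    [Algebra.FiniteType K A] (h : Red.IsReductiveOver K (SpecOver K A)) :
    IsDomain A ∧ IsRedPt K A := by
  obtain ⟨-, hsm, hconn, hred⟩ := h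
  have hdom : IsDomain A := (isDomain_iff A).1 ⟨hsm, hconn⟩
  refine ⟨hdom, fun N hN hcl hcn hu => ?_⟩
  have hpr : (vanIdeal (N : Set (Pt K A))).IsPrime := hcn
  have hd : IsDomain (A ⧸ vanIdeal (N : Set (Pt K A))) := (Ideal.Quotient.isDomain_iff_prime _).2 hpr
  obtain ⟨h1, h2⟩ := (isDomain_iff (K := K) (A ⧸ vanIdeal (N : Set (Pt K A)))).2 hd
  have h3 : ptsSub (incl K (vanIdeal (N : Set (Pt K A)))) = N := by
    apply SetLike.coe_injective
    rw [ptsSub_incl, hcl.eq]
  have hm : Mono (incl K (vanIdeal (N : Set (Pt K A)))) :=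
    Books.AlgPtsGrp.mono_of_isClosedImmersion _
  have h4 := hred (SpecOver K (A ⧸ vanIdeal (N : Set (Pt K A))))
    (incl K (vanIdeal (N : Set (Pt K A)))) inferInstance h1 h2
    (isNormalHom_of_normal _ (by rw [h3]; exact hN))
    (hasNoSubtorus_of_unip (incl K (vanIdeal (N : Set (Pt K A)))) (by rw [h3]; exact hu))
  rw [← h3]
  exact ptsSub_eq_bot_of_isTrivialGrp _ h4

end main

end

end Groth.Agent.Sga3B.RG.BrRed
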