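import Groth.Agent.Sga3B.RG.BrRed
import Mathlib.LinearAlgebra.FreeModule.PID
import Mathlib.Algebra.Category.Grp.Injective
import Mathlib.RingTheory.Bialgebra.MonoidAlgebra

/-!
# Bridge: the image of a homomorphism from a torus is a torus
-/

set_option autoImplicit false

universe u

open CategoryTheory MonoidalCategory CartesianMonoidalCategory MonObj GrpObj AlgebraicGeometry
open Groth.Agent.Books.AffBridge Groth.Agent.Books.AffBridge2
open TensorProduct Coalgebra
open scoped LaurentPolynomial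

namespace Groth.Agent.Sga3B.RG.BrImg

open BrPts BrDiag BrTorus BrRed

noncomputable section

section factor

variable {K : Type u} [Field K] {A : Type u} [CommRing A] [HopfAlgebra K A]
  {Γ Γ' : Type} [CommGroup Γ] [CommGroup Γ']

lemma mapDomain_injective (q : Γ' →* Γ) (hqi : Function.Injective q) :
    Function.Injective (MonoidAlgebra.mapDomainBialgHom K q) := by
  intro x y h
  have h1 : MonoidAlgebra.mapDomain q x = MonoidAlgebra.mapDomain q y := h
  apply MonoidAlgebra.coeff_injective
  have h2 := congrArg MonoidAlgebra.coeff h1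
  simp only [MonoidAlgebra.coeff_mapDomain] at h2
  exact Finsupp.mapDomain_injective hqi h2

lemma mem_range_mapDomain (φ : A →ₐc[K] MonoidAlgebra K Γ) (q : Γ' →* Γ)
    (h : imgChar φ ≤ q.range) (a : A) :
    φ a ∈ (MonoidAlgebra.mapDomainBialgHom K q : MonoidAlgebra K Γ' →ₐ[K] _).range := by
  classical
  have h1 : φ a = ∑ m ∈ (φ a).coeff.support, MonoidAlgebra.single m ((φ a).coeff m) := by
    apply MonoidAlgebra.coeff_injective
    rw [MonoidAlgebra.coeff_sum]
    simp only [MonoidAlgebra.coeff_single]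
    exact (Finsupp.sum_single (φ a).coeff).symm
  rw [h1]
  refine Subalgebra.sum_mem _ fun m hm => ?_
  obtain ⟨m', hm'⟩ := h (mem_imgChar_of_coeff φ a m (Finsupp.mem_support_iff.1 hm))
  refine ⟨MonoidAlgebra.single m' ((φ a).coeff m), ?_⟩
  change MonoidAlgebra.mapDomainBialgHom K q (MonoidAlgebra.single m' ((φ a).coeff m)) = _
  rw [MonoidAlgebra.mapDomainBialgHom_single, hm']

/-- A bialgebra map to `K[Γ]` factors through `K[Γ']` for every subgroup `Γ'` containing its
characters. -/
theorem exists_factor (φ : A →ₐc[K] MonoidAlgebra K Γ) (q : Γ' →* Γ)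
    (hqi : Function.Injective q) (h : imgChar φ ≤ q.range) :
    ∃ φ' : A →ₐc[K] MonoidAlgebra K Γ', (MonoidAlgebra.mapDomainBialgHom K q).comp φ' = φ := by
  let i : MonoidAlgebra K Γ' →ₐ[K] MonoidAlgebra K Γ := MonoidAlgebra.mapDomainBialgHom K q
  have hi : Function.Injective i := mapDomain_injective q hqi
  let e := AlgEquiv.ofInjective i hi
  let f : A →ₐ[K] MonoidAlgebra K Γ' :=
    (e.symm : i.range →ₐ[K] _).comp ((φ : A →ₐ[K] _).codRestrict i.range
      (mem_range_mapDomain φ q h))
  have hf : ∀ a, i (f a) = φ a := by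
    intro a
    have := e.apply_symm_apply ⟨φ a, mem_range_mapDomain φ q h a⟩
    exact congrArg Subtype.val this
  have hf' : i.comp f = (φ : A →ₐ[K] _) := AlgHom.ext hf
  have h1 : (Bialgebra.counitAlgHom K (MonoidAlgebra K Γ')).comp f = Bialgebra.counitAlgHom K A := by
    ext a
    have h2 : ∀ x, counit (R := K) (i x) = counit (R := K) x := fun x =>
      CoalgHomClass.counit_comp_apply (MonoidAlgebra.mapDomainBialgHom K q) x
    change counit (R := K) (f a) = counit (R := K) a
    rw [← h2, hf]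
    exact CoalgHomClass.counit_comp_apply φ a
  have h2 : (Algebra.TensorProduct.map f f).comp (Bialgebra.comulAlgHom K A) =
      (Bialgebra.comulAlgHom K (MonoidAlgebra K Γ')).comp f := by
    ext a
    have h3 : Function.Injective (TensorProduct.map i.toLinearMap i.toLinearMap) :=
      TensorProduct.map_injective_of_flat_flat _ _ hi hi
    have h4 : ∀ t : A ⊗[K] A, TensorProduct.map i.toLinearMap i.toLinearMap
        (Algebra.TensorProduct.map f f t) =
        TensorProduct.map (φ : A →ₗ[K] _) (φ : A →ₗ[K] _) t := by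
      intro t
      induction t with
      | zero => simp
      | add s t hs ht => simp only [map_add, hs, ht]
      | tmul x y =>
        rw [Algebra.TensorProduct.map_tmul, TensorProduct.map_tmul, TensorProduct.map_tmul]
        change i (f x) ⊗ₜ[K] i (f y) = φ x ⊗ₜ[K] φ y
        rw [hf, hf]
    apply h3
    change TensorProduct.map i.toLinearMap i.toLinearMap
        (Algebra.TensorProduct.map f f (comul (R := K) a)) =
        TensorProduct.map i.toLinearMap i.toLinearMap (comul (R := K) (f a))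
    rw [h4]
    have h5 : TensorProduct.map i.toLinearMap i.toLinearMap (comul (R := K) (f a)) =
      comul (R := K) (i (f a)) :=
      CoalgHomClass.map_comp_comul_apply (MonoidAlgebra.mapDomainBialgHom K q) (f a)
    rw [h5, hf]
    exact CoalgHomClass.map_comp_comul_apply φ a
  refine ⟨BialgHom.ofAlgHom f h1 h2, ?_⟩
  exact DFunLike.ext _ _ hf

/-- If the subgroup is exactly the group of characters in the image, the factorisation is
surjective. -/
theorem exists_factor_surjective (φ : A →ₐc[K] MonoidAlgebra K Γ) (q : Γ' →* Γ)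
    (hqi : Function.Injective q) (h : imgChar φ = q.range) :
    ∃ φ' : A →ₐc[K] MonoidAlgebra K Γ', (MonoidAlgebra.mapDomainBialgHom K q).comp φ' = φ ∧
      Function.Surjective φ' := by
  obtain ⟨φ', hφ'⟩ := exists_factor φ q hqi h.le
  refine ⟨φ', hφ', surjective_of_imgChar φ' ?_⟩
  rw [eq_top_iff]
  intro m _
  have h1 : q m ∈ imgChar φ := by rw [h]; exact ⟨m, rfl⟩
  obtain ⟨b, hb⟩ := h1
  refine ⟨b, mapDomain_injective q hqi ?_⟩
  rw [MonoidAlgebra.mapDomainBialgHom_single, ← hb, ← hφ']
  rfl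

/-- Subgroups of `ℤ^n` are free. -/
lemma exists_free (n : ℕ) (H : Subgroup (Multiplicative (Fin n → ℤ))) :
    ∃ (r : ℕ) (q : Multiplicative (Fin r → ℤ) →* Multiplicative (Fin n → ℤ)),
      Function.Injective q ∧ H = q.range := by
  let N : Submodule ℤ (Fin n → ℤ) := AddSubgroup.toIntSubmodule (Subgroup.toAddSubgroup' H)
  obtain ⟨r, ⟨b⟩⟩ := N.nonempty_basis_of_pid (Pi.basisFun ℤ (Fin n))
  let f : (Fin r → ℤ) →+ (Fin n → ℤ) := (N.subtype ∘ₗ b.equivFun.symm.toLinearMap).toAddMonoidHom
  refine ⟨r, AddMonoidHom.toMultiplicative f, ?_, ?_⟩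
  · intro x y h
    have h1 : (N.subtype ∘ₗ b.equivFun.symm.toLinearMap) (Multiplicative.toAdd x) =
      (N.subtype ∘ₗ b.equivFun.symm.toLinearMap) (Multiplicative.toAdd y) := h
    have h2 := b.equivFun.symm.injective (N.injective_subtype h1)
    exact h2
  · ext m
    constructor
    · intro hm
      have hm' : Multiplicative.toAdd m ∈ N := hm
      refine ⟨Multiplicative.ofAdd (b.equivFun ⟨Multiplicative.toAdd m, hm'⟩), ?_⟩
      change Multiplicative.ofAdd ((b.equivFun.symm (b.equivFun ⟨Multiplicative.toAdd m, hm'⟩) : N) :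
        Fin n → ℤ) = m
      rw [LinearEquiv.symm_apply_apply]
      rfl
    · rintro ⟨x, rfl⟩
      exact (b.equivFun.symm (Multiplicative.toAdd x)).2

/-- Every homomorphism from a torus factors as a surjection onto a torus followed by a closed
immersion. -/
theorem exists_factor_KZ {n : ℕ} (φ : A →ₐc[K] KZ K n) :
    ∃ (r : ℕ) (q : Multiplicative (Fin r → ℤ) →* Multiplicative (Fin n → ℤ))
      (φ' : A →ₐc[K] KZ K r), Function.Injective q ∧ Function.Surjective φ' ∧
      (MonoidAlgebra.mapDomainBialgHom K q).comp φ' = φ := by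
  obtain ⟨r, q, hq1, hq2⟩ := exists_free n (imgChar φ)
  obtain ⟨φ', h1, h2⟩ := exists_factor_surjective φ q hq1 hq2
  exact ⟨r, q, φ', hq1, h2, h1⟩

end factor

section ac

variable {K : Type u} [Field K] {A : Type u} [CommRing A] [HopfAlgebra K A]

lemma map_torPt {Γ Γ' : Type} [CommGroup Γ] [CommGroup Γ'] (q : Γ' →* Γ) (t : Γ →* Kˣ) :
    Pt.map (MonoidAlgebra.mapDomainBialgHom K q) (torPt Γ t) = torPt Γ' (t.comp q) := by
  apply Pt.ext'
  intro a
  induction a using MonoidAlgebra.induction_linear with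
  | zero => exact (map_zero _).trans (map_zero _).symm
  | add x y hx hy => exact (map_add _ x y).trans ((congrArg₂ _ hx hy).trans (map_add _ x y).symm)
  | single m c =>
    refine Eq.trans ?_ (torPt_single (K := K) Γ' (t.comp q) m c).symm
    refine Eq.trans ?_ (torPt_single (K := K) Γ t (q m) c)
    rw [Pt.map_apply, MonoidAlgebra.mapDomainBialgHom_single]

variable [IsAlgClosed K]

omit [IsAlgClosed K] in
/-- The units of an algebraically closed field are divisible. -/
lemma baer_units [IsAlgClosed K] : Module.Baer ℤ (Additive Kˣ) := by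
  have h1 : ∀ {n : ℕ}, n ≠ 0 → Function.Surjective (fun a : Kˣ => a ^ n) := by
    intro n hn a
    obtain ⟨z, hz⟩ := IsAlgClosed.exists_pow_nat_eq (a : K) (Nat.pos_of_ne_zero hn)
    have hz0 : z ≠ 0 := by
      rintro rfl
      rw [zero_pow hn] at hz
      exact a.ne_zero hz.symm
    exact ⟨Units.mk0 z hz0, Units.ext (by simpa using hz)⟩
  let i1 : RootableBy Kˣ ℕ := rootableByOfPowLeftSurj _ _ h1
  let i2 : RootableBy Kˣ ℤ := Group.rootableByIntOfRootableByNat Kˣ
  let i3 : DivisibleBy (Additive Kˣ) ℤ :=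
    { div := fun a n => Additive.ofMul (RootableBy.root (Additive.toMul a) n)
      div_zero := fun a => congrArg Additive.ofMul (RootableBy.root_zero (Additive.toMul a))
      div_cancel := fun a hn => congrArg Additive.ofMul (RootableBy.root_cancel (Additive.toMul a) hn) }
  exact Module.Baer.of_divisible _

/-- Characters extend from subgroups. -/
lemma exists_extend {Γ Γ' : Type} [CommGroup Γ] [CommGroup Γ'] (q : Γ' →* Γ)
    (hqi : Function.Injective q) (t : Γ' →* Kˣ) : ∃ t' : Γ →* Kˣ, t'.comp q = t := by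
  obtain ⟨h, hh⟩ := (baer_units (K := K)).extension_property_addMonoidHom (M := Additive Γ')
    (N := Additive Γ) (MonoidHom.toAdditive q) hqi (MonoidHom.toAdditive t)
  refine ⟨AddMonoidHom.toMultiplicative h, ?_⟩
  ext m
  exact congrArg (fun f : Additive Γ' →+ Additive Kˣ => ((Additive.toMul (f (Additive.ofMul m)) : Kˣ)
    : K)) hh

/-- The image of a homomorphism from a torus is a torus. -/
theorem isTorusSub_range {n : ℕ} (φ : A →ₐc[K] KZ K n) : IsTorusSub (Pt.map φ).range := by
  obtain ⟨r, q, φ', hq, hs, rfl⟩ := exists_factor_KZ φ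
  refine ⟨r, φ', hs, le_antisymm ?_ ?_⟩
  · rintro _ ⟨x, rfl⟩
    exact ⟨Pt.map (MonoidAlgebra.mapDomainBialgHom K q) x, rfl⟩
  · rintro _ ⟨x, rfl⟩
    obtain ⟨t, rfl⟩ := (torPt (K := K) (Multiplicative (Fin r → ℤ))).surjective x
    obtain ⟨t', ht'⟩ := exists_extend q hq t
    refine ⟨torPt _ t', ?_⟩
    have h1 := map_torPt (K := K) q t'
    rw [ht'] at h1
    rw [← h1]
    rfl

omit [IsAlgClosed K] in
/-- Isomorphic Hopf algebras have isomorphic point groups. -/
lemma map_equiv_surjective {B C : Type u} [CommRing B] [HopfAlgebra K B] [CommRing C]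
    [HopfAlgebra K C] (e : B ≃ₐc[K] C) : Function.Surjective (Pt.map (e : B →ₐc[K] C)) := by
  intro g
  refine ⟨Pt.map (e.symm : C →ₐc[K] B) g, ?_⟩
  apply Pt.ext'
  intro b
  rw [Pt.map_apply, Pt.map_apply]
  congr 1
  exact e.symm_apply_apply b

/-- `K[T;T⁻¹]` as the group algebra of `ℤ^1`. -/
def lauEquiv (K : Type u) [Field K] : K[T;T⁻¹] ≃ₐc[K] KZ K 1 :=
  (AddMonoidAlgebra.toMultiplicativeBialgEquiv K K ℤ).trans
    (MonoidAlgebra.domCongrBialgEquiv K K (AddEquiv.toMultiplicative
      ((LinearEquiv.funUnique (Fin 1) ℤ ℤ).symm.toAddEquiv)))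

omit [IsAlgClosed K] in
lemma gmPt_surjective : Function.Surjective (gmPt : Kˣ →* Pt K K[T;T⁻¹]) := by
  intro g
  have h1 : ∀ m n : ℤ, g (LaurentPolynomial.T m * LaurentPolynomial.T n) =
      g (LaurentPolynomial.T m) * g (LaurentPolynomial.T n) := fun m n => map_mul g.ofConv _ _
  have h2 : g (LaurentPolynomial.T 1) * g (LaurentPolynomial.T (-1)) = 1 := by
    rw [← h1, ← LaurentPolynomial.T_add, add_neg_cancel, LaurentPolynomial.T_zero]
    exact map_one g.ofConv
  have h3 : g (LaurentPolynomial.T (-1)) * g (LaurentPolynomial.T 1) = 1 := by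
    rw [_root_.mul_comm]; exact h2
  let t : Kˣ := ⟨g (LaurentPolynomial.T 1), g (LaurentPolynomial.T (-1)), h2, h3⟩
  let F : Multiplicative ℤ →* K := (g.ofConv : K[T;T⁻¹] →* K).comp (AddMonoidAlgebra.of K ℤ)
  let G : Multiplicative ℤ →* K := (Units.coeHom K).comp (zpowersHom Kˣ t)
  have h4 : F = G := by
    apply MonoidHom.ext_mint
    simp [F, G, t]
  refine ⟨t, ?_⟩
  apply WithConv.ofConv_injective
  apply algHom_laurent_ext
  intro n
  exact (congrArg (fun f : Multiplicative ℤ →* K => f (Multiplicative.ofAdd n)) h4).symm ▸ gmPt_T t n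

/-- The image of a cocharacter is a torus. -/
theorem isTorusSub_cochPt (c : A →ₐc[K] K[T;T⁻¹]) : IsTorusSub (cochPt c).range := by
  have h1 := isTorusSub_range ((lauEquiv K : K[T;T⁻¹] →ₐc[K] KZ K 1).comp c)
  have h2 : (cochPt c).range = (Pt.map ((lauEquiv K : K[T;T⁻¹] →ₐc[K] KZ K 1).comp c)).range := by
    apply le_antisymm
    · rintro _ ⟨t, rfl⟩
      obtain ⟨y, hy⟩ := map_equiv_surjective (lauEquiv K) (gmPt t)
      exact ⟨y, by rw [← Pt.map_comp, hy]; rfl⟩
    · rintro _ ⟨y, rfl⟩
      obtain ⟨t, ht⟩ := gmPt_surjective (Pt.map (lauEquiv K : K[T;T⁻¹] →ₐc[K] KZ K 1) y)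
      exact ⟨t, by rw [← Pt.map_comp, ← ht]; rfl⟩
  rw [h2]
  exact h1

end ac

end

end Groth.Agent.Sga3B.RG.BrImg
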