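import Groth.Agent.Sga3B.RG.Closed
import Groth.Agent.Sga3B.RG.Coch
import Mathlib.RingTheory.Nilpotent.Lemmas
import Mathlib.RingTheory.Finiteness.Nilpotent
import Mathlib.LinearAlgebra.FiniteDimensional.Basic
import Mathlib.LinearAlgebra.Basis.VectorSpace

/-!
# A faithful finite-dimensional representation inside the function algebra
-/

set_option autoImplicit false

universe u w

open WithConv TensorProduct Coalgebra

namespace Groth.Agent.Sga3B.RG

variable {K : Type u} [Field K] {A : Type u} [CommRing A] [HopfAlgebra K A]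

lemma rTr_eq_sum_repr (g : Pt K A) {a : A} {ι : Type*} (r : Coalgebra.Repr K a ι) :
    rTr g a = ∑ i ∈ r.index, g (r.right i) • r.left i := by
  change (Algebra.TensorProduct.rid K K A) (Algebra.TensorProduct.map (AlgHom.id K A)
    g.ofConv (comul (R := K) a)) = _
  rw [← r.eq, map_sum, map_sum]
  refine Finset.sum_congr rfl fun i _ => ?_
  rw [Algebra.TensorProduct.map_tmul, AlgHom.id_apply, Algebra.TensorProduct.rid_tmul]

/-- Matrix coefficients of right translations are regular functions. -/
lemma exists_coeff_rTr (φ : Module.Dual K A) (a : A) :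
    ∃ b : A, ∀ g : Pt K A, φ (rTr g a) = g b := by
  refine ⟨∑ i ∈ (ℛ K a).index, φ ((ℛ K a).left i) • (ℛ K a).right i, fun g => ?_⟩
  rw [rTr_eq_sum_repr g (ℛ K a), map_sum]
  change _ = g.ofConv _
  rw [map_sum]
  refine Finset.sum_congr rfl fun i _ => ?_
  rw [map_smul, map_smul, smul_eq_mul, smul_eq_mul, mul_comm]

variable [IsAlgClosed K] [Algebra.FiniteType K A] [IsReduced A]

/-- Right translations are locally finite. -/
theorem exists_stable_submodule (a : A) : ∃ W : Submodule K A, FiniteDimensional K W ∧ a ∈ W ∧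
    ∀ g : Pt K A, ∀ w ∈ W, rTr g w ∈ W := by
  let W : Submodule K A := Submodule.span K (Set.range fun g : Pt K A => rTr g a)
  refine ⟨W, ?_, ?_, ?_⟩
  · have hle : W ≤ Submodule.span K ((ℛ K a).left '' ((ℛ K a).index : Set _)) := by
      rw [Submodule.span_le]
      rintro _ ⟨g, rfl⟩
      change rTr g a ∈ _
      rw [rTr_eq_sum_repr g (ℛ K a)]
      exact Submodule.sum_mem _ fun i hi => Submodule.smul_mem _ _
        (Submodule.subset_span ⟨i, hi, rfl⟩)
    have : FiniteDimensional K (Submodule.span K ((ℛ K a).left '' ((ℛ K a).index : Set _))) :=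
      FiniteDimensional.span_of_finite K ((ℛ K a).index.finite_toSet.image _)
    exact Submodule.finiteDimensional_of_le hle
  · exact Submodule.subset_span ⟨1, rTr_one a⟩
  · intro g w hw
    induction hw using Submodule.span_induction with
    | mem x hx =>
      obtain ⟨h, rfl⟩ := hx
      exact Submodule.subset_span ⟨g * h, rTr_mul g h a⟩
    | zero => rw [map_zero]; exact zero_mem _
    | add x y _ _ hx hy => rw [map_add]; exact add_mem hx hy
    | smul c x _ hx => rw [map_smul]; exact Submodule.smul_mem _ _ hx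

variable (K A) in
/-- There is a finite-dimensional space of functions, stable under right translations, which
generates the function algebra. -/
theorem exists_generating_stable : ∃ W : Submodule K A, FiniteDimensional K W ∧
    (∀ g : Pt K A, ∀ w ∈ W, rTr g w ∈ W) ∧ Algebra.adjoin K (W : Set A) = ⊤ := by
  obtain ⟨s, hs⟩ := (inferInstance : Algebra.FiniteType K A).out
  choose W hW ha hst using exists_stable_submodule (K := K) (A := A)
  refine ⟨⨆ a : s, W a, inferInstance, ?_, ?_⟩
  · intro g w hw
    have : (⨆ a : s, W a) ≤ (⨆ a : s, W a).comap (rTr g).toLinearMap := by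
      apply iSup_le
      intro a x hx
      exact (le_iSup (fun a : s => W a) a) (hst a g x hx)
    exact this hw
  · rw [eq_top_iff, ← hs]
    apply Algebra.adjoin_mono
    intro a has
    exact (le_iSup (fun a : s => W a) ⟨a, has⟩) (ha a)

/-- The representation of the group of points on a stable space of functions. -/
noncomputable def subRTr (W : Submodule K A) (hW : ∀ g : Pt K A, ∀ w ∈ W, rTr g w ∈ W) :
    Representation K (Pt K A) W where
  toFun g := (rTr g).toLinearMap.restrict (hW g)
  map_one' := by ext w; exact rTr_one (w : A)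
  map_mul' g h := by ext w; exact rTr_mul g h (w : A)

lemma subRTr_apply {W : Submodule K A} (hW : ∀ g : Pt K A, ∀ w ∈ W, rTr g w ∈ W) (g : Pt K A)
    (w : W) : ((subRTr W hW g w : W) : A) = rTr g w := rfl

omit [IsAlgClosed K] [Algebra.FiniteType K A] [IsReduced A] in
lemma pt_ext_of_rTr {g h : Pt K A} (H : ∀ a, rTr g a = rTr h a) : g = h := by
  apply Pt.ext'
  intro a
  have h1 := rTr_apply_pt g 1 a
  have h2 := rTr_apply_pt h 1 a
  rw [one_mul] at h1 h2
  rw [← h1, ← h2, H]

lemma subRTr_injective {W : Submodule K A} (hW : ∀ g : Pt K A, ∀ w ∈ W, rTr g w ∈ W)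
    (hgen : Algebra.adjoin K (W : Set A) = ⊤) : Function.Injective (subRTr W hW) := by
  intro g h hgh
  apply pt_ext_of_rTr
  have : (rTr g : A →ₐ[K] A) = rTr h := by
    apply AlgHom.ext_of_adjoin_eq_top hgen
    intro w hw
    have := congrArg (fun f : Module.End K W => ((f ⟨w, hw⟩ : W) : A)) hgh
    exact this
  intro a
  rw [this]

lemma isAlg_subRTr {W : Submodule K A} (hW : ∀ g : Pt K A, ∀ w ∈ W, rTr g w ∈ W) :
    IsAlg (subRTr W hW) := by
  intro f v
  obtain ⟨φ, hφ⟩ := LinearMap.exists_extend f
  obtain ⟨b, hb⟩ := exists_coeff_rTr φ (v : A)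
  refine ⟨b, fun g => ?_⟩
  rw [← hb, ← hφ]
  rfl

lemma isNilpotent_subRTr {W : Submodule K A} [FiniteDimensional K W]
    (hW : ∀ g : Pt K A, ∀ w ∈ W, rTr g w ∈ W) {g : Pt K A} (hg : IsUnip g) :
    IsNilpotent (subRTr W hW g - 1) := by
  rw [Module.End.isNilpotent_iff_of_finite]
  intro w
  obtain ⟨n, hn⟩ := hg w
  refine ⟨n, ?_⟩
  have h2 : ∀ (j : ℕ) (w : W), ((((subRTr W hW g - 1) ^ j) w : W) : A) =
      (((rTr g).toLinearMap - 1) ^ j) (w : A) := by
    intro j
    induction j with
    | zero => intro w; simp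
    | succ j ih =>
      intro w
      rw [pow_succ, Module.End.mul_apply, pow_succ, Module.End.mul_apply, ih]
      rfl
  exact Subtype.ext (by rw [h2, hn]; rfl)

end Groth.Agent.Sga3B.RG
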