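import Groth.Agent.Sga3B.RG.ConnAct
import Mathlib.RepresentationTheory.Basic
import Mathlib.LinearAlgebra.Basis.VectorSpace
import Mathlib.LinearAlgebra.Dual.Lemmas

/-!
# Algebraic representations of groups of points

Sub, quotient, dual, tensor product, restriction of algebraic representations; the regular
representation is algebraic and locally finite; faithful finite-dimensional representations.
-/

set_option autoImplicit false

universe u w w'

open WithConv TensorProduct Coalgebra Pointwise

namespace Groth.Agent.Sga3B.RG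

variable {K : Type u} [Field K] {A : Type u} [CommRing A] [HopfAlgebra K A]
variable {B : Type u} [CommRing B] [HopfAlgebra K B]
variable {V : Type w} [AddCommGroup V] [Module K V] {W : Type w'} [AddCommGroup W] [Module K W]

section Pt

lemma Pt.apply_add (g : Pt K A) (a b : A) : g (a + b) = g a + g b := map_add g.ofConv a b
lemma Pt.apply_sub (g : Pt K A) (a b : A) : g (a - b) = g a - g b := map_sub g.ofConv a b
lemma Pt.apply_mul (g : Pt K A) (a b : A) : g (a * b) = g a * g b := map_mul g.ofConv a b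
lemma Pt.apply_zero (g : Pt K A) : g (0 : A) = 0 := map_zero g.ofConv
lemma Pt.apply_one (g : Pt K A) : g (1 : A) = 1 := map_one g.ofConv
lemma Pt.apply_smul (g : Pt K A) (c : K) (a : A) : g (c • a) = c * g a := by
  simp
lemma Pt.apply_algebraMap (g : Pt K A) (c : K) : g (algebraMap K A c) = c := g.ofConv.commutes c
lemma Pt.apply_sum {ι : Type*} (g : Pt K A) (s : Finset ι) (f : ι → A) :
    g (∑ i ∈ s, f i) = ∑ i ∈ s, g (f i) := map_sum g.ofConv f s

end Pt

section Constructions

/-- Functions on the group of points given by an element of `A`. -/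
def IsFun (f : Pt K A → K) : Prop := ∃ a : A, ∀ g, f g = g a

lemma IsFun.add {f f' : Pt K A → K} (hf : IsFun f) (hf' : IsFun f') : IsFun (fun g => f g + f' g) := by
  obtain ⟨a, ha⟩ := hf
  obtain ⟨b, hb⟩ := hf'
  exact ⟨a + b, fun g => by rw [Pt.apply_add, ← ha, ← hb]⟩

lemma IsFun.mul {f f' : Pt K A → K} (hf : IsFun f) (hf' : IsFun f') : IsFun (fun g => f g * f' g) := by
  obtain ⟨a, ha⟩ := hf
  obtain ⟨b, hb⟩ := hf'
  exact ⟨a * b, fun g => by rw [Pt.apply_mul, ← ha, ← hb]⟩

lemma isFun_const (c : K) : IsFun (fun _ : Pt K A => c) :=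
  ⟨algebraMap K A c, fun g => by rw [Pt.apply_algebraMap]⟩

lemma isFun_apply (a : A) : IsFun (fun g : Pt K A => g a) := ⟨a, fun _ => rfl⟩

lemma IsFun.const_mul {f : Pt K A → K} (c : K) (hf : IsFun f) : IsFun (fun g => c * f g) :=
  (isFun_const c).mul hf

lemma IsFun.sum {ι : Type*} (s : Finset ι) {f : ι → Pt K A → K} (hf : ∀ i ∈ s, IsFun (f i)) :
    IsFun (fun g => ∑ i ∈ s, f i g) := by
  classical
  induction s using Finset.induction_on with
  | empty => simpa using isFun_const (0 : K)
  | insert i s hi ih =>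
    have : (fun g => ∑ j ∈ insert i s, f j g) = fun g => f i g + ∑ j ∈ s, f j g := by
      funext g; rw [Finset.sum_insert hi]
    rw [this]
    exact (hf i (Finset.mem_insert_self _ _)).add (ih fun j hj => hf j (Finset.mem_insert_of_mem hj))

lemma IsFun.sub {f f' : Pt K A → K} (hf : IsFun f) (hf' : IsFun f') : IsFun (fun g => f g - f' g) := by
  have := hf.add (hf'.const_mul (-1))
  simpa [sub_eq_add_neg] using this

lemma IsFun.comp_reg {f : Pt K B → K} (hf : IsFun f) {φ : Pt K A → Pt K B} (hφ : IsReg φ) :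
    IsFun (fun g => f (φ g)) := by
  obtain ⟨b, hb⟩ := hf
  obtain ⟨a, ha⟩ := hφ b
  exact ⟨a, fun g => by rw [← ha, ← hb]⟩

lemma IsFun.isCl_zero {f : Pt K A → K} (hf : IsFun f) : IsCl {g | f g = 0} := by
  obtain ⟨a, ha⟩ := hf
  have : {g | f g = 0} = {g : Pt K A | g a = 0} := by ext g; simp [ha]
  rw [this]
  exact isCl_setOf_apply_eq_zero a

lemma IsFun.isCl_eq {f f' : Pt K A → K} (hf : IsFun f) (hf' : IsFun f') : IsCl {g | f g = f' g} := by
  have := (hf.sub hf').isCl_zero
  simpa [sub_eq_zero] using this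

/-- Two functions which agree on a set agree on its closure. -/
lemma IsFun.eq_on_closure {f f' : Pt K A → K} (hf : IsFun f) (hf' : IsFun f') {X : Set (Pt K A)}
    (h : ∀ x ∈ X, f x = f' x) : ∀ x ∈ zeros (vanIdeal X), f x = f' x := by
  intro x hx
  exact (hf.isCl_eq hf') (zeros_anti (vanIdeal_anti (fun y hy => h y hy)) hx)

lemma IsAlg.isFun {ρ : Representation K (Pt K A) V} (h : IsAlg ρ) (f : Module.Dual K V) (v : V) :
    IsFun (fun g => f (ρ g v)) := h f v

/-- A representation embedding equivariantly in an algebraic one is algebraic. -/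
lemma IsAlg.of_injective {ρ : Representation K (Pt K A) V} (h : IsAlg ρ)
    {σ : Representation K (Pt K A) W} (φ : W →ₗ[K] V) (hφ : Function.Injective φ)
    (he : ∀ g w, φ (σ g w) = ρ g (φ w)) : IsAlg σ := by
  intro f w
  obtain ⟨ψ, hψ⟩ := φ.exists_leftInverse_of_injective (LinearMap.ker_eq_bot.2 hφ)
  obtain ⟨a, ha⟩ := h (f ∘ₗ ψ) (φ w)
  refine ⟨a, fun g => ?_⟩
  rw [← ha g, ← he, LinearMap.comp_apply]
  congr 1
  exact (LinearMap.congr_fun hψ _).symm

/-- An equivariant quotient of an algebraic representation is algebraic. -/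
lemma IsAlg.of_surjective {ρ : Representation K (Pt K A) V} (h : IsAlg ρ)
    {σ : Representation K (Pt K A) W} (φ : V →ₗ[K] W) (hφ : Function.Surjective φ)
    (he : ∀ g v, φ (ρ g v) = σ g (φ v)) : IsAlg σ := by
  intro f w
  obtain ⟨v, rfl⟩ := hφ w
  obtain ⟨a, ha⟩ := h (f ∘ₗ φ) v
  exact ⟨a, fun g => by rw [← ha g, ← he]; rfl⟩

lemma IsAlg.subrepresentation {ρ : Representation K (Pt K A) V} (h : IsAlg ρ) (U : Submodule K V)
    (hU : ∀ g, U ≤ U.comap (ρ g)) : IsAlg (ρ.subrepresentation U hU) :=
  h.of_injective U.subtype U.injective_subtype fun _ _ => rfl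

lemma IsAlg.quotient {ρ : Representation K (Pt K A) V} (h : IsAlg ρ) (U : Submodule K V)
    (hU : ∀ g, U ≤ U.comap (ρ g)) : IsAlg (ρ.quotient U hU) :=
  h.of_surjective U.mkQ U.mkQ_surjective fun _ _ => rfl

lemma IsAlg.dual [FiniteDimensional K V] {ρ : Representation K (Pt K A) V} (h : IsAlg ρ) :
    IsAlg ρ.dual := by
  intro F f
  obtain ⟨v, rfl⟩ := (Module.evalEquiv K V).surjective F
  obtain ⟨a, ha⟩ := (h.isFun f v).comp_reg isReg_inv
  refine ⟨a, fun g => ?_⟩
  rw [← ha g]
  rfl

lemma IsAlg.prod {ρ : Representation K (Pt K A) V} (h : IsAlg ρ)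
    {σ : Representation K (Pt K A) W} (h' : IsAlg σ) : IsAlg (ρ.prod σ) := by
  rintro f ⟨v, w⟩
  have h1 := (h.isFun (f ∘ₗ LinearMap.inl K V W) v).add (h'.isFun (f ∘ₗ LinearMap.inr K V W) w)
  obtain ⟨a, ha⟩ := h1
  refine ⟨a, fun g => ?_⟩
  rw [← ha g]
  simp only [LinearMap.comp_apply, LinearMap.inl_apply, LinearMap.inr_apply, ← map_add]
  congr 1
  simp [Representation.prod]

lemma isAlg_finite_pi {ι : Type*} [Finite ι] {ρ : Representation K (Pt K A) V} (h : IsAlg ρ)
    {σ : Representation K (Pt K A) (ι → V)} (hσ : ∀ g v i, σ g v i = ρ g (v i)) : IsAlg σ := by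
  classical
  have := Fintype.ofFinite ι
  intro f v
  have h1 := IsFun.sum Finset.univ fun i (_ : i ∈ Finset.univ) =>
    h.isFun (f ∘ₗ LinearMap.single K (fun _ => V) i) (v i)
  obtain ⟨a, ha⟩ := h1
  refine ⟨a, fun g => ?_⟩
  rw [← ha g]
  simp only [LinearMap.comp_apply, ← hσ, ← map_sum]
  congr 1
  exact (LinearMap.sum_single_apply _ _).symm

lemma IsAlg.tprod [FiniteDimensional K V] [FiniteDimensional K W]
    {ρ : Representation K (Pt K A) V} (h : IsAlg ρ)
    {σ : Representation K (Pt K A) W} (h' : IsAlg σ) : IsAlg (ρ.tprod σ) := by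
  intro f x
  induction x with
  | zero => exact ⟨0, fun g => by rw [map_zero, map_zero, Pt.apply_zero]⟩
  | add x y hx hy =>
    obtain ⟨a, ha⟩ := IsFun.add (A := A) hx hy
    exact ⟨a, fun g => by rw [← ha g, map_add, map_add]⟩
  | tmul v w =>
    let b := Module.finBasis K V
    let c := Module.finBasis K W
    have h1 := IsFun.sum Finset.univ fun i (_ : i ∈ Finset.univ) =>
      IsFun.sum Finset.univ fun j (_ : j ∈ Finset.univ) =>
        ((h.isFun (b.coord i) v).mul (h'.isFun (c.coord j) w)).const_mul (f (b i ⊗ₜ c j))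
    obtain ⟨a, ha⟩ := h1
    refine ⟨a, fun g => ?_⟩
    rw [← ha g]
    have h2 : (ρ.tprod σ) g (v ⊗ₜ w) = ∑ i, ∑ j, (b.coord i (ρ g v) * c.coord j (σ g w)) •
        (b i ⊗ₜ[K] c j) := by
      conv_lhs => rw [Representation.tprod_apply, TensorProduct.map_tmul, ← b.sum_repr (ρ g v),
        ← c.sum_repr (σ g w)]
      rw [TensorProduct.sum_tmul]
      refine Finset.sum_congr rfl fun i _ => ?_
      rw [TensorProduct.tmul_sum]
      refine Finset.sum_congr rfl fun j _ => ?_
      rw [TensorProduct.smul_tmul_smul]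
      rfl
    rw [h2, map_sum]
    refine Finset.sum_congr rfl fun i _ => ?_
    rw [map_sum]
    refine Finset.sum_congr rfl fun j _ => ?_
    rw [map_smul, smul_eq_mul, mul_comm]

/-- Restriction along a morphism. -/
lemma IsAlg.comp_map {ρ : Representation K (Pt K A) V} (h : IsAlg ρ) (φ : A →ₐc[K] B) :
    IsAlg (ρ.comp (Pt.map φ) : Representation K (Pt K B) V) := by
  intro f v
  obtain ⟨a, ha⟩ := h f v
  exact ⟨φ a, fun g => ha _⟩

end Constructions

section Stab

variable {ρ : Representation K (Pt K A) V}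

/-- The set of points moving `v` into a subspace is closed. -/
lemma IsAlg.isCl_mem (h : IsAlg ρ) (v : V) (U : Submodule K V) : IsCl {g | ρ g v ∈ U} := by
  have : {g | ρ g v ∈ U} = ⋂ f : U.dualAnnihilator, {g | (f : Module.Dual K V) (ρ g v) = 0} := by
    ext g
    simp only [Set.mem_ofPred_eq, Set.mem_iInter]
    constructor
    · intro hg f
      exact (Submodule.mem_dualAnnihilator _).1 f.2 _ hg
    · intro hg
      by_contra hne
      obtain ⟨f, hf0, hf⟩ := Submodule.exists_le_ker_of_notMem hne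
      exact hf0 (hg ⟨f, (Submodule.mem_dualAnnihilator _).2 fun w hw => hf hw⟩)
  rw [this]
  exact isCl_iInter fun f => (h.isFun _ _).isCl_zero

lemma IsAlg.isCl_transporter (h : IsAlg ρ) (U U' : Submodule K V) :
    IsCl {g | ∀ u ∈ U, ρ g u ∈ U'} := by
  have : {g | ∀ u ∈ U, ρ g u ∈ U'} = ⋂ u : U, {g | ρ g u ∈ U'} := by ext g; simp
  rw [this]
  exact isCl_iInter fun u => h.isCl_mem _ _

lemma IsAlg.isCl_eq (h : IsAlg ρ) (v v' : V) : IsCl {g | ρ g v = v'} := by
  have : {g | ρ g v = v'} = ⋂ f : Module.Dual K V, {g | f (ρ g v) = f v'} := by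
    ext g
    simp only [Set.mem_ofPred_eq, Set.mem_iInter]
    refine ⟨fun h f => by rw [h], fun h => ?_⟩
    rw [← sub_eq_zero, ← Module.forall_dual_apply_eq_zero_iff K]
    intro f
    rw [map_sub, h f, sub_self]
  rw [this]
  exact isCl_iInter fun f => (h.isFun _ _).isCl_eq (isFun_const _)

/-- The kernel of an algebraic representation is closed. -/
lemma IsAlg.isCl_ker (h : IsAlg ρ) : IsCl {g | ρ g = 1} := by
  have : {g | ρ g = 1} = ⋂ v : V, {g | ρ g v = v} := by
    ext g
    simp only [Set.mem_ofPred_eq, Set.mem_iInter]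
    exact ⟨fun h v => by rw [h]; rfl, fun h => LinearMap.ext h⟩
  rw [this]
  exact isCl_iInter fun v => h.isCl_eq _ _

/-- A connected set of points whose translates of a vector are finitely many fixes the vector. -/
lemma IsAlg.fix_of_finite (h : IsAlg ρ) {X : Set (Pt K A)} (hX : IsConn X) (h1 : (1 : Pt K A) ∈ X)
    (v : V) (hfin : ((fun g => ρ g v) '' X).Finite) : ∀ g ∈ X, ρ g v = v := by
  intro g hg
  have := hX.const_of_finite_image' (fun g => ρ g v) hfin (fun q => h.isCl_eq v q) hg h1
  simpa using this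

/-- A connected set of points with finitely many translates of a subspace stabilizes it. -/
lemma IsAlg.stab_of_finite (h : IsAlg ρ) {X : Set (Pt K A)} (hX : IsConn X)
    (h1 : (1 : Pt K A) ∈ X) (U : Submodule K V) [FiniteDimensional K U]
    (hfin : ((fun g => U.map (ρ g)) '' X).Finite) : ∀ g ∈ X, U.map (ρ g) = U := by
  intro g hg
  have := hX.const_of_finite_image (fun g => U.map (ρ g)) hfin (fun x _ => by
    refine ⟨_, h.isCl_transporter U (U.map (ρ x)), fun y _ hy u hu => ?_, fun y _ hy => ?_⟩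
    · rw [← hy]; exact Submodule.mem_map_of_mem hu
    · have h2 : U.map (ρ y) ≤ U.map (ρ x) := by
        rintro _ ⟨u, hu, rfl⟩
        exact hy u hu
      refine Submodule.eq_of_le_of_finrank_eq h2 ?_
      have h3 : ∀ g : Pt K A, Module.finrank K (U.map (ρ g)) = Module.finrank K U := fun g =>
        (LinearEquiv.ofBijective (ρ g) (ρ.apply_bijective g)).finrank_map_eq U
      rw [h3, h3]) hg h1
  simp only [map_one] at this
  rw [this]
  exact Submodule.map_id U

end Stab

section Regular

variable [IsAlgClosed K] [Algebra.FiniteType K A] [IsReduced A]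

variable (K A) in
theorem isAlg_rTrRep : IsAlg (rTrRep K A) := by
  intro f a
  let r := Coalgebra.Repr.arbitrary K a
  refine ⟨∑ i ∈ r.index, f (r.left i) • r.right i, fun g => ?_⟩
  rw [Pt.apply_sum]
  have h1 : rTrRep K A g a = ∑ i ∈ r.index, g (r.right i) • r.left i := by
    change rTr g a = _
    rw [rTr, AlgHom.comp_apply, Bialgebra.comulAlgHom_apply, ← r.eq]
    simp [map_sum]
  rw [h1, map_sum]
  refine Finset.sum_congr rfl fun i _ => ?_
  rw [map_smul, smul_eq_mul, Pt.apply_smul, mul_comm]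

variable (K A) in
theorem isAlg_lTrRep : IsAlg (lTrRep K A) := by
  intro f a
  let r := Coalgebra.Repr.arbitrary K a
  refine ⟨∑ i ∈ r.index, f (r.right i) • HopfAlgebra.antipode K (r.left i), fun g => ?_⟩
  rw [Pt.apply_sum]
  have h1 : lTrRep K A g a = ∑ i ∈ r.index, g⁻¹ (r.left i) • r.right i := by
    change lTr g a = _
    rw [lTr, AlgHom.comp_apply, Bialgebra.comulAlgHom_apply, ← r.eq]
    simp [map_sum]
  rw [h1, map_sum]
  refine Finset.sum_congr rfl fun i _ => ?_
  rw [map_smul, smul_eq_mul, Pt.apply_smul, mul_comm, Pt.inv_apply]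

lemma rTrRep_apply (g : Pt K A) (a : A) : rTrRep K A g a = rTr g a := rfl

lemma lTrRep_apply (g : Pt K A) (a : A) : lTrRep K A g a = lTr g a := rfl

/-- Every finite-dimensional subspace of `A` is contained in a finite-dimensional subspace stable
under right and left translations. -/
theorem exists_stable (S : Submodule K A) [FiniteDimensional K S] :
    ∃ U : Submodule K A, FiniteDimensional K U ∧ S ≤ U ∧
      (∀ (g : Pt K A), U ≤ U.comap (rTrRep K A g)) ∧ (∀ (g : Pt K A), U ≤ U.comap (lTrRep K A g)) := by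
  -- one-sided statement
  have key : ∀ (ρ : Representation K (Pt K A) A) (S : Submodule K A) [FiniteDimensional K S],
      (∀ a : A, ∃ F : Submodule K A, FiniteDimensional K F ∧ ∀ g, ρ g a ∈ F) →
      FiniteDimensional K (⨆ g, S.map (ρ g) : Submodule K A) := by
    intro ρ S _ h
    obtain ⟨s, hs⟩ := (Module.Finite.iff_fg (N := S)).1 inferInstance
    choose F hF1 hF2 using h
    have h1 : (⨆ g, S.map (ρ g) : Submodule K A) ≤ ⨆ a : s, F a := by
      refine iSup_le fun g => ?_
      rw [← hs, Submodule.map_span_le]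
      intro a ha
      exact (le_iSup (fun a : s => F a) ⟨a, ha⟩) (hF2 a g)
    have h2 : FiniteDimensional K (⨆ a : s, F a : Submodule K A) := by
      have : ∀ a : s, FiniteDimensional K (F a) := fun a => hF1 a
      infer_instance
    exact Submodule.finiteDimensional_of_le h1
  have hr : ∀ a : A, ∃ F : Submodule K A, FiniteDimensional K F ∧ ∀ g, rTrRep K A g a ∈ F := by
    intro a
    let r := Coalgebra.Repr.arbitrary K a
    refine ⟨Submodule.span K (r.left '' (r.index : Set _)),
      FiniteDimensional.span_of_finite K (r.index.finite_toSet.image _), fun g => ?_⟩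
    have h1 : rTrRep K A g a = ∑ i ∈ r.index, g (r.right i) • r.left i := by
      change rTr g a = _
      rw [rTr, AlgHom.comp_apply, Bialgebra.comulAlgHom_apply, ← r.eq]
      simp [map_sum]
    rw [h1]
    exact Submodule.sum_mem _ fun i hi => Submodule.smul_mem _ _ (Submodule.subset_span ⟨i, hi, rfl⟩)
  have hl : ∀ a : A, ∃ F : Submodule K A, FiniteDimensional K F ∧ ∀ g, lTrRep K A g a ∈ F := by
    intro a
    let r := Coalgebra.Repr.arbitrary K a
    refine ⟨Submodule.span K (r.right '' (r.index : Set _)),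
      FiniteDimensional.span_of_finite K (r.index.finite_toSet.image _), fun g => ?_⟩
    have h1 : lTrRep K A g a = ∑ i ∈ r.index, g⁻¹ (r.left i) • r.right i := by
      change lTr g a = _
      rw [lTr, AlgHom.comp_apply, Bialgebra.comulAlgHom_apply, ← r.eq]
      simp [map_sum]
    rw [h1]
    exact Submodule.sum_mem _ fun i hi => Submodule.smul_mem _ _ (Submodule.subset_span ⟨i, hi, rfl⟩)
  have hU1 := key (rTrRep K A) S hr
  set U1 : Submodule K A := ⨆ g, S.map (rTrRep K A g) with hU1def
  have hU2 := key (lTrRep K A) U1 hl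
  set U2 : Submodule K A := ⨆ g, U1.map (lTrRep K A g) with hU2def
  have hSU1 : S ≤ U1 := by
    refine le_trans ?_ (le_iSup (fun g => S.map (rTrRep K A g)) 1)
    rw [map_one]
    exact fun x hx => ⟨x, hx, rfl⟩
  have hU12 : U1 ≤ U2 := by
    refine le_trans ?_ (le_iSup (fun g => U1.map (lTrRep K A g)) 1)
    rw [map_one]
    exact fun x hx => ⟨x, hx, rfl⟩
  have h1 : ∀ g, U1.map (rTrRep K A g) ≤ U1 := by
    intro g
    rw [hU1def, Submodule.map_iSup]
    refine iSup_le fun h => ?_
    refine le_trans ?_ (le_iSup (fun g => S.map (rTrRep K A g)) (g * h))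
    rw [← Submodule.map_comp, ← Module.End.mul_eq_comp, ← map_mul]
  refine ⟨U2, hU2, hSU1.trans hU12, fun g => ?_, fun g => ?_⟩
  · rw [← Submodule.map_le_iff_le_comap]
    conv_lhs => rw [hU2def]
    rw [Submodule.map_iSup]
    refine iSup_le fun h => ?_
    refine le_trans ?_ (le_iSup (fun g => U1.map (lTrRep K A g)) h)
    rw [← Submodule.map_comp]
    rintro _ ⟨x, hx, rfl⟩
    refine ⟨rTrRep K A g x, h1 g ⟨x, hx, rfl⟩, ?_⟩
    change lTr h (rTr g x) = rTr g (lTr h x)
    rw [rTr_lTr]
  · rw [← Submodule.map_le_iff_le_comap]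
    conv_lhs => rw [hU2def]
    rw [Submodule.map_iSup]
    refine iSup_le fun h => ?_
    refine le_trans ?_ (le_iSup (fun g => U1.map (lTrRep K A g)) (g * h))
    rw [← Submodule.map_comp, ← Module.End.mul_eq_comp, ← map_mul]

/-- A finite-dimensional bistable subspace generating the algebra of functions. -/
theorem exists_stable_generating :
    ∃ U : Submodule K A, FiniteDimensional K U ∧ Algebra.adjoin K (U : Set A) = ⊤ ∧
      (∀ (g : Pt K A), U ≤ U.comap (rTrRep K A g)) ∧ (∀ (g : Pt K A), U ≤ U.comap (lTrRep K A g)) := by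
  obtain ⟨s, hs⟩ := (Algebra.FiniteType.out : (⊤ : Subalgebra K A).FG)
  obtain ⟨U, hU1, hU2, hU3, hU4⟩ := exists_stable (K := K) (Submodule.span K (s : Set A))
  refine ⟨U, hU1, ?_, hU3, hU4⟩
  rw [eq_top_iff, ← hs]
  exact Algebra.adjoin_mono (Submodule.subset_span.trans hU2)

omit [IsAlgClosed K] [Algebra.FiniteType K A] [IsReduced A] in
/-- A point acting trivially by right translation on a generating set is trivial. -/
lemma eq_one_of_rTr_eq {S : Set A} (hS : Algebra.adjoin K S = ⊤) {g : Pt K A}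
    (h : ∀ a ∈ S, rTr g a = a) : g = 1 := by
  refine Pt.ext' fun a => ?_
  have h1 : g.ofConv = (1 : Pt K A).ofConv := by
    refine AlgHom.ext_of_adjoin_eq_top hS fun a ha => ?_
    change g a = (1 : Pt K A) a
    have h2 := rTr_apply_pt g 1 a
    rw [h a ha, one_mul] at h2
    exact h2.symm
  exact DFunLike.congr_fun h1 a

/-- Faithful finite-dimensional algebraic representations exist. -/
theorem exists_faithful (K : Type u) [Field K] (A : Type u) [CommRing A] [HopfAlgebra K A]
    [IsAlgClosed K] [Algebra.FiniteType K A] [IsReduced A] :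
    ∃ (V : Type u) (_ : AddCommGroup V) (_ : Module K V) (_ : FiniteDimensional K V)
      (ρ : Representation K (Pt K A) V), IsAlg ρ ∧ Function.Injective ρ := by
  obtain ⟨U, hU1, hU2, hU3, -⟩ := exists_stable_generating (K := K) (A := A)
  refine ⟨U, inferInstance, inferInstance, hU1, (rTrRep K A).subrepresentation U hU3,
    (isAlg_rTrRep K A).subrepresentation U hU3, ?_⟩
  rw [injective_iff_map_eq_one]
  intro g hg
  refine eq_one_of_rTr_eq hU2 fun a ha => ?_
  have := LinearMap.congr_fun hg ⟨a, ha⟩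
  exact congrArg Subtype.val this

end Regular

end Groth.Agent.Sga3B.RG
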