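import Groth.Agent.Sga3B.RG.SimpleSub
import Groth.Agent.Sga3B.RG.Closed2

/-!
# Groups with a central torus modulo which everything is unipotent

`B` a f.g. Hopf domain over the algebraically closed field `K`, `π : B →ₐc K[G]` a central torus,
such that every point is the product of a point of the torus and a unipotent point, and such that
all simple algebraic representations are one-dimensional.  Then the set of unipotent points is a
closed connected subgroup `U` and `Pt K B = T · U` (`exists_unipotent_subgroup`).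
-/

set_option autoImplicit false

universe u w

open WithConv TensorProduct Coalgebra

namespace Groth.Agent.Sga3B.RG.K8

variable {K : Type u} [Field K] [IsAlgClosed K] {B : Type u} [CommRing B] [HopfAlgebra K B]
  [Algebra.FiniteType K B]

/-- A character of the group extending a given character of a central torus. -/
theorem exists_char [IsReduced B] {n : ℕ}
    (π : B →ₐc[K] MonoidAlgebra K (Multiplicative (Fin n → ℤ)))
    (hπ : Function.Surjective π) (hc : (Pt.map π).range ≤ Subgroup.center (Pt K B))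
    (hone : ∀ (V : Type u) [AddCommGroup V] [Module K V] [FiniteDimensional K V]
      (ρ : Representation K (Pt K B) V), IsAlg ρ → IsSimpleRep ρ → Module.finrank K V = 1)
    (m : Multiplicative (Fin n → ℤ)) :
    ∃ b : B, (∀ g h : Pt K B, (g * h) b = g b * h b) ∧ (1 : Pt K B) b = 1 ∧
      ∀ t, (Pt.map π (torPt _ t)) b = (t m : K) := by
  classical
  obtain ⟨b, hb⟩ := hπ (MonoidAlgebra.single m 1)
  obtain ⟨W, hfin, hW, hbW⟩ := exists_finite_stable (K := K) b
  let ρ : Representation K (Pt K B) W := (rTrRep K B).subrepresentation W hW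
  have hρ : IsAlg ρ := isAlg_sub isAlg_rTrRep W hW
  have hρv : ∀ g (w : W), ((ρ g w : W) : B) = rTr g (w : B) := fun g w => rfl
  obtain ⟨d⟩ := nonempty_torDec (torChar_injective n) π hρ
  -- evaluation at `1`
  have hev : ∀ g (w : W), (1 : Pt K B) ((ρ g w : W) : B) = g (w : B) := by
    intro g w
    rw [hρv, rTr_apply_pt, one_mul]
  let e : W →ₗ[K] K := (1 : Pt K B).ofConv.toLinearMap ∘ₗ W.subtype
  have he : ∀ t, ∑ m' ∈ d.S, e (d.P m' ⟨b, hbW⟩) * torChar K _ m' t = torChar K _ m t := by
    intro t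
    have h1 := congrArg e (d.sum_smul t ⟨b, hbW⟩)
    rw [map_sum] at h1
    have h2 : e (ρ (Pt.map π (torPt _ t)) ⟨b, hbW⟩) = torChar K _ m t := by
      refine (hev _ _).trans ?_
      rw [Pt.map_apply]
      change (torPt _ t : Pt K (MonoidAlgebra K _)) (π b) = _
      rw [hb, torPt_single, one_mul]
      rfl
    refine Eq.trans ?_ (h1.trans h2)
    refine Finset.sum_congr rfl fun m' _ => ?_
    rw [map_smul, smul_eq_mul, mul_comm]
  have hmP : d.P m ⟨b, hbW⟩ ≠ 0 := by
    intro h0
    have h1 := WtDec.coeff_eq_zero (torChar_injective (K := K) n) (insert m d.S)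
      (fun m' => e (d.P m' ⟨b, hbW⟩) - if m' = m then 1 else 0) (fun t => ?_) m
      (Finset.mem_insert_self _ _)
    · rw [h0, map_zero, if_pos rfl, zero_sub, neg_eq_zero] at h1
      exact one_ne_zero h1
    · simp_rw [sub_mul, Finset.sum_sub_distrib, ite_mul, one_mul, zero_mul]
      rw [Finset.sum_ite_eq' (insert m d.S) m, if_pos (Finset.mem_insert_self _ _), sub_eq_zero,
        ← he t]
      by_cases hm : m ∈ d.S
      · rw [Finset.insert_eq_of_mem hm]
      · rw [Finset.sum_insert hm, d.P_eq_zero m hm, LinearMap.zero_apply, map_zero, zero_mul,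
          zero_add]
  have hst : IsStable ρ (twt π ρ m) := by
    intro g w hw
    rw [mem_twt] at hw ⊢
    intro t
    have hcomm : Pt.map π (torPt _ t) * g = g * Pt.map π (torPt _ t) :=
      ((Subgroup.mem_center_iff.1 (hc ⟨torPt _ t, rfl⟩)) g).symm
    rw [← Module.End.mul_apply, ← map_mul, hcomm, map_mul, Module.End.mul_apply, hw t, map_smul]
  obtain ⟨v, hv, hv0, ψ, hψ⟩ := exists_eigen hρ hone hst (fun h => hmP (by
    have := d.P_mem (torChar_injective n) m ⟨b, hbW⟩
    change _ ∈ twt π ρ m at this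
    rw [h] at this
    exact (Submodule.mem_bot K).1 this))
  have hψ' : ∀ g : Pt K B, g (v : B) = ψ g * (1 : Pt K B) (v : B) := by
    intro g
    rw [← hev g v, hψ g]
    exact map_smul (1 : Pt K B).ofConv (ψ g) (v : B)
  have hv1 : (1 : Pt K B) (v : B) ≠ 0 := by
    intro h0
    apply hv0
    apply Subtype.ext
    apply eq_of_forall_pt (K := K)
    intro g
    rw [hψ' g, h0, mul_zero]
    exact (map_zero g.ofConv).symm
  have hval : ∀ g : Pt K B, g (((1 : Pt K B) (v : B))⁻¹ • (v : B)) = ψ g := by
    intro g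
    refine (map_smul g.ofConv _ _).trans ?_
    change _ • g (v : B) = _
    rw [hψ' g, smul_eq_mul, mul_comm (ψ g), ← mul_assoc, inv_mul_cancel₀ hv1, one_mul]
  refine ⟨((1 : Pt K B) (v : B))⁻¹ • (v : B), fun g h => ?_, ?_, fun t => ?_⟩
  · rw [hval, hval, hval]
    have h1 : ψ (g * h) • v = (ψ g * ψ h) • v := by
      rw [← hψ, map_mul, Module.End.mul_apply, hψ h, map_smul, hψ g, smul_smul, mul_comm]
    exact smul_left_injective K hv0 h1
  · rw [hval]
    have h1 : ψ 1 • v = (1 : K) • v := by rw [← hψ, map_one, one_smul]; rfl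
    exact smul_left_injective K hv0 h1
  · rw [hval]
    have h1 : ψ (Pt.map π (torPt _ t)) • v = (t m : K) • v := by rw [← hψ]; exact hv t
    exact smul_left_injective K hv0 h1

/-- Characters are trivial on unipotent points. -/
lemma char_eq_one_of_isUnip [IsReduced B] {b : B} (hb : ∀ g h : Pt K B, (g * h) b = g b * h b)
    (hb1 : (1 : Pt K B) b = 1) {u : Pt K B} (hu : IsUnip u) : u b = 1 := by
  have h1 : rTr u b = u b • b := by
    apply eq_of_forall_pt (K := K)
    intro x
    rw [rTr_apply_pt, hb]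
    refine Eq.trans ?_ (map_smul x.ofConv _ _).symm
    rw [smul_eq_mul, mul_comm]
  have h2 : ∀ k : ℕ, (((rTr u).toLinearMap - 1) ^ k) b = (u b - 1) ^ k • b := by
    intro k
    induction k with
    | zero => rw [pow_zero, pow_zero, one_smul]; rfl
    | succ k ih =>
      rw [pow_succ', Module.End.mul_apply, ih, map_smul, LinearMap.sub_apply]
      change _ • (rTr u b - b) = _
      rw [h1, pow_succ, mul_smul, sub_smul _ _ b, one_smul]
  obtain ⟨k, hk⟩ := hu b
  rw [h2] at hk
  have h3 : (1 : Pt K B) ((u b - 1) ^ k • b) = (u b - 1) ^ k := by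
    refine (map_smul (1 : Pt K B).ofConv _ _).trans ?_
    change _ • (1 : Pt K B) b = _
    rw [hb1, smul_eq_mul, mul_one]
  rw [hk] at h3
  have h4 : (u b - 1) ^ k = 0 := h3.symm.trans (map_zero (1 : Pt K B).ofConv)
  have h5 : k ≠ 0 := by
    rintro rfl
    rw [pow_zero] at h4
    exact one_ne_zero h4
  exact sub_eq_zero.1 ((pow_eq_zero_iff h5).1 h4)

/-- The unipotent points form a closed connected subgroup. -/
theorem exists_unipotent_subgroup [IsDomain B] {T : Subgroup (Pt K B)} (hT : IsTorusSub T)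
    (hc : T ≤ Subgroup.center (Pt K B))
    (hone : ∀ (V : Type u) [AddCommGroup V] [Module K V] [FiniteDimensional K V]
      (ρ : Representation K (Pt K B) V), IsAlg ρ → IsSimpleRep ρ → Module.finrank K V = 1)
    (hJ : ∀ g : Pt K B, ∃ s ∈ T, ∃ u : Pt K B, IsUnip u ∧ g = s * u) :
    ∃ U : Subgroup (Pt K B), IsCl (U : Set (Pt K B)) ∧ IsConn (U : Set (Pt K B)) ∧
      (∀ u, u ∈ U ↔ IsUnip u) ∧ U.Normal ∧ ∀ g, ∃ s ∈ T, ∃ u ∈ U, g = s * u := by
  classical
  obtain ⟨n, π, hπ, rfl⟩ := hT
  choose b hb hb1 hbt using exists_char π hπ hc hone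
  have hJ' : ∀ g : Pt K B, ∃ t, ∃ u : Pt K B, IsUnip u ∧ g = Pt.map π (torPt _ t) * u := by
    intro g
    obtain ⟨_, ⟨s, rfl⟩, u, hu, he⟩ := hJ g
    obtain ⟨t, rfl⟩ := (torPt (K := K) (Multiplicative (Fin n → ℤ))).surjective s
    exact ⟨t, u, hu, he⟩
  choose t u hu he using hJ'
  have ht : ∀ g m, g (b m) = (t g m : K) := by
    intro g m
    conv_lhs => rw [he g]
    rw [hb, hbt, char_eq_one_of_isUnip (hb m) (hb1 m) (hu g), mul_one]
  have htmul : ∀ g h, t (g * h) = t g * t h := by
    intro g h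
    refine MonoidHom.ext fun m => Units.ext ?_
    rw [← ht, hb, ht, ht]
    rfl
  let s : Pt K B →* Pt K B := MonoidHom.mk' (fun g => Pt.map π (torPt _ (t g))) (by
    intro g h
    rw [htmul, map_mul, map_mul])
  have hs : ∀ g, s g = Pt.map π (torPt _ (t g)) := fun g => rfl
  have hsreg : IsReg (fun g => s g) := by
    intro a
    refine ⟨(π a).coeff.sum fun m c => c • b m, fun g => ?_⟩
    change (torPt _ (t g) : Pt K (MonoidAlgebra K _)) (π a) = _
    refine (torPt_apply (t g) (π a)).trans ?_
    refine Eq.trans ?_ (map_finsuppSum g.ofConv _ _).symm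
    refine Finsupp.sum_congr fun m _ => ?_
    refine Eq.trans ?_ (map_smul g.ofConv _ _).symm
    change _ = _ • g (b m)
    rw [ht, torChar_apply, smul_eq_mul]
  have hker : ∀ g, g ∈ s.ker ↔ IsUnip g := by
    intro g
    constructor
    · intro h
      rw [MonoidHom.mem_ker, hs] at h
      have h1 := he g
      rw [h, one_mul] at h1
      rw [h1]
      exact hu g
    · intro h
      rw [MonoidHom.mem_ker, hs]
      have h1 : t g = 1 := by
        refine MonoidHom.ext fun m => Units.ext ?_
        rw [← ht, char_eq_one_of_isUnip (hb m) (hb1 m) h]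
        rfl
      rw [h1, map_one, map_one]
  refine ⟨s.ker, ?_, ?_, hker, inferInstance, fun g => ⟨s g, ⟨_, rfl⟩, (s g)⁻¹ * g, ?_, ?_⟩⟩
  · have : (s.ker : Set (Pt K B)) = (fun g => s g) ⁻¹' {1} := by
      ext g
      rfl
    rw [this]
    exact hsreg.isCl_preimage (isCl_singleton 1)
  · have h1 : IsConn (Set.univ : Set (Pt K B)) := isConn_univ
    have h2 := h1.image_reg (hsreg.inv.mul isReg_id)
    convert h2 using 1
    ext g
    constructor
    · intro h
      refine ⟨g, trivial, ?_⟩
      change (s g)⁻¹ * g = g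
      rw [MonoidHom.mem_ker.1 h, inv_one, one_mul]
    · rintro ⟨x, -, rfl⟩
      change (s x)⁻¹ * x ∈ s.ker
      rw [hker]
      have h3 : (s x)⁻¹ * x = u x := inv_mul_eq_iff_eq_mul.2 (he x)
      rw [h3]
      exact hu x
  · rw [hker]
    have h3 : (s g)⁻¹ * g = u g := inv_mul_eq_iff_eq_mul.2 (he g)
    rw [h3]
    exact hu g
  · rw [mul_inv_cancel_left]

end Groth.Agent.Sga3B.RG.K8
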