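import Groth.Agent.Sga3B.RG.BrDiag
import Groth.Agent.Sga3B.RG.Coch

/-!
# Bridge: tori over an algebraically closed field
-/

set_option autoImplicit false

universe u

open CategoryTheory MonoidalCategory CartesianMonoidalCategory MonObj GrpObj AlgebraicGeometry
open Groth.Agent.Books.AffBridge Groth.Agent.Books.AffBridge2
open TensorProduct Coalgebra

namespace Groth.Agent.Sga3B.RG.BrTorus

open BrPts BrDiag

noncomputable section

section image

/-! ### The image of a bialgebra map to a group algebra -/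

variable {K : Type u} [Field K] {A : Type u} [CommRing A] [HopfAlgebra K A]
  {Γ : Type} [CommGroup Γ]

/-- coefficient functional -/
def coeffL (m : Γ) : MonoidAlgebra K Γ →ₗ[K] K where
  toFun x := x.coeff m
  map_add' x y := by simp
  map_smul' c x := by simp

omit [CommGroup Γ] in
@[simp] lemma coeffL_apply (m : Γ) (x : MonoidAlgebra K Γ) : coeffL m x = x.coeff m := rfl

lemma coeffL_comul (m : Γ) (x : MonoidAlgebra K Γ) :
    (TensorProduct.lid K _) ((coeffL m).rTensor (MonoidAlgebra K Γ) (comul (R := K) x)) =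
      x.coeff m • MonoidAlgebra.single m (1 : K) := by
  classical
  induction x using MonoidAlgebra.induction_linear with
  | zero => simp
  | add f g hf hg =>
    rw [map_add, map_add, map_add, hf, hg, ← add_smul]
    simp
  | single n c =>
    rw [MonoidAlgebra.comul_single, CommSemiring.comul_apply, TensorProduct.map_tmul,
      LinearMap.rTensor_tmul, TensorProduct.lid_tmul]
    by_cases h : n = m
    · subst h
      simp
    · have h0 : (MonoidAlgebra.single n c).coeff m = 0 := by
        rw [MonoidAlgebra.coeff_single, Finsupp.single_eq_of_ne (Ne.symm h)]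
      have h1 : (MonoidAlgebra.single n c).coeff m = 0 := h0
      simp [h]

/-- The image of a bialgebra map to a group algebra contains the monomials occurring in its
elements. -/
lemma single_mem_range (φ : A →ₐc[K] MonoidAlgebra K Γ) (a : A) (m : Γ)
    (h : (φ a).coeff m ≠ 0) : ∃ b : A, φ b = MonoidAlgebra.single m (1 : K) := by
  classical
  have h1 : TensorProduct.map (φ : A →ₗ[K] MonoidAlgebra K Γ) (φ : A →ₗ[K] MonoidAlgebra K Γ)
      (comul (R := K) a) = comul (R := K) (φ a) := CoalgHomClass.map_comp_comul_apply φ a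
  have h2 := coeffL_comul m (φ a)
  rw [← h1] at h2
  have h3 : ∀ t : A ⊗[K] A, ∃ b : A, φ b = (TensorProduct.lid K _)
      ((coeffL m).rTensor (MonoidAlgebra K Γ) (TensorProduct.map (φ : A →ₗ[K] MonoidAlgebra K Γ)
        (φ : A →ₗ[K] MonoidAlgebra K Γ) t)) := by
    intro t
    induction t with
    | zero => exact ⟨0, by simp⟩
    | tmul x y =>
      refine ⟨(φ x).coeff m • y, ?_⟩
      rw [TensorProduct.map_tmul, LinearMap.rTensor_tmul, TensorProduct.lid_tmul, map_smul]
      rfl
    | add s t hs ht =>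
      obtain ⟨b, hb⟩ := hs
      obtain ⟨c, hc⟩ := ht
      exact ⟨b + c, by rw [map_add, hb, hc, ← map_add, ← map_add, ← map_add]⟩
  obtain ⟨b, hb⟩ := h3 (comul (R := K) a)
  refine ⟨((φ a).coeff m)⁻¹ • b, ?_⟩
  rw [map_smul, hb, h2, smul_smul, inv_mul_cancel₀ h, one_smul]

/-- The group of characters in the image. -/
def imgChar (φ : A →ₐc[K] MonoidAlgebra K Γ) : Subgroup Γ where
  carrier := {m | ∃ b : A, φ b = MonoidAlgebra.single m (1 : K)}
  mul_mem' := by
    rintro m n ⟨b, hb⟩ ⟨c, hc⟩
    exact ⟨b * c, by rw [map_mul, hb, hc, MonoidAlgebra.single_mul_single, _root_.one_mul]⟩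
  one_mem' := ⟨1, by rw [map_one]; rfl⟩
  inv_mem' := by
    rintro m ⟨b, hb⟩
    refine ⟨HopfAlgebra.antipode K b, ?_⟩
    have := antipode_bialgHom_apply φ b
    rw [← this, hb]
    simp

lemma mem_imgChar {φ : A →ₐc[K] MonoidAlgebra K Γ} {m : Γ} :
    m ∈ imgChar φ ↔ ∃ b : A, φ b = MonoidAlgebra.single m (1 : K) := Iff.rfl

lemma mem_imgChar_of_coeff (φ : A →ₐc[K] MonoidAlgebra K Γ) (a : A) (m : Γ)
    (h : (φ a).coeff m ≠ 0) : m ∈ imgChar φ := single_mem_range φ a m h

lemma surjective_of_imgChar (φ : A →ₐc[K] MonoidAlgebra K Γ) (h : imgChar φ = ⊤) :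
    Function.Surjective φ := by
  intro x
  induction x using MonoidAlgebra.induction_linear with
  | zero => exact ⟨0, map_zero φ⟩
  | add f g hf hg =>
    obtain ⟨b, hb⟩ := hf
    obtain ⟨c, hc⟩ := hg
    exact ⟨b + c, by rw [map_add, hb, hc]⟩
  | single m c =>
    obtain ⟨b, hb⟩ : m ∈ imgChar φ := by rw [h]; trivial
    refine ⟨c • b, ?_⟩
    rw [map_smul, hb]
    simp

/-- Two characters agreeing on `imgChar` give the same point. -/
lemma lift_comp_eq {B : Type u} [CommRing B] [Algebra K B] (φ : A →ₐc[K] MonoidAlgebra K Γ)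
    (χ χ' : Γ →* B) (h : ∀ m ∈ imgChar φ, χ m = χ' m) (a : A) :
    MonoidAlgebra.lift K B Γ χ (φ a) = MonoidAlgebra.lift K B Γ χ' (φ a) := by
  rw [MonoidAlgebra.lift_apply, MonoidAlgebra.lift_apply]
  refine Finset.sum_congr rfl fun m hm => ?_
  dsimp only
  rw [h m (mem_imgChar_of_coeff φ a m (Finsupp.mem_support_iff.1 hm))]

/-- A bialgebra map to a group algebra which is an epimorphism (of commutative algebras)
is surjective. -/
lemma surjective_of_mono (φ : A →ₐc[K] MonoidAlgebra K Γ)
    (h : Mono (specMap K (φ : A →ₐ[K] MonoidAlgebra K Γ))) : Function.Surjective φ := by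
  apply surjective_of_imgChar
  by_contra hne
  let B := MonoidAlgebra K (ULift.{u} (Γ ⧸ imgChar φ))
  let χ : Γ →* B := (MonoidAlgebra.of K _).comp
    ((MulEquiv.ulift.symm : (Γ ⧸ imgChar φ) ≃* _).toMonoidHom.comp (QuotientGroup.mk' (imgChar φ)))
  have h1 : (φ : A →ₐ[K] MonoidAlgebra K Γ) = (φ : A →ₐ[K] MonoidAlgebra K Γ) := rfl
  have h2 : specMap K (MonoidAlgebra.lift K B Γ χ) ≫ specMap K (φ : A →ₐ[K] MonoidAlgebra K Γ) =
      specMap K (MonoidAlgebra.lift K B Γ 1) ≫ specMap K (φ : A →ₐ[K] MonoidAlgebra K Γ) := by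
    rw [← specMap_comp, ← specMap_comp]
    congr 1
    refine AlgHom.ext fun a => ?_
    refine lift_comp_eq φ χ 1 (fun m hm => ?_) a
    have : (QuotientGroup.mk' (imgChar φ)) m = 1 := (QuotientGroup.eq_one_iff m).2 hm
    simp only [χ, MonoidHom.comp_apply, this, map_one, MonoidHom.one_apply]
  have h3 := specMap_injective K ((cancel_mono _).1 h2)
  apply hne
  rw [eq_top_iff]
  intro m _
  have h4 := congr($h3 (MonoidAlgebra.of K Γ m))
  rw [MonoidAlgebra.lift_of, MonoidAlgebra.lift_of, MonoidHom.one_apply] at h4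
  have h5 : (MulEquiv.ulift.symm (QuotientGroup.mk' (imgChar φ) m) :
      ULift.{u} (Γ ⧸ imgChar φ)) = 1 := by
    apply MonoidAlgebra.of_injective (R := K)
    exact h4
  have h6 : QuotientGroup.mk' (imgChar φ) m = 1 := by
    rw [MulEquiv.symm_apply_eq, map_one] at h5
    exact h5
  exact (QuotientGroup.eq_one_iff m).1 h6

end image

section split

variable {S : Scheme.{u}}

/-- Split tori are tori. -/
theorem isTorus_of_isSplitTorusWith {r : ℕ} {T : Over S} [GrpObj T]
    (h : Red.IsSplitTorusWith (Fin r → ℤ) T) : Red.IsTorus T := by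
  refine ⟨S, 𝟙 S, inferInstance, inferInstance, fun V hV => ⟨V, hV.isCompact, by simp⟩, fun s' =>
    ⟨⊤, trivial, r, TorusAlgClosed.isSplitTorusWith_bc _ h⟩⟩

end split

section ac

variable {K : Type u} [Field K]

/-- The Hopf algebra of the split torus of dimension `n`. -/
abbrev KZ (K : Type u) [Field K] (n : ℕ) : Type u := MonoidAlgebra K (Multiplicative (Fin n → ℤ))

lemma isTorus_KZ (n : ℕ) : Red.IsTorus (SpecOver K (KZ K n)) :=
  isTorus_of_isSplitTorusWith (isSplitTorusWith_iff.2 ⟨Iso.refl _, inferInstanceAs (IsMonHom (𝟙 _))⟩)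

variable [IsAlgClosed K]

/-- Tori over an algebraically closed field. -/
lemma isTorus_iff {T : Over (Spec (CommRingCat.of K))} [GrpObj T] :
    Red.IsTorus T ↔ ∃ (n : ℕ) (e : T ≅ SpecOver K (KZ K n)), IsMonHom e.hom := by
  constructor
  · intro h
    obtain ⟨n, hn⟩ := TorusAlgClosed.exists_isSplitTorusWith h
    obtain ⟨e, he⟩ := isSplitTorusWith_iff.1 hn
    exact ⟨n, e, he⟩
  · rintro ⟨n, e, he⟩
    exact isTorus_of_isSplitTorusWith (isSplitTorusWith_iff.2 ⟨e, he⟩)

instance instFinitePresentationKZ (n : ℕ) : Algebra.FiniteType K (KZ K n) := by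
  have : Monoid.FG (Multiplicative (Fin n → ℤ)) := by
    rw [← AddMonoid.fg_iff_mul_fg]
    have : AddGroup.FG (Fin n → ℤ) := Module.Finite.iff_addGroup_fg.1 inferInstance
    exact AddGroup.fg_iff_addMonoid_fg.1 this
  infer_instance

instance smooth_KZ (n : ℕ) : Smooth (SpecOver K (KZ K n)).hom :=
  TorusAlgClosed.smooth_of_isTorus (isTorus_KZ n)

/-- Every torus subgroup of an affine group over an algebraically closed field is given by
a surjective bialgebra map to `K[ℤ^n]`. -/
theorem exists_surjective_of_torus {A : Type u} [CommRing A] [HopfAlgebra K A]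
    {T : Over (Spec (CommRingCat.of K))} [GrpObj T] (j : T ⟶ SpecOver K A) [IsMonHom j] [Mono j]
    (h : Red.IsTorus T) :
    ∃ (n : ℕ) (π : A →ₐc[K] KZ K n) (e : T ≅ SpecOver K (KZ K n)), IsMonHom e.hom ∧
      Function.Surjective π ∧ e.hom ≫ specMap K (π : A →ₐ[K] KZ K n) = j := by
  obtain ⟨n, e, he⟩ := isTorus_iff.1 h
  have hei : IsMonHom e.inv := inferInstance
  obtain ⟨π, hπ⟩ := exists_bialgHom_of_isMonHom K (e.inv ≫ j)
  have hm : Mono (specMap K (π : A →ₐ[K] KZ K n)) := by
    rw [hπ]; infer_instance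
  exact ⟨n, π, e, he, surjective_of_mono π hm, by rw [hπ, Iso.hom_inv_id_assoc]⟩

/-- A monomorphism from a torus is a closed immersion. -/
theorem isClosedImmersion_of_torus {A : Type u} [CommRing A] [HopfAlgebra K A]
    {T : Over (Spec (CommRingCat.of K))} [GrpObj T] (j : T ⟶ SpecOver K A) [IsMonHom j] [Mono j]
    (h : Red.IsTorus T) : IsClosedImmersion j.left := by
  obtain ⟨n, π, e, he, hs, hj⟩ := exists_surjective_of_torus j h
  have h1 : IsClosedImmersion (specMap K (π : A →ₐ[K] KZ K n)).left :=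
    (isClosedImmersion_specMap_iff K _).2 hs
  rw [← hj, Over.comp_left]
  have : IsIso e.hom.left := inferInstanceAs (IsIso ((Over.forget _).map e.hom))
  infer_instance

/-- The points of a torus subgroup form a torus in the sense of points. -/
theorem isTorusSub_ptsSub {A : Type u} [CommRing A] [HopfAlgebra K A]
    {T : Over (Spec (CommRingCat.of K))} [GrpObj T] (j : T ⟶ SpecOver K A) [IsMonHom j] [Mono j]
    (h : Red.IsTorus T) : IsTorusSub (ptsSub j) := by
  obtain ⟨n, π, e, he, hs, hj⟩ := exists_surjective_of_torus j h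
  exact ⟨n, π, hs, ptsSub_eq_range j π e hj⟩

omit [IsAlgClosed K] in
/-- Every torus in the sense of points comes from a torus subgroup scheme. -/
theorem exists_of_isTorusSub {A : Type u} [CommRing A] [HopfAlgebra K A] {T : Subgroup (Pt K A)}
    (h : IsTorusSub T) :
    ∃ (T' : Over (Spec (CommRingCat.of K))) (_ : GrpObj T') (j : T' ⟶ SpecOver K A)
      (_ : IsMonHom j), Red.IsTorus T' ∧ IsClosedImmersion j.left ∧ ptsSub j = T := by
  obtain ⟨n, π, hs, rfl⟩ := h
  have h1 : IsMonHom (specMap K (π : A →ₐ[K] KZ K n)) := isMonHom_specMap K π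
  exact ⟨SpecOver K (KZ K n), inferInstance, specMap K (π : A →ₐ[K] KZ K n), h1, isTorus_KZ n,
    (isClosedImmersion_specMap_iff K _).2 hs, ptsSub_eq_range _ π (Iso.refl _) (Category.id_comp _)⟩

/-- Maximal tori over an algebraically closed field: scheme form and point form. -/
theorem isMaxTorusSub_iff {A : Type u} [CommRing A] [HopfAlgebra K A] [Algebra.FiniteType K A]
    {T : Over (Spec (CommRingCat.of K))} [GrpObj T] (i : T ⟶ SpecOver K A) [IsMonHom i] [Mono i]
    (hT : Red.IsTorus T) :
    IsMaxTorusSub (ptsSub i) ↔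
      ∀ (T' : Over (Spec (CommRingCat.of K))) [GrpObj T'] (j : T' ⟶ SpecOver K A) [IsMonHom j]
        [Mono j] (f : T ⟶ T'), Red.IsTorus T' → f ≫ j = i → IsIso f := by
  constructor
  · rintro ⟨-, hmax⟩ T' _ j _ _ f hT' hf
    have h1 : ptsSub j = ptsSub i :=
      hmax _ (isTorusSub_ptsSub j hT') (ptsSub_le_of_comp i j f hf)
    have := isClosedImmersion_of_torus i hT
    have := TorusAlgClosed.smooth_of_isTorus hT'
    obtain ⟨g, hg⟩ := exists_factor_of_le j i h1.le
    exact ⟨g, by rw [← cancel_mono i, Category.assoc, hg, hf, Category.id_comp],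
      by rw [← cancel_mono j, Category.assoc, hf, hg, Category.id_comp]⟩
  · intro h
    refine ⟨isTorusSub_ptsSub i hT, fun T' hT' hle => ?_⟩
    obtain ⟨T1, _, j, _, hT1, hcl, rfl⟩ := exists_of_isTorusSub hT'
    have := TorusAlgClosed.smooth_of_isTorus hT
    obtain ⟨f, hf⟩ := exists_factor_of_le i j hle
    have : Mono j := Books.AlgPtsGrp.mono_of_isClosedImmersion j
    have := h T1 j f hT1 hf
    refine le_antisymm ?_ hle
    exact ptsSub_le_of_comp j i (inv f) (by rw [IsIso.inv_comp_eq, hf])

omit [IsAlgClosed K] in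
/-- A torus all of whose points are unipotent is trivial: values of characters. -/
lemma eq_one_of_unip {A : Type u} [CommRing A] [HopfAlgebra K A] {n : ℕ} (π : A →ₐc[K] KZ K n)
    (hπ : Function.Surjective π) (x : Pt K (KZ K n)) (h : IsUnip (Pt.map π x)) : x = 1 := by
  have key : ∀ a : A, π (rTr (Pt.map π x) a) = rTr x (π a) := by
    intro a
    have h1 : TensorProduct.map (π : A →ₗ[K] KZ K n) (π : A →ₗ[K] KZ K n)
      (comul (R := K) a) = comul (R := K) (π a) := CoalgHomClass.map_comp_comul_apply π a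
    change π ((Algebra.TensorProduct.rid K K A) (Algebra.TensorProduct.map (AlgHom.id K A)
      (Pt.map π x).ofConv (comul (R := K) a))) = (Algebra.TensorProduct.rid K K _)
        (Algebra.TensorProduct.map (AlgHom.id K _) x.ofConv (comul (R := K) (π a)))
    rw [← h1]
    induction comul (R := K) a with
    | zero => simp
    | tmul b c =>
      simp only [Algebra.TensorProduct.map_tmul, AlgHom.coe_id, id_eq,
        Algebra.TensorProduct.rid_tmul, map_smul, TensorProduct.map_tmul]
      rfl
    | add s t hs ht => rw [map_add, map_add, map_add, hs, ht, map_add, map_add, map_add]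
  have key2 : ∀ (k : ℕ) (a : A), π ((((rTr (Pt.map π x)).toLinearMap - 1) ^ k) a) =
      (((rTr x).toLinearMap - 1) ^ k) (π a) := by
    intro k
    induction k with
    | zero => intro a; rfl
    | succ k ih =>
      intro a
      rw [pow_succ, pow_succ, Module.End.mul_apply, Module.End.mul_apply, ih]
      congr 1
      rw [LinearMap.sub_apply, LinearMap.sub_apply, map_sub]
      congr 1
      exact key a
  obtain ⟨χ, rfl⟩ := (torPt (K := K) (Multiplicative (Fin n → ℤ))).surjective x
  have h3 : ∀ m, rTr (torPt (K := K) (Multiplicative (Fin n → ℤ)) χ)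
      (MonoidAlgebra.single m (1 : K)) = (χ m : K) • MonoidAlgebra.single m (1 : K) := by
    intro m
    change (Algebra.TensorProduct.rid K K _) (Algebra.TensorProduct.map (AlgHom.id K _)
      (torPt (K := K) (Multiplicative (Fin n → ℤ)) χ).ofConv
        (comul (R := K) (MonoidAlgebra.single m (1 : K)))) = _
    rw [MonoidAlgebra.comul_single, CommSemiring.comul_apply, TensorProduct.map_tmul]
    simp only [Algebra.TensorProduct.map_tmul, AlgHom.coe_id, id_eq,
        Algebra.TensorProduct.rid_tmul]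
    have := torPt_single (K := K) (Multiplicative (Fin n → ℤ)) χ m 1
    rw [_root_.one_mul] at this
    exact congrArg (· • MonoidAlgebra.single m (1 : K)) this
  have h4 : χ = 1 := by
    refine MonoidHom.ext fun m => ?_
    obtain ⟨a, ha⟩ := hπ (MonoidAlgebra.single m (1 : K))
    obtain ⟨k, hk⟩ := h a
    have h5 := key2 k a
    rw [hk, map_zero, ha] at h5
    have h6 : ∀ k : ℕ, (((rTr (torPt (K := K) (Multiplicative (Fin n → ℤ)) χ)).toLinearMap - 1) ^ k)
        (MonoidAlgebra.single m (1 : K)) = ((χ m : K) - 1) ^ k • MonoidAlgebra.single m (1 : K) := by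
      intro k
      induction k with
      | zero => simp
      | succ k ih =>
        rw [pow_succ', Module.End.mul_apply, ih, map_smul, LinearMap.sub_apply]
        change _ • (rTr _ (MonoidAlgebra.single m (1 : K)) - MonoidAlgebra.single m (1 : K)) = _
        rw [h3, pow_succ, mul_smul, sub_smul, one_smul]
    rw [h6] at h5
    have h7 : ((χ m : K) - 1) ^ k = 0 := by
      have := congr($(h5).coeff m)
      simpa using this.symm
    have h8 : (χ m : K) = 1 := sub_eq_zero.1 (eq_zero_of_pow_eq_zero h7)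
    exact Units.ext h8
  rw [h4, map_one]

end ac

end

end Groth.Agent.Sga3B.RG.BrTorus
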