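import Groth.Agent.Sga3B.RG.ConjDeform
import Groth.Agent.Sga3B.RG.Nullst
import Mathlib.RingTheory.Filtration
import Mathlib.RingTheory.Noetherian.Basic

/-!
# Regular points of a diagonalizable subgroup

`A` Hopf algebra over `K`, `π : A → K[G]`, `I = ker ε`.

* `pr_mem_sq`: the conjugation grading preserves `I²`.
* `exists_finset_weights`: only finitely many weights occur in `I/I²`.
* `apply_JC_eq_zero`: if `s` is regular (the weights `m ≠ 1` with `s m = 1` do not occur in `I/I²`),
  a map `g : A → R` into a Noetherian domain with augmentation, which is fixed under conjugation by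
  `s`, kills `JC π` (the connected component of the centralizer of `s` is the centralizer of the
  torus).
* `exists_regular`: existence of regular points of a torus.
-/

set_option autoImplicit false

universe u

open WithConv TensorProduct Coalgebra
open Groth.Agent.Books.DynBasic (mapPt ptGroup mapPt_apply inv_def)

namespace Groth.Agent.Sga3B.RG.ConjGrade

section

variable {K : Type u} [Field K] {A : Type u} [CommRing A] [HopfAlgebra K A]
variable {G : Type} [CommGroup G] (π : A →ₐc[K] MonoidAlgebra K G)

variable (K A) in
/-- The augmentation ideal. -/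
noncomputable abbrev aug : Ideal A := RingHom.ker (Bialgebra.counitAlgHom K A)

omit [CommRing A] [HopfAlgebra K A] in
lemma mem_aug [CommRing A] [HopfAlgebra K A] {a : A} : a ∈ aug K A ↔ counit (R := K) a = 0 := Iff.rfl

lemma counit_pr_one (a : A) : counit (R := K) (pr π 1 a) = counit (R := K) a := by
  induction a using induction_gr π with
  | h0 => simp
  | hadd a b ha hb => simp only [map_add, ha, hb]
  | hgr m a ha =>
    by_cases hm : m = 1
    · subst hm; rw [pr_of_mem_same π ha]
    · rw [pr_of_mem_ne π ha hm, map_zero, counit_of_mem_gr π hm ha]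

lemma pr_mem_aug (m : G) {a : A} (ha : a ∈ aug K A) : pr π m a ∈ aug K A := by
  rw [mem_aug]
  by_cases hm : m = 1
  · subst hm; rw [counit_pr_one, mem_aug.1 ha]
  · exact counit_of_mem_gr π hm (pr_mem_gr π m a)

/-- Homogeneous components of a product. -/
lemma pr_mul [DecidableEq G] (m : G) (a b : A) :
    pr π m (a * b) = ∑ p ∈ (rho π a).coeff.support, ∑ q ∈ (rho π b).coeff.support,
      if p * q = m then pr π p a * pr π q b else 0 := by
  conv_lhs => rw [← sum_pr' π a, ← sum_pr' π b, Finset.sum_mul_sum]
  rw [map_sum]
  refine Finset.sum_congr rfl fun p _ => ?_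
  rw [map_sum]
  refine Finset.sum_congr rfl fun q _ => ?_
  have h1 := mul_mem_gr π (pr_mem_gr π p a) (pr_mem_gr π q b)
  split_ifs with h
  · subst h; exact pr_of_mem_same π h1
  · exact pr_of_mem_ne π h1 h

/-- The conjugation grading preserves products of the augmentation ideal with graded ideals. -/
lemma pr_mem_mul (J : Ideal A) (hJ : ∀ m, ∀ a ∈ J, pr π m a ∈ J) (m : G) {a : A}
    (ha : a ∈ aug K A * J) : pr π m a ∈ aug K A * J := by
  classical
  refine Submodule.mul_induction_on ha ?_ ?_
  · intro b hb c hc
    rw [pr_mul]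
    refine Ideal.sum_mem _ fun p _ => Ideal.sum_mem _ fun q _ => ?_
    split_ifs with h
    · exact Ideal.mul_mem_mul (pr_mem_aug π p hb) (hJ q c hc)
    · exact Ideal.zero_mem _
  · intro b c hb hc
    rw [map_add]
    exact Ideal.add_mem _ hb hc

lemma pr_mem_sq (m : G) {a : A} (ha : a ∈ aug K A ^ 2) : pr π m a ∈ aug K A ^ 2 := by
  rw [pow_two] at ha ⊢
  exact pr_mem_mul π _ (fun m a ha => pr_mem_aug π m ha) m ha

/-- Only finitely many weights occur in the cotangent space `I/I²`. -/
theorem exists_finset_weights [IsNoetherianRing A] :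
    ∃ F : Finset G, ∀ m ∉ F, m ≠ 1 → ∀ a ∈ gr π m, a ∈ aug K A ^ 2 := by
  classical
  obtain ⟨S, hS⟩ := (isNoetherianRing_iff_ideal_fg A).1 inferInstance (aug K A)
  refine ⟨S.biUnion fun x => (rho π x).coeff.support, ?_⟩
  intro m hm hm1 a ha
  have ha' : a ∈ Ideal.span (S : Set A) := by
    rw [hS]
    exact counit_of_mem_gr π hm1 ha
  have key : ∀ b ∈ Ideal.span (S : Set A), pr π m b ∈ aug K A ^ 2 := by
    intro b hb
    refine Submodule.span_induction (p := fun b _ => pr π m b ∈ aug K A ^ 2) ?_ ?_ ?_ ?_ hb
    · intro x hx
      have : pr π m x = 0 := by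
        rw [pr_def]
        rw [← Finsupp.notMem_support_iff]
        intro h
        exact hm (Finset.mem_biUnion.2 ⟨x, hx, h⟩)
      rw [this]
      exact Ideal.zero_mem _
    · rw [map_zero]; exact Ideal.zero_mem _
    · intro x y _ _ hx hy
      rw [map_add]; exact Ideal.add_mem _ hx hy
    · intro c x hx' hx
      have hxI : x ∈ aug K A := by rw [← hS]; exact hx'
      have h1 : c • x = counit (R := K) c • x + (c - algebraMap K A (counit (R := K) c)) * x := by
        rw [smul_eq_mul, Algebra.smul_def, sub_mul]; ring
      rw [h1, map_add, map_smul]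
      refine Ideal.add_mem _ (Submodule.smul_of_tower_mem _ _ hx) ?_
      apply pr_mem_sq
      rw [pow_two]
      refine Ideal.mul_mem_mul ?_ hxI
      rw [mem_aug, map_sub, Bialgebra.counit_algebraMap, sub_self]
  have := key a ha'
  rwa [pr_of_mem_same π ha] at this

/-- A point `s` is regular when the nontrivial weights `m` with `s m = 1` do not occur in the
cotangent space. -/
def IsReg (s : G →* K) : Prop := ∀ m ≠ 1, s m = 1 → ∀ a ∈ gr π m, a ∈ aug K A ^ 2

/-- Elements of nontrivial weight are congruent to elements of the ideal of the centralizer of a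
regular `s`, modulo any power of the augmentation ideal. -/
lemma mem_sup_pow (s : G →* K) (hs : IsReg π s) (Js : Ideal A)
    (hJs : ∀ a, wt π s a - a ∈ Js) (n : ℕ) : ∀ m ≠ 1, ∀ a ∈ gr π m, a ∈ Js ⊔ aug K A ^ n := by
  classical
  induction n with
  | zero => intro m _ a _; rw [pow_zero, Ideal.one_eq_top, sup_top_eq]; trivial
  | succ n ih =>
    intro m hm a ha
    by_cases hsm : s m = 1
    · have h1 : ∀ x ∈ aug K A ^ 2, pr π m x ∈ Js ⊔ aug K A ^ (n + 1) := by
        intro x hx
        rw [pow_two] at hx
        refine Submodule.mul_induction_on hx ?_ ?_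
        · intro b hb c hc
          rw [pr_mul]
          refine Ideal.sum_mem _ fun p _ => Ideal.sum_mem _ fun q _ => ?_
          split_ifs with h
          · have hmul : ∀ x ∈ Js ⊔ aug K A ^ n, ∀ y ∈ aug K A, x * y ∈ Js ⊔ aug K A ^ (n + 1) := by
              intro x hx y hy
              obtain ⟨x₁, hx₁, x₂, hx₂, rfl⟩ := Submodule.mem_sup.1 hx
              rw [add_mul]
              refine Ideal.add_mem _ (Ideal.mem_sup_left (Ideal.mul_mem_right _ _ hx₁))
                (Ideal.mem_sup_right ?_)
              rw [pow_succ]
              exact Ideal.mul_mem_mul hx₂ hy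
            by_cases hp : p = 1
            · have hq : q ≠ 1 := by
                rintro rfl
                subst hp
                exact hm (by rw [← h, one_mul])
              rw [mul_comm]
              exact hmul _ (ih q hq _ (pr_mem_gr π q c)) _ (pr_mem_aug π p hb)
            · exact hmul _ (ih p hp _ (pr_mem_gr π p b)) _ (pr_mem_aug π q hc)
          · exact Ideal.zero_mem _
        · intro b c hb hc
          rw [map_add]; exact Ideal.add_mem _ hb hc
      have h2 := h1 a (hs m hm hsm a ha)
      rwa [pr_of_mem_same π ha] at h2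
    · apply Ideal.mem_sup_left
      have h1 := hJs a
      rw [wt_of_mem π s ha] at h1
      have h2 : a = (s m - 1)⁻¹ • (s m • a - a) := by
        have h3 : s m • a - a = (s m - 1) • a := by rw [sub_smul, one_smul]
        rw [h3, smul_smul, inv_mul_cancel₀ (sub_ne_zero.2 hsm), one_smul]
      rw [h2]
      exact Submodule.smul_of_tower_mem _ _ h1

/-- The identity component of the centralizer of a regular element is contained in the centralizer
of the diagonalizable subgroup: a map `g` to a Noetherian domain with an augmentation compatible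
with the counit, and which is fixed under conjugation by the regular point `s`, kills `JC π`. -/
theorem apply_JC_eq_zero {R : Type*} [CommRing R] [Algebra K R] [IsNoetherianRing R] [IsDomain R]
    (s : G →* K) (hs : IsReg π s) (g : A →ₐ[K] R) (ε : R →ₐ[K] K)
    (hε : ∀ a, ε (g a) = counit (R := K) a) (hg : ∀ a, g (wt π s a) = g a) :
    ∀ a ∈ JC π, g a = 0 := by
  have key : ∀ m ≠ 1, ∀ a ∈ gr π m, g a = 0 := by
    intro m hm a ha
    have h1 : g a ∈ (⨅ n : ℕ, RingHom.ker ε ^ n : Ideal R) := by
      rw [Ideal.mem_iInf]
      intro n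
      have h2 := mem_sup_pow π s hs (RingHom.ker g) (fun a => by
        rw [RingHom.mem_ker, map_sub, hg, sub_self]) n m hm a ha
      obtain ⟨x, hx, y, hy, rfl⟩ := Submodule.mem_sup.1 h2
      have hx' : g x = 0 := hx
      rw [map_add, hx', zero_add]
      have h3 : aug K A ≤ (RingHom.ker ε).comap g := by
        intro a ha
        rw [Ideal.mem_comap, RingHom.mem_ker, hε]
        exact ha
      have h4 : aug K A ^ n ≤ (RingHom.ker ε ^ n).comap g :=
        (Ideal.pow_right_mono h3 n).trans (Ideal.le_comap_pow g n)
      exact h4 hy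
    rw [Ideal.iInf_pow_eq_bot_of_isDomain _ (RingHom.ker_ne_top ε)] at h1
    exact h1
  intro a ha
  have : JC π ≤ RingHom.ker g := by
    rw [JC, Ideal.span_le]
    rintro b ⟨m, hm, hb⟩
    exact key m hm b hb
  exact this ha

end

end Groth.Agent.Sga3B.RG.ConjGrade
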