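import Groth.Agent.Sga3B.RootCert
import Groth.Agent.Sga3B.RG.ConjGrade

/-!
# Dictionary between the two conjugation gradings, functoriality

* `rho_eq`: the coaction `ConjGrade.rho p` is the coaction `conjCoact p`;
* `rho_map`: functoriality of the coaction in the Hopf algebra;
* `rho_comp`: functoriality in the character group.
-/

set_option autoImplicit false

universe u

open WithConv TensorProduct Coalgebra
open Groth.Agent.Books.DynBasic (mapPt mapPt_apply)
open Groth.Agent.Sga3B.RootCoact Groth.Agent.Sga3B.RootOrb Groth.Agent.Sga3B.RootGr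
open Groth.Agent.Sga3B.RootGa

namespace Groth.Agent.Sga3B.RG.QC

section Dict

variable {R : Type u} [CommRing R] {A : Type u} [CommRing A] [HopfAlgebra R A]
variable {M : Type} [AddCommGroup M]
variable (p : A →ₐc[R] MonoidAlgebra R (Multiplicative M))

theorem rho_eq : ConjGrade.rho p = (conjCoact p).rho := rfl

theorem gr_eq (m : M) : ConjGrade.gr p (Multiplicative.ofAdd m) = gr (conjCoact p) m := rfl

theorem pr_eq (m : M) (a : A) : ConjGrade.pr p (Multiplicative.ofAdd m) a = pr (conjCoact p) m a :=
  rfl

theorem JC_eq : ConjGrade.JC p = JP p (⊥ : AddSubmonoid M) := rfl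

end Dict

section Map

variable {R : Type u} [CommRing R] {A : Type u} [CommRing A] [HopfAlgebra R A]
variable {B : Type u} [CommRing B] [HopfAlgebra R B]
variable {C : Type u} [CommRing C] [Algebra R C]
variable {M : Type} [AddCommGroup M]

/-- precomposition of points with a bialgebra map -/
noncomputable def pre (φ : A →ₐc[R] B) (C : Type u) [CommRing C] [Algebra R C] :
    WithConv (B →ₐ[R] C) →* WithConv (A →ₐ[R] C) where
  toFun g := toConv (g.ofConv.comp (φ : A →ₐ[R] B))
  map_one' := by
    apply WithConv.ofConv_injective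
    ext a
    simp [AlgHom.convOne_def]
  map_mul' g h := by
    apply WithConv.ofConv_injective
    rw [ofConv_toConv]
    exact AlgHom.convMul_comp_bialgHom_distrib g h φ

variable (φ : A →ₐc[R] B) (q : B →ₐc[R] MonoidAlgebra R (Multiplicative M))

lemma pre_torPt (t : Multiplicative M →* Cˣ) : pre φ C (torPt q t) = torPt (q.comp φ) t := rfl

/-- functoriality of the conjugation coaction -/
theorem rho_map (a : A) : (conjCoact q).rho (φ a) =
    MonoidAlgebra.mapAlgHom (Multiplicative M) (φ : A →ₐ[R] B) ((conjCoact (q.comp φ)).rho a) := by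
  have h1 := orbU_eq (q.comp φ) (q.comp φ) (toConv (φ : A →ₐ[R] B))
  have h2 : orbU (q.comp φ) (q.comp φ) (toConv (φ : A →ₐ[R] B)) =
      pre φ _ (orbU q q (toConv (AlgHom.id R B))) := by
    rw [orbU, orbU, orb, orb, map_mul, map_mul, map_inv, pre_torPt]
    rfl
  rw [h2] at h1
  exact DFunLike.congr_fun (congrArg WithConv.ofConv h1) a

theorem pr_map (m : M) (a : A) : pr (conjCoact q) m (φ a) = φ (pr (conjCoact (q.comp φ)) m a) := by
  rw [pr_def, pr_def, rho_map, MonoidAlgebra.coeff_mapAlgHom]
  rfl

theorem map_mem_gr {m : M} {a : A} (ha : a ∈ gr (conjCoact (q.comp φ)) m) :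
    φ a ∈ gr (conjCoact q) m := by
  rw [mem_gr_iff_pr, pr_map, pr_of_mem_same _ ha]

theorem exists_of_mem_gr (hφ : Function.Surjective φ) {m : M} {b : B}
    (hb : b ∈ gr (conjCoact q) m) : ∃ a ∈ gr (conjCoact (q.comp φ)) m, φ a = b := by
  obtain ⟨a, rfl⟩ := hφ b
  exact ⟨pr (conjCoact (q.comp φ)) m a, pr_mem_gr _ _ _, by rw [← pr_map, pr_of_mem_same _ hb]⟩

end Map

section Comp

variable {R : Type u} [CommRing R] {A : Type u} [CommRing A] [HopfAlgebra R A]
variable {C : Type u} [CommRing C] [Algebra R C]
variable {M N : Type} [AddCommGroup M] [AddCommGroup N]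
variable (p : A →ₐc[R] MonoidAlgebra R (Multiplicative M)) (f : M →+ N)

/-- the map `R[M] → R[N]` attached to `f : M → N` -/
noncomputable def mapD : MonoidAlgebra R (Multiplicative M) →ₐc[R]
    MonoidAlgebra R (Multiplicative N) :=
  MonoidAlgebra.mapDomainBialgHom R (AddMonoidHom.toMultiplicative f)

lemma mapD_single (m : Multiplicative M) (r : R) :
    mapD (R := R) f (MonoidAlgebra.single m r) =
      MonoidAlgebra.single (AddMonoidHom.toMultiplicative f m) r := by
  rw [mapD, MonoidAlgebra.mapDomainBialgHom_single]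

lemma mapD_surjective (hf : Function.Surjective f) : Function.Surjective (mapD (R := R) f) := by
  intro x
  induction x using MonoidAlgebra.induction_linear with
  | zero => exact ⟨0, map_zero _⟩
  | add x y hx hy =>
    obtain ⟨a, rfl⟩ := hx
    obtain ⟨b, rfl⟩ := hy
    exact ⟨a + b, map_add _ _ _⟩
  | single m r =>
    obtain ⟨n, hn⟩ := hf m.toAdd
    refine ⟨MonoidAlgebra.single (Multiplicative.ofAdd n) r, ?_⟩
    rw [mapD_single]
    exact congrArg (fun z => MonoidAlgebra.single (Multiplicative.ofAdd z) r) hn

lemma evT_mapD (t : Multiplicative N →* Cˣ) (x : MonoidAlgebra R (Multiplicative M)) :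
    evT R t (mapD f x) = evT R (t.comp (AddMonoidHom.toMultiplicative f)) x := by
  induction x using MonoidAlgebra.induction_linear with
  | zero => rw [map_zero, map_zero, map_zero]
  | add x y hx hy => rw [map_add, map_add, map_add, hx, hy]
  | single m r => rw [mapD_single, evT_single, evT_single]; rfl

lemma torPt_mapD (t : Multiplicative N →* Cˣ) :
    torPt ((mapD f).comp p) t = torPt p (t.comp (AddMonoidHom.toMultiplicative f)) :=
  WithConv.ofConv_injective (AlgHom.ext fun a => evT_mapD f t (p a))

theorem rho_comp (a : A) : (conjCoact ((mapD f).comp p)).rho a =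
    MonoidAlgebra.mapDomainAlgHom R A (AddMonoidHom.toMultiplicative f) ((conjCoact p).rho a) := by
  classical
  have h1 : orbU ((mapD f).comp p) ((mapD f).comp p) (toConv (AlgHom.id R A)) =
      mapPt (MonoidAlgebra.mapDomainAlgHom R A (AddMonoidHom.toMultiplicative f))
        (orbU p p (toConv (AlgHom.id R A))) := by
    rw [orbU, orbU, mapPt_orb, orb, orb, torPt_mapD]
    have h2 : (tau N A).comp (AddMonoidHom.toMultiplicative f) =
        (Units.map ((MonoidAlgebra.mapDomainAlgHom R A (AddMonoidHom.toMultiplicative f) :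
          MonoidAlgebra A (Multiplicative M) →ₐ[R] MonoidAlgebra A (Multiplicative N)) :
          MonoidAlgebra A (Multiplicative M) →* MonoidAlgebra A (Multiplicative N))).comp
          (tau M A) := by
      refine MonoidHom.ext fun m => Units.ext ?_
      change MonoidAlgebra.single _ (1 : A) = MonoidAlgebra.mapDomain _ (MonoidAlgebra.single m 1)
      rw [MonoidAlgebra.mapDomain_single]
    have h3 : mapPt (MonoidAlgebra.mapDomainAlgHom R A (AddMonoidHom.toMultiplicative f))
        (mapPt (cst R M A) (toConv (AlgHom.id R A))) = mapPt (cst R N A) (toConv (AlgHom.id R A)) := by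
      apply WithConv.ofConv_injective
      refine AlgHom.ext fun x => ?_
      change MonoidAlgebra.mapDomain _ (MonoidAlgebra.single 1 x) = MonoidAlgebra.single 1 x
      rw [MonoidAlgebra.mapDomain_single, map_one]
    rw [h2, h3]
  exact DFunLike.congr_fun (congrArg WithConv.ofConv h1) a

theorem gr_le_comp {m : M} {a : A} (ha : a ∈ gr (conjCoact p) m) :
    a ∈ gr (conjCoact ((mapD f).comp p)) (f m) := by
  rw [mem_gr, rho_comp, (mem_gr _).1 ha]
  exact MonoidAlgebra.mapDomain_single

theorem pr_eq_zero_of_mem_comp {n : N} {a : A} (ha : a ∈ gr (conjCoact ((mapD f).comp p)) n)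
    {m : M} (hm : f m ≠ n) : pr (conjCoact p) m a = 0 := by
  classical
  have h1 : ∀ x : A, pr (conjCoact ((mapD f).comp p)) n x ∈
      Submodule.span R (⋃ m' ∈ {m' : M | f m' = n}, (gr (conjCoact p) m' : Set A)) := by
    intro x
    induction x using induction_gr (conjCoact p) with
    | h0 => rw [map_zero]; exact zero_mem _
    | hadd x y hx hy => rw [map_add]; exact add_mem hx hy
    | h m' x hx =>
      by_cases h : f m' = n
      · have := gr_le_comp p f hx
        rw [h] at this
        rw [pr_of_mem_same _ this]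
        exact Submodule.subset_span (Set.mem_biUnion (x := m') h hx)
      · rw [pr_of_mem_ne _ (gr_le_comp p f hx) h]
        exact zero_mem _
  have h2 := h1 a
  rw [pr_of_mem_same _ ha] at h2
  clear h1 ha
  induction h2 using Submodule.span_induction with
  | mem x hx =>
    simp only [Set.mem_iUnion] at hx
    obtain ⟨m', h', hx⟩ := hx
    exact pr_of_mem_ne _ hx (fun h => hm (h ▸ h'))
  | zero => exact map_zero _
  | add x y _ _ hx hy => rw [map_add, hx, hy, add_zero]
  | smul r x _ hx => rw [map_smul, hx, smul_zero]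

/-- The ideal of the centralizer of the subtorus `D(N)` -/
theorem JP_comp (Ψ : AddSubmonoid M) (hΨ : ∀ m, f m = 0 ↔ m ∈ Ψ) :
    JP ((mapD f).comp p) (⊥ : AddSubmonoid N) = JP p Ψ := by
  apply le_antisymm
  · rw [JP, Ideal.span_le]
    rintro a ⟨n, hn, ha⟩
    rw [SetLike.mem_coe, ← sum_pr (conjCoact p) a]
    refine sum_mem fun m hm => Ideal.subset_span ⟨m, fun h => ?_, pr_mem_gr _ _ _⟩
    rw [mem_supp] at hm
    apply hm
    apply pr_eq_zero_of_mem_comp p f ha
    rw [(hΨ m).2 h]
    exact fun h0 => hn (by rw [← h0]; exact zero_mem _)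
  · rw [JP, Ideal.span_le]
    rintro a ⟨m, hm, ha⟩
    exact Ideal.subset_span ⟨f m, fun h => hm ((hΨ m).1 ((AddSubmonoid.mem_bot).1 h)),
      gr_le_comp p f ha⟩

end Comp

section Quot

variable {R : Type u} [CommRing R] {A : Type u} [CommRing A] [HopfAlgebra R A]
variable {M : Type} [AddCommGroup M]
variable (p : A →ₐc[R] MonoidAlgebra R (Multiplicative M))

/-- `p` kills the elements of nonzero weight. -/
theorem apply_eq_zero_of_mem_gr {m : M} (hm : m ≠ 0) {a : A} (ha : a ∈ gr (conjCoact p) m) :
    p a = 0 := by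
  have h1 : (toConv (p : A →ₐ[R] MonoidAlgebra R (Multiplicative M))) =
      torPt p (MonoidHom.toHomUnits (MonoidAlgebra.of R (Multiplicative M))) := by
    apply WithConv.ofConv_injective
    refine AlgHom.ext fun x => ?_
    change p x = evT R _ (p x)
    have : evT R (MonoidHom.toHomUnits (MonoidAlgebra.of R (Multiplicative M))) =
        AlgHom.id R (MonoidAlgebra R (Multiplicative M)) := by
      apply algHom_ext_single
      intro m
      rw [evT_single, one_smul]
      rfl
    rw [this]
    rfl
  have h2 := (fixed_iff p p (toConv (p : A →ₐ[R] MonoidAlgebra R (Multiplicative M)))).1 (by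
    rw [h1, orbU, orb, mapPt_torPt, ← map_inv, ← map_mul, ← map_mul]
    congr 1
    rw [mul_comm (tau M _), mul_assoc, mul_inv_cancel, mul_one]) m hm a ha
  exact h2

/-- the augmentation ideal and gradings: an element of nonzero degree lies in the augmentation
ideal. -/
theorem mem_aug_of_mem_gr {m : M} (hm : m ≠ 0) {a : A} (ha : a ∈ gr (conjCoact p) m) :
    a ∈ aug R A := by
  have h := ConjGrade.counit_of_mem_gr p (m := Multiplicative.ofAdd m) (fun h => hm h) ha
  rw [aug, RingHom.mem_ker]
  exact h

end Quot

end Groth.Agent.Sga3B.RG.QC
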