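import Groth.Agent.Sga3B.RG.BrPts
import Groth.Agent.Sga3B.DSPts
import Groth.Agent.Sga3B.Pts
import Groth.Agent.Sga3B.TorusAlgClosed
import Mathlib.RingTheory.Bialgebra.MonoidAlgebra

/-!
# Diagonalizable groups: `Red.DS (Spec R) M` and the spectrum of the group algebra `R[M]`
-/

set_option autoImplicit false

universe u

open CategoryTheory MonoidalCategory CartesianMonoidalCategory MonObj GrpObj AlgebraicGeometry
open Groth.Agent.Books.AffBridge Groth.Agent.Books.AffBridge2

namespace Groth.Agent.Sga3B.RG.BrDiag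

noncomputable section

section ring

variable {R : Type u} [CommRing R]

/-- Every affine scheme over `Spec R` is the spectrum of an `R`-algebra. -/
lemma exists_specOver (X : Over (Spec (CommRingCat.of R))) [IsAffine X.left] :
    ∃ (B : Type u) (_ : CommRing B) (_ : Algebra R B), Nonempty (X ≅ SpecOver R B) := by
  let φ : CommRingCat.of R ⟶ Γ(X.left, ⊤) := Spec.preimage (X.left.isoSpec.inv ≫ X.hom)
  let : Algebra R Γ(X.left, ⊤) := φ.hom.toAlgebra
  have hφ : Spec.map (CommRingCat.ofHom (algebraMap R Γ(X.left, ⊤))) =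
      X.left.isoSpec.inv ≫ X.hom := Spec.map_preimage _
  refine ⟨Γ(X.left, ⊤), inferInstance, inferInstance, ⟨Over.isoMk X.left.isoSpec ?_⟩⟩
  change X.left.isoSpec.hom ≫ Spec.map (CommRingCat.ofHom (algebraMap R Γ(X.left, ⊤))) = X.hom
  rw [hφ, Iso.hom_inv_id_assoc]

/-- A morphism of group schemes with affine source is a homomorphism as soon as it is so on points
with values in `R`-algebras. -/
lemma isMonHom_of_specOver_points {G H : Over (Spec (CommRingCat.of R))} [GrpObj G] [GrpObj H]
    [IsAffine G.left] (f : G ⟶ H)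
    (h : ∀ (B : Type u) [CommRing B] [Algebra R B] (x y : SpecOver R B ⟶ G),
      (x * y) ≫ f = (x ≫ f) * (y ≫ f)) : IsMonHom f := by
  have : IsAffine (G ⊗ G).left := by
    rw [Over.tensorObj_left]
    infer_instance
  obtain ⟨B, _, _, ⟨e⟩⟩ := exists_specOver (G ⊗ G)
  refine Pts.isMonHom_of_universal f ?_
  rw [← cancel_epi e.inv]
  have h1 := h B (e.inv ≫ fst G G) (e.inv ≫ snd G G)
  rw [← MonObj.comp_mul, Category.assoc] at h1
  rw [h1, MonObj.comp_mul, Category.assoc, Category.assoc]

/-- A morphism between affine schemes over `Spec R` which is bijective on points with values in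
`R`-algebras is an isomorphism. -/
lemma isIso_of_specOver_points {X Y : Over (Spec (CommRingCat.of R))} [IsAffine X.left]
    [IsAffine Y.left] (f : X ⟶ Y)
    (h : ∀ (B : Type u) [CommRing B] [Algebra R B],
      Function.Bijective (fun x : SpecOver R B ⟶ X => x ≫ f)) : IsIso f := by
  obtain ⟨B, _, _, ⟨e⟩⟩ := exists_specOver Y
  obtain ⟨C, _, _, ⟨e'⟩⟩ := exists_specOver X
  obtain ⟨s, hs⟩ := (h B).2 e.inv
  have h1 : (e.hom ≫ s) ≫ f = 𝟙 Y := by
    change s ≫ f = e.inv at hs
    rw [Category.assoc, hs, e.hom_inv_id]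
  refine ⟨e.hom ≫ s, ?_, h1⟩
  rw [← cancel_epi e'.inv]
  apply (h C).1
  simp only [Category.assoc, Category.comp_id] at h1 ⊢
  rw [h1, Category.comp_id]

/-- `B`-points of `Spec A` for a bialgebra `A` over a ring. -/
def rptEquivRing (R : Type u) [CommRing R] (A B : Type u) [CommRing A] [Bialgebra R A]
    [CommRing B] [Algebra R B] :
    WithConv (A →ₐ[R] B) ≃* (SpecOver R B ⟶ SpecOver R A) where
  toFun g := specMap R g.ofConv
  invFun x := WithConv.toConv (specPreimage R x)
  left_inv g := by simp
  right_inv x := by simp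
  map_mul' g h := specMap_mul R g h

/-- Functions on `Spec B`. -/
def gEquiv (R : Type u) [CommRing R] (B : Type u) [CommRing B] [Algebra R B] :
    B ≃+* Γ((SpecOver R B).left, ⊤) :=
  (Scheme.ΓSpecIso (CommRingCat.of B)).symm.commRingCatIsoToRingEquiv

lemma gEquiv_naturality {B C : Type u} [CommRing B] [Algebra R B] [CommRing C] [Algebra R C]
    (g : B →ₐ[R] C) (b : B) :
    (specMap R g).left.appTop.hom (gEquiv R B b) = gEquiv R C (g b) :=
  congr($((Scheme.ΓSpecIso_inv_naturality (CommRingCat.ofHom g.toRingHom))).hom b).symm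

variable (R) (M : Type) [AddCommGroup M]

/-- The canonical character of `Spec R[M]`. -/
def diagTo : SpecOver R (MonoidAlgebra R (Multiplicative M)) ⟶
    Red.DS (Spec (CommRingCat.of R)) M :=
  DSPts.dsEquiv _ M
    ((gEquiv R (MonoidAlgebra R (Multiplicative M))).toRingHom.toMonoidHom.comp
      (MonoidAlgebra.of R (Multiplicative M)))

variable {R M}

/-- characters of `M` in `B` as points of `DS`. -/
def dsSpecEquiv (B : Type u) [CommRing B] [Algebra R B] :
    (Multiplicative M →* B) ≃* (SpecOver R B ⟶ Red.DS (Spec (CommRingCat.of R)) M) :=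
  (gEquiv R B).toMulEquiv.monoidHomCongrRight.trans (DSPts.dsEquiv (SpecOver R B) M)

/-- The canonical map on points. -/
lemma specMap_diagTo {B : Type u} [CommRing B] [Algebra R B]
    (g : MonoidAlgebra R (Multiplicative M) →ₐ[R] B) :
    specMap R g ≫ diagTo R M =
      dsSpecEquiv B ((g : _ →* B).comp (MonoidAlgebra.of R (Multiplicative M))) := by
  rw [diagTo, DSPts.dsEquiv_naturality]
  change _ = DSPts.dsEquiv (SpecOver R B) M _
  congr 1
  ext m
  exact gEquiv_naturality g _

lemma comp_diagTo {B : Type u} [CommRing B] [Algebra R B]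
    (x : SpecOver R B ⟶ SpecOver R (MonoidAlgebra R (Multiplicative M))) :
    x ≫ diagTo R M = dsSpecEquiv B ((MonoidAlgebra.liftMulEquiv R B (Multiplicative M)).symm
      ((rptEquivRing R (MonoidAlgebra R (Multiplicative M)) B).symm x)) := by
  obtain ⟨g, rfl⟩ := (rptEquivRing R (MonoidAlgebra R (Multiplicative M)) B).surjective x
  rw [MulEquiv.symm_apply_apply]
  exact specMap_diagTo g.ofConv

lemma isAffine_DS : IsAffine (Red.DS (Spec (CommRingCat.of R)) M).left := by
  have : IsAffineHom (Red.DS (Spec (CommRingCat.of R)) M).hom := by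
    change IsAffineHom (Limits.pullback.snd _ _)
    infer_instance
  exact isAffine_of_isAffineHom (Red.DS (Spec (CommRingCat.of R)) M).hom

instance isAffine_specOver' (A : Type u) [CommRing A] [Algebra R A] :
    IsAffine (SpecOver R A).left := inferInstanceAs (IsAffine (Spec (CommRingCat.of A)))

variable (R M)

instance isMonHom_diagTo : IsMonHom (diagTo R M) := by
  refine isMonHom_of_specOver_points (diagTo R M) fun B _ _ x y => ?_
  rw [comp_diagTo, comp_diagTo, comp_diagTo, map_mul, map_mul, map_mul]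

instance isIso_diagTo : IsIso (diagTo R M) := by
  have := isAffine_DS (R := R) (M := M)
  refine isIso_of_specOver_points (diagTo R M) fun B _ _ => ?_
  have : (fun x : SpecOver R B ⟶ SpecOver R (MonoidAlgebra R (Multiplicative M)) =>
      x ≫ diagTo R M) = ((rptEquivRing R (MonoidAlgebra R (Multiplicative M)) B).symm.trans
        ((MonoidAlgebra.liftMulEquiv R B (Multiplicative M)).symm.trans (dsSpecEquiv B))) := by
    ext x
    rw [comp_diagTo]
    rfl
  rw [this]
  exact MulEquiv.bijective _

/-- `Spec R[M] ≅ D_{Spec R}(M)` as group schemes. -/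
def diagIso : Grp.mk (SpecOver R (MonoidAlgebra R (Multiplicative M))) ≅
    Grp.mk (Red.DS (Spec (CommRingCat.of R)) M) :=
  Grp.mkIso (asIso (diagTo R M)) (isMonHom_diagTo R M).one_hom (isMonHom_diagTo R M).mul_hom

lemma diagIso_hom : (diagIso R M).hom.hom.hom = diagTo R M := rfl

variable {R M}

lemma isSplitTorusWith_iff {T : Over (Spec (CommRingCat.of R))} [GrpObj T] :
    Red.IsSplitTorusWith M T ↔
      ∃ e : T ≅ SpecOver R (MonoidAlgebra R (Multiplicative M)), IsMonHom e.hom := by
  constructor
  · rintro ⟨e⟩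
    let e' := e ≪≫ (diagIso R M).symm
    exact ⟨(Grp.forget _).mapIso e', e'.hom.hom.isMonHom_hom⟩
  · rintro ⟨e, he⟩
    exact ⟨Grp.mkIso e he.one_hom he.mul_hom ≪≫ diagIso R M⟩

end ring

end

end Groth.Agent.Sga3B.RG.BrDiag
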