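import Groth.Agent.Sga3B.RG.RepAlg
import Groth.Agent.Books.Chevalley

/-!
# Chevalley's theorem in the language of points

Every closed subgroup of the group of points is the stabiliser of a line `K v` in a
finite-dimensional algebraic representation spanned by the orbit of `v`.
-/

set_option autoImplicit false

universe u w w'

open WithConv TensorProduct Coalgebra Pointwise

namespace Groth.Agent.Sga3B.RG.ChevLine

variable {K : Type u} [Field K] [IsAlgClosed K] {A : Type u} [CommRing A] [HopfAlgebra K A]
  [Algebra.FiniteType K A] [IsReduced A]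

/-- **Chevalley**: a closed subgroup is the stabiliser of a line in an algebraic representation
generated by a vector on that line. -/
theorem exists_line (H : Subgroup (Pt K A)) (hH : IsCl (H : Set (Pt K A))) :
    ∃ (V : Type u) (_ : AddCommGroup V) (_ : Module K V) (_ : FiniteDimensional K V)
      (ρ : Representation K (Pt K A) V) (v : V), IsAlg ρ ∧ v ≠ 0 ∧
      (∀ g, g ∈ H ↔ ∃ c : K, ρ g v = c • v) ∧
      Submodule.span K (Set.range fun g => ρ g v) = ⊤ := by
  obtain ⟨E, χ, hE1, hE2, hE3, ⟨c0, hc0E, hc0⟩, hE5⟩ :=
    Groth.Agent.Books.Chevalley.exists_semiinvariants K A (vanIdeal (H : Set (Pt K A)))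
  have hEst : ∀ g : Pt K A, E ≤ E.comap (lTrRep K A g) := by
    intro g c hc
    obtain ⟨z, hz⟩ := hE2 c hc
    rw [Submodule.mem_comap]
    change lTr g c ∈ E
    rw [lTr, AlgHom.comp_apply, AlgHom.comp_apply, Bialgebra.comulAlgHom_apply, ← hz]
    clear hz
    induction z with
    | zero => simp
    | add x y hx hy => simp only [map_add]; exact E.add_mem hx hy
    | tmul x y =>
      simp only [LinearMap.lTensor_tmul, Submodule.subtype_apply, Algebra.TensorProduct.map_tmul,
        AlgHom.coe_id, id_eq]
      exact E.smul_mem _ y.2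
  -- semi-invariance on points
  have hsemi : ∀ c ∈ E, ∀ (g : Pt K A) (h : H), (g * (h : Pt K A)) c =
      g c * ((subEquiv H hH).symm h) χ := by
    intro c hc g h
    have h1 : (g * (h : Pt K A)) c =
        Algebra.TensorProduct.lift g.ofConv ((subEquiv H hH).symm h).ofConv (fun _ _ ↦ .all ..)
          ((Ideal.Quotient.mkₐ K (vanIdeal (H : Set (Pt K A)))).toLinearMap.lTensor A
            (comul (R := K) c)) := by
      rw [Pt.mul_apply]
      generalize comul (R := K) c = z
      induction z with
      | zero => simp
      | add x y hx hy => simp only [map_add, hx, hy]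
      | tmul x y =>
        simp only [Algebra.TensorProduct.lift_tmul, LinearMap.lTensor_tmul,
          AlgHom.toLinearMap_apply, Ideal.Quotient.mkₐ_eq_mk]
        congr 1
        exact (subEquiv_symm_apply_mk H hH h y).symm
    rw [h1, hE3 c hc, Algebra.TensorProduct.lift_tmul]
  let ρE : Representation K (Pt K A) E := (lTrRep K A).subrepresentation E hEst
  have hρE : IsAlg ρE := (isAlg_lTrRep K A).subrepresentation E hEst
  let v : Module.Dual K E := (counit (R := K) (A := A)) ∘ₗ E.subtype
  have hv : ∀ (g : Pt K A) (c : E), ρE.dual g v c = g (c : A) := by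
    intro g c
    change counit (R := K) (lTr g⁻¹ (c : A)) = _
    rw [← Pt.one_apply (K := K), lTr_apply_pt, inv_inv, mul_one]
  refine ⟨Module.Dual K E, inferInstance, inferInstance, inferInstance, ρE.dual, v, hρE.dual,
    ?_, ?_, ?_⟩
  · intro h
    have h1 := LinearMap.congr_fun h ⟨c0, hc0E⟩
    change counit (R := K) c0 = 0 at h1
    rw [hc0] at h1
    exact one_ne_zero h1
  · intro g
    constructor
    · intro hg
      refine ⟨((subEquiv H hH).symm ⟨g, hg⟩) χ, ?_⟩
      ext c
      rw [hv]
      have h1 := hsemi c c.2 1 ⟨g, hg⟩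
      rw [one_mul, Pt.one_apply] at h1
      rw [h1, mul_comm]
      rfl
    · rintro ⟨s, hs⟩
      have h1 : g ∈ zeros (vanIdeal (H : Set (Pt K A))) := by
        intro a ha
        rw [hE5] at ha
        induction ha using Submodule.span_induction with
        | mem c hc =>
          have h2 := LinearMap.congr_fun hs ⟨c, hc.1⟩
          rw [hv] at h2
          change g c = s * counit (R := K) c at h2
          rw [h2, hc.2, mul_zero]
        | zero => exact Pt.apply_zero g
        | add x y _ _ hx hy => rw [Pt.apply_add, hx, hy, add_zero]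
        | smul x y _ hy => rw [smul_eq_mul, Pt.apply_mul, hy, mul_zero]
      rw [hH.eq] at h1
      exact h1
  · by_contra hne
    obtain ⟨F, hF0, hF⟩ := Submodule.exists_dual_map_eq_bot_of_lt_top (lt_top_iff_ne_top.2 hne)
      inferInstance
    obtain ⟨e, rfl⟩ := (Module.evalEquiv K E).surjective F
    have h1 : ∀ g : Pt K A, g (e : A) = 0 := by
      intro g
      rw [← hv g e]
      have h2 : (Module.evalEquiv K E e) (ρE.dual g v) ∈
          (Submodule.span K (Set.range fun g => ρE.dual g v)).map (Module.evalEquiv K E e) :=
        Submodule.mem_map_of_mem (Submodule.subset_span ⟨g, rfl⟩)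
      rw [hF, Submodule.mem_bot] at h2
      exact h2
    apply hF0
    have h3 : e = 0 := Subtype.ext (eq_zero_of_forall_pt h1)
    rw [h3, map_zero]

end Groth.Agent.Sga3B.RG.ChevLine
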