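import Groth.Agent.S3019
import Groth.Agent.Books.ComodDual
import Groth.Agent.Sga3B.RG.Extremal

/-!
# Chevalley's theorem in the language of points

* `comodRep`: the representation of the group of points on a comodule;
* `exists_line`: a closed subgroup is the stabilizer of a line in an algebraic representation.
-/

set_option autoImplicit false

universe u v w

open WithConv TensorProduct Coalgebra Module

namespace Groth.Agent.Sga3B.RG.ChevLine187

open Groth.Agent.Books.ComodDual

variable {K : Type u} [Field K] {A : Type u} [CommRing A] [HopfAlgebra K A]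
  {V : Type w} [AddCommGroup V] [Module K V] [HopfRep.Comod K A V]

omit [HopfRep.Comod K A V] in
lemma contr_eq_lTensor (g : A →ₐ[K] K) (x : V ⊗[K] A) :
    contr g.toLinearMap x = TensorProduct.rid K V (LinearMap.lTensor V g.toLinearMap x) := rfl

lemma toLinearMap_mul (g h : Pt K A) :
    (g * h).ofConv.toLinearMap = conv g.ofConv.toLinearMap h.ofConv.toLinearMap := by
  refine LinearMap.ext fun a => ?_
  change (g * h) a = _
  rw [Pt.mul_apply, conv, LinearMap.comp_apply, LinearMap.comp_apply]
  generalize comul (R := K) a = y
  induction y with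
  | zero => simp
  | add x y hx hy => rw [map_add, map_add, map_add, hx, hy]
  | tmul a b => rfl

lemma toLinearMap_one :
    (1 : Pt K A).ofConv.toLinearMap = CoalgebraStruct.counit (R := K) (A := A) := by
  refine LinearMap.ext fun a => ?_
  exact Pt.one_apply a

variable (K A V) in
/-- The representation of the group of points on a comodule. -/
noncomputable def comodRep : Representation K (Pt K A) V where
  toFun g := cact g.ofConv.toLinearMap
  map_one' := by
    rw [toLinearMap_one]
    exact LinearMap.ext fun v => cact_counit v
  map_mul' g h := by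
    rw [toLinearMap_mul]
    exact LinearMap.ext fun v => (cact_cact _ _ v).symm

lemma comodRep_apply (g : Pt K A) (v : V) : comodRep K A V g v = cact g.ofConv.toLinearMap v := rfl

theorem isAlg_comodRep : IsAlg (comodRep K A V) := by
  intro f v
  refine ⟨TensorProduct.lid K A (LinearMap.rTensor A f (HopfRep.Comod.coact (k := K) v)),
    fun g => ?_⟩
  rw [comodRep_apply, cact_apply]
  generalize HopfRep.Comod.coact (k := K) (A := A) v = y
  induction y with
  | zero => simp only [map_zero]
  | add x y hx hy => rw [map_add, map_add, hx, hy, map_add, map_add]; exact (map_add g.ofConv _ _).symm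
  | tmul x a =>
    rw [contr_tmul, map_smul, LinearMap.rTensor_tmul, TensorProduct.lid_tmul]
    change g.ofConv a * f x = g.ofConv (f x • a)
    rw [map_smul, smul_eq_mul, mul_comm]

lemma stabilizesLine_iff {v : V} {g : Pt K A} :
    SGA3.StabilizesLine K A v K g.ofConv ↔ ∃ c : K, comodRep K A V g v = c • v := by
  unfold SGA3.StabilizesLine
  refine exists_congr fun c => ?_
  rw [comodRep_apply, cact_apply, contr_eq_lTensor, ← (TensorProduct.rid K V).injective.eq_iff,
    TensorProduct.rid_tmul]

variable [Algebra.FiniteType K A]

/-- **Chevalley's theorem**: a closed subgroup scheme is the stabilizer of a line. -/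
theorem exists_line_ideal (I : Ideal A) [I.IsHopfIdeal K] :
    ∃ (V : Type u) (_ : AddCommGroup V) (_ : Module K V) (_ : FiniteDimensional K V)
      (ρ : Representation K (Pt K A) V) (v : V), IsAlg ρ ∧ v ≠ 0 ∧
      ∀ g : Pt K A, g ∈ zeros I ↔ ∃ c : K, ρ g v = c • v := by
  obtain ⟨V, _, _, _, _, v, hv, h⟩ := Groth.Agent.S3019.result K A I
  refine ⟨V, inferInstance, inferInstance, inferInstance, comodRep K A V, v, isAlg_comodRep, hv,
    fun g => ?_⟩
  rw [← stabilizesLine_iff]
  exact h K g.ofConv

/-- **Chevalley's theorem**: a closed subgroup of the group of points is the stabilizer of a line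
in an algebraic representation. -/
theorem exists_line {H : Subgroup (Pt K A)} (hH : IsCl (H : Set (Pt K A))) :
    ∃ (V : Type u) (_ : AddCommGroup V) (_ : Module K V) (_ : FiniteDimensional K V)
      (ρ : Representation K (Pt K A) V) (v : V), IsAlg ρ ∧ v ≠ 0 ∧
      ∀ g : Pt K A, g ∈ H ↔ ∃ c : K, ρ g v = c • v := by
  obtain ⟨V, _, _, _, ρ, v, hρ, hv, h⟩ := exists_line_ideal (K := K)
    (vanIdeal (H : Set (Pt K A)))
  refine ⟨V, inferInstance, inferInstance, inferInstance, ρ, v, hρ, hv, fun g => ?_⟩
  rw [← h]
  exact ⟨fun hg a ha => ha g hg, fun hg => hH hg⟩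

/-- **Chevalley's theorem**: a closed subgroup of the group of points is the stabilizer of a line
in an algebraic representation. -/
theorem exists_lineStab {H : Subgroup (Pt K A)} (hH : IsCl (H : Set (Pt K A))) :
    ∃ (V : Type u) (_ : AddCommGroup V) (_ : Module K V) (_ : FiniteDimensional K V)
      (ρ : Representation K (Pt K A) V) (v : V), IsAlg ρ ∧ v ≠ 0 ∧ H = lineStab ρ v := by
  obtain ⟨V, _, _, _, ρ, v, hρ, hv, h⟩ := exists_line hH
  refine ⟨V, inferInstance, inferInstance, inferInstance, ρ, v, hρ, hv, ?_⟩
  refine Subgroup.ext fun g => ?_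
  rw [h, mem_lineStab_iff, Submodule.mem_span_singleton]
  exact exists_congr fun c => eq_comm

end Groth.Agent.Sga3B.RG.ChevLine187
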