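import Mathlib.RingTheory.MvPolynomial.Basic
import Mathlib.RingTheory.MvPolynomial.Homogeneous
import Mathlib.LinearAlgebra.Dual.Basis
import Mathlib.RingTheory.Nullstellensatz
import Mathlib.LinearAlgebra.Basis.VectorSpace
import Mathlib.LinearAlgebra.FiniteDimensional.Lemmas
import Mathlib.LinearAlgebra.FiniteDimensional.Defs

/-!
# Zariski closed subsets of a vector space, in classical language

`PolyFun K V` is the algebra of polynomial functions on a `K`-vector space `V` (the subalgebra of
`V → K` generated by the linear functionals), `ZClosed K Y` says that the subset `Y` of `V` is the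
zero set of polynomial functions, `zclosure K Y` is the Zariski closure, and `IsCone K Y` says that
`Y` is stable under all scalars.
-/

set_option autoImplicit false
universe u v w

namespace Groth.Agent.Sga3B.RG

open Module

section Defs

variable (K : Type u) [Field K] (V : Type v) [AddCommGroup V] [Module K V]

/-- The algebra of polynomial functions on the vector space `V`. -/
def PolyFun : Subalgebra K (V → K) :=
  Algebra.adjoin K (Set.range fun f : Dual K V => (f : V → K))

variable {V}

/-- The Zariski closure of a subset of a vector space. -/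
def zclosure (Y : Set V) : Set V :=
  {v | ∀ p ∈ PolyFun K V, (∀ y ∈ Y, p y = 0) → p v = 0}

/-- A subset of a vector space is Zariski closed. -/
def ZClosed (Y : Set V) : Prop :=
  ∀ v, (∀ p ∈ PolyFun K V, (∀ y ∈ Y, p y = 0) → p v = 0) → v ∈ Y

/-- A subset of a vector space is a cone if it is stable under all scalars. -/
def IsCone (Y : Set V) : Prop := ∀ (c : K), ∀ y ∈ Y, c • y ∈ Y

/-- A subset of a vector space is (Zariski) irreducible, in terms of polynomial functions. -/
def IsIrred (Y : Set V) : Prop :=
  Y.Nonempty ∧ ∀ p ∈ PolyFun K V, ∀ q ∈ PolyFun K V, (∀ y ∈ Y, p y * q y = 0) →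
    (∀ y ∈ Y, p y = 0) ∨ (∀ y ∈ Y, q y = 0)

end Defs

section Basic

variable {K : Type u} [Field K] {V : Type v} [AddCommGroup V] [Module K V]
  {W : Type w} [AddCommGroup W] [Module K W]

theorem polyFun_of_dual (f : Dual K V) : (f : V → K) ∈ PolyFun K V :=
  Algebra.subset_adjoin ⟨f, rfl⟩

theorem polyFun_const (c : K) : (fun _ : V => c) ∈ PolyFun K V :=
  (PolyFun K V).algebraMap_mem c

/-- Polynomial functions pull back to polynomial functions along linear maps. -/
theorem polyFun_comp (φ : V →ₗ[K] W) {p : W → K} (hp : p ∈ PolyFun K W) :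
    (fun v => p (φ v)) ∈ PolyFun K V := by
  induction hp using Algebra.adjoin_induction with
  | mem x hx =>
    obtain ⟨f, rfl⟩ := hx
    exact polyFun_of_dual (f ∘ₗ φ)
  | algebraMap r => exact polyFun_const r
  | add x y _ _ hx hy => exact (PolyFun K V).add_mem hx hy
  | mul x y _ _ hx hy => exact (PolyFun K V).mul_mem hx hy

/-- A polynomial function is a polynomial in the coordinates with respect to a basis. -/
theorem mem_polyFun_iff {ι : Type*} (b : Basis ι K V) [Finite ι] (p : V → K) :
    p ∈ PolyFun K V ↔ ∃ P : MvPolynomial ι K, ∀ v, p v = MvPolynomial.eval (fun i => b.repr v i) P := by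
  classical
  have := Fintype.ofFinite ι
  constructor
  · intro hp
    induction hp using Algebra.adjoin_induction with
    | mem x hx =>
      obtain ⟨f, rfl⟩ := hx
      refine ⟨∑ i, MvPolynomial.C (f (b i)) * MvPolynomial.X i, fun v => ?_⟩
      simp only [map_sum, map_mul, MvPolynomial.eval_C, MvPolynomial.eval_X]
      conv_lhs => rw [← b.sum_repr v, map_sum]
      refine Finset.sum_congr rfl fun i _ => ?_
      rw [map_smul, smul_eq_mul, mul_comm]
    | algebraMap r => exact ⟨MvPolynomial.C r, fun v => by simp⟩
    | add x y _ _ hx hy =>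
      obtain ⟨P, hP⟩ := hx
      obtain ⟨Q, hQ⟩ := hy
      exact ⟨P + Q, fun v => by simp [hP, hQ]⟩
    | mul x y _ _ hx hy =>
      obtain ⟨P, hP⟩ := hx
      obtain ⟨Q, hQ⟩ := hy
      exact ⟨P * Q, fun v => by simp [hP, hQ]⟩
  · rintro ⟨P, hP⟩
    have : p = fun v => MvPolynomial.eval (fun i => b.repr v i) P := funext hP
    rw [this]
    clear this hP
    induction P using MvPolynomial.induction_on with
    | C a => simpa using polyFun_const a
    | add p q hp hq =>
      have := (PolyFun K V).add_mem hp hq
      simp only [map_add]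
      exact this
    | mul_X p i hp =>
      have := (PolyFun K V).mul_mem hp (polyFun_of_dual (b.coord i))
      simp only [map_mul, MvPolynomial.eval_X]
      exact this

theorem subset_zclosure (Y : Set V) : Y ⊆ zclosure K Y := fun y hy _ _ h => h y hy

theorem zclosure_mono {Y Z : Set V} (h : Y ⊆ Z) : zclosure K Y ⊆ zclosure K Z :=
  fun _ hv p hp hpz => hv p hp fun y hy => hpz y (h hy)

theorem zclosed_zclosure (Y : Set V) : ZClosed K (zclosure K Y) :=
  fun _ hv p hp hpy => hv p hp fun _ hy => hy p hp hpy

theorem ZClosed.zclosure_eq {Y : Set V} (h : ZClosed K Y) : zclosure K Y = Y :=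
  Set.Subset.antisymm (fun v hv => h v hv) (subset_zclosure Y)

theorem zclosure_subset {Y Z : Set V} (h : Y ⊆ Z) (hZ : ZClosed K Z) : zclosure K Y ⊆ Z := by
  rw [← hZ.zclosure_eq]
  exact zclosure_mono h

/-- The preimage of a closed set under a linear map is closed. -/
theorem ZClosed.preimage {Z : Set W} (hZ : ZClosed K Z) (φ : V →ₗ[K] W) :
    ZClosed K (φ ⁻¹' Z) := by
  intro v hv
  refine hZ (φ v) fun p hp hpz => hv (fun x => p (φ x)) (polyFun_comp φ hp) fun y hy => hpz _ hy

theorem ZClosed.inter {Y Z : Set V} (hY : ZClosed K Y) (hZ : ZClosed K Z) : ZClosed K (Y ∩ Z) :=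
  fun v hv => ⟨hY v fun p hp h => hv p hp fun y hy => h y hy.1,
    hZ v fun p hp h => hv p hp fun y hy => h y hy.2⟩

theorem zclosed_iInter {ι : Sort*} {Y : ι → Set V} (hY : ∀ i, ZClosed K (Y i)) :
    ZClosed K (⋂ i, Y i) := by
  intro v hv
  rw [Set.mem_iInter]
  intro i
  exact hY i v fun p hp h => hv p hp fun y hy => h y (Set.mem_iInter.mp hy i)

/-- The zero set of a family of polynomial functions is closed. -/
theorem zclosed_zeros (S : Set (V → K)) (hS : S ⊆ (PolyFun K V : Set (V → K))) :
    ZClosed K {v | ∀ p ∈ S, p v = 0} :=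
  fun _ hv p hp => hv p (hS hp) fun _ hy => hy p hp

theorem zclosed_submodule (W : Submodule K V) : ZClosed K (W : Set V) := by
  intro v hv
  by_contra hne
  obtain ⟨f, hf0, hf⟩ := Submodule.exists_le_ker_of_notMem hne
  exact hf0 (hv f (polyFun_of_dual f) fun y hy => LinearMap.mem_ker.mp (hf hy))

theorem zclosure_isCone [Infinite K] {Y : Set V} (hY : IsCone K Y) : IsCone K (zclosure K Y) := by
  intro c v hv p hp hpy
  exact hv (fun x => p (c • x)) (polyFun_comp (c • LinearMap.id) hp) fun y hy => hpy _ (hY c y hy)

theorem IsIrred.zclosure {Y : Set V} (hY : IsIrred K Y) : IsIrred K (zclosure K Y) := by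
  refine ⟨hY.1.mono (subset_zclosure Y), fun p hp q hq h => ?_⟩
  rcases hY.2 p hp q hq (fun y hy => h y (subset_zclosure Y hy)) with h1 | h1
  · exact Or.inl fun y hy => hy p hp h1
  · exact Or.inr fun y hy => hy q hq h1

end Basic

end Groth.Agent.Sga3B.RG
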