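import Groth.Agent.Sga3B.RG.Closed2
import Groth.Agent.Sga3B.RG.Wt
import Groth.Agent.Sga3B.RG.FaithRep
import Mathlib.LinearAlgebra.JordanChevalley
import Mathlib.LinearAlgebra.Semisimple
import Mathlib.LinearAlgebra.Eigenspace.Basic
import Mathlib.FieldTheory.Perfect
import Mathlib.FieldTheory.Separable
import Mathlib.LinearAlgebra.Projection
import Mathlib.LinearAlgebra.Dual.Basis

/-!
# Jordan decompositions of points in a representation

* `isSemisimple_of_torus`: torus points act semisimply;
* `jordan_unique`: uniqueness of the multiplicative Jordan decomposition of operators;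
* `isNilpotent_of_isUnip`: unipotent points act unipotently in algebraic representations;
* `isUnip_map`, `isUnip_conj`: functoriality of unipotent points.
-/

set_option autoImplicit false

universe u w

open WithConv TensorProduct Coalgebra

namespace Groth.Agent.Sga3B.RG.ConjJordan

section Ring

lemma isNilpotent_conj_sub_one {R : Type*} [Ring R] {g x y : R} (hg : IsNilpotent (g - 1))
    (hxy : x * y = 1) (hyx : y * x = 1) : IsNilpotent (x * g * y - 1) := by
  obtain ⟨n, hn⟩ := hg
  refine ⟨n, ?_⟩
  have h2 : x * g * y - 1 = x * (g - 1) * y := by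
    rw [mul_sub, mul_one, sub_mul, hxy]
  have h4 : ∀ k : ℕ, (x * (g - 1) * y) ^ k = x * (g - 1) ^ k * y := by
    intro k
    induction k with
    | zero => rw [pow_zero, pow_zero, mul_one, hxy]
    | succ k ih =>
      rw [pow_succ, ih, pow_succ]
      calc x * (g - 1) ^ k * y * (x * (g - 1) * y)
          = x * (g - 1) ^ k * (y * x) * (g - 1) * y := by simp only [mul_assoc]
        _ = x * ((g - 1) ^ k * (g - 1)) * y := by rw [hyx, mul_one]; simp only [mul_assoc]
  rw [h2, h4, hn, mul_zero, zero_mul]

end Ring

section Lin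

variable {K : Type u} [Field K] {V : Type w} [AddCommGroup V] [Module K V]

/-- A commutative operator killed on a spanning family by `X - λ`, `λ` in a finite set, is
semisimple. -/
lemma isSemisimple_of_forall [FiniteDimensional K V] (f : Module.End K V) (Λ : Finset K)
    (P : Submodule K V) (hP : P = ⊤)
    (h : P ≤ ⨆ l ∈ Λ, Module.End.eigenspace f l) : f.IsSemisimple := by
  classical
  let p : Polynomial K := ∏ l ∈ Λ, (Polynomial.X - Polynomial.C l)
  have hp : Squarefree p := by
    apply Polynomial.Separable.squarefree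
    exact Polynomial.separable_prod_X_sub_C_iff'.2 (fun x _ y _ h => h)
  refine Module.End.isSemisimple_of_squarefree_aeval_eq_zero hp ?_
  rw [← LinearMap.ker_eq_top, eq_top_iff, ← hP]
  refine h.trans ?_
  refine iSup_le fun l => iSup_le fun hl => ?_
  intro v hv
  rw [LinearMap.mem_ker]
  have hv' : f v = l • v := Module.End.mem_eigenspace_iff.1 hv
  have h1 : p = (∏ l' ∈ Λ.erase l, (Polynomial.X - Polynomial.C l')) *
      (Polynomial.X - Polynomial.C l) := by
    rw [Finset.prod_erase_mul _ _ hl]
  rw [h1, map_mul, Module.End.mul_apply]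
  have h2 : (Polynomial.aeval f (Polynomial.X - Polynomial.C l)) v = 0 := by
    rw [map_sub, Polynomial.aeval_X, Polynomial.aeval_C, LinearMap.sub_apply, hv',
      Module.algebraMap_end_apply, sub_self]
  rw [h2, map_zero]

/-- Uniqueness of the multiplicative Jordan decomposition. -/
theorem jordan_unique [PerfectField K] [FiniteDimensional K V] {s n s' n' : Module.End K V}
    (hs : s.IsSemisimple) (hs' : s'.IsSemisimple) (hn : IsNilpotent (n - 1))
    (hn' : IsNilpotent (n' - 1)) (hc : Commute s n) (hc' : Commute s' n')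
    (h : s * n = s' * n') : s = s' := by
  have e1 : s * n = s * (n - 1) + s := by rw [mul_sub, mul_one, sub_add_cancel]
  have e2 : s' * n' = s' * (n' - 1) + s' := by rw [mul_sub, mul_one, sub_add_cancel]
  have c1 : Commute s (n - 1) := hc.sub_right (Commute.one_right s)
  have c2 : Commute s' (n' - 1) := hc'.sub_right (Commute.one_right s')
  have n1 : IsNilpotent (s * (n - 1)) := c1.isNilpotent_mul_left hn
  have n2 : IsNilpotent (s' * (n' - 1)) := c2.isNilpotent_mul_left hn'
  have d1 : Commute (s * (n - 1)) s := (Commute.refl s).mul_left c1.symm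
  have d2 : Commute (s' * (n' - 1)) s' := (Commute.refl s').mul_left c2.symm
  exact (Module.End.isNilpotent_isSemisimple_unique n1 hs n2 hs' d1 d2
    (by rw [← e1, ← e2, h])).2

end Lin

section Tor

variable {K : Type u} [Field K] {A : Type u} [CommRing A] [HopfAlgebra K A]
variable {V : Type w} [AddCommGroup V] [Module K V] {G : Type} [CommGroup G]

/-- Torus points act semisimply. -/
theorem isSemisimple_of_torus [FiniteDimensional K V] (hG : Function.Injective (torChar K G))
    (π : A →ₐc[K] MonoidAlgebra K G) {ρ : Representation K (Pt K A) V} (hρ : IsAlg ρ)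
    {s : Pt K A} (hs : s ∈ (Pt.map π).range) : Module.End.IsSemisimple (ρ s) := by
  classical
  obtain ⟨D⟩ := nonempty_torDec hG π hρ
  obtain ⟨y, rfl⟩ := hs
  obtain ⟨t, rfl⟩ := (torPt G).surjective y
  refine isSemisimple_of_forall _ (D.S.image fun m => torChar K G m t) ⊤ rfl ?_
  intro v _
  rw [← D.sum_P v]
  refine Submodule.sum_mem _ fun m hm => ?_
  have h1 : D.P m v ∈ Module.End.eigenspace (ρ (Pt.map π (torPt G t))) (torChar K G m t) :=
    Module.End.mem_eigenspace_iff.2 (D.σ_P hG m t v)
  exact Submodule.mem_iSup_of_mem _ (Submodule.mem_iSup_of_mem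
    (Finset.mem_image_of_mem (fun m => torChar K G m t) hm) h1)

end Tor

section Unip

variable {K : Type u} [Field K] [IsAlgClosed K]
variable {A : Type u} [CommRing A] [HopfAlgebra K A] [Algebra.FiniteType K A] [IsReduced A]
variable {B : Type u} [CommRing B] [HopfAlgebra K B] [Algebra.FiniteType K B] [IsReduced B]
variable {V : Type w} [AddCommGroup V] [Module K V]

/-- The matrix coefficient map attached to a linear form. -/
lemma exists_coefMap {ρ : Representation K (Pt K B) V} (hρ : IsAlg ρ) (f : Module.Dual K V) :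
    ∃ c : V →ₗ[K] B, ∀ (v : V) (x : Pt K B), x (c v) = f (ρ x v) := by
  choose c hc using fun v => hρ f v
  refine ⟨{ toFun := c, map_add' := fun v w => ?_, map_smul' := fun r v => ?_ }, fun v x =>
    (hc v x).symm⟩
  · apply eq_of_forall_pt (K := K)
    intro x
    have h1 : x (c v + c w) = x (c v) + x (c w) := map_add x.ofConv _ _
    rw [h1, ← hc, ← hc, ← hc, map_add, map_add]
  · apply eq_of_forall_pt (K := K)
    intro x
    have h1 : x (r • c v) = r • x (c v) := map_smul x.ofConv _ _
    rw [RingHom.id_apply, h1, ← hc, ← hc, map_smul, map_smul]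

/-- Unipotent points act unipotently. -/
theorem isNilpotent_of_isUnip [FiniteDimensional K V] {ρ : Representation K (Pt K B) V}
    (hρ : IsAlg ρ) {g : Pt K B} (hg : IsUnip g) : IsNilpotent (ρ g - 1) := by
  classical
  rw [Module.End.isNilpotent_iff_of_finite]
  intro v
  let b := Module.finBasis K V
  choose c hc using fun f => exists_coefMap hρ f
  have hcomm : ∀ (f : Module.Dual K V) (w : V), c f (ρ g w) = rTr g (c f w) := by
    intro f w
    apply eq_of_forall_pt (K := K)
    intro x
    rw [hc, rTr_apply_pt, hc, map_mul]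
    rfl
  have hpow : ∀ (f : Module.Dual K V) (n : ℕ) (w : V), c f (((ρ g - 1) ^ n) w) =
      (((rTr g).toLinearMap - 1) ^ n) (c f w) := by
    intro f n
    induction n with
    | zero => intro w; simp
    | succ n ih =>
      intro w
      rw [pow_succ, Module.End.mul_apply, ih, pow_succ, Module.End.mul_apply,
        LinearMap.sub_apply, LinearMap.sub_apply, Module.End.one_apply, Module.End.one_apply,
        map_sub, hcomm]
      rfl
  choose N hN using fun i => hg (c (b.coord i) v)
  let M : ℕ := Finset.univ.sup N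
  refine ⟨M, ?_⟩
  apply b.ext_elem
  intro i
  have hi : (((rTr g).toLinearMap - 1) ^ M) (c (b.coord i) v) = 0 := by
    obtain ⟨k, hk⟩ := Nat.exists_eq_add_of_le (Finset.le_sup (f := N) (Finset.mem_univ i))
    change (((rTr g).toLinearMap - 1) ^ (Finset.univ.sup N)) (c (b.coord i) v) = 0
    rw [hk, add_comm, pow_add, Module.End.mul_apply, hN, map_zero]
  have h2 := hc (b.coord i) (((ρ g - 1) ^ M) v) 1
  rw [hpow, hi] at h2
  have h3 : (1 : Pt K B) (0 : B) = 0 := map_zero (1 : Pt K B).ofConv
  rw [h3, map_one, Module.End.one_apply, Module.Basis.coord_apply] at h2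
  rw [← h2]
  simp

/-- A point which acts unipotently on all stable finite dimensional spaces of functions is
unipotent. -/
lemma isUnip_of_isNilpotent {g : Pt K A}
    (h : ∀ (W : Submodule K A) (hW : ∀ g : Pt K A, ∀ w ∈ W, rTr g w ∈ W),
      FiniteDimensional K W → IsNilpotent (subRTr W hW g - 1)) : IsUnip g := by
  intro a
  obtain ⟨W, hWf, ha, hW⟩ := exists_stable_submodule (K := K) a
  obtain ⟨n, hn⟩ := h W hW hWf
  refine ⟨n, ?_⟩
  have h2 : ∀ (j : ℕ) (w : W), ((((subRTr W hW g - 1) ^ j) w : W) : A) =
      (((rTr g).toLinearMap - 1) ^ j) (w : A) := by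
    intro j
    induction j with
    | zero => intro w; simp
    | succ j ih =>
      intro w
      rw [pow_succ, Module.End.mul_apply, pow_succ, Module.End.mul_apply, ih]
      rfl
  rw [← h2 n ⟨a, ha⟩, hn]
  rfl

/-- Images of unipotent points are unipotent. -/
theorem isUnip_map (φ : A →ₐc[K] B) {g : Pt K B} (hg : IsUnip g) : IsUnip (Pt.map φ g) := by
  apply isUnip_of_isNilpotent
  intro W hW hWf
  have h1 : IsAlg ((subRTr W hW).comp (Pt.map φ) : Representation K (Pt K B) W) := by
    intro f v
    obtain ⟨a, ha⟩ := isAlg_subRTr hW f v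
    exact ⟨φ a, fun g => ha _⟩
  exact isNilpotent_of_isUnip h1 hg

/-- Conjugates of unipotent points are unipotent. -/
theorem isUnip_conj {g : Pt K A} (hg : IsUnip g) (c : Pt K A) : IsUnip (c * g * c⁻¹) := by
  apply isUnip_of_isNilpotent
  intro W hW hWf
  have h1 := isNilpotent_of_isUnip (isAlg_subRTr hW) hg
  have h2 : subRTr W hW (c * g * c⁻¹) = subRTr W hW c * subRTr W hW g * subRTr W hW c⁻¹ := by
    rw [map_mul, map_mul]
  have h3 : subRTr W hW c * subRTr W hW c⁻¹ = 1 := by rw [← map_mul, mul_inv_cancel, map_one]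
  have h4 : subRTr W hW c⁻¹ * subRTr W hW c = 1 := by rw [← map_mul, inv_mul_cancel, map_one]
  rw [h2]
  exact isNilpotent_conj_sub_one (R := Module.End K W) h1 h3 h4

end Unip

end Groth.Agent.Sga3B.RG.ConjJordan
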