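import Groth.Agent.Sga3B.RG.ConjPts
import Groth.Agent.Sga3B.RG.ConjJordan
import Groth.Agent.Sga3B.RG.RepAlg
import Mathlib.LinearAlgebra.Eigenspace.Zero
import Mathlib.LinearAlgebra.Projection
import Mathlib.LinearAlgebra.Determinant

/-!
# A function detecting regular semisimple parts

For a torus `π` in the group of points and a faithful representation `ρ` there is a function `f`
such that if `s` is in the torus, `u` is unipotent and commutes with the torus and `f (s u) ≠ 0` then
the centralizer of `s` is the centralizer of the torus.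
-/

set_option autoImplicit false

universe u w

open WithConv TensorProduct Coalgebra

namespace Groth.Agent.Sga3B.RG.ConjDetect

open ConjJordan

section Lin

variable {K : Type u} [Field K] {V : Type w} [AddCommGroup V] [Module K V]
  [FiniteDimensional K V]

lemma det_of_isNilpotent {u : Module.End K V} (h : IsNilpotent (u - 1)) :
    LinearMap.det u = 1 := by
  have h1 : IsNilpotent (1 - u) := by
    have := h.neg
    rwa [neg_sub] at this
  have h2 := LinearMap.eval_charpoly (1 - u) (1 : K)
  rw [h1.charpoly_eq_X_pow_finrank, Polynomial.eval_pow, Polynomial.eval_X, one_pow, map_one,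
    sub_sub_cancel] at h2
  exact h2.symm

lemma exists_det_idem {P : Module.End K V} (hP : P * P = P) :
    ∃ r : ℕ, (P ≠ 0 → r ≠ 0) ∧ ∀ x : K, LinearMap.det (x • P + (1 - P)) = x ^ r := by
  classical
  have hid : IsIdempotentElem P := hP
  let W : Submodule K V := LinearMap.range P
  have hW : ∀ w ∈ W, P w = w := by
    rintro _ ⟨v, rfl⟩
    exact congrArg (fun f => f v) hP
  refine ⟨Module.finrank K W, ?_, ?_⟩
  · intro hne h0
    apply hne
    have h1 : W = ⊥ := Submodule.finrank_eq_zero.1 h0
    exact LinearMap.range_eq_bot.1 h1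
  · intro x
    have he : W ≤ W.comap (x • P + (1 - P)) := by
      intro w hw
      change x • P w + (w - P w) ∈ W
      rw [hW w hw, sub_self, add_zero]
      exact W.smul_mem x hw
    rw [LinearMap.det_eq_det_mul_det W _ he]
    have h1 : LinearMap.restrict (x • P + (1 - P)) (p := W) (q := W) (fun w hw => he hw) =
        x • (LinearMap.id : W →ₗ[K] W) := by
      ext w
      change x • P w + ((w : V) - P w) = x • (w : V)
      rw [hW w w.2, sub_self, add_zero]
    have h2 : W.mapQ W (x • P + (1 - P)) he = LinearMap.id := by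
      apply LinearMap.ext
      intro y
      obtain ⟨v, rfl⟩ := W.mkQ_surjective y
      rw [Submodule.mkQ_apply, Submodule.mapQ_apply, LinearMap.id_apply]
      rw [Submodule.Quotient.eq]
      change x • P v + (v - P v) - v ∈ W
      have : x • P v + (v - P v) - v = (x - 1) • P v := by
        rw [sub_smul, one_smul]; abel
      rw [this]
      exact W.smul_mem _ ⟨v, rfl⟩
    rw [h1, h2, LinearMap.det_smul, LinearMap.det_id, LinearMap.det_id, mul_one, mul_one]

end Lin

section Fun

variable {K : Type u} [Field K] {A : Type u} [CommRing A] [HopfAlgebra K A]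
variable {V : Type w} [AddCommGroup V] [Module K V] [FiniteDimensional K V]

lemma isFun_det {ρ : Representation K (Pt K A) V} (hρ : IsAlg ρ) (P Q : Module.End K V) :
    IsFun (fun g : Pt K A => LinearMap.det (P * (ρ g : Module.End K V) + Q)) := by
  classical
  let b := Module.finBasis K V
  have h1 : ∀ i j, IsFun (fun g : Pt K A =>
      b.coord i ((P * (ρ g : Module.End K V) + Q) (b j))) := by
    intro i j
    have h2 := (hρ.isFun (b.coord i ∘ₗ P) (b j)).add (isFun_const (A := A) (b.coord i (Q (b j))))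
    obtain ⟨a, ha⟩ := h2
    refine ⟨a, fun g => ?_⟩
    rw [← ha g]
    change b.coord i (P (ρ g (b j)) + Q (b j)) = _
    rw [map_add]
    rfl
  choose a ha using h1
  refine ⟨(Matrix.of a).det, fun g => ?_⟩
  beta_reduce
  rw [← LinearMap.det_toMatrix b]
  rw [AlgHom.map_det]
  congr 1
  ext i j
  rw [LinearMap.toMatrix_apply]
  exact ha i j g

end Fun

section Main

variable {K : Type u} [Field K] [IsAlgClosed K] {A : Type u} [CommRing A] [HopfAlgebra K A]
variable {V : Type w} [AddCommGroup V] [Module K V] [FiniteDimensional K V]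
variable {n : ℕ} (π : A →ₐc[K] MonoidAlgebra K (Multiplicative (Fin n → ℤ)))

omit [FiniteDimensional K V] in
/-- A point of the torus separating the weights of a faithful representation has the same
centralizer as the torus. -/
lemma mem_centralizer_of_separating {ρ : Representation K (Pt K A) V}
    (hinj : Function.Injective ρ)
    (D : WtDec.Dec (torChar K (Multiplicative (Fin n → ℤ)))
      (ρ.comp ((Pt.map π).comp (torPt (Multiplicative (Fin n → ℤ))).toMonoidHom)))
    {t : Multiplicative (Fin n → ℤ) →* Kˣ}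
    (ht : ∀ m ∈ D.S, ∀ m' ∈ D.S, D.P m ≠ 0 → D.P m' ≠ 0 → m ≠ m' → (t m : K) ≠ t m')
    {g : Pt K A} (hg : g * Pt.map π (torPt _ t) = Pt.map π (torPt _ t) * g) :
    g ∈ Subgroup.centralizer ((Pt.map π).range : Set (Pt K A)) := by
  classical
  have hG : Function.Injective (torChar K (Multiplicative (Fin n → ℤ))) := torChar_injective n
  have hcomm : ∀ v, ρ g (ρ (Pt.map π (torPt _ t)) v) = ρ (Pt.map π (torPt _ t)) (ρ g v) := by
    intro v
    rw [← Module.End.mul_apply, ← Module.End.mul_apply]
    exact congrArg (fun f : V →ₗ[K] V => f v) ((map_mul ρ _ _).symm.trans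
      ((congrArg ρ hg).trans (map_mul ρ _ _)))
  have hP : ∀ m m' v, m ≠ m' → D.P m' (ρ g (D.P m v)) = 0 := by
    intro m m' v hne
    by_cases hm : m ∈ D.S
    swap
    · rw [D.P_eq_zero m hm, LinearMap.zero_apply, map_zero, map_zero]
    by_cases hm' : m' ∈ D.S
    swap
    · rw [D.P_eq_zero m' hm', LinearMap.zero_apply]
    by_cases hm0 : D.P m = 0
    · rw [hm0, LinearMap.zero_apply, map_zero, map_zero]
    by_cases hm0' : D.P m' = 0
    · rw [hm0', LinearMap.zero_apply]
    have h1 := D.P_comm hG m' t (ρ g (D.P m v))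
    have h2 : ρ (Pt.map π (torPt _ t)) (ρ g (D.P m v)) = (t m : K) • ρ g (D.P m v) := by
      rw [← hcomm, ← map_smul]
      congr 1
      exact D.σ_P hG m t v
    change D.P m' (ρ (Pt.map π (torPt _ t)) (ρ g (D.P m v))) = (t m' : K) • _ at h1
    rw [h2, map_smul, ← sub_eq_zero, ← sub_smul] at h1
    rcases smul_eq_zero.1 h1 with h3 | h3
    · exact absurd (sub_eq_zero.1 h3) (ht m hm m' hm' hm0 hm0' hne)
    · exact h3
  have hPg : ∀ m v, D.P m (ρ g v) = ρ g (D.P m v) := by
    intro m v
    have h1 : ρ g v = ∑ m' ∈ D.S, ρ g (D.P m' v) := by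
      rw [← map_sum, D.sum_P]
    rw [h1, map_sum]
    by_cases hm : m ∈ D.S
    · rw [Finset.sum_eq_single m]
      · have h2 := D.sum_P (ρ g (D.P m v))
        rw [Finset.sum_eq_single m] at h2
        · exact h2
        · intro m' _ hne
          exact hP m m' v (Ne.symm hne)
        · exact fun h => absurd hm h
      · intro m' _ hne
        exact hP m' m v hne
      · exact fun h => absurd hm h
    · rw [D.P_eq_zero m hm, LinearMap.zero_apply, map_zero]
      exact Finset.sum_eq_zero fun m' _ => by rw [LinearMap.zero_apply]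
  rw [Subgroup.mem_centralizer_iff]
  rintro x hx
  obtain ⟨t', rfl⟩ := exists_torPt π hx
  apply hinj
  refine (map_mul ρ _ _).trans (Eq.trans ?_ (map_mul ρ _ _).symm)
  apply LinearMap.ext
  intro v
  change ρ (Pt.map π (torPt _ t')) (ρ g v) = ρ g (ρ (Pt.map π (torPt _ t')) v)
  have h1 : ∀ w, ρ (Pt.map π (torPt _ t')) w = ∑ m ∈ D.S, (t' m : K) • D.P m w := fun w =>
    (D.sum_smul t' w).symm
  rw [h1, h1, map_sum]
  refine Finset.sum_congr rfl fun m _ => ?_
  rw [map_smul, hPg]

/-- A function detecting whether the semisimple part is regular. -/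
theorem exists_detect {ρ : Representation K (Pt K A) V} (hρ : IsAlg ρ)
    (hinj : Function.Injective ρ) :
    ∃ f : A, (∃ s ∈ (Pt.map π).range, s f ≠ 0) ∧ ∀ s ∈ (Pt.map π).range, ∀ u : Pt K A,
      u ∈ Subgroup.centralizer ((Pt.map π).range : Set (Pt K A)) →
      IsNilpotent ((ρ u : Module.End K V) - 1) → (s * u) f ≠ 0 → ∀ g : Pt K A, g * s = s * g →
      g ∈ Subgroup.centralizer ((Pt.map π).range : Set (Pt K A)) := by
  classical
  have hG : Function.Injective (torChar K (Multiplicative (Fin n → ℤ))) := torChar_injective n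
  obtain ⟨D⟩ := nonempty_torDec hG π hρ
  have hidem : ∀ m, D.P m * D.P m = D.P m := by
    intro m
    apply LinearMap.ext
    intro v
    exact D.P_of_mem hG (D.P_mem hG m v)
  choose r hr0 hr using fun m => exists_det_idem (hidem m)
  choose d hd' using fun m => isFun_det hρ (D.P m) (1 - D.P m)
  have hd : ∀ m (g : Pt K A), LinearMap.det (D.P m * (ρ g : Module.End K V) + (1 - D.P m)) =
    g (d m) := hd'
  let Q : Finset (Multiplicative (Fin n → ℤ) × Multiplicative (Fin n → ℤ)) :=
    (D.S ×ˢ D.S).filter fun p => p.1 ≠ p.2 ∧ D.P p.1 ≠ 0 ∧ D.P p.2 ≠ 0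
  have key : ∀ (t : Multiplicative (Fin n → ℤ) →* Kˣ) (u : Pt K A),
      u ∈ Subgroup.centralizer ((Pt.map π).range : Set (Pt K A)) →
      IsNilpotent ((ρ u : Module.End K V) - 1) → ∀ m,
      (Pt.map π (torPt _ t) * u) (d m) = (t m : K) ^ r m := by
    intro t u hu hun m
    rw [← hd, ← hr m]
    have hPu : ∀ v, D.P m (ρ u v) = ρ u (D.P m v) := by
      intro v
      have hmem : ∀ m' w, ρ u (D.P m' w) ∈ WtDec.wt (torChar K _)
          (ρ.comp ((Pt.map π).comp (torPt (Multiplicative (Fin n → ℤ))).toMonoidHom)) m' := by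
        intro m' w t'
        have h1 : Pt.map π (torPt _ t') * u = u * Pt.map π (torPt _ t') :=
          (Subgroup.mem_centralizer_iff.1 hu _ ⟨_, rfl⟩)
        change ρ (Pt.map π (torPt _ t')) (ρ u (D.P m' w)) = _
        have h2 : ρ (Pt.map π (torPt _ t')) (ρ u (D.P m' w)) =
            ρ u (ρ (Pt.map π (torPt _ t')) (D.P m' w)) :=
          congrArg (fun f : V →ₗ[K] V => f (D.P m' w)) ((map_mul ρ _ _).symm.trans
            ((congrArg ρ h1).trans (map_mul ρ _ _)))
        rw [h2, ← map_smul]
        congr 1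
        exact D.σ_P hG m' t' w
      conv_lhs => rw [← D.sum_P v, map_sum, map_sum]
      by_cases hm : m ∈ D.S
      · rw [Finset.sum_eq_single m]
        · exact D.P_of_mem hG (hmem m v)
        · intro m' _ hne
          exact D.P_of_mem_of_ne hG (hmem m' v) (Ne.symm hne)
        · exact fun h => absurd hm h
      · rw [D.P_eq_zero m hm, LinearMap.zero_apply, map_zero]
        exact Finset.sum_eq_zero fun m' _ => by rw [LinearMap.zero_apply]
    have hfac : D.P m * (ρ (Pt.map π (torPt _ t) * u) : Module.End K V) + (1 - D.P m) =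
        ((t m : K) • D.P m + (1 - D.P m)) * (D.P m * (ρ u : Module.End K V) + (1 - D.P m)) := by
      apply LinearMap.ext
      intro v
      have e1 : ρ (Pt.map π (torPt _ t) * u) v = ρ (Pt.map π (torPt _ t)) (ρ u v) :=
        congrArg (fun f : V →ₗ[K] V => f v) (map_mul ρ _ _)
      have e2 : D.P m (ρ (Pt.map π (torPt _ t)) (ρ u v)) = (t m : K) • D.P m (ρ u v) :=
        D.P_comm hG m t (ρ u v)
      have e3 : ∀ w, D.P m (D.P m w) = D.P m w := fun w => D.P_of_mem hG (D.P_mem hG m w)
      change D.P m (ρ (Pt.map π (torPt _ t) * u) v) + (v - D.P m v) =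
        (t m : K) • D.P m (D.P m (ρ u v) + (v - D.P m v)) +
          ((D.P m (ρ u v) + (v - D.P m v)) - D.P m (D.P m (ρ u v) + (v - D.P m v)))
      rw [e1, e2, map_add, map_sub, e3, e3, sub_self, add_zero]
      abel
    rw [hfac, map_mul]
    have hdet : LinearMap.det (D.P m * (ρ u : Module.End K V) + (1 - D.P m)) = 1 := by
      apply det_of_isNilpotent
      have e4 : D.P m * (ρ u : Module.End K V) + (1 - D.P m) - 1 =
          D.P m * ((ρ u : Module.End K V) - 1) := by
        rw [mul_sub, mul_one]; abel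
      rw [e4]
      refine Commute.isNilpotent_mul_left ?_ hun
      have e5 : Commute (D.P m) (ρ u : Module.End K V) := LinearMap.ext hPu
      exact e5.sub_right (Commute.one_right _)
    rw [hdet, mul_one]
  have key' : ∀ (t : Multiplicative (Fin n → ℤ) →* Kˣ) (u : Pt K A),
      u ∈ Subgroup.centralizer ((Pt.map π).range : Set (Pt K A)) →
      IsNilpotent ((ρ u : Module.End K V) - 1) →
      (Pt.map π (torPt _ t) * u) (∏ p ∈ Q, (d p.1 ^ r p.2 - d p.2 ^ r p.1)) =
        ∏ p ∈ Q, (((t p.1 : K) ^ r p.1) ^ r p.2 - ((t p.2 : K) ^ r p.2) ^ r p.1) := by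
    intro t u hu hun
    have h1 : (Pt.map π (torPt _ t) * u) (∏ p ∈ Q, (d p.1 ^ r p.2 - d p.2 ^ r p.1)) =
        ∏ p ∈ Q, (((Pt.map π (torPt _ t) * u) (d p.1)) ^ r p.2 -
          ((Pt.map π (torPt _ t) * u) (d p.2)) ^ r p.1) := by
      change (Pt.map π (torPt _ t) * u).ofConv _ = _
      rw [map_prod]
      refine Finset.prod_congr rfl fun p _ => ?_
      rw [map_sub, map_pow, map_pow]
    rw [h1]
    refine Finset.prod_congr rfl fun p _ => ?_
    rw [key t u hu hun, key t u hu hun]
  refine ⟨∏ p ∈ Q, (d p.1 ^ r p.2 - d p.2 ^ r p.1), ?_, ?_⟩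
  · obtain ⟨t, ht⟩ := exists_char_ne_one (K := K)
      (Q.image fun p => (p.1 * p.2⁻¹) ^ (r p.1 * r p.2))
    refine ⟨Pt.map π (torPt _ t), ⟨_, rfl⟩, ?_⟩
    have h1 := key' t 1 (one_mem _) (by rw [map_one]; exact ⟨1, by rw [pow_one]; exact sub_self _⟩)
    rw [mul_one] at h1
    rw [h1, Finset.prod_ne_zero_iff]
    intro p hp h0
    obtain ⟨-, hne, hp1, hp2⟩ := Finset.mem_filter.1 hp
    have hN : r p.1 * r p.2 ≠ 0 := mul_ne_zero (hr0 _ hp1) (hr0 _ hp2)
    have hm1 : (p.1 * p.2⁻¹) ^ (r p.1 * r p.2) ≠ 1 := by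
      intro h
      apply hne
      have h2 : (r p.1 * r p.2) • ((p.1 * p.2⁻¹).toAdd) = 0 := h
      rcases smul_eq_zero.1 h2 with h3 | h3
      · exact absurd h3 hN
      · exact mul_inv_eq_one.1 h3
    apply ht _ (Finset.mem_image_of_mem _ hp) hm1
    rw [sub_eq_zero, ← pow_mul, ← pow_mul, mul_comm (r p.2)] at h0
    rw [map_pow, map_mul, map_inv, mul_pow, inv_pow, Units.val_mul, Units.val_inv_eq_inv_val,
      Units.val_pow_eq_pow_val, Units.val_pow_eq_pow_val, h0, mul_inv_cancel₀]
    exact pow_ne_zero _ (Units.ne_zero _)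
  · intro s hs u hu hun hf g hg
    obtain ⟨t, rfl⟩ := exists_torPt π hs
    refine mem_centralizer_of_separating π hinj D ?_ hg
    intro m hm m' hm' hm0 hm0' hne heq
    apply hf
    rw [key' t u hu hun]
    refine Finset.prod_eq_zero (i := (m, m')) (Finset.mem_filter.2
      ⟨Finset.mem_product.2 ⟨hm, hm'⟩, hne, hm0, hm0'⟩) ?_
    change ((t m : K) ^ r m) ^ r m' - ((t m' : K) ^ r m') ^ r m = 0
    rw [heq, ← pow_mul, ← pow_mul, mul_comm, sub_self]

end Main

end Groth.Agent.Sga3B.RG.ConjDetect
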