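import Groth.Agent.Books.AffBridge2
import Groth.Agent.Books.AlgPtsSmooth

/-!
# Reduced Hopf algebras of finite type over an algebraically closed field are smooth
-/

set_option autoImplicit false

universe u

open CategoryTheory AlgebraicGeometry

namespace Groth.Agent.Sga3B.RG

/-- A reduced commutative Hopf algebra of finite type over an algebraically closed field is
smooth. -/
theorem smooth_of_isReduced_RG (K : Type u) [Field K] [IsAlgClosed K] (A : Type u) [CommRing A]
    [HopfAlgebra K A] [Algebra.FiniteType K A] [IsReduced A] : Algebra.Smooth K A := by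
  have h1 : LocallyOfFiniteType (Groth.Agent.Books.AffBridge.SpecOver K A).hom :=
    (Groth.Agent.Books.AffBridge2.locallyOfFiniteType_specOver_iff K A).2 inferInstance
  have h2 : AlgebraicGeometry.IsReduced (Groth.Agent.Books.AffBridge.SpecOver K A).left :=
    inferInstanceAs (AlgebraicGeometry.IsReduced (Spec (CommRingCat.of A)))
  exact (Groth.Agent.Books.AffBridge2.smooth_specOver_iff K A).1
    (Groth.Agent.Books.AlgPtsSmooth.smooth_of_isReduced _)

end Groth.Agent.Sga3B.RG
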