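import Groth.Agent.Sga3B.RG.ConjRegular
import Groth.Agent.Sga3B.RG.SmoothRed
import Groth.Agent.Sga3B.RG.Closed2
import Groth.Agent.Sga3B.RG.Wt
import Groth.Agent.Sga3B.RG.ChevPts
import Mathlib.Algebra.MonoidAlgebra.NoZeroDivisors
import Mathlib.Algebra.Group.UniqueProds.Basic

/-!
# Conjugation by a torus on points; conjugates of the centralizer of a torus are dense

* `mem_centralizer_range_iff_JC`: the centralizer of a torus on points is the zero locus of `JC π`.
* `exists_isReg`: a torus has regular points.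
* `exists_conj_open`: `G = ⋃ g C_G(T) g⁻¹` generically.
-/

set_option autoImplicit false

universe u

open WithConv TensorProduct Coalgebra

namespace Groth.Agent.Sga3B.RG

open ConjGrade

section

variable {K : Type u} [Field K] {A : Type u} [CommRing A] [HopfAlgebra K A]
variable {G : Type} [CommGroup G] (π : A →ₐc[K] MonoidAlgebra K G)

lemma map_torPt_eq (t : G →* Kˣ) :
    Pt.map π (torPt G t) = tau π ((Units.coeHom K).comp t) := rfl

lemma exists_torPt {x : Pt K A} (hx : x ∈ (Pt.map π).range) :
    ∃ t : G →* Kˣ, x = Pt.map π (torPt G t) := by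
  obtain ⟨y, rfl⟩ := hx
  exact ⟨(torPt G).symm y, by rw [MulEquiv.apply_symm_apply]⟩

lemma conj_tau_apply (χ : G →* K) (x : Pt K A) (a : A) :
    ((tau π χ : Pt K A) * x * (tau π χ : Pt K A)⁻¹) a = x (wt π χ a) := by
  have h := conj_const (R := K) π χ x a
  exact h

/-- The centralizer of a diagonalizable subgroup on points. -/
theorem mem_centralizer_range_iff_JC (hG : Function.Injective (torChar K G)) (g : Pt K A) :
    g ∈ Subgroup.centralizer ((Pt.map π).range : Set (Pt K A)) ↔
      g ∈ (zeros (JC π) : Set (Pt K A)) := by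
  rw [Subgroup.mem_centralizer_iff]
  constructor
  · intro h a ha
    have key : JC π ≤ RingHom.ker g.ofConv := by
      rw [JC, Ideal.span_le]
      rintro b ⟨m, hm, hb⟩
      obtain ⟨t, ht⟩ : ∃ t : G →* Kˣ, (t m : K) ≠ 1 := by
        by_contra hcon
        push Not at hcon
        apply hm
        apply hG
        ext t
        rw [torChar_apply, torChar_apply, hcon t, map_one, Units.val_one]
      have h1 := h _ ⟨torPt G t, rfl⟩
      rw [map_torPt_eq] at h1
      have h2 : (tau π ((Units.coeHom K).comp t) : Pt K A) * g *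
          (tau π ((Units.coeHom K).comp t) : Pt K A)⁻¹ = g := by
        rw [h1, mul_inv_cancel_right]
      have h3 := conj_tau_apply π ((Units.coeHom K).comp t) g b
      rw [h2, wt_of_mem π _ hb] at h3
      have h4 : g (((Units.coeHom K).comp t) m • b) = (t m : K) * g b := by
        change g.ofConv _ = _ * g.ofConv b
        rw [map_smul]; rfl
      rw [h4] at h3
      have h5 : ((t m : K) - 1) * g b = 0 := by rw [sub_mul, one_mul, ← h3, sub_self]
      exact (mul_eq_zero.1 h5).resolve_left (sub_ne_zero.2 ht)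
    exact key ha
  · intro h x hx
    obtain ⟨t, rfl⟩ := exists_torPt π hx
    rw [map_torPt_eq]
    have h2 : (tau π ((Units.coeHom K).comp t) : Pt K A) * g *
        (tau π ((Units.coeHom K).comp t) : Pt K A)⁻¹ = g := by
      apply Pt.ext'
      intro a
      rw [conj_tau_apply]
      change g.ofConv _ = g.ofConv _
      induction a using induction_gr π with
      | h0 => simp
      | hadd a b ha hb => rw [map_add, map_add, map_add, ha, hb]
      | hgr m a ha =>
        rw [wt_of_mem π _ ha]
        by_cases hm : m = 1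
        · subst hm; rw [map_one, one_smul]
        · have h3 : g.ofConv a = 0 := h a (Ideal.subset_span ⟨m, hm, ha⟩)
          rw [map_smul, h3, smul_zero]
    exact mul_inv_eq_iff_eq_mul.1 h2

lemma centralizer_range_eq (hG : Function.Injective (torChar K G)) :
    (Subgroup.centralizer ((Pt.map π).range : Set (Pt K A)) : Set (Pt K A)) = zeros (JC π) :=
  Set.ext fun g => mem_centralizer_range_iff_JC π hG g

end

section Torus

variable {K : Type u} [Field K] [IsAlgClosed K] {A : Type u} [CommRing A] [HopfAlgebra K A]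
variable {n : ℕ} (π : A →ₐc[K] MonoidAlgebra K (Multiplicative (Fin n → ℤ)))

/-- Points of a torus at which finitely many given nontrivial characters are not `1`. -/
theorem exists_char_ne_one (F : Finset (Multiplicative (Fin n → ℤ))) :
    ∃ s : Multiplicative (Fin n → ℤ) →* Kˣ, ∀ m ∈ F, m ≠ 1 → (s m : K) ≠ 1 := by
  classical
  let G := Multiplicative (Fin n → ℤ)
  let P : MonoidAlgebra K G := ∏ m ∈ F.filter (· ≠ 1), (MonoidAlgebra.single m 1 - 1)
  have hP : P ≠ 0 := by
    rw [Finset.prod_ne_zero_iff]
    intro m hm h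
    have hm1 : m ≠ 1 := (Finset.mem_filter.1 hm).2
    rw [sub_eq_zero, MonoidAlgebra.one_def] at h
    have h1 := congrArg (fun f => MonoidAlgebra.coeff f m) h
    simp only [MonoidAlgebra.coeff_single, Finsupp.single_eq_same] at h1
    rw [Finsupp.single_eq_of_ne hm1] at h1
    exact one_ne_zero h1
  obtain ⟨f, hf⟩ := exists_algHom_ne_zero (K := K) hP
  refine ⟨(torPt G).symm (toConv f), ?_⟩
  intro m hm hm1 h
  apply hf
  rw [map_prod]
  refine Finset.prod_eq_zero (Finset.mem_filter.2 ⟨hm, hm1⟩) ?_
  rw [map_sub, map_one, sub_eq_zero]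
  have h2 := torPt_single G ((torPt G).symm (toConv f)) m 1
  rw [MulEquiv.apply_symm_apply, one_mul] at h2
  exact h2.trans h

/-- A torus has regular points (avoiding moreover any finite set of nontrivial characters). -/
theorem exists_isReg [Algebra.FiniteType K A] (F : Finset (Multiplicative (Fin n → ℤ))) :
    ∃ s : Multiplicative (Fin n → ℤ) →* Kˣ, IsReg π ((Units.coeHom K).comp s) ∧
      ∀ m ∈ F, m ≠ 1 → (s m : K) ≠ 1 := by
  classical
  have : IsNoetherianRing A := Algebra.FiniteType.isNoetherianRing K A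
  obtain ⟨F', hF'⟩ := exists_finset_weights π
  obtain ⟨s, hs⟩ := exists_char_ne_one (K := K) (F ∪ F')
  refine ⟨s, ?_, fun m hm hm1 => hs m (Finset.mem_union_left _ hm) hm1⟩
  intro m hm1 hsm
  refine hF' m ?_ hm1
  intro hmF
  exact hs m (Finset.mem_union_right _ hmF) hm1 hsm

/-- Points of the source of an injective map of domains of finite type: all points outside a
proper closed subset extend. -/
theorem exists_extend_open {A B : Type*} [CommRing A] [Algebra K A] [Algebra.FiniteType K A]
    [CommRing B] [IsDomain B] [Algebra K B] [Algebra.FiniteType K B] (φ : A →ₐ[K] B)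
    (hφ : Function.Injective φ) :
    ∃ h : A, h ≠ 0 ∧ ∀ y : A →ₐ[K] K, y h ≠ 0 → ∃ ψ : B →ₐ[K] K, ψ.comp φ = y := by
  classical
  obtain ⟨n, f, hf⟩ := (Algebra.FiniteType.iff_quotient_mvPolynomial'' (R := K) (S := A)).1
    inferInstance
  let a : Fin n → A := fun i => f (MvPolynomial.X i)
  have hfa : ∀ Q, f Q = MvPolynomial.aeval a Q := fun Q =>
    DFunLike.congr_fun (MvPolynomial.aeval_unique f) Q
  have hx : ∀ Q, MvPolynomial.aeval (fun i => φ (a i)) Q = φ (f Q) := by
    intro Q
    rw [hfa, ← AlgHom.comp_apply, MvPolynomial.comp_aeval]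
  obtain ⟨P, hP, hP'⟩ := exists_mvPolynomial_image (K := K) (fun i => φ (a i))
  refine ⟨f P, ?_, ?_⟩
  · intro h
    apply hP
    rw [hx, h, map_zero]
  · intro y hy
    have hy' : ∀ Q, MvPolynomial.eval (fun i => y (a i)) Q = y (f Q) := by
      intro Q
      rw [← MvPolynomial.coe_aeval_eq_eval]
      change MvPolynomial.aeval (fun i => y (a i)) Q = _
      rw [hfa, ← AlgHom.comp_apply, MvPolynomial.comp_aeval]
    obtain ⟨ψ, hψ⟩ := hP' (fun i => y (a i)) (fun Q hQ => by
      rw [hy']
      rw [hx] at hQ
      rw [(map_eq_zero_iff φ hφ).1 hQ, map_zero]) (by rw [hy']; exact hy)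
    refine ⟨ψ, ?_⟩
    apply AlgHom.ext
    intro b
    obtain ⟨Q, rfl⟩ := hf b
    have h1 : (ψ.comp φ).comp f = y.comp f := by
      apply MvPolynomial.algHom_ext
      intro i
      exact hψ i
    exact DFunLike.congr_fun h1 Q

omit [IsAlgClosed K] in
lemma finiteType_tensor (A B : Type*) [CommRing A] [Algebra K A] [Algebra.FiniteType K A]
    [CommRing B] [Algebra K B] [Algebra.FiniteType K B] : Algebra.FiniteType K (A ⊗[K] B) :=
  Algebra.FiniteType.trans (S := A) inferInstance inferInstance

/-- A generic point of `G` is conjugate to a (generic) point of the centralizer of the torus. -/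
theorem exists_conj_open [Algebra.FiniteType K A] [IsDomain A]
    (hC : IsConn (Subgroup.centralizer ((Pt.map π).range : Set (Pt K A)) : Set (Pt K A)))
    (f : A) (hf : ∃ c ∈ Subgroup.centralizer ((Pt.map π).range : Set (Pt K A)), c f ≠ 0) :
    ∃ h : A, h ≠ 0 ∧ ∀ y : Pt K A, y h ≠ 0 → ∃ g c : Pt K A,
      c ∈ Subgroup.centralizer ((Pt.map π).range : Set (Pt K A)) ∧ c f ≠ 0 ∧
      y = g * c * g⁻¹ := by
  classical
  have hinf : Infinite K := inferInstance
  have hG : Function.Injective (torChar K (Multiplicative (Fin n → ℤ))) := torChar_injective n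
  have hsm : Algebra.Smooth K A := smooth_of_isReduced_RG K A
  have hnoeth : IsNoetherianRing A := Algebra.FiniteType.isNoetherianRing K A
  set C : Set (Pt K A) := (Subgroup.centralizer ((Pt.map π).range : Set (Pt K A)) :
    Set (Pt K A)) with hCdef
  have hCz : C = zeros (JC π) := centralizer_range_eq π hG
  let J : Ideal A := vanIdeal C
  have hJ : J.IsPrime := hC
  have hmemC : ∀ c : Pt K A, (∀ a ∈ J, c a = 0) → c ∈ C := by
    intro c hc
    have h1 : IsCl C := by rw [hCz]; exact isCl_zeros _
    exact h1 hc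
  have hJC : JC π ≤ J := by
    intro a ha c hc
    rw [hCz] at hc
    exact hc a ha
  obtain ⟨s, hs, -⟩ := exists_isReg π ∅
  have hinj0 := conjMap_injective π ((Units.coeHom K).comp s) hs
  -- the map to `A ⊗ A/J` is still injective
  have hinj : Function.Injective (conjMap K J) := by
    rw [injective_iff_map_eq_zero]
    intro a ha
    have hnil : IsNilpotent (conjMap K (JC π) a) := by
      by_contra hcon
      have h1 : conjMap K (JC π) a ∉ (⊥ : Ideal (A ⊗[K] (A ⧸ JC π))).radical := hcon
      have hft := finiteType_tensor (K := K) A (A ⧸ JC π)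
      obtain ⟨P, -, hP⟩ := exists_algHom_of_notMem_radical (K := K) h1
      apply hP
      let g : A →ₐ[K] K := P.comp Algebra.TensorProduct.includeLeft
      let c : A ⧸ JC π →ₐ[K] K := P.comp Algebra.TensorProduct.includeRight
      have hPe : P = Algebra.TensorProduct.lift g c (fun _ _ => Commute.all _ _) := by
        apply Algebra.TensorProduct.ext
        · apply AlgHom.ext; intro x; simp [g]
        · apply AlgHom.ext; intro x; simp [c]
      let c₀ : Pt K A := toConv (c.comp (Ideal.Quotient.mkₐ K (JC π)))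
      have hc₀ : c₀ ∈ C := by
        rw [hCz]
        intro a ha
        change c (Ideal.Quotient.mk (JC π) a) = 0
        rw [Ideal.Quotient.eq_zero_iff_mem.2 ha, map_zero]
      let c' : A ⧸ J →ₐ[K] K := Ideal.Quotient.liftₐ J c₀.ofConv (fun a ha => ha c₀ hc₀)
      have h2 := DFunLike.congr_fun (lift_comp_conjMap J g c') a
      have h3 := DFunLike.congr_fun (lift_comp_conjMap (JC π) g c) a
      rw [AlgHom.comp_apply, ha, map_zero] at h2
      rw [AlgHom.comp_apply, ← hPe] at h3
      rw [h3]
      exact h2.symm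
    obtain ⟨N, hN⟩ := hnil
    rw [← map_pow] at hN
    exact IsReduced.eq_zero a ⟨N, (map_eq_zero_iff _ hinj0).1 hN⟩
  have hdA : IsDomain (A ⧸ J) := inferInstance
  have hdom : IsDomain (A ⊗[K] (A ⧸ J)) := isDomain_tensor
  let b : A ⊗[K] (A ⧸ J) := 1 ⊗ₜ Ideal.Quotient.mk J f
  have hb : b ≠ 0 := by
    intro h
    obtain ⟨c, hc, hcf⟩ := hf
    apply hcf
    let c' : A ⧸ J →ₐ[K] K := Ideal.Quotient.liftₐ J c.ofConv (fun a ha => ha c hc)
    have h1 := congrArg (Algebra.TensorProduct.lift c.ofConv c' (fun _ _ => Commute.all _ _)) h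
    rw [map_zero, Algebra.TensorProduct.lift_tmul, map_one, one_mul] at h1
    exact h1
  let B := Localization.Away b
  have hinjB : Function.Injective (algebraMap (A ⊗[K] (A ⧸ J)) B) :=
    IsLocalization.injective B (powers_le_nonZeroDivisors_of_noZeroDivisors hb)
  have hBdom : IsDomain B := IsLocalization.isDomain_localization
    (powers_le_nonZeroDivisors_of_noZeroDivisors hb)
  let ι : A ⊗[K] (A ⧸ J) →ₐ[K] B := IsScalarTower.toAlgHom K _ B
  have hBft : Algebra.FiniteType K B := by
    have h1 : Algebra.FiniteType (A ⊗[K] (A ⧸ J)) B := IsLocalization.finiteType_of_monoid_fg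
      (Submonoid.powers b) B
    exact Algebra.FiniteType.trans (finiteType_tensor A (A ⧸ J)) h1
  obtain ⟨h, hh, hext⟩ := exists_extend_open (ι.comp (conjMap K J)) (hinjB.comp hinj)
  refine ⟨h, hh, fun y hy => ?_⟩
  obtain ⟨ψ, hψ⟩ := hext y.ofConv hy
  let P := ψ.comp ι
  let g : A →ₐ[K] K := P.comp Algebra.TensorProduct.includeLeft
  let c : A ⧸ J →ₐ[K] K := P.comp Algebra.TensorProduct.includeRight
  have hPe : P = Algebra.TensorProduct.lift g c (fun _ _ => Commute.all _ _) := by
    apply Algebra.TensorProduct.ext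
    · apply AlgHom.ext; intro x; simp [g]
    · apply AlgHom.ext; intro x; simp [c]
  refine ⟨toConv g, toConv (c.comp (Ideal.Quotient.mkₐ K J)), ?_, ?_, ?_⟩
  · apply hmemC
    intro a ha
    change c (Ideal.Quotient.mk J a) = 0
    rw [Ideal.Quotient.eq_zero_iff_mem.2 ha, map_zero]
  · change c (Ideal.Quotient.mk J f) ≠ 0
    have h1 : c (Ideal.Quotient.mk J f) = ψ (algebraMap _ B b) := rfl
    rw [h1]
    have h2 : IsUnit (algebraMap (A ⊗[K] (A ⧸ J)) B b) := IsLocalization.Away.algebraMap_isUnit b
    exact (h2.map ψ).ne_zero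
  · apply WithConv.ofConv_injective
    rw [← hψ]
    have h1 := lift_comp_conjMap J g c
    rw [← hPe] at h1
    exact h1

end Torus

end Groth.Agent.Sga3B.RG
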