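import Mathlib.RingTheory.Nullstellensatz
import Mathlib.RingTheory.MvPolynomial.Homogeneous
import Mathlib.RingTheory.IntegralClosure.IsIntegral.Basic
import Mathlib.RingTheory.IntegralClosure.Algebra.Basic
import Mathlib.Algebra.MvPolynomial.Funext

/-!
# The finite projection lemma

`S ⊆ K^ι` a Zariski closed cone over an algebraically closed field, `E` a set of linear forms
without a common zero on `S \ {0}`.  Then the coordinate ring of `S` is integral over the
subalgebra generated by `E` (graded Nullstellensatz + graded Nakayama).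
-/

set_option autoImplicit false

open MvPolynomial

namespace Groth.Agent.Sga3B.RG.FinProj

universe u v

variable {K : Type u} [Field K] {ι : Type v}

/-- For `s` fixed, `c ↦ p (c s)` is the polynomial `∑ pₙ(s) cⁿ`. -/
lemma aeval_smul_eq (p : MvPolynomial ι K) (s : ι → K) (c : K) :
    aeval (c • s) p = ∑ n ∈ Finset.range (p.totalDegree + 1),
      aeval s (homogeneousComponent n p) * c ^ n := by
  conv_lhs => rw [← sum_homogeneousComponent p]
  rw [map_sum]
  refine Finset.sum_congr rfl fun n _ => ?_
  have h : ∀ q : MvPolynomial ι K, q.IsHomogeneous n → aeval (c • s) q = aeval s q * c ^ n := by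
    intro q hq
    rw [MvPolynomial.aeval_def, MvPolynomial.aeval_def, eval₂_eq, eval₂_eq, Finset.sum_mul]
    refine Finset.sum_congr rfl fun d hd => ?_
    have hdeg : d.degree = n := by
      by_contra hne
      exact (mem_support_iff.1 hd) (hq.coeff_eq_zero hne)
    rw [← hdeg, mul_assoc]
    congr 1
    rw [Finsupp.degree_apply, ← Finset.prod_pow_eq_pow_sum, ← Finset.prod_mul_distrib]
    refine Finset.prod_congr rfl fun i _ => ?_
    rw [Pi.smul_apply, smul_eq_mul, mul_pow, mul_comm]
  exact h _ (homogeneousComponent_isHomogeneous n p)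

/-- The homogeneous components of a polynomial vanishing on a cone vanish on the cone. -/
lemma homogeneousComponent_mem_vanishingIdeal [Infinite K] {S : Set (ι → K)}
    (hS : ∀ (c : K), ∀ s ∈ S, c • s ∈ S) {p : MvPolynomial ι K} (hp : p ∈ vanishingIdeal K S)
    (n : ℕ) : homogeneousComponent n p ∈ vanishingIdeal K S := by
  intro s hs
  let q : Polynomial K := ∑ n ∈ Finset.range (p.totalDegree + 1),
    Polynomial.C (aeval s (homogeneousComponent n p)) * Polynomial.X ^ n
  have hq : q = 0 := by
    refine Polynomial.funext fun c => ?_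
    have h1 : Polynomial.eval c q = aeval (c • s) p := by
      rw [aeval_smul_eq, Polynomial.eval_finsetSum]
      simp
    rw [h1, hp _ (hS c s hs), Polynomial.eval_zero]
  by_cases hn : n ∈ Finset.range (p.totalDegree + 1)
  · have h2 : q.coeff n = aeval s (homogeneousComponent n p) := by
      rw [Polynomial.finsetSum_coeff]
      simp only [Polynomial.coeff_C_mul, Polynomial.coeff_X_pow]
      rw [Finset.sum_eq_single n]
      · simp
      · intro m _ hm
        rw [if_neg (Ne.symm hm), mul_zero]
      · intro h
        exact absurd hn h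
    rw [← h2, hq, Polynomial.coeff_zero]
  · rw [homogeneousComponent_eq_zero, map_zero]
    simpa using hn

lemma homogeneousComponent_mul_of_isHomogeneous_one (q e : MvPolynomial ι K)
    (he : e.IsHomogeneous 1) (n : ℕ) :
    homogeneousComponent (n + 1) (q * e) = homogeneousComponent n q * e := by
  have key : ∀ m, homogeneousComponent (n + 1) (homogeneousComponent m q * e) =
      if m = n then homogeneousComponent n q * e else 0 := by
    intro m
    have hh : (homogeneousComponent m q * e) ∈ homogeneousSubmodule ι K (m + 1) :=
      (homogeneousComponent_isHomogeneous m q).mul he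
    rw [homogeneousComponent_of_mem hh]
    by_cases h : m = n
    · subst h; simp
    · rw [if_neg h, if_neg (by omega)]
  conv_lhs => rw [← sum_homogeneousComponent q]
  rw [Finset.sum_mul, map_sum]
  simp only [key]
  rw [Finset.sum_ite_eq']
  by_cases hn : n ∈ Finset.range (q.totalDegree + 1)
  · rw [if_pos hn]
  · rw [if_neg hn, homogeneousComponent_eq_zero, zero_mul]
    simpa using hn

section

variable [IsAlgClosed K] [Finite ι] {S : Set (ι → K)} {E : Set (MvPolynomial ι K)}

/-- Some power of every coordinate lies in `I(S) + (E)`. -/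
lemma exists_pow_mem (hclosed : zeroLocus K (vanishingIdeal K S) ⊆ S)
    (hE0 : ∀ s ∈ S, (∀ e ∈ E, aeval s e = 0) → s = 0) :
    ∃ N : ℕ, 0 < N ∧ ∀ i : ι, (X i : MvPolynomial ι K) ^ N ∈ vanishingIdeal K S ⊔ Ideal.span E := by
  classical
  have h1 : ∀ i : ι, ∃ N : ℕ, (X i : MvPolynomial ι K) ^ N ∈ vanishingIdeal K S ⊔ Ideal.span E := by
    intro i
    have h2 : (X i : MvPolynomial ι K) ∈
        vanishingIdeal K (zeroLocus K (vanishingIdeal K S ⊔ Ideal.span E)) := by
      intro s hs
      have hs1 : s ∈ S := hclosed fun p hp => hs p (Ideal.mem_sup_left hp)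
      have hs2 : s = 0 := hE0 s hs1 fun e he => hs e (Ideal.mem_sup_right (Ideal.subset_span he))
      rw [hs2, aeval_X, Pi.zero_apply]
    rw [vanishingIdeal_zeroLocus_eq_radical] at h2
    exact h2
  choose N hN using h1
  have := Fintype.ofFinite ι
  refine ⟨∑ i, N i + 1, Nat.succ_pos _, fun i => ?_⟩
  have hle : N i ≤ ∑ i, N i + 1 :=
    (Finset.single_le_sum (f := N) (fun _ _ => Nat.zero_le _) (Finset.mem_univ i)).trans
      (Nat.le_succ _)
  rw [← Nat.sub_add_cancel hle, pow_add]
  exact Ideal.mul_mem_left _ _ (hN i)

/-- **Finite projection lemma**: the coordinate ring of a closed cone is finite over the algebra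
generated by a set of linear forms without common zero. -/
theorem finite_quotient (hcone : ∀ (c : K), ∀ s ∈ S, c • s ∈ S)
    (hclosed : zeroLocus K (vanishingIdeal K S) ⊆ S)
    (hE : ∀ e ∈ E, e.IsHomogeneous 1)
    (hE0 : ∀ s ∈ S, (∀ e ∈ E, aeval s e = 0) → s = 0) :
    Module.Finite (Algebra.adjoin K E) (MvPolynomial ι K ⧸ vanishingIdeal K S) := by
  classical
  have := Fintype.ofFinite ι
  obtain ⟨N, hN0, hN⟩ := exists_pow_mem hclosed hE0
  let n0 : ℕ := Fintype.card ι * N
  let B : Set (MvPolynomial ι K) := (fun d : ι →₀ ℕ => monomial d (1 : K)) '' {d | d.degree ≤ n0}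
  have hBfin : B.Finite := by
    refine Set.Finite.image _ ?_
    exact (Finsupp.finite_of_degree_le n0)
  let M : Submodule (Algebra.adjoin K E) (MvPolynomial ι K) :=
    (Submodule.restrictScalars (Algebra.adjoin K E) (vanishingIdeal K S)) ⊔
      Submodule.span (Algebra.adjoin K E) B
  have hEM : ∀ e ∈ E, ∀ p ∈ M, p * e ∈ M := by
    intro e he p hp
    have h := M.smul_mem (⟨e, Algebra.subset_adjoin he⟩ : Algebra.adjoin K E) hp
    rwa [Subalgebra.smul_def, smul_eq_mul, mul_comm] at h
  have hKM : ∀ (c : K), ∀ p ∈ M, c • p ∈ M := by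
    intro c p hp
    have h := M.smul_mem (algebraMap K (Algebra.adjoin K E) c) hp
    rwa [algebraMap_smul] at h
  have hmono : ∀ n : ℕ, ∀ p : MvPolynomial ι K, p.totalDegree ≤ n → p ∈ M := by
    intro n
    induction n using Nat.strong_induction_on with
    | _ n ih =>
      intro p hp
      rw [p.as_sum]
      refine Submodule.sum_mem _ fun d hd => ?_
      have hdn : d.degree ≤ n := by
        have := le_totalDegree hd
        rw [Finsupp.degree_apply]
        exact this.trans hp
      have hcm : monomial d (coeff d p) = coeff d p • monomial d (1 : K) := by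
        rw [smul_monomial, smul_eq_mul, mul_one]
      rw [hcm]
      refine hKM _ _ ?_
      by_cases hdn0 : d.degree ≤ n0
      · exact Submodule.mem_sup_right (Submodule.subset_span ⟨d, hdn0, rfl⟩)
      obtain ⟨i, hi⟩ : ∃ i, N ≤ d i := by
        by_contra hcon
        push Not at hcon
        apply hdn0
        rw [Finsupp.degree_eq_sum]
        calc ∑ i, d i ≤ ∑ _i : ι, N := Finset.sum_le_sum fun i _ => (hcon i).le
          _ = n0 := by simp [n0]
      let d' : ι →₀ ℕ := d - Finsupp.single i N
      have hd' : Finsupp.single i N + d' = d := by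
        refine add_tsub_cancel_of_le ?_
        rw [Finsupp.single_le_iff]
        exact hi
      have hdeg : N + d'.degree = d.degree := by
        rw [← hd', map_add, Finsupp.degree_single]
      have hfac : monomial d (1 : K) = (X i) ^ N * monomial d' 1 := by
        rw [X_pow_eq_monomial, monomial_mul, hd', one_mul]
      obtain ⟨N', rfl⟩ : ∃ N', N = N' + 1 := ⟨N - 1, by omega⟩
      obtain ⟨u, hu, w, hw, huw⟩ := Submodule.mem_sup.1 (hN i)
      have hX : (X i : MvPolynomial ι K) ^ (N' + 1) =
          homogeneousComponent (N' + 1) u + homogeneousComponent (N' + 1) w := by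
        rw [← map_add, huw]
        refine (homogeneousComponent_eq_self ?_).symm
        exact isHomogeneous_X_pow i (N' + 1)
      rw [hfac, hX, add_mul]
      refine M.add_mem ?_ ?_
      · refine Submodule.mem_sup_left ?_
        rw [Submodule.restrictScalars_mem]
        exact Ideal.mul_mem_right _ _ (homogeneousComponent_mem_vanishingIdeal hcone hu _)
      · have key : ∀ w ∈ Ideal.span E, ∀ r : MvPolynomial ι K,
            homogeneousComponent (N' + 1) (r * w) * monomial d' 1 ∈ M := by
          intro w hw
          induction hw using Submodule.span_induction with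
          | mem e he =>
            intro r
            rw [homogeneousComponent_mul_of_isHomogeneous_one r e (hE e he), mul_right_comm]
            refine hEM e he _ (ih (n - 1) (by omega) _ ?_)
            refine (totalDegree_mul _ _).trans ?_
            have h1 := (homogeneousComponent_isHomogeneous N' r).totalDegree_le
            have h2 : (monomial d' (1 : K)).totalDegree = d'.degree := by
              rw [totalDegree_monomial _ one_ne_zero, Finsupp.degree_apply]; rfl
            omega
          | zero => intro r; simp
          | add x y _ _ hx hy =>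
            intro r
            rw [mul_add, map_add, add_mul]
            exact M.add_mem (hx r) (hy r)
          | smul a x _ hx =>
            intro r
            rw [smul_eq_mul, ← mul_assoc]
            exact hx _
        have := key w hw 1
        rwa [one_mul] at this
  refine ⟨⟨(hBfin.image (Ideal.Quotient.mk (vanishingIdeal K S))).toFinset, ?_⟩⟩
  rw [Set.Finite.coe_toFinset, eq_top_iff]
  rintro x -
  obtain ⟨p, rfl⟩ := Ideal.Quotient.mk_surjective x
  have hp := hmono _ p le_rfl
  obtain ⟨u, hu, w, hw, rfl⟩ := Submodule.mem_sup.1 hp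
  rw [map_add]
  refine Submodule.add_mem _ ?_ ?_
  · rw [Ideal.Quotient.eq_zero_iff_mem.2 hu]
    exact Submodule.zero_mem _
  · clear hp
    induction hw using Submodule.span_induction with
    | mem e he => exact Submodule.subset_span ⟨e, he, rfl⟩
    | zero => rw [map_zero]; exact Submodule.zero_mem _
    | add x y _ _ hx hy =>
      rw [map_add]
      exact Submodule.add_mem _ hx hy
    | smul a x _ hx =>
      have h : Ideal.Quotient.mk (vanishingIdeal K S) (a • x) =
          a • Ideal.Quotient.mk (vanishingIdeal K S) x := rfl
      rw [h]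
      exact Submodule.smul_mem _ _ hx

/-- Integral equation form: every polynomial satisfies a monic equation on `S` with coefficients
in the algebra generated by the linear forms `E`. -/
theorem exists_monic (hcone : ∀ (c : K), ∀ s ∈ S, c • s ∈ S)
    (hclosed : zeroLocus K (vanishingIdeal K S) ⊆ S)
    (hE : ∀ e ∈ E, e.IsHomogeneous 1)
    (hE0 : ∀ s ∈ S, (∀ e ∈ E, aeval s e = 0) → s = 0) (p : MvPolynomial ι K) :
    ∃ Q : Polynomial (Algebra.adjoin K E), Q.Monic ∧
      Polynomial.aeval p Q ∈ vanishingIdeal K S := by
  have := finite_quotient hcone hclosed hE hE0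
  obtain ⟨Q, hQ, hQ0⟩ := IsIntegral.of_finite (Algebra.adjoin K E)
    (Ideal.Quotient.mk (vanishingIdeal K S) p)
  refine ⟨Q, hQ, ?_⟩
  rw [← Ideal.Quotient.eq_zero_iff_mem]
  have h1 : Ideal.Quotient.mk (vanishingIdeal K S) (Polynomial.aeval p Q) =
      Polynomial.aeval (Ideal.Quotient.mk (vanishingIdeal K S) p) Q := by
    exact (Polynomial.aeval_algHom_apply
      (Ideal.Quotient.mkₐ (Algebra.adjoin K E) (vanishingIdeal K S)) p Q).symm
  rw [h1]
  exact hQ0

end

end Groth.Agent.Sga3B.RG.FinProj
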