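import Groth.Agent.Books.ComodSocle
import Mathlib.LinearAlgebra.Eigenspace.Triangularizable
import Mathlib.LinearAlgebra.Eigenspace.Minpoly
import Mathlib.RingTheory.HopfAlgebra.MonoidAlgebra
import Mathlib.RingTheory.HopfAlgebra.Convolution
import Mathlib.RingTheory.Bialgebra.MonoidAlgebra
import Mathlib.Algebra.DirectSum.Module
import Mathlib.GroupTheory.Finiteness
import Mathlib.LinearAlgebra.FreeModule.PID
import Mathlib.RingTheory.FiniteType
import Mathlib.Algebra.Module.Torsion.Basic
import Mathlib.GroupTheory.OrderOfElement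

/-!
# Cocharacters from points with independent eigenvalues

Let `B` be a finitely generated commutative Hopf algebra over an algebraically closed field `L` and
`g : B → L` a point.  The generalized eigenspaces of the translation `b ↦ b₁ g(b₂)` grade the
algebra `B`.  If two eigenvalues have a ratio which is not a root of unity there is a cocharacter
which separates them.
-/

set_option autoImplicit false

universe u v w

open TensorProduct HopfRep LaurentPolynomial
open Groth.Agent.Books.ComodDual Groth.Agent.Books.ComodSocle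

namespace Groth.Agent.Sga3B.RG.GenEig

section alg

variable {k : Type u} {B : Type v} [Field k] [CommRing B] [Algebra k B]

/-- Generalized eigenspaces of an algebra endomorphism are multiplicative. -/
lemma mul_mem_maxGenEigenspace (φ : B →ₐ[k] B) (l m : k) {x y : B}
    (hx : x ∈ Module.End.maxGenEigenspace φ.toLinearMap l)
    (hy : y ∈ Module.End.maxGenEigenspace φ.toLinearMap m) :
    x * y ∈ Module.End.maxGenEigenspace φ.toLinearMap (l * m) := by
  have key : ∀ (s N M : ℕ), N + M = s → ∀ x y : B,
      ((φ.toLinearMap - l • (1 : Module.End k B)) ^ N) x = 0 →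
      ((φ.toLinearMap - m • (1 : Module.End k B)) ^ M) y = 0 →
      x * y ∈ Module.End.maxGenEigenspace φ.toLinearMap (l * m) := by
    intro s
    induction s using Nat.strong_induction_on with
    | _ s ih =>
      intro N M hs x y hx hy
      rcases N with _ | N
      · have : x = 0 := by simpa using hx
        rw [this, zero_mul]; exact Submodule.zero_mem _
      rcases M with _ | M
      · have : y = 0 := by simpa using hy
        rw [this, mul_zero]; exact Submodule.zero_mem _
      -- it suffices that `(φ - lm) (xy)` lies in the space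
      have h1 : (φ.toLinearMap - (l * m) • (1 : Module.End k B)) (x * y) =
          ((φ.toLinearMap - l • (1 : Module.End k B)) x) * φ y +
            l • (x * ((φ.toLinearMap - m • (1 : Module.End k B)) y)) := by
        simp only [LinearMap.sub_apply, LinearMap.smul_apply, Module.End.one_apply,
          AlgHom.toLinearMap_apply, map_mul]
        simp only [Algebra.smul_def, map_mul]
        ring
      have hφy : ((φ.toLinearMap - m • (1 : Module.End k B)) ^ (M + 1)) (φ y) = 0 := by
        have hc : Commute ((φ.toLinearMap - m • (1 : Module.End k B)) ^ (M + 1))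
            φ.toLinearMap := by
          apply Commute.pow_left
          exact (Commute.refl _).sub_left ((Commute.one_left _).smul_left _)
        have h2 := LinearMap.congr_fun hc.eq y
        simp only [Module.End.mul_apply, AlgHom.toLinearMap_apply] at h2
        rw [h2, hy, map_zero]
      have hx' : ((φ.toLinearMap - l • (1 : Module.End k B)) ^ N)
          ((φ.toLinearMap - l • (1 : Module.End k B)) x) = 0 := by
        rw [← Module.End.mul_apply, ← pow_succ]; exact hx
      have hy' : ((φ.toLinearMap - m • (1 : Module.End k B)) ^ M)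
          ((φ.toLinearMap - m • (1 : Module.End k B)) y) = 0 := by
        rw [← Module.End.mul_apply, ← pow_succ]; exact hy
      have h2 := ih (N + (M + 1)) (by omega) N (M + 1) rfl _ _ hx' hφy
      have h3 := ih ((N + 1) + M) (by omega) (N + 1) M rfl _ _ hx hy'
      have h4 : (φ.toLinearMap - (l * m) • (1 : Module.End k B)) (x * y) ∈
          Module.End.maxGenEigenspace φ.toLinearMap (l * m) := by
        rw [h1]
        exact Submodule.add_mem _ h2 (Submodule.smul_mem _ _ h3)
      rw [Module.End.mem_maxGenEigenspace] at h4 ⊢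
      obtain ⟨n, hn⟩ := h4
      exact ⟨n + 1, by rw [pow_succ, Module.End.mul_apply, hn]⟩
  rw [Module.End.mem_maxGenEigenspace] at hx hy
  obtain ⟨N, hN⟩ := hx
  obtain ⟨M, hM⟩ := hy
  exact key _ N M rfl x y hN hM

lemma one_mem_maxGenEigenspace (φ : B →ₐ[k] B) :
    (1 : B) ∈ Module.End.maxGenEigenspace φ.toLinearMap 1 := by
  rw [Module.End.mem_maxGenEigenspace]
  exact ⟨1, by simp⟩

/-- An element of infinite order of a finitely generated commutative group is detected by a
homomorphism to `ℤ`. -/
lemma exists_hom_int {Λ : Type v} [CommGroup Λ] [Group.FG Λ] (r : Λ)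
    (hr : ∀ n : ℕ, 0 < n → r ^ n ≠ 1) : ∃ h : Λ →* Multiplicative ℤ, h r ≠ 1 := by
  let M := Additive Λ
  have hfin : Module.Finite ℤ M := by
    rw [Module.Finite.iff_addGroup_fg]
    infer_instance
  let Q := M ⧸ Submodule.torsion ℤ M
  have hfree : Module.Free ℤ Q := by infer_instance
  let q : Q := (Submodule.torsion ℤ M).mkQ (Additive.ofMul r)
  have hq : q ≠ 0 := by
    intro h0
    rw [show q = (Submodule.torsion ℤ M).mkQ (Additive.ofMul r) from rfl, Submodule.mkQ_apply,
      Submodule.Quotient.mk_eq_zero, Submodule.mem_torsion_iff] at h0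
    obtain ⟨a, ha⟩ := h0
    have ha0 : (a : ℤ) ≠ 0 := nonZeroDivisors.coe_ne_zero a
    have h1 : r ^ (a : ℤ) = 1 := by
      have : (a : ℤ) • Additive.ofMul r = 0 := ha
      simpa using congrArg Additive.toMul this
    have h2 : r ^ (a : ℤ).natAbs = 1 := by
      rcases Int.natAbs_eq (a : ℤ) with h | h
      · rw [h, zpow_natCast] at h1; exact h1
      · rw [h, zpow_neg, zpow_natCast, inv_eq_one] at h1; exact h1
    exact hr _ (Int.natAbs_pos.2 ha0) h2
  obtain ⟨f, hf⟩ : ∃ f : Q →ₗ[ℤ] ℤ, f q ≠ 0 := by
    by_contra hcon
    push Not at hcon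
    exact hq ((Module.forall_dual_apply_eq_zero_iff ℤ q).1 hcon)
  let F : M →+ ℤ := (f ∘ₗ (Submodule.torsion ℤ M).mkQ).toAddMonoidHom
  refine ⟨AddMonoidHom.toMultiplicativeRight F, ?_⟩
  intro h
  apply hf
  have : F (Additive.ofMul r) = 0 := by
    have := congrArg Multiplicative.toAdd h
    simpa using this
  exact this

end alg

section hopf

variable {L : Type u} {B : Type v} [Field L] [CommRing B] [HopfAlgebra L B]

/-- Right translation by a point, `b ↦ b₁ g(b₂)`, as an algebra endomorphism. -/
noncomputable def rtr (g : B →ₐ[L] L) : B →ₐ[L] B :=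
  (Algebra.TensorProduct.lift (AlgHom.id L B) ((Algebra.ofId L B).comp g)
    (fun _ _ => Commute.all _ _)).comp (Bialgebra.comulAlgHom L B)

lemma rtr_apply (g : B →ₐ[L] L) (b : B) : rtr g b = cact g.toLinearMap b := by
  rw [rtr, AlgHom.comp_apply, Bialgebra.comulAlgHom_apply, cact_regular]
  generalize CoalgebraStruct.comul (R := L) (A := B) b = z
  induction z with
  | zero => simp
  | add x y hx hy => simp only [map_add, hx, hy]
  | tmul x y => simp [Algebra.ofId_apply, Algebra.smul_def, mul_comm]

lemma rtr_toLinearMap (g : B →ₐ[L] L) : (rtr g).toLinearMap = cact g.toLinearMap := by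
  ext b
  exact rtr_apply g b

/-- Translation by the inverse. -/
lemma cact_antipode_cact (g : B →ₐ[L] L) {V : Type w} [AddCommGroup V] [Module L V] [Comod L B V]
    (v : V) :
    cact (g.toLinearMap ∘ₗ HopfAlgebra.antipode L) (cact g.toLinearMap v) = v := by
  rw [cact_cact]
  have : conv (g.toLinearMap ∘ₗ HopfAlgebra.antipode L) g.toLinearMap =
      CoalgebraStruct.counit (R := L) (A := B) := by
    ext b
    have h := congrArg g (HopfAlgebra.mul_antipode_rTensor_comul_apply (R := L) b)
    rw [AlgHom.commutes] at h
    rw [conv, LinearMap.comp_apply, LinearMap.comp_apply]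
    refine Eq.trans ?_ h
    generalize CoalgebraStruct.comul (R := L) (A := B) b = z
    induction z with
    | zero => simp
    | add x y hx hy => simp only [map_add, hx, hy]
    | tmul x y => simp
  rw [this, cact_counit]

lemma cact_injective (g : B →ₐ[L] L) {V : Type w} [AddCommGroup V] [Module L V] [Comod L B V] :
    Function.Injective (cact (V := V) g.toLinearMap) :=
  Function.LeftInverse.injective (cact_antipode_cact g)

/-- right contraction: an element of `V ⊗ A` lies in `V ⊗ W` iff all left contractions do -/
lemma mem_range_lTensor_iff {V : Type w} [AddCommGroup V] [Module L V] (W : Submodule L B)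
    (x : V ⊗[L] B) : x ∈ LinearMap.range (W.subtype.lTensor V) ↔
      ∀ f : V →ₗ[L] L, TensorProduct.lid L B (f.rTensor B x) ∈ W := by
  have key : ∀ f : V →ₗ[L] L, ∀ x : V ⊗[L] B,
      contr f (TensorProduct.comm L V B x) = TensorProduct.lid L B (f.rTensor B x) := by
    intro f x
    induction x with
    | zero => simp
    | add x y hx hy => simp only [map_add, hx, hy]
    | tmul x y => simp
  have h := mem_range_rTensor_iff W (TensorProduct.comm L V B x)
  simp only [key] at h
  rw [← h]
  clear h
  have h2 : ∀ y : V ⊗[L] W, (TensorProduct.comm L V B) (W.subtype.lTensor V y) =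
      W.subtype.rTensor V (TensorProduct.comm L V W y) := by
    intro y
    induction y with
    | zero => simp
    | add x y hx hy => simp only [map_add, hx, hy]
    | tmul x y => simp
  constructor
  · rintro ⟨y, rfl⟩
    exact ⟨TensorProduct.comm L V W y, (h2 y).symm⟩
  · rintro ⟨y, hy⟩
    refine ⟨(TensorProduct.comm L V W).symm y, ?_⟩
    apply (TensorProduct.comm L V B).injective
    rw [← hy, h2, LinearEquiv.apply_symm_apply]

/-- The comultiplication sends a generalized eigenspace `E` of a translation to `B ⊗ E`. -/
lemma comul_mem_of_mem_maxGenEigenspace (f : B →ₗ[L] L) (l : L) {b : B}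
    (hb : b ∈ Module.End.maxGenEigenspace (cact (V := B) f) l) :
    CoalgebraStruct.comul (R := L) b ∈
      LinearMap.range ((Module.End.maxGenEigenspace (cact (V := B) f) l).subtype.lTensor B) := by
  rw [mem_range_lTensor_iff]
  intro h
  change ract h b ∈ _
  rw [Module.End.mem_maxGenEigenspace] at hb ⊢
  obtain ⟨n, hn⟩ := hb
  refine ⟨n, ?_⟩
  have hc : Commute (cact (V := B) f) (ract h) := LinearMap.ext fun x => cact_ract f h x
  have hc2 : Commute ((cact (V := B) f - l • 1) ^ n) (ract h) := by
    apply Commute.pow_left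
    exact hc.sub_left ((Commute.one_left _).smul_left _)
  have h3 := LinearMap.congr_fun hc2.eq b
  simp only [Module.End.mul_apply] at h3
  rw [h3, hn, map_zero]

end hopf

section main

variable {L : Type u} {B : Type v} [Field L] [IsAlgClosed L] [CommRing B] [HopfAlgebra L B]

omit [IsAlgClosed L] in
lemma ne_zero_of_genEig {V : Type w} [AddCommGroup V] [Module L V] (φ : Module.End L V)
    (hφ : Function.Injective φ) {l : L} (hl : Module.End.maxGenEigenspace φ l ≠ ⊥) : l ≠ 0 := by
  rintro rfl
  apply hl
  rw [eq_bot_iff]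
  intro x hx
  rw [Module.End.mem_maxGenEigenspace] at hx
  obtain ⟨n, hn⟩ := hx
  rw [zero_smul, sub_zero] at hn
  rw [Submodule.mem_bot]
  have : Function.Injective (φ ^ n) := by
    rw [Module.End.coe_pow]
    exact hφ.iterate n
  exact this (by rw [hn, map_zero])

/-- The grading of a finitely generated Hopf algebra by the generalized eigenspaces of the
translation by a point. -/
theorem exists_group [Algebra.FiniteType L B] (g : B →ₐ[L] L) :
    ∃ Λ : Subgroup Lˣ, Group.FG Λ ∧
      (⨆ l : Λ, Module.End.maxGenEigenspace (cact (V := B) g.toLinearMap) ((l : Lˣ) : L)) = ⊤ := by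
  classical
  set φ : Module.End L B := cact g.toLinearMap with hφ
  have hφ' : (rtr g).toLinearMap = φ := rtr_toLinearMap g
  -- a finite-dimensional stable generating subspace
  obtain ⟨s, hs⟩ := (Algebra.FiniteType.out : (⊤ : Subalgebra L B).FG)
  obtain ⟨W, hWsub, hWfin, hsW⟩ := exists_finite_subcomod (k := L) (A := B) (V := B) s
  have hWφ : ∀ x ∈ W, φ x ∈ W := fun x hx => (isSubcomod_iff W).1 hWsub _ x hx
  let ψ : Module.End L W := φ.restrict hWφ
  have hψinj : Function.Injective ψ := by
    intro x y hxy
    apply Subtype.ext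
    apply cact_injective g
    exact congrArg Subtype.val hxy
  -- the group of eigenvalues
  let S : Set Lˣ := {u | Module.End.HasEigenvalue ψ (u : L)}
  have hSfin : S.Finite := by
    have h1 : ((fun u : Lˣ => (u : L)) '' S).Finite :=
      (Module.End.finite_hasEigenvalue ψ).subset (by rintro _ ⟨u, hu, rfl⟩; exact hu)
    exact h1.of_finite_image (Units.val_injective.injOn)
  let Λ : Subgroup Lˣ := Subgroup.closure S
  have hΛfg : Group.FG Λ := by
    rw [Group.fg_iff_subgroup_fg]
    exact ⟨hSfin.toFinset, by simp [Λ]⟩
  refine ⟨Λ, hΛfg, ?_⟩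
  let E : Λ → Submodule L B := fun l => Module.End.maxGenEigenspace φ ((l : Lˣ) : L)
  change (⨆ l, E l) = ⊤
  -- the sum is a subalgebra
  let P : Subalgebra L B :=
    { carrier := (⨆ l, E l : Submodule L B)
      mul_mem' := by
        intro x y hx hy
        have hx' : x ∈ (⨆ l, E l : Submodule L B) := hx
        have hy' : y ∈ (⨆ l, E l : Submodule L B) := hy
        change x * y ∈ (⨆ l, E l : Submodule L B)
        refine Submodule.iSup_induction E (motive := fun x => x * y ∈ (⨆ l, E l : Submodule L B))
          hx' ?_ ?_ ?_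
        · intro l x hx
          refine Submodule.iSup_induction E
            (motive := fun y => x * y ∈ (⨆ l, E l : Submodule L B)) hy' ?_ ?_ ?_
          · intro m y hy
            refine Submodule.mem_iSup_of_mem (l * m) ?_
            have h1 := mul_mem_maxGenEigenspace (rtr g) ((l : Lˣ) : L) ((m : Lˣ) : L)
              (x := x) (y := y) (by rw [hφ']; exact hx) (by rw [hφ']; exact hy)
            rw [hφ'] at h1
            simpa [E] using h1
          · rw [mul_zero]; exact Submodule.zero_mem _
          · intro y z hy hz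
            rw [mul_add]; exact Submodule.add_mem _ hy hz
        · rw [zero_mul]; exact Submodule.zero_mem _
        · intro x z hx hz
          rw [add_mul]; exact Submodule.add_mem _ hx hz
      add_mem' := fun hx hy => Submodule.add_mem _ hx hy
      algebraMap_mem' := by
        intro r
        change algebraMap L B r ∈ (⨆ l, E l : Submodule L B)
        rw [Algebra.algebraMap_eq_smul_one]
        apply Submodule.smul_mem
        refine Submodule.mem_iSup_of_mem 1 ?_
        have h1 := one_mem_maxGenEigenspace (rtr g)
        rw [hφ'] at h1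
        simpa [E] using h1 }
  have hWP : ∀ x ∈ W, x ∈ (⨆ l, E l : Submodule L B) := by
    intro x hx
    have htop := Module.End.iSup_maxGenEigenspace_eq_top ψ
    have hx' : (⟨x, hx⟩ : W) ∈ (⨆ μ, Module.End.maxGenEigenspace ψ μ : Submodule L W) := by
      rw [htop]; trivial
    have := Submodule.iSup_induction (fun μ => Module.End.maxGenEigenspace ψ μ)
      (motive := fun y : W => (y : B) ∈ (⨆ l, E l : Submodule L B)) hx' ?_ ?_ ?_
    · exact this
    · intro μ y hy
      by_cases hy0 : y = 0
      · rw [hy0]; exact Submodule.zero_mem _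
      have hne : Module.End.maxGenEigenspace ψ μ ≠ ⊥ := by
        intro h0
        rw [h0, Submodule.mem_bot] at hy
        exact hy0 hy
      have hμ0 : μ ≠ 0 := ne_zero_of_genEig ψ hψinj hne
      have hev : Module.End.HasEigenvalue ψ μ := by
        rw [Module.End.hasEigenvalue_iff]
        intro h0
        apply hne
        rw [eq_bot_iff]
        intro z hz
        rw [Module.End.mem_maxGenEigenspace] at hz
        obtain ⟨n, hn⟩ := hz
        have hinj : Function.Injective (ψ - μ • (1 : Module.End L W)) := by
          rw [← LinearMap.ker_eq_bot]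
          rw [Module.End.eigenspace_def] at h0
          rw [← h0]
        have : Function.Injective ((ψ - μ • (1 : Module.End L W)) ^ n) := by
          rw [Module.End.coe_pow]
          exact hinj.iterate n
        rw [Submodule.mem_bot]
        exact this (by rw [hn, map_zero])
      refine Submodule.mem_iSup_of_mem
        (⟨Units.mk0 μ hμ0, Subgroup.subset_closure (by simpa [S] using hev)⟩ : Λ) ?_
      change (y : B) ∈ Module.End.maxGenEigenspace φ μ
      rw [Module.End.mem_maxGenEigenspace] at hy ⊢
      obtain ⟨n, hn⟩ := hy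
      refine ⟨n, ?_⟩
      have hrel : ∀ (n : ℕ) (y : W), (((ψ - μ • (1 : Module.End L W)) ^ n) y : B) =
          ((φ - μ • (1 : Module.End L B)) ^ n) (y : B) := by
        intro n
        induction n with
        | zero => intro y; simp
        | succ n ih =>
          intro y
          rw [pow_succ, Module.End.mul_apply, ih, pow_succ, Module.End.mul_apply]
          rfl
      rw [← hrel, hn, ZeroMemClass.coe_zero]
    · exact Submodule.zero_mem _
    · intro y z hy hz
      exact Submodule.add_mem _ hy hz
  have hP : P = ⊤ := by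
    rw [eq_top_iff, ← hs, Algebra.adjoin_le_iff]
    intro x hx
    exact hWP x (hsW x hx)
  rw [eq_top_iff]
  intro x _
  have : x ∈ P := by rw [hP]; trivial
  exact this

/-- **The diagonalizable group of eigenvalues of a point**: the bialgebra map from `B` to the
group algebra of a finitely generated group containing the eigenvalues of translation by `g`. -/
theorem exists_diag [Algebra.FiniteType L B] (g : B →ₐ[L] L) :
    ∃ (Λ : Subgroup Lˣ) (_ : Group.FG Λ) (D : B →ₐc[L] MonoidAlgebra L Λ),
      (∀ (l : Λ) (b : B), b ∈ Module.End.maxGenEigenspace (cact (V := B) g.toLinearMap)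
        ((l : Lˣ) : L) → D b = MonoidAlgebra.single l (CoalgebraStruct.counit (R := L) b)) ∧
      (∀ l : L, Module.End.HasEigenvalue (cact (V := B) g.toLinearMap) l →
        ∃ l' : Λ, ((l' : Lˣ) : L) = l) := by
  classical
  obtain ⟨Λ, hΛ, htop⟩ := exists_group g
  refine ⟨Λ, hΛ, ?_⟩
  set φ : Module.End L B := cact g.toLinearMap with hφ
  have hφ' : (rtr g).toLinearMap = φ := rtr_toLinearMap g
  let E : Λ → Submodule L B := fun l => Module.End.maxGenEigenspace φ ((l : Lˣ) : L)
  have hind := Module.End.independent_maxGenEigenspace φ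
  have hinj : Function.Injective (fun l : Λ => ((l : Lˣ) : L)) := fun a b h =>
    Subtype.ext (Units.ext h)
  have hindE : iSupIndep E := hind.comp hinj
  have hint : DirectSum.IsInternal E :=
    DirectSum.isInternal_submodule_of_iSupIndep_of_iSup_eq_top hindE htop
  let e : (DirectSum Λ fun l => E l) ≃ₗ[L] B :=
    LinearEquiv.ofBijective (DirectSum.coeLinearMap E) hint
  let D₀ : B →ₗ[L] MonoidAlgebra L Λ :=
    (DirectSum.toModule L Λ (MonoidAlgebra L Λ) fun l =>
      (MonoidAlgebra.lsingle l ∘ₗ (CoalgebraStruct.counit (R := L) (A := B))) ∘ₗ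
        (E l).subtype) ∘ₗ e.symm.toLinearMap
  have hD₀ : ∀ (l : Λ) (b : B), b ∈ E l →
      D₀ b = MonoidAlgebra.single l (CoalgebraStruct.counit (R := L) b) := by
    intro l b hb
    have h1 : e.symm b = DirectSum.lof L Λ (fun l => E l) l ⟨b, hb⟩ := by
      rw [LinearEquiv.symm_apply_eq]
      change _ = DirectSum.coeLinearMap E _
      rw [DirectSum.coeLinearMap_lof]
    change DirectSum.toModule L Λ (MonoidAlgebra L Λ) _ (e.symm b) = _
    rw [h1, DirectSum.toModule_lof]
    rfl
  have hmul : ∀ x y : B, D₀ (x * y) = D₀ x * D₀ y := by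
    intro x y
    have hx' : x ∈ (⨆ l, E l : Submodule L B) := by rw [htop]; trivial
    have hy' : y ∈ (⨆ l, E l : Submodule L B) := by rw [htop]; trivial
    refine Submodule.iSup_induction E (motive := fun x => D₀ (x * y) = D₀ x * D₀ y) hx' ?_ ?_ ?_
    · intro l x hx
      refine Submodule.iSup_induction E (motive := fun y => D₀ (x * y) = D₀ x * D₀ y) hy' ?_ ?_ ?_
      · intro m y hy
        have h1 := mul_mem_maxGenEigenspace (rtr g) ((l : Lˣ) : L) ((m : Lˣ) : L)
          (x := x) (y := y) (by rw [hφ']; exact hx) (by rw [hφ']; exact hy)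
        rw [hφ'] at h1
        have h2 : x * y ∈ E (l * m) := by simpa [E] using h1
        rw [hD₀ _ _ h2, hD₀ _ _ hx, hD₀ _ _ hy, MonoidAlgebra.single_mul_single,
          Bialgebra.counit_mul]
      · simp
      · intro y z hy hz
        rw [mul_add, map_add, map_add, mul_add, hy, hz]
    · simp
    · intro x z hx hz
      rw [add_mul, map_add, map_add, add_mul, hx, hz]
  have hone : D₀ 1 = 1 := by
    have h1 := one_mem_maxGenEigenspace (rtr g)
    rw [hφ'] at h1
    have h2 : (1 : B) ∈ E 1 := by simpa [E] using h1
    rw [hD₀ _ _ h2, Bialgebra.counit_one]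
    rfl
  let D₁ : B →ₐ[L] MonoidAlgebra L Λ := AlgHom.ofLinearMap D₀ hone hmul
  have hcounit : (Bialgebra.counitAlgHom L (MonoidAlgebra L Λ)).comp D₁ =
      Bialgebra.counitAlgHom L B := by
    apply AlgHom.ext
    intro x
    have hx' : x ∈ (⨆ l, E l : Submodule L B) := by rw [htop]; trivial
    refine Submodule.iSup_induction E (motive := fun x =>
      ((Bialgebra.counitAlgHom L (MonoidAlgebra L Λ)).comp D₁) x =
      Bialgebra.counitAlgHom L B x) hx' ?_ ?_ ?_
    · intro l x hx
      change CoalgebraStruct.counit (R := L) (D₀ x) = CoalgebraStruct.counit (R := L) x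
      rw [hD₀ _ _ hx, MonoidAlgebra.counit_single]
      simp
    · rw [map_zero, map_zero]
    · intro y z hy hz
      rw [map_add, map_add, hy, hz]
  have hcomul : (Algebra.TensorProduct.map D₁ D₁).comp (Bialgebra.comulAlgHom L B) =
      (Bialgebra.comulAlgHom L (MonoidAlgebra L Λ)).comp D₁ := by
    apply AlgHom.ext
    intro x
    have hx' : x ∈ (⨆ l, E l : Submodule L B) := by rw [htop]; trivial
    refine Submodule.iSup_induction E (motive := fun x =>
      ((Algebra.TensorProduct.map D₁ D₁).comp (Bialgebra.comulAlgHom L B)) x =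
      ((Bialgebra.comulAlgHom L (MonoidAlgebra L Λ)).comp D₁) x) hx' ?_ ?_ ?_
    · intro l x hx
      have hmem := comul_mem_of_mem_maxGenEigenspace g.toLinearMap ((l : Lˣ) : L) hx
      have key : ∀ z ∈ LinearMap.range ((E l).subtype.lTensor B),
          Algebra.TensorProduct.map D₁ D₁ z =
          D₁ (TensorProduct.rid L B ((CoalgebraStruct.counit (R := L) (A := B)).lTensor B z))
            ⊗ₜ[L] MonoidAlgebra.single l (1 : L) := by
        rintro _ ⟨w, rfl⟩
        induction w with
        | zero => simp
        | add x y hx hy =>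
          rw [map_add, map_add, map_add, map_add, map_add, hx, hy, TensorProduct.add_tmul]
        | tmul x y =>
          rw [LinearMap.lTensor_tmul, Algebra.TensorProduct.map_tmul, LinearMap.lTensor_tmul,
            TensorProduct.rid_tmul]
          have : D₁ ((E l).subtype y) = MonoidAlgebra.single l (CoalgebraStruct.counit (R := L)
            ((E l).subtype y)) := hD₀ l _ y.2
          rw [this, map_smul, TensorProduct.smul_tmul, MonoidAlgebra.smul_single, smul_eq_mul,
            mul_one]
      change Algebra.TensorProduct.map D₁ D₁ (CoalgebraStruct.comul (R := L) x) =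
        CoalgebraStruct.comul (R := L) (D₁ x)
      rw [key _ hmem, Coalgebra.lTensor_counit_comul]
      have h3 : D₁ x = MonoidAlgebra.single l (CoalgebraStruct.counit (R := L) x) := hD₀ _ _ hx
      rw [TensorProduct.rid_tmul, one_smul, h3, MonoidAlgebra.comul_single]
      simp only [CommSemiring.comul_apply, TensorProduct.map_tmul, MonoidAlgebra.lsingle_apply]
      generalize CoalgebraStruct.counit (R := L) x = c
      have h4 : MonoidAlgebra.single l c = c • (MonoidAlgebra.single l (1 : L)) := by
        rw [MonoidAlgebra.smul_single, smul_eq_mul, mul_one]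
      rw [h4, TensorProduct.smul_tmul]
    · rw [map_zero, map_zero]
    · intro y z hy hz
      rw [map_add, map_add, hy, hz]
  refine ⟨BialgHom.ofAlgHom D₁ hcounit hcomul, ?_, ?_⟩
  · intro l b hb
    exact hD₀ l b hb
  · intro l hl
    by_contra hcon
    have hdis := hind l
    have h1 : (⊤ : Submodule L B) ≤ ⨆ j, ⨆ (_ : j ≠ l), Module.End.maxGenEigenspace φ j := by
      rw [← htop]
      apply iSup_le
      intro m
      refine le_iSup_of_le ((m : Lˣ) : L) (le_iSup_of_le ?_ le_rfl)
      intro h
      exact hcon ⟨m, h⟩
    have h2 : Module.End.maxGenEigenspace φ l ≤ ⊥ := hdis le_rfl (le_top.trans h1)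
    obtain ⟨b, hb⟩ := hl.exists_hasEigenvector
    apply hb.2
    have h3 : b ∈ Module.End.maxGenEigenspace φ l := by
      rw [Module.End.mem_maxGenEigenspace]
      refine ⟨1, ?_⟩
      rw [pow_one, LinearMap.sub_apply, LinearMap.smul_apply, Module.End.one_apply,
        hb.apply_eq_smul, sub_self]
    exact (Submodule.mem_bot L).1 (h2 h3)

/-- the bialgebra isomorphism between the two group algebras of `ℤ` -/
noncomputable def toLaurent : MonoidAlgebra L (Multiplicative ℤ) →ₐc[L] L[T;T⁻¹] :=
  ((AddMonoidAlgebra.toMultiplicativeBialgEquiv L L ℤ).symm :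
    MonoidAlgebra L (Multiplicative ℤ) →ₐc[L] AddMonoidAlgebra L ℤ)

omit [IsAlgClosed L] in
lemma toLaurent_single (n : Multiplicative ℤ) (a : L) :
    toLaurent (MonoidAlgebra.single n a) = a • (T (Multiplicative.toAdd n) : L[T;T⁻¹]) := by
  have h1 : (AddMonoidAlgebra.toMultiplicativeBialgEquiv L L ℤ)
      (a • (T (Multiplicative.toAdd n) : L[T;T⁻¹]) : L[T;T⁻¹]) = MonoidAlgebra.single n a := by
    rw [map_smul]
    have := AddMonoidAlgebra.toMultiplicativeBialgEquiv_single (R := L) (Multiplicative.toAdd n) (1 : L)
    rw [show (T (Multiplicative.toAdd n) : L[T;T⁻¹]) = AddMonoidAlgebra.single (Multiplicative.toAdd n) (1 : L) from rfl]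
    rw [this, MonoidAlgebra.smul_single, smul_eq_mul, mul_one]
    rfl
  rw [← h1]
  exact (AddMonoidAlgebra.toMultiplicativeBialgEquiv L L ℤ).symm_apply_apply _

/-- **Separation of eigenvalues by a cocharacter.** -/
theorem exists_coch [Algebra.FiniteType L B] (g : B →ₐ[L] L) (l₁ l₂ : L)
    (h₁ : Module.End.HasEigenvalue (cact (V := B) g.toLinearMap) l₁)
    (h₂ : Module.End.HasEigenvalue (cact (V := B) g.toLinearMap) l₂)
    (hr : ∀ n : ℕ, 0 < n → l₁ ^ n ≠ l₂ ^ n) :
    ∃ (c : B →ₐc[L] L[T;T⁻¹]) (n₁ n₂ : ℤ), n₁ ≠ n₂ ∧
      (∀ b : B, cact g.toLinearMap b = l₁ • b → c b = CoalgebraStruct.counit (R := L) b • T n₁) ∧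
      (∀ b : B, cact g.toLinearMap b = l₂ • b →
        c b = CoalgebraStruct.counit (R := L) b • T n₂) := by
  obtain ⟨Λ, hΛ, D, hD, hev⟩ := exists_diag g
  obtain ⟨m₁, hm₁⟩ := hev l₁ h₁
  obtain ⟨m₂, hm₂⟩ := hev l₂ h₂
  obtain ⟨h, hh⟩ := exists_hom_int (m₁ / m₂) (by
    intro n hn h0
    apply hr n hn
    rw [div_pow, div_eq_one] at h0
    rw [← hm₁, ← hm₂, ← Units.val_pow_eq_pow_val, ← Units.val_pow_eq_pow_val]
    congr 1
    have := congrArg (fun x : Λ => (x : Lˣ)) h0
    simpa using this)
  refine ⟨(toLaurent.comp (MonoidAlgebra.mapDomainBialgHom L h)).comp D,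
    Multiplicative.toAdd (h m₁), Multiplicative.toAdd (h m₂), ?_, ?_, ?_⟩
  · intro heq
    apply hh
    rw [map_div, div_eq_one]
    exact heq
  · intro b hb
    have h3 : b ∈ Module.End.maxGenEigenspace (cact (V := B) g.toLinearMap) ((m₁ : Lˣ) : L) := by
      rw [Module.End.mem_maxGenEigenspace, hm₁]
      exact ⟨1, by rw [pow_one, LinearMap.sub_apply, LinearMap.smul_apply, Module.End.one_apply,
        hb, sub_self]⟩
    rw [BialgHom.comp_apply, BialgHom.comp_apply, hD _ _ h3,
      MonoidAlgebra.mapDomainBialgHom_single, toLaurent_single]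
  · intro b hb
    have h3 : b ∈ Module.End.maxGenEigenspace (cact (V := B) g.toLinearMap) ((m₂ : Lˣ) : L) := by
      rw [Module.End.mem_maxGenEigenspace, hm₂]
      exact ⟨1, by rw [pow_one, LinearMap.sub_apply, LinearMap.smul_apply, Module.End.one_apply,
        hb, sub_self]⟩
    rw [BialgHom.comp_apply, BialgHom.comp_apply, hD _ _ h3,
      MonoidAlgebra.mapDomainBialgHom_single, toLaurent_single]

end main

end Groth.Agent.Sga3B.RG.GenEig
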