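import Groth.Agent.Sga3B.RG.UnipRep
import Groth.Agent.Sga3B.RG.Kolchin
import Groth.Agent.Sga3B.RG.IdComp

/-!
# The largest normal unipotent subgroup through alternating sums

For a group `Γ`, a function `F : Γ → C` and `g : Γ` put
`alt g [y₁, …, yₙ] F z = F (y₁ (g - 1) y₂ (g - 1) ⋯ yₙ (g - 1) z)` (linear extension of `F` to the group ring).
If the functions `f j` generate the Hopf algebra `B` of an algebraic group over an algebraically closed field and the
right translates of the `f j` span a space of dimension `≤ n`, then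
`NSet f n = {g | ∀ l, l.length = n + 1 → ∀ z j, alt g l (· (f j)) z = 0}` is the largest normal subgroup consisting of
unipotent elements.  Consequence: the group is reductive iff `NSet` is finite iff `1` is isolated in `NSet`.
-/

set_option autoImplicit false

universe u v w

namespace Groth.Agent.Sga3B.RG.NUnip710

open Module

section Alt

variable {Γ : Type*} {C : Type*}

/-- Alternating sums: `alt g [y₁, …, yₙ] F z = F (y₁ (g - 1) y₂ (g - 1) ⋯ yₙ (g - 1) z)`. -/
def alt [Mul Γ] [Sub C] (g : Γ) : List Γ → (Γ → C) → Γ → C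
  | [], F => F
  | y :: l, F => alt g l (fun x => F (y * g * x) - F (y * x))

@[simp] lemma alt_nil [Mul Γ] [Sub C] (g : Γ) (F : Γ → C) : alt g [] F = F := rfl

lemma alt_cons [Mul Γ] [Sub C] (g y : Γ) (l : List Γ) (F : Γ → C) :
    alt g (y :: l) F = alt g l (fun x => F (y * g * x) - F (y * x)) := rfl

/-- Naturality of alternating sums. -/
lemma alt_map {Γ' C' : Type*} [Mul Γ] [Mul Γ'] [AddGroup C] [AddGroup C'] (θ : Γ → Γ')
    (hθ : ∀ x y, θ (x * y) = θ x * θ y) (ψ : C →+ C') (g : Γ) (l : List Γ) (F : Γ → C) (F' : Γ' → C')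
    (hF : ∀ x, F' (θ x) = ψ (F x)) (z : Γ) :
    alt (θ g) (l.map θ) F' (θ z) = ψ (alt g l F z) := by
  induction l generalizing F F' with
  | nil => exact hF z
  | cons y l ih =>
    rw [List.map_cons, alt_cons, alt_cons]
    refine ih _ _ fun x => ?_
    rw [map_sub, ← hF, ← hF, hθ, hθ, hθ]

/-- Alternating sums of sums. -/
lemma alt_congr [Mul Γ] [Sub C] (g : Γ) (l : List Γ) {F F' : Γ → C} (h : ∀ x, F x = F' x) (z : Γ) :
    alt g l F z = alt g l F' z := by
  rw [show F = F' from funext h]

end Alt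

section Rep

variable {K : Type*} [Field K] {Γ : Type*} [Group Γ] {V : Type*} [AddCommGroup V] [Module K V]

/-- The operator `y₁ (g - 1) y₂ (g - 1) ⋯ yₙ (g - 1)`. -/
def opr (ρ : Representation K Γ V) (g : Γ) : List Γ → End K V
  | [] => 1
  | y :: l => ρ y * (ρ g - 1) * opr ρ g l

@[simp] lemma opr_nil (ρ : Representation K Γ V) (g : Γ) : opr ρ g [] = 1 := rfl

lemma opr_cons (ρ : Representation K Γ V) (g y : Γ) (l : List Γ) :
    opr ρ g (y :: l) = ρ y * (ρ g - 1) * opr ρ g l := rfl

lemma opr_cons_apply (ρ : Representation K Γ V) (g y : Γ) (l : List Γ) (v : V) :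
    opr ρ g (y :: l) v = ρ y (ρ g (opr ρ g l v) - opr ρ g l v) := rfl

/-- Alternating sums of matrix coefficients. -/
lemma alt_rep (ρ : Representation K Γ V) (g : Γ) (l : List Γ) (φ : V →ₗ[K] K) (v : V) (z : Γ) :
    alt g l (fun x => φ (ρ x v)) z = φ (opr ρ g l (ρ z v)) := by
  induction l generalizing φ with
  | nil => rfl
  | cons y l ih =>
    rw [alt_cons, opr_cons_apply]
    have := ih (φ ∘ₗ ((ρ y : V →ₗ[K] V) ∘ₗ ((ρ g - 1 : End K V) : V →ₗ[K] V)))
    rw [LinearMap.comp_apply, LinearMap.comp_apply] at this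
    refine Eq.trans (alt_congr g l (fun x => ?_) z) this
    rw [LinearMap.comp_apply, LinearMap.comp_apply, LinearMap.sub_apply, Module.End.one_apply, map_sub, map_sub,
      map_mul, map_mul, map_mul]
    rfl

/-- The flag of a normal unipotent subgroup reaches the top after `dim V` steps. -/
lemma uflag_eq_top_of_finrank_le [IsAlgClosed K] [FiniteDimensional K V] (ρ : Representation K Γ V) (N : Subgroup Γ)
    (h : ∀ n ∈ N, IsNilpotent (ρ n - 1)) {n : ℕ} (hn : finrank K V ≤ n) : uflag ρ N n = ⊤ := by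
  obtain ⟨r, hr⟩ := exists_uflag_eq_top ρ N h
  have hconst : ∀ k, uflag ρ N (k + 1) = uflag ρ N k → ∀ j, uflag ρ N (k + j) = uflag ρ N k := by
    intro k hk j
    induction j with
    | zero => rfl
    | succ j ih =>
      apply le_antisymm
      · intro v hv
        rw [← add_assoc, mem_uflag_succ] at hv
        rw [← hk, mem_uflag_succ]
        intro m hm
        rw [← ih]
        exact hv m hm
      · exact uflag_mono ρ N (Nat.le_add_right _ _)
  have key : ∀ k, uflag ρ N k = ⊤ ∨ k ≤ finrank K (uflag ρ N k) := by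
    intro k
    induction k with
    | zero => exact Or.inr (Nat.zero_le _)
    | succ k ih =>
      rcases ih with ih | ih
      · left
        exact top_le_iff.1 (ih ▸ uflag_le_succ ρ N k)
      · by_cases hk : uflag ρ N (k + 1) = uflag ρ N k
        · left
          rw [hk]
          rcases le_total r k with h1 | h1
          · exact top_le_iff.1 (hr ▸ uflag_mono ρ N h1)
          · rw [← hconst k hk (r - k), Nat.add_sub_cancel' h1, hr]
        · right
          have hlt : uflag ρ N k < uflag ρ N (k + 1) := lt_of_le_of_ne (uflag_le_succ ρ N k) (Ne.symm hk)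
          have := Submodule.finrank_lt_finrank_of_lt hlt
          omega
  rcases key n with h1 | h1
  · exact h1
  · exact Submodule.eq_top_of_finrank_eq (le_antisymm (Submodule.finrank_le _) (hn.trans h1))

/-- A normal subgroup acting unipotently is killed by all long alternating products. -/
theorem opr_eq_zero [IsAlgClosed K] [FiniteDimensional K V] (ρ : Representation K Γ V) (N : Subgroup Γ)
    (hN : N.Normal) (h : ∀ n ∈ N, IsNilpotent (ρ n - 1)) {g : Γ} (hg : g ∈ N) (l : List Γ)
    (hl : finrank K V ≤ l.length) : opr ρ g l = 0 := by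
  have key : ∀ (l : List Γ) (k : ℕ) (v : V), v ∈ uflag ρ N (k + l.length) → opr ρ g l v ∈ uflag ρ N k := by
    intro l
    induction l with
    | nil => intro k v hv; exact hv
    | cons y l ih =>
      intro k v hv
      rw [opr_cons_apply]
      apply uflag_stable ρ N hN
      have h1 : opr ρ g l v ∈ uflag ρ N (k + 1) := by
        apply ih
        rw [List.length_cons] at hv
        rwa [show k + 1 + l.length = k + (l.length + 1) by omega]
      exact mem_uflag_succ.1 h1 g hg
  ext v
  have := key l 0 v (by rw [zero_add, uflag_eq_top_of_finrank_le ρ N h hl]; trivial)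
  rw [uflag_zero, Submodule.mem_bot] at this
  exact this

/-- Stable pairs `W₁ < W₂` without stable submodules strictly in between. -/
def IsStep (ρ : Representation K Γ V) (W₁ W₂ : Submodule K V) : Prop :=
  (∀ g, W₁ ≤ W₁.comap (ρ g)) ∧ (∀ g, W₂ ≤ W₂.comap (ρ g)) ∧ W₁ < W₂ ∧
    ∀ W : Submodule K V, (∀ g, W ≤ W.comap (ρ g)) → W₁ ≤ W → W ≤ W₂ → W = W₁ ∨ W = W₂

/-- The subgroup acting trivially on all simple subquotients. -/
def trivSub (ρ : Representation K Γ V) : Subgroup Γ where
  carrier := {g | ∀ W₁ W₂, IsStep ρ W₁ W₂ → ∀ w ∈ W₂, ρ g w - w ∈ W₁}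
  one_mem' := by
    intro W₁ W₂ _ w _
    rw [map_one, Module.End.one_apply, sub_self]
    exact W₁.zero_mem
  mul_mem' := by
    intro a b ha hb W₁ W₂ hW w hw
    have h1 := hb W₁ W₂ hW w hw
    have h2 := ha W₁ W₂ hW w hw
    have h3 : ρ a (ρ b w - w) ∈ W₁ := hW.1 a h1
    have h4 : ρ (a * b) w - w = ρ a (ρ b w - w) + (ρ a w - w) := by
      rw [map_mul, map_sub, Module.End.mul_apply]
      abel
    rw [h4]
    exact W₁.add_mem h3 h2
  inv_mem' := by
    intro a ha W₁ W₂ hW w hw
    have h1 : ρ a⁻¹ (ρ a w - w) ∈ W₁ := hW.1 a⁻¹ (ha W₁ W₂ hW w hw)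
    have h2 : ρ a⁻¹ (ρ a w) = w := by
      rw [← Module.End.mul_apply, ← map_mul, inv_mul_cancel, map_one, Module.End.one_apply]
    have h3 : ρ a⁻¹ w - w = -(ρ a⁻¹ (ρ a w - w)) := by
      rw [map_sub, h2]
      abel
    rw [h3]
    exact W₁.neg_mem h1

lemma mem_trivSub {ρ : Representation K Γ V} {g : Γ} :
    g ∈ trivSub ρ ↔ ∀ W₁ W₂, IsStep ρ W₁ W₂ → ∀ w ∈ W₂, ρ g w - w ∈ W₁ := Iff.rfl

lemma normal_trivSub (ρ : Representation K Γ V) : (trivSub ρ).Normal := by
  constructor
  intro n hn g W₁ W₂ hW w hw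
  have h1 : ρ g⁻¹ w ∈ W₂ := hW.2.1 g⁻¹ hw
  have h2 := hW.1 g (hn W₁ W₂ hW _ h1)
  have h3 : ρ g (ρ g⁻¹ w) = w := by
    rw [← Module.End.mul_apply, ← map_mul, mul_inv_cancel, map_one, Module.End.one_apply]
  have h4 : ρ (g * n * g⁻¹) w - w = ρ g (ρ n (ρ g⁻¹ w) - ρ g⁻¹ w) := by
    rw [map_sub, h3, map_mul, map_mul]
    rfl
  rw [h4]
  exact h2

/-- Elements acting trivially on the simple subquotients are unipotent. -/
lemma isNilpotent_of_mem_trivSub [FiniteDimensional K V] (ρ : Representation K Γ V) {g : Γ} (hg : g ∈ trivSub ρ) :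
    IsNilpotent (ρ g - 1) := by
  have key : ∀ (d : ℕ) (W : Submodule K V), finrank K W ≤ d → (∀ g, W ≤ W.comap (ρ g)) →
      ∀ w ∈ W, ∃ k : ℕ, ((ρ g - 1) ^ k) w = 0 := by
    intro d
    induction d with
    | zero =>
      intro W hW _ w hw
      have : W = ⊥ := Submodule.finrank_eq_zero.1 (Nat.le_zero.1 hW)
      rw [this, Submodule.mem_bot] at hw
      exact ⟨0, by rw [hw, map_zero]⟩
    | succ d ih =>
      intro W hW hst w hw
      by_cases hbot : W = ⊥
      · rw [hbot, Submodule.mem_bot] at hw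
        exact ⟨0, by rw [hw, map_zero]⟩
      · let s : Set (Submodule K V) := {W' | (∀ g, W' ≤ W'.comap (ρ g)) ∧ W' < W}
        have hs : s.Nonempty := ⟨⊥, fun g v hv => by
          rw [Submodule.mem_bot] at hv
          rw [hv, Submodule.mem_comap, map_zero]
          exact Submodule.zero_mem _, bot_lt_iff_ne_bot.2 hbot⟩
        obtain ⟨W₁, ⟨h1, h2⟩, h3⟩ := (inferInstance : WellFoundedGT (Submodule K V)).wf.has_min s hs
        have hstep : IsStep ρ W₁ W := by
          refine ⟨h1, hst, h2, fun W' hW' h4 h5 => ?_⟩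
          by_cases h6 : W' = W
          · exact Or.inr h6
          · left
            by_contra h7
            exact h3 W' ⟨hW', lt_of_le_of_ne h5 h6⟩ (lt_of_le_of_ne h4 (Ne.symm h7))
        have h8 := hg W₁ W hstep w hw
        have h9 := Submodule.finrank_lt_finrank_of_lt h2
        obtain ⟨k, hk⟩ := ih W₁ (by omega) h1 _ h8
        refine ⟨k + 1, ?_⟩
        rw [pow_succ, Module.End.mul_apply]
        exact hk
  refine isNilpotent_of_forall fun v => key _ ⊤ le_rfl (fun g v _ => trivial) v trivial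

/-- If all long alternating products vanish, the element acts trivially on the simple subquotients. -/
theorem mem_trivSub_of_opr (ρ : Representation K Γ V) (n : ℕ) {g : Γ}
    (h : ∀ l : List Γ, l.length = n → opr ρ g l = 0) : g ∈ trivSub ρ := by
  intro W₁ W₂ hW w hw
  obtain ⟨hs1, hs2, hlt, hcov⟩ := hW
  let G : Set V := {v | ∃ y : Γ, ∃ w ∈ W₂, v = ρ y (ρ g w - w)}
  let X : Submodule K V := W₁ ⊔ Submodule.span K G
  have hXst : ∀ x, X ≤ X.comap (ρ x) := by
    intro x
    refine sup_le (fun v hv => ?_) (Submodule.span_le.2 ?_)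
    · exact Submodule.mem_sup_left (hs1 x hv)
    · rintro v ⟨y, w', hw', rfl⟩
      refine Submodule.mem_sup_right (Submodule.subset_span ⟨x * y, w', hw', ?_⟩)
      rw [map_mul]
      rfl
  have hX2 : X ≤ W₂ := by
    refine sup_le hlt.le (Submodule.span_le.2 ?_)
    rintro v ⟨y, w', hw', rfl⟩
    exact hs2 y (W₂.sub_mem (hs2 g hw') hw')
  rcases hcov X hXst le_sup_left hX2 with hX | hX
  · rw [← hX]
    refine Submodule.mem_sup_right (Submodule.subset_span ⟨1, w, hw, ?_⟩)
    rw [map_one, Module.End.one_apply]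
  · exfalso
    have key : ∀ k : ℕ, W₂ ≤ W₁ ⊔ Submodule.span K {v | ∃ l : List Γ, l.length = k ∧ ∃ w ∈ W₂, v = opr ρ g l w} := by
      intro k
      induction k with
      | zero =>
        intro v hv
        exact Submodule.mem_sup_right (Submodule.subset_span ⟨[], rfl, v, hv, rfl⟩)
      | succ k ih =>
        set Y := W₁ ⊔ Submodule.span K {v | ∃ l : List Γ, l.length = k + 1 ∧ ∃ w ∈ W₂, v = opr ρ g l w}
        have hstep : ∀ (y : Γ), ∀ v ∈ W₁ ⊔ Submodule.span K {v | ∃ l : List Γ, l.length = k ∧ ∃ w ∈ W₂, v = opr ρ g l w},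
            ρ y (ρ g v - v) ∈ Y := by
          intro y
          have : W₁ ⊔ Submodule.span K {v | ∃ l : List Γ, l.length = k ∧ ∃ w ∈ W₂, v = opr ρ g l w} ≤
              Y.comap ((ρ y : V →ₗ[K] V) ∘ₗ ((ρ g - 1 : End K V) : V →ₗ[K] V)) := by
            refine sup_le (fun v hv => ?_) (Submodule.span_le.2 ?_)
            · exact Submodule.mem_sup_left (hs1 y (W₁.sub_mem (hs1 g hv) hv))
            · rintro _ ⟨l, hl, w', hw', rfl⟩
              refine Submodule.mem_sup_right (Submodule.subset_span ⟨y :: l, by simp [hl], w', hw', rfl⟩)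
          exact fun v hv => this hv
        rw [← hX]
        refine sup_le le_sup_left (Submodule.span_le.2 ?_)
        rintro _ ⟨y, w', hw', rfl⟩
        exact hstep y w' (ih hw')
    have h1 := key n
    have h2 : Submodule.span K {v | ∃ l : List Γ, l.length = n ∧ ∃ w ∈ W₂, v = opr ρ g l w} ≤ ⊥ := by
      refine Submodule.span_le.2 ?_
      rintro _ ⟨l, hl, w', hw', rfl⟩
      rw [h l hl]
      simp
    have h3 : W₂ ≤ W₁ := h1.trans (sup_le le_rfl (h2.trans bot_le))
    exact absurd h3 (not_le_of_gt hlt)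

end Rep

section Group

variable {K : Type u} [Field K] {B : Type u} [CommRing B] [HopfAlgebra K B] {ι : Type v}

/-- The points killed by all alternating sums of the functions `f j` of length `n + 1`. -/
def NSet (f : ι → B) (n : ℕ) : Set (Pt K B) :=
  {g | ∀ l : List (Pt K B), l.length = n + 1 → ∀ (z : Pt K B) (j : ι), alt g l (fun x => x (f j)) z = 0}

lemma mem_NSet {f : ι → B} {n : ℕ} {g : Pt K B} : g ∈ NSet f n ↔
    ∀ l : List (Pt K B), l.length = n + 1 → ∀ (z : Pt K B) (j : ι), alt g l (fun x => x (f j)) z = 0 := Iff.rfl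

/-- The subgroup acting trivially on the simple subquotients of an algebraic representation is closed. -/
lemma isCl_trivSub {V : Type w} [AddCommGroup V] [Module K V] {ρ : Representation K (Pt K B) V} (h : IsAlg ρ) :
    IsCl (trivSub ρ : Set (Pt K B)) := by
  have heq : (trivSub ρ : Set (Pt K B)) = ⋂ (W₁ : Submodule K V) (W₂ : Submodule K V) (_ : IsStep ρ W₁ W₂)
      (w : V) (_ : w ∈ W₂) (φ : Module.Dual K V) (_ : φ ∈ W₁.dualAnnihilator), {g : Pt K B | φ (ρ g w) = φ w} := by
    ext g
    simp only [Set.mem_iInter, Set.mem_ofPred_eq]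
    constructor
    · intro hg W₁ W₂ hW w hw φ hφ
      have := (Submodule.mem_dualAnnihilator φ).1 hφ _ (hg W₁ W₂ hW w hw)
      rwa [map_sub, sub_eq_zero] at this
    · intro hg W₁ W₂ hW w hw
      rw [← Subspace.forall_mem_dualAnnihilator_apply_eq_zero_iff]
      intro φ hφ
      rw [map_sub, sub_eq_zero]
      exact hg W₁ W₂ hW w hw φ hφ
  rw [heq]
  refine isCl_iInter fun W₁ => isCl_iInter fun W₂ => isCl_iInter fun _ => isCl_iInter fun w => isCl_iInter fun _ =>
    isCl_iInter fun φ => isCl_iInter fun _ => ?_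
  exact (h.isFun φ w).isCl_eq (isFun_const _)

variable [IsAlgClosed K] [Algebra.FiniteType K B] [IsReduced B]

variable (K) in
/-- The span of the right translates. -/
noncomputable def trSpan (f : ι → B) : Submodule K B :=
  Submodule.span K {b | ∃ (g : Pt K B) (j : ι), b = rTr g (f j)}

omit [IsAlgClosed K] [Algebra.FiniteType K B] [IsReduced B] in
lemma rTr_mem_trSpan (f : ι → B) (g : Pt K B) (j : ι) : rTr g (f j) ∈ trSpan K f :=
  Submodule.subset_span ⟨g, j, rfl⟩

lemma trSpan_stable (f : ι → B) (g : Pt K B) : trSpan K f ≤ (trSpan K f).comap (rTrRep K B g) := by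
  refine Submodule.span_le.2 ?_
  rintro _ ⟨h, j, rfl⟩
  refine Submodule.subset_span ⟨g * h, j, ?_⟩
  rw [rTr_mul]
  rfl

lemma mem_trSpan (f : ι → B) (j : ι) : f j ∈ trSpan K f := by
  have := rTr_mem_trSpan f (1 : Pt K B) j
  rwa [rTr_one] at this

lemma adjoin_trSpan (f : ι → B) (hf : Algebra.adjoin K (Set.range f) = ⊤) :
    Algebra.adjoin K ((trSpan K f : Submodule K B) : Set B) = ⊤ := by
  refine top_le_iff.1 (hf.symm.le.trans (Algebra.adjoin_mono ?_))
  rintro _ ⟨j, rfl⟩
  exact mem_trSpan f j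

/-- The alternating sums in terms of the representation on the span of the right translates. -/
lemma alt_eq (f : ι → B) (g : Pt K B) (l : List (Pt K B)) (z : Pt K B) (j : ι) :
    alt g l (fun x => x (f j)) z =
      (1 : Pt K B) ((opr ((rTrRep K B).subrepresentation (trSpan K f) (trSpan_stable f)) g l
        ⟨rTr z (f j), rTr_mem_trSpan f z j⟩ : trSpan K f) : B) := by
  let φ : trSpan K f →ₗ[K] K := (1 : Pt K B).ofConv.toLinearMap ∘ₗ (trSpan K f).subtype
  have h1 := alt_rep ((rTrRep K B).subrepresentation (trSpan K f) (trSpan_stable f)) g l φ ⟨f j, mem_trSpan f j⟩ z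
  refine Eq.trans (alt_congr g l (fun x => ?_) z) h1
  change x (f j) = (1 : Pt K B) (rTr x (f j))
  rw [rTr_apply_pt, one_mul]

/-- `NSet` is the subgroup acting trivially on the simple subquotients of the span of the right translates. -/
theorem NSet_eq_trivSub (f : ι → B) (n : ℕ)
    [FiniteDimensional K (trSpan K f)] (hn : finrank K (trSpan K f) ≤ n + 1) :
    NSet f n = (trivSub ((rTrRep K B).subrepresentation (trSpan K f) (trSpan_stable f)) : Set (Pt K B)) := by
  set ρ := (rTrRep K B).subrepresentation (trSpan K f) (trSpan_stable f) with hρ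
  apply Set.Subset.antisymm
  · intro g hg
    refine mem_trivSub_of_opr ρ (n + 1) ?_
    intro l hl
    match l, hl with
    | y :: l', hl =>
      have hz : ∀ (z : Pt K B) (j : ι), opr ρ g (y :: l') ⟨rTr z (f j), rTr_mem_trSpan f z j⟩ = 0 := by
        intro z j
        set w : trSpan K f := opr ρ g l' ⟨rTr z (f j), rTr_mem_trSpan f z j⟩ with hw
        have hu : ρ g w - w = 0 := by
          apply Subtype.ext
          refine eq_zero_of_forall_pt (K := K) fun x => ?_
          have h1 := hg (x :: l') (by simpa using hl) z j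
          rw [alt_eq, opr_cons_apply] at h1
          have h2 : (1 : Pt K B) (rTr x ((ρ g w - w : trSpan K f) : B)) = 0 := h1
          rwa [rTr_apply_pt, one_mul] at h2
        rw [opr_cons_apply, ← hw, hu, map_zero]
      ext v
      obtain ⟨v, hv⟩ := v
      have : ∀ v ∈ trSpan K f, ∀ hv : v ∈ trSpan K f, opr ρ g (y :: l') ⟨v, hv⟩ = 0 := by
        intro v hv
        refine Submodule.span_induction (p := fun v _ => ∀ hv : v ∈ trSpan K f, opr ρ g (y :: l') ⟨v, hv⟩ = 0)
          ?_ ?_ ?_ ?_ hv
        · rintro _ ⟨z, j, rfl⟩ _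
          exact hz z j
        · intro _
          exact map_zero _
        · intro a b ha hb h1 h2 h3
          have := congrArg₂ (· + ·) (h1 ha) (h2 hb)
          simp only [← map_add, add_zero] at this
          exact this
        · intro c a ha h1 h2
          have := congrArg (fun x => c • x) (h1 ha)
          simp only [← map_smul, smul_zero] at this
          exact this
      rw [this v hv hv]
      rfl
  · intro g hg l hl z j
    have hnorm := normal_trivSub ρ
    rw [alt_eq, opr_eq_zero ρ (trivSub ρ) hnorm (fun m hm => isNilpotent_of_mem_trivSub ρ hm) hg l (by rw [hl]; exact hn)]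
    exact Pt.apply_zero _

/-- **`NSet` is the largest normal subgroup consisting of unipotent elements, and it is closed.** -/
theorem exists_nsub (f : ι → B) (hf : Algebra.adjoin K (Set.range f) = ⊤) (n : ℕ)
    (hn : ∃ a : Fin n → B, ∀ j (g : Pt K B), rTr g (f j) ∈ Submodule.span K (Set.range a)) :
    ∃ N : Subgroup (Pt K B), (N : Set (Pt K B)) = NSet f n ∧ N.Normal ∧ IsCl (N : Set (Pt K B)) ∧
      (∀ g ∈ N, IsUnip g) ∧ ∀ U : Subgroup (Pt K B), U.Normal → (∀ g ∈ U, IsUnip g) → U ≤ N := by
  obtain ⟨a, ha⟩ := hn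
  have hle : trSpan K f ≤ Submodule.span K (Set.range a) := by
    refine Submodule.span_le.2 ?_
    rintro _ ⟨g, j, rfl⟩
    exact ha j g
  have hfd : FiniteDimensional K (Submodule.span K (Set.range a)) := FiniteDimensional.span_of_finite K (Set.finite_range a)
  have hfd' : FiniteDimensional K (trSpan K f) := Submodule.finiteDimensional_of_le hle
  have hfr : finrank K (trSpan K f) ≤ n := by
    refine (Submodule.finrank_mono hle).trans ?_
    have := finrank_range_le_card (R := K) a
    rwa [Fintype.card_fin] at this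
  set ρ := (rTrRep K B).subrepresentation (trSpan K f) (trSpan_stable f) with hρ
  have hun : ∀ g : Pt K B, IsUnip g ↔ IsNilpotent (ρ g - 1) := fun g =>
    isUnip_iff_generating (trSpan_stable f) (adjoin_trSpan f hf)
  refine ⟨trivSub ρ, (NSet_eq_trivSub f n (hfr.trans (Nat.le_succ n))).symm, normal_trivSub ρ, ?_, ?_, ?_⟩
  · exact isCl_trivSub ((isAlg_rTrRep K B).subrepresentation _ _)
  · intro g hg
    exact (hun g).2 (isNilpotent_of_mem_trivSub ρ hg)
  · intro U hU hUu g hg
    refine mem_trivSub_of_opr ρ (n + 1) fun l hl => ?_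
    exact opr_eq_zero ρ U hU (fun m hm => (hun m).1 (hUu m hm)) hg l (by rw [hl]; exact hfr.trans (Nat.le_succ n))

/-- If the group is reductive, `NSet` is finite. -/
theorem finite_NSet (hred : IsRedPt K B) (f : ι → B) (hf : Algebra.adjoin K (Set.range f) = ⊤) (n : ℕ)
    (hn : ∃ a : Fin n → B, ∀ j (g : Pt K B), rTr g (f j) ∈ Submodule.span K (Set.range a)) :
    (NSet (K := K) f n).Finite := by
  obtain ⟨N, hN, h1, h2, h3, -⟩ := exists_nsub f hf n hn
  have h4 : idComp N = ⊥ := hred _ (normal_idComp h2 h1) (isCl_idComp N) (isConn_idComp N)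
    fun g hg => h3 g (idComp_le h2 hg)
  have h5 := relIndex_idComp_ne_zero h2
  rw [h4, Subgroup.relIndex_bot_left] at h5
  rw [← hN]
  exact Nat.finite_of_card_ne_zero h5

omit [Algebra.FiniteType K B] [IsAlgClosed K] [IsReduced B] in
/-- A closed connected subgroup contained in a set in which `1` is isolated is trivial. -/
lemma eq_bot_of_isolated {X : Set (Pt K B)} {b : B} (h1 : (1 : Pt K B) b ≠ 0) (h : ∀ g : Pt K B, g ∈ X → g ≠ 1 → g b = 0)
    {N : Subgroup (Pt K B)} (hN : IsConn (N : Set (Pt K B))) (hNX : (N : Set (Pt K B)) ⊆ X) : N = ⊥ := by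
  rw [eq_bot_iff]
  intro g hg
  rw [Subgroup.mem_bot]
  by_contra hg1
  obtain ⟨c, hc⟩ : ∃ c : B, g c ≠ (1 : Pt K B) c := by
    by_contra hc
    push Not at hc
    exact hg1 (Pt.ext' hc)
  let c' : B := c - algebraMap K B ((1 : Pt K B) c)
  have hc1 : (1 : Pt K B) c' = 0 := by
    rw [Pt.apply_sub, Pt.apply_algebraMap, sub_self]
  have hc2 : g c' ≠ 0 := by
    rw [Pt.apply_sub, Pt.apply_algebraMap, sub_ne_zero]
    exact hc
  have hmem : b * c' ∈ vanIdeal (N : Set (Pt K B)) := by
    intro x hx
    rw [Pt.apply_mul]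
    by_cases hx1 : x = 1
    · rw [hx1, hc1, mul_zero]
    · rw [h x (hNX hx) hx1, zero_mul]
  rcases (hN : (vanIdeal (N : Set (Pt K B))).IsPrime).mem_or_mem hmem with h2 | h2
  · exact h1 (h2 1 N.one_mem)
  · exact hc2 (h2 g hg)

/-- If `1` is isolated in `NSet`, the group is reductive. -/
theorem isRedPt_of_isolated (f : ι → B) (hf : Algebra.adjoin K (Set.range f) = ⊤) (n : ℕ)
    (hn : ∃ a : Fin n → B, ∀ j (g : Pt K B), rTr g (f j) ∈ Submodule.span K (Set.range a))
    {b : B} (h1 : (1 : Pt K B) b ≠ 0) (h : ∀ g : Pt K B, g ∈ NSet f n → g ≠ 1 → g b = 0) : IsRedPt K B := by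
  obtain ⟨N, hN, -, -, -, h2⟩ := exists_nsub f hf n hn
  intro U hU _ hconn hu
  exact eq_bot_of_isolated h1 h hconn (hN ▸ h2 U hU hu)

end Group

end Groth.Agent.Sga3B.RG.NUnip710
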