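import Groth.Agent.Sga3B.RG.ConeOrbit
import Groth.Agent.Sga3B.RG.ConjBialg
import Groth.Agent.Sga3B.RG.Closed2

/-!
# The highest weight space of a simple representation

* `P_eq_zero_of_mem_Psub`, `P_eq_self_of_mem_Usub`, ...: how `P(λ)`, `U(λ)`, `U(-λ)` act on weight
  spaces;
* `topSpace_simple`: the highest weight space of a simple representation is a simple
  `Z(λ)`-module.
-/

set_option autoImplicit false

universe u w

open WithConv TensorProduct Coalgebra Module
open scoped LaurentPolynomial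

namespace Groth.Agent.Sga3B.RG

section Laurent

variable {K : Type u} [Field K] [Infinite K]

/-- Comparison of a Laurent polynomial with a polynomial. -/
theorem laurent_eq_polynomial (S : Finset ℤ) (c : ℤ → K) (hc : ∀ n, n ∉ S → c n = 0)
    (p : Polynomial K) (h : ∀ t : Kˣ, ∑ n ∈ S, c n * ((t ^ n : Kˣ) : K) = p.eval (t : K)) :
    (∀ n, n < 0 → c n = 0) ∧ c 0 = p.eval 0 := by
  classical
  let S' : Finset ℤ := S ∪ (Finset.range (p.natDegree + 1)).image (fun n : ℕ => (n : ℤ))
  let c' : ℤ → K := fun j => c j - if 0 ≤ j then p.coeff j.toNat else 0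
  have hsum : ∀ t : Kˣ, ∑ j ∈ S', c' j * gmChar K j t = 0 := by
    intro t
    simp only [c', sub_mul, Finset.sum_sub_distrib, gmChar_apply]
    rw [sub_eq_zero]
    trans ∑ n ∈ S, c n * ((t ^ n : Kˣ) : K)
    · refine (Finset.sum_subset Finset.subset_union_left ?_).symm
      intro x _ hx
      rw [hc x hx, zero_mul]
    · rw [h t, Polynomial.eval_eq_sum_range]
      trans ∑ j ∈ (Finset.range (p.natDegree + 1)).image (fun n : ℕ => (n : ℤ)),
        (if 0 ≤ j then p.coeff j.toNat else 0) * ((t ^ j : Kˣ) : K)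
      · rw [Finset.sum_image (by intro a _ b _ hab; exact Int.ofNat.inj hab)]
        refine Finset.sum_congr rfl fun n _ => ?_
        simp
      · refine Finset.sum_subset Finset.subset_union_right ?_
        intro x _ hx
        split_ifs with h0
        · have : p.coeff x.toNat = 0 := by
            apply Polynomial.coeff_eq_zero_of_natDegree_lt
            by_contra hlt
            apply hx
            rw [Finset.mem_image]
            exact ⟨x.toNat, Finset.mem_range.mpr (by lia), Int.toNat_of_nonneg h0⟩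
          rw [this, zero_mul]
        · rw [zero_mul]
  have hz := WtDec.coeff_eq_zero gmChar_injective S' c' hsum
  constructor
  · intro n hn
    by_cases hnS : n ∈ S
    · have := hz n (Finset.mem_union_left _ hnS)
      simpa [c', not_le.mpr hn] using this
    · exact hc n hnS
  · have := hz 0 (Finset.mem_union_right _ (Finset.mem_image.mpr ⟨0, by simp, rfl⟩))
    simp only [c', le_refl, if_true, Int.toNat_zero, sub_eq_zero] at this
    rw [this, Polynomial.coeff_zero_eq_eval_zero]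

end Laurent

section Neg

variable {K : Type u} [Field K] {A : Type u} [CommRing A] [HopfAlgebra K A]
  {V : Type w} [AddCommGroup V] [Module K V] {lam : A →ₐc[K] K[T;T⁻¹]}
  {ρ : Representation K (Pt K A) V}

theorem mem_cwt_invCoch {n : ℤ} {v : V} : v ∈ cwt (invCoch lam) ρ n ↔ v ∈ cwt lam ρ (-n) := by
  rw [mem_cwt, mem_cwt]
  constructor
  · intro h t
    have := h t⁻¹
    rwa [cochPt_invCoch, ← map_inv (cochPt lam), inv_inv, inv_zpow, ← zpow_neg] at this
  · intro h t
    have := h t⁻¹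
    rwa [map_inv (cochPt lam), inv_zpow, zpow_neg, inv_inv, ← cochPt_invCoch] at this

theorem cwt_invCoch (n : ℤ) : cwt (invCoch lam) ρ n = cwt lam ρ (-n) :=
  Submodule.ext fun _ => mem_cwt_invCoch

end Neg

section Act

variable {K : Type u} [Field K] [Infinite K] {A : Type u} [CommRing A] [HopfAlgebra K A]
  {V : Type w} [AddCommGroup V] [Module K V] {lam : A →ₐc[K] K[T;T⁻¹]}
  {ρ : Representation K (Pt K A) V}

omit [Infinite K] in
/-- the conjugate of `g` acting on a weight vector -/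
theorem rho_conj_apply (d : WtDec.Dec (gmChar K) (ρ.comp (cochPt lam))) {m : ℤ} {v : V}
    (hv : v ∈ cwt lam ρ m) (g : Pt K A) (t : Kˣ) :
    ρ (cochPt lam t * g * (cochPt lam t)⁻¹) v =
      ∑ n ∈ d.S, ((t ^ (n - m) : Kˣ) : K) • d.P n (ρ g v) := by
  rw [map_mul, map_mul, ← map_inv (cochPt lam) t]
  have h1 : ρ (cochPt lam t⁻¹) v = ((t⁻¹ ^ m : Kˣ) : K) • v := hv t⁻¹
  rw [Module.End.mul_apply, h1, map_smul, Module.End.mul_apply]
  have h2 := d.sum_smul t (ρ g v)
  rw [MonoidHom.comp_apply] at h2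
  rw [← h2, Finset.smul_sum]
  refine Finset.sum_congr rfl fun n _ => ?_
  rw [smul_smul, gmChar_apply, ← Units.val_mul]
  congr 3
  rw [inv_zpow', ← zpow_add]
  congr 1
  ring

theorem P_eq_zero_of_mem_Psub (hρ : IsAlg ρ) (d : WtDec.Dec (gmChar K) (ρ.comp (cochPt lam)))
    {m : ℤ} {v : V} (hv : v ∈ cwt lam ρ m) {g : Pt K A} (hg : g ∈ Psub lam) {n : ℤ} (hn : n < m) :
    d.P n (ρ g v) = 0 := by
  classical
  rw [← Module.forall_dual_apply_eq_zero_iff K]
  intro f
  obtain ⟨a, ha⟩ := hρ f v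
  obtain ⟨p, hp⟩ := hg a
  have := (laurent_eq_polynomial (d.S.image (fun n => n - m)) (fun j => f (d.P (j + m) (ρ g v)))
    (fun j hj => ?_) p (fun t => ?_)).1 (n - m) (by lia)
  · simpa using this
  · rw [d.P_eq_zero (j + m) (fun h => hj (Finset.mem_image.mpr ⟨_, h, by ring⟩))]
    simp
  · rw [← hp, ← ha, rho_conj_apply d hv, map_sum, Finset.sum_image (by intro a _ b _ hab; lia)]
    refine Finset.sum_congr rfl fun n _ => ?_
    rw [map_smul, smul_eq_mul, mul_comm, sub_add_cancel]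

theorem P_eq_self_of_mem_Usub (hρ : IsAlg ρ) (d : WtDec.Dec (gmChar K) (ρ.comp (cochPt lam)))
    {m : ℤ} {v : V} (hv : v ∈ cwt lam ρ m) {g : Pt K A} (hg : g ∈ Usub lam) :
    d.P m (ρ g v) = v := by
  classical
  rw [← sub_eq_zero, ← Module.forall_dual_apply_eq_zero_iff K]
  intro f
  rw [map_sub, sub_eq_zero]
  obtain ⟨a, ha⟩ := hρ f v
  obtain ⟨p, hp0, hp⟩ := hg a
  have := (laurent_eq_polynomial (d.S.image (fun n => n - m)) (fun j => f (d.P (j + m) (ρ g v)))
    (fun j hj => ?_) p (fun t => ?_)).2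
  · rw [zero_add, hp0, ← Pt.one_apply, ← ha, map_one] at this
    exact this
  · rw [d.P_eq_zero (j + m) (fun h => hj (Finset.mem_image.mpr ⟨_, h, by ring⟩))]
    simp
  · rw [← hp, ← ha, rho_conj_apply d hv, map_sum, Finset.sum_image (by intro a _ b _ hab; lia)]
    refine Finset.sum_congr rfl fun n _ => ?_
    rw [map_smul, smul_eq_mul, mul_comm, sub_add_cancel]

omit [Infinite K] in
theorem usub_le_psub_187 : Usub lam ≤ Psub lam := by
  intro g hg a
  obtain ⟨p, -, hp⟩ := hg a
  exact ⟨p, hp⟩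

/-- the weight decomposition of the opposite cocharacter -/
noncomputable def decInv (d : WtDec.Dec (gmChar K) (ρ.comp (cochPt lam))) :
    WtDec.Dec (gmChar K) (ρ.comp (cochPt (invCoch lam))) where
  S := d.S.image (fun n => -n)
  P n := d.P (-n)
  P_eq_zero m hm := d.P_eq_zero _ fun h => hm (Finset.mem_image.mpr ⟨-m, h, neg_neg m⟩)
  sum_smul t v := by
    classical
    rw [Finset.sum_image (by intro a _ b _ hab; lia), MonoidHom.comp_apply, cochPt_invCoch,
      ← map_inv]
    have := d.sum_smul t⁻¹ v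
    rw [MonoidHom.comp_apply] at this
    rw [← this]
    refine Finset.sum_congr rfl fun n _ => ?_
    rw [gmChar_apply, gmChar_apply, neg_neg, inv_zpow']

theorem P_eq_zero_of_mem_Psub_inv (hρ : IsAlg ρ) (d : WtDec.Dec (gmChar K) (ρ.comp (cochPt lam)))
    {m : ℤ} {v : V} (hv : v ∈ cwt lam ρ m) {g : Pt K A} (hg : g ∈ Psub (invCoch lam)) {n : ℤ}
    (hn : m < n) : d.P n (ρ g v) = 0 := by
  have := P_eq_zero_of_mem_Psub hρ (decInv d) (m := -m) (v := v)
    (by rw [mem_cwt_invCoch, neg_neg]; exact hv) hg (n := -n) (by lia)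
  change d.P (- -n) (ρ g v) = 0 at this
  rwa [neg_neg] at this

theorem P_eq_self_of_mem_Usub_inv (hρ : IsAlg ρ) (d : WtDec.Dec (gmChar K) (ρ.comp (cochPt lam)))
    {m : ℤ} {v : V} (hv : v ∈ cwt lam ρ m) {g : Pt K A} (hg : g ∈ Usub (invCoch lam)) :
    d.P m (ρ g v) = v := by
  have := P_eq_self_of_mem_Usub hρ (decInv d) (m := -m) (v := v)
    (by rw [mem_cwt_invCoch, neg_neg]; exact hv) hg
  change d.P (- -m) (ρ g v) = v at this
  rwa [neg_neg] at this

end Act

section Top

variable {K : Type u} [Field K] [IsAlgClosed K] {A : Type u} [CommRing A] [HopfAlgebra K A]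
  {V : Type w} [AddCommGroup V] [Module K V] [FiniteDimensional K V] {lam : A →ₐc[K] K[T;T⁻¹]}
  {ρ : Representation K (Pt K A) V}

/-- `P(λ)` preserves the top weight space. -/
theorem mem_top_of_mem_Psub (hρ : IsAlg ρ) {N : ℤ} (htop : ∀ n, N < n → cwt lam ρ n = ⊥) {v : V}
    (hv : v ∈ cwt lam ρ N) {g : Pt K A} (hg : g ∈ Psub lam) : ρ g v ∈ cwt lam ρ N := by
  classical
  obtain ⟨d⟩ := nonempty_cochDec lam hρ
  have : ρ g v = d.P N (ρ g v) := by
    conv_lhs => rw [← d.sum_P (ρ g v)]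
    by_cases hN : N ∈ d.S
    · refine Finset.sum_eq_single N (fun n _ hn => ?_) (fun h => absurd hN h)
      rcases lt_or_gt_of_ne hn with h | h
      · exact P_eq_zero_of_mem_Psub hρ d hv hg h
      · have h1 := d.P_mem gmChar_injective n (ρ g v)
        rw [show WtDec.wt (gmChar K) (ρ.comp (cochPt lam)) n = ⊥ from htop n h] at h1
        exact (Submodule.mem_bot K).mp h1
    · rw [d.P_eq_zero N hN, LinearMap.zero_apply]
      refine Finset.sum_eq_zero fun n hn => ?_
      have hne : n ≠ N := fun h => hN (h ▸ hn)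
      rcases lt_or_gt_of_ne hne with h | h
      · exact P_eq_zero_of_mem_Psub hρ d hv hg h
      · have h1 := d.P_mem gmChar_injective n (ρ g v)
        rw [show WtDec.wt (gmChar K) (ρ.comp (cochPt lam)) n = ⊥ from htop n h] at h1
        exact (Submodule.mem_bot K).mp h1
  rw [this]
  exact d.P_mem gmChar_injective N _

/-- `U(λ)` fixes the top weight space. -/
theorem eq_of_mem_Usub (hρ : IsAlg ρ) {N : ℤ} (htop : ∀ n, N < n → cwt lam ρ n = ⊥) {v : V}
    (hv : v ∈ cwt lam ρ N) {g : Pt K A} (hg : g ∈ Usub lam) : ρ g v = v := by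
  obtain ⟨d⟩ := nonempty_cochDec lam hρ
  have h1 := mem_top_of_mem_Psub hρ htop hv (usub_le_psub_187 hg)
  rw [← d.P_of_mem gmChar_injective h1]
  exact P_eq_self_of_mem_Usub hρ d hv hg

/-- The top weight space of a simple representation is a simple `Z(λ)`-module (given that
`U(-λ)P(λ)` is dense and `P(λ) = Z(λ)U(λ)`). -/
theorem topSpace_simple (hρ : IsAlg ρ) (hs : IsSimpleRep ρ)
    (hZU : ∀ p ∈ Psub lam, ∃ z ∈ Zsub lam, ∃ u ∈ Usub lam, p = z * u)
    (hd : ∀ a : A, (∀ u ∈ Usub (invCoch lam), ∀ p ∈ Psub lam, (u * p) a = 0) →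
      ∀ g : Pt K A, g a = 0)
    {N : ℤ} (htop : ∀ n, N < n → cwt lam ρ n = ⊥) {W : Submodule K V} (hW : W ≤ cwt lam ρ N)
    (hWZ : ∀ z ∈ Zsub lam, ∀ x ∈ W, ρ z x ∈ W) : W = ⊥ ∨ W = cwt lam ρ N := by
  by_cases hW0 : W = ⊥
  · exact Or.inl hW0
  refine Or.inr (le_antisymm hW ?_)
  obtain ⟨d⟩ := nonempty_cochDec lam hρ
  obtain ⟨x, hx, hx0⟩ := Submodule.exists_mem_ne_zero_of_ne_bot hW0
  by_contra hcon
  have hW' : W.comap (d.P N) ≠ ⊤ := by
    intro h
    apply hcon
    intro y hy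
    rw [← d.P_of_mem gmChar_injective hy]
    have : y ∈ W.comap (d.P N) := h ▸ Submodule.mem_top
    exact this
  obtain ⟨g, hg⟩ := exists_orbit_notMem hs hx0 hW'
  apply hg
  rw [Submodule.mem_comap]
  by_contra hne
  obtain ⟨f, hf0, hf⟩ := Submodule.exists_le_ker_of_notMem hne
  apply hf0
  obtain ⟨a, ha⟩ := hρ (f ∘ₗ d.P N) x
  have h1 : f (d.P N (ρ g x)) = g a := ha g
  rw [h1]
  refine hd a (fun u hu p hp => ?_) g
  rw [← ha, LinearMap.comp_apply, map_mul, Module.End.mul_apply]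
  obtain ⟨z, hz, u', hu', rfl⟩ := hZU p hp
  have hux : ρ (z * u') x = ρ z x := by
    rw [map_mul, Module.End.mul_apply, eq_of_mem_Usub hρ htop (hW hx) hu']
  have hzx : ρ z x ∈ W := hWZ z hz x hx
  rw [hux, P_eq_self_of_mem_Usub_inv hρ d (hW hzx) hu]
  exact LinearMap.mem_ker.mp (hf hzx)

end Top

end Groth.Agent.Sga3B.RG
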