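import Groth.Agent.Sga3B.RG.Rel885
import Groth.Agent.Sga3B.RG.Rigid
import Groth.Agent.Sga3B.RG.CentralTorus
import Groth.Agent.Sga3B.RG.BrRed2

/-!
# Finiteness criteria for reductive and semisimple groups

`N` is the largest closed normal subgroup of unipotent points, `C` the preimage of the centre of
`G / N`.  The group is reductive iff `N` is finite and semisimple iff `C` is finite; finiteness of a
closed subgroup means that `1` is isolated.
-/

set_option autoImplicit false

universe u

open WithConv TensorProduct Coalgebra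

namespace Groth.Agent.Sga3B.RG.SsCrit989

variable {K : Type u} [Field K] {A : Type u} [CommRing A] [HopfAlgebra K A]

/-! ### Finite closed subgroups -/

/-- Finite irreducible subgroups are trivial. -/
lemma eq_bot_of_finite {H : Subgroup (Pt K A)} (hc : IsConn (H : Set (Pt K A)))
    (hf : (H : Set (Pt K A)).Finite) : H = ⊥ := by
  rw [eq_bot_iff]
  intro x hx
  have h1 := hc.const_of_finite_image' (fun g : Pt K A => g) (by simpa using hf)
    (fun q => isCl_singleton q) hx H.one_mem
  exact h1

/-- Finite sets of points are closed. -/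
lemma isCl_of_finite {X : Set (Pt K A)} (hX : X.Finite) : IsCl X := by
  induction X, hX using Set.Finite.induction_on with
  | empty =>
    intro x hx
    have h1 : (1 : A) ∈ vanIdeal (∅ : Set (Pt K A)) := fun _ h => absurd h (Set.notMem_empty _)
    have h2 := hx 1 h1
    have h3 : x (1 : A) = 1 := map_one x.ofConv
    rw [h3] at h2
    exact absurd h2 one_ne_zero
  | insert _ _ ih =>
    rw [Set.insert_eq]
    exact (isCl_singleton _).union ih

variable [IsAlgClosed K] [Algebra.FiniteType K A]

lemma finite_iff_idComp {H : Subgroup (Pt K A)} (hcl : IsCl (H : Set (Pt K A))) :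
    (H : Set (Pt K A)).Finite ↔ idComp H = ⊥ := by
  constructor
  · intro h
    exact eq_bot_of_finite (isConn_idComp H) (h.subset (idComp_le hcl))
  · intro h
    have h1 := relIndex_idComp_ne_zero hcl
    rw [h, Subgroup.relIndex_bot_left] at h1
    have h2 := Nat.finite_of_card_ne_zero h1
    exact Set.toFinite _

/-- A closed subgroup is finite iff `1` is isolated in it. -/
theorem finite_iff_isolated {H : Subgroup (Pt K A)} (hcl : IsCl (H : Set (Pt K A))) :
    (H : Set (Pt K A)).Finite ↔
      ∃ a : A, (1 : Pt K A) a ≠ 0 ∧ ∀ g ∈ H, g a ≠ 0 → g = 1 := by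
  constructor
  · intro h
    have h1 : IsCl ((H : Set (Pt K A)) \ {1}) := isCl_of_finite (h.subset Set.sdiff_subset)
    by_contra! hcon
    have h2 : (1 : Pt K A) ∈ (H : Set (Pt K A)) \ {1} := by
      apply h1
      intro a ha
      by_contra hne
      obtain ⟨g, hg, hga, hg1⟩ := hcon a hne
      exact hga (ha g ⟨hg, hg1⟩)
    exact h2.2 rfl
  · rintro ⟨a, ha, hH⟩
    rw [finite_iff_idComp hcl, eq_bot_iff]
    intro x hx
    rw [Subgroup.mem_bot]
    have h1 : IsCl ({1} : Set (Pt K A)) := isCl_singleton 1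
    have h2 : x ∈ ({1} : Set (Pt K A)) := by
      apply h1
      intro b hb
      have h3 : (1 : Pt K A) b = 0 := hb 1 rfl
      rcases (isConn_iff.1 (isConn_idComp H)).2 a b (fun g hg => by
        by_cases hga : g a = 0
        · exact Or.inl hga
        · right
          rw [hH g (idComp_le hcl hg) hga, h3]) with h | h
      · exact absurd (h 1 (idComp H).one_mem) ha
      · exact h x hx
    exact h2

/-! ### The largest normal unipotent subgroup -/

/-- `N` is the largest closed normal subgroup consisting of unipotent points. -/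
structure IsNU (N : Subgroup (Pt K A)) : Prop where
  normal : N.Normal
  isCl : IsCl (N : Set (Pt K A))
  isUnip : ∀ g ∈ N, IsUnip g
  le : ∀ U : Subgroup (Pt K A), U.Normal → IsCl (U : Set (Pt K A)) → (∀ g ∈ U, IsUnip g) → U ≤ N

/-- **K1.** The group is reductive iff its largest normal unipotent subgroup is finite. -/
theorem isRedPt_iff {N : Subgroup (Pt K A)} (hN : IsNU N) :
    IsRedPt K A ↔ (N : Set (Pt K A)).Finite := by
  constructor
  · intro h
    rw [finite_iff_idComp hN.isCl]
    exact h _ (normal_idComp hN.isCl hN.normal) (isCl_idComp N) (isConn_idComp N)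
      (fun g hg => hN.isUnip g (idComp_le hN.isCl hg))
  · intro h U hU hcl hconn hu
    exact eq_bot_of_finite hconn (h.subset (hN.le U hU hcl hu))

omit [IsAlgClosed K] [Algebra.FiniteType K A] in
/-- The elements commuting with everything modulo `N`. -/
def centMod (N : Subgroup (Pt K A)) (hN : N.Normal) : Subgroup (Pt K A) where
  carrier := {g | ∀ h, g * h * g⁻¹ * h⁻¹ ∈ N}
  one_mem' := fun h => by
    have : 1 * h * (1 : Pt K A)⁻¹ * h⁻¹ = 1 := by group
    rw [this]; exact N.one_mem
  mul_mem' := by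
    intro g g' hg hg' h
    have : g * g' * h * (g * g')⁻¹ * h⁻¹ =
        (g * (g' * h * g'⁻¹ * h⁻¹) * g⁻¹) * (g * h * g⁻¹ * h⁻¹) := by group
    rw [this]
    exact N.mul_mem (hN.conj_mem _ (hg' h) g) (hg h)
  inv_mem' := by
    intro g hg h
    have h1 := hN.conj_mem _ (N.inv_mem (hg h)) g⁻¹
    have : g⁻¹ * h * g⁻¹⁻¹ * h⁻¹ = g⁻¹ * (g * h * g⁻¹ * h⁻¹)⁻¹ * g⁻¹⁻¹ := by group
    rw [this]
    exact h1

omit [IsAlgClosed K] [Algebra.FiniteType K A] in
lemma mem_centMod {N : Subgroup (Pt K A)} (hN : N.Normal) {g : Pt K A} :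
    g ∈ centMod N hN ↔ ∀ h, g * h * g⁻¹ * h⁻¹ ∈ N := Iff.rfl

omit [IsAlgClosed K] [Algebra.FiniteType K A] in
lemma isCl_centMod {N : Subgroup (Pt K A)} (hN : N.Normal) (hcl : IsCl (N : Set (Pt K A))) :
    IsCl (centMod N hN : Set (Pt K A)) := by
  have : (centMod N hN : Set (Pt K A)) =
      ⋂ h : Pt K A, (fun g : Pt K A => g * h * g⁻¹ * h⁻¹) ⁻¹' (N : Set (Pt K A)) := by
    ext g
    simp [mem_centMod]
  rw [this]
  exact isCl_iInter fun h => ((isReg_conjArg h).mul_const _).isCl_preimage hcl

omit [IsAlgClosed K] [Algebra.FiniteType K A] in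
lemma normal_centMod {N : Subgroup (Pt K A)} (hN : N.Normal) : (centMod N hN).Normal := by
  refine ⟨fun g hg x h => ?_⟩
  have h1 := hN.conj_mem _ (hg (x⁻¹ * h * x)) x
  have : x * g * x⁻¹ * h * (x * g * x⁻¹)⁻¹ * h⁻¹ =
      x * (g * (x⁻¹ * h * x) * g⁻¹ * (x⁻¹ * h * x)⁻¹) * x⁻¹ := by group
  rw [this]
  exact h1

omit [IsAlgClosed K] [Algebra.FiniteType K A] in
lemma le_centMod {N : Subgroup (Pt K A)} (hN : N.Normal) : N ≤ centMod N hN := by
  intro g hg h
  have h1 := hN.conj_mem _ (N.inv_mem hg) h
  have : g * h * g⁻¹ * h⁻¹ = g * (h * g⁻¹ * h⁻¹) := by group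
  rw [this]
  exact N.mul_mem hg h1

/-- A closed connected subgroup without nontrivial tori consists of unipotent points. -/
theorem isUnip_of_forall_isTorusSub [IsReduced A] {H : Subgroup (Pt K A)} (hcl : IsCl (H : Set (Pt K A)))
    (hconn : IsConn (H : Set (Pt K A))) (h : ∀ T : Subgroup (Pt K A), IsTorusSub T → T ≤ H → T = ⊥) :
    ∀ g ∈ H, IsUnip g := by
  have hprime : (vanIdeal (H : Set (Pt K A))).IsPrime := hconn
  have hrange := range_quotMap_vanIdeal (K := K) H hcl
  obtain ⟨T, hT⟩ := exists_isMaxTorusSub K (A ⧸ vanIdeal (H : Set (Pt K A)))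
  have hφ : Function.Surjective (Bialgebra.Quotient.mkBialgHom (R := K)
    (vanIdeal (H : Set (Pt K A)))) := Ideal.Quotient.mk_surjective
  have hT1 : T.map (quotMap (vanIdeal (H : Set (Pt K A)))) = ⊥ := by
    apply h
    · exact (isTorusSub_map_iff hφ).2 hT.1
    · refine le_trans ?_ hrange.le
      rintro _ ⟨x, -, rfl⟩
      exact ⟨x, rfl⟩
  have hinj : Function.Injective (quotMap (K := K) (vanIdeal (H : Set (Pt K A)))) :=
    Pt.map_injective hφ
  have hT2 : T = ⊥ := by
    rw [eq_bot_iff]
    intro x hx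
    have h1 : quotMap (vanIdeal (H : Set (Pt K A))) x ∈
        T.map (quotMap (vanIdeal (H : Set (Pt K A)))) := ⟨x, hx, rfl⟩
    rw [hT1, Subgroup.mem_bot] at h1
    rw [Subgroup.mem_bot]
    apply hinj
    rw [h1, map_one]
  intro g hg
  rw [← hrange] at hg
  obtain ⟨x, rfl⟩ := hg
  obtain ⟨s, hs, v, hv, rfl⟩ := CentralTorus.exists_mul_unip hT (by rw [hT2]; exact bot_le) x
  rw [hT2, Subgroup.mem_bot] at hs
  rw [hs, one_mul]
  exact (isUnip_map_iff hφ).2 hv

/-- **K2.** The group is semisimple (reductive without nontrivial normal tori) iff `C` is finite. -/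
theorem isSemisimple_iff [IsDomain A] {N : Subgroup (Pt K A)} (hN : IsNU N) :
    (IsRedPt K A ∧ ∀ T : Subgroup (Pt K A), T.Normal → IsTorusSub T → T = ⊥) ↔
      (centMod N hN.normal : Set (Pt K A)).Finite := by
  have hcl := isCl_centMod hN.normal hN.isCl
  have huniv : IsConn (Set.univ : Set (Pt K A)) := isConn_univ
  constructor
  · rintro ⟨hred, htor⟩
    have hfin := (isRedPt_iff hN).1 hred
    rw [finite_iff_idComp hcl]
    set D := idComp (centMod N hN.normal) with hD
    have hDcl : IsCl (D : Set (Pt K A)) := isCl_idComp _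
    have hDconn : IsConn (D : Set (Pt K A)) := isConn_idComp _
    have hDn : D.Normal := normal_idComp hcl (normal_centMod hN.normal)
    -- `D` is central
    have hcent : ∀ x ∈ D, ∀ y : Pt K A, x * y = y * x := by
      intro x hx y
      refine hDconn.commute_of_finite_conj D.one_mem y ?_ x hx
      refine (hfin.image (fun n => n * y)).subset ?_
      rintro _ ⟨g, hg, rfl⟩
      exact ⟨g * y * g⁻¹ * y⁻¹, idComp_le hcl hg y, by group⟩
    apply hred D hDn hDcl hDconn
    apply isUnip_of_forall_isTorusSub hDcl hDconn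
    intro T hT hTD
    apply htor T _ hT
    refine ⟨fun t ht g => ?_⟩
    have h1 := hcent t (hTD ht) g
    have : g * t * g⁻¹ = t := by rw [← h1]; group
    rw [this]; exact ht
  · intro hfin
    refine ⟨(isRedPt_iff hN).2 (hfin.subset (le_centMod hN.normal)), fun T hTn hT => ?_⟩
    have h1 := Rigid.le_center_of_normal hT hTn huniv
    apply eq_bot_of_finite hT.isConn
    refine hfin.subset fun t ht h => ?_
    have h2 := (Subgroup.mem_center_iff.1 (h1 ht)) h
    have : t * h * t⁻¹ * h⁻¹ = 1 := by rw [← h2]; group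
    rw [this]
    exact N.one_mem

/-- K1 in scheme form. -/
theorem isReductiveOver_iff [IsDomain A] {N : Subgroup (Pt K A)} (hN : IsNU N) :
    Red.IsReductiveOver K (Books.AffBridge.SpecOver K A) ↔ (N : Set (Pt K A)).Finite := by
  rw [BrRed2.isReductiveOver_iff, isRedPt_iff hN]
  exact ⟨fun h => h.2, fun h => ⟨inferInstance, h⟩⟩

/-- K2 in scheme form. -/
theorem isSemisimpleOver_iff [IsDomain A] {N : Subgroup (Pt K A)} (hN : IsNU N) :
    Red.IsSemisimpleOver K (Books.AffBridge.SpecOver K A) ↔
      (centMod N hN.normal : Set (Pt K A)).Finite := by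
  rw [BrRed2.isSemisimpleOver_iff, ← isSemisimple_iff hN]
  exact ⟨fun h => h.2, fun h => ⟨inferInstance, h⟩⟩

end Groth.Agent.Sga3B.RG.SsCrit989
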