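import Mathlib.GroupTheory.QuotientGroup.Basic
import Mathlib.GroupTheory.Index
import Mathlib.Algebra.BigOperators.Group.Finset.Basic
import Mathlib.Algebra.Group.Subgroup.Pointwise
import Mathlib.Tactic.Group

/-!
# Conjugating a finite group into a complement by averaging
-/

set_option autoImplicit false

open scoped BigOperators

namespace Groth.Agent.Sga3B.RG

/-- **Averaging in an abelian normal subgroup.** Two homomorphisms `s, f` from a finite group `F`
which agree modulo an abelian normal subgroup `A`, uniquely divisible by `|F|`, are conjugate under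
`A`. -/
theorem exists_conj_of_abelian {G F : Type*} [Group G] [Group F] [Finite F] (A : Subgroup G)
    (hA : A.Normal) (hcomm : ∀ x ∈ A, ∀ y ∈ A, x * y = y * x)
    (hdiv : ∀ x ∈ A, ∃ y ∈ A, y ^ Nat.card F = x)
    (huniq : ∀ x ∈ A, x ^ Nat.card F = 1 → x = 1)
    (s f : F →* G) (hsf : ∀ x, (s x)⁻¹ * f x ∈ A) :
    ∃ c ∈ A, ∀ x, c * f x * c⁻¹ = s x := by
  let _ : Fintype F := Fintype.ofFinite F
  rw [Nat.card_eq_fintype_card] at hdiv huniq
  let _ : CommGroup A := { (inferInstance : Group A) with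
    mul_comm := fun a b => Subtype.ext (hcomm a a.2 b b.2) }
  -- the cocycle
  let u : F → A := fun x => ⟨(s x)⁻¹ * f x, hsf x⟩
  -- the action
  let act : G → A →* A := fun g =>
    { toFun := fun a => ⟨g⁻¹ * a * g, by simpa using hA.conj_mem a a.2 g⁻¹⟩
      map_one' := by ext; simp
      map_mul' := by intro a b; ext; simp [mul_assoc] }
  have hcoc : ∀ x y, u (x * y) = act (s y) (u x) * u y := by
    intro x y
    ext
    simp [u, act, mul_assoc]
  obtain ⟨c, hc, hcT⟩ := hdiv (∏ x, u x : A) (∏ x, u x : A).2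
  have hcT' : (⟨c, hc⟩ : A) ^ Fintype.card F = ∏ x, u x := Subtype.ext hcT
  refine ⟨c, hc, fun y => ?_⟩
  have key : (∏ x, u x) = act (s y) (∏ x, u x) * (u y) ^ Fintype.card F := by
    calc (∏ x, u x) = ∏ x, u (x * y) := (Equiv.prod_comp (Equiv.mulRight y) u).symm
      _ = ∏ x, (act (s y) (u x) * u y) := Finset.prod_congr rfl fun x _ => hcoc x y
      _ = act (s y) (∏ x, u x) * (u y) ^ Fintype.card F := by
        rw [Finset.prod_mul_distrib, map_prod, Finset.prod_const, Finset.card_univ]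
  rw [← hcT', map_pow, ← mul_pow] at key
  have h1 : ((⟨c, hc⟩ : A) * (act (s y) ⟨c, hc⟩ * u y)⁻¹) ^ Fintype.card F = 1 := by
    rw [mul_pow, inv_pow, ← key, mul_inv_cancel]
  have h2 : (⟨c, hc⟩ : A) * (act (s y) ⟨c, hc⟩ * u y)⁻¹ = 1 := by
    apply Subtype.ext
    apply huniq _ (Subtype.property _)
    exact congrArg Subtype.val h1
  have h3 : (⟨c, hc⟩ : A) = act (s y) ⟨c, hc⟩ * u y := mul_inv_eq_one.mp h2
  have h4 : c = (s y)⁻¹ * c * s y * ((s y)⁻¹ * f y) := congrArg Subtype.val h3
  have h5 : s y * c = c * f y :=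
    calc s y * c = s y * ((s y)⁻¹ * c * s y * ((s y)⁻¹ * f y)) := congrArg (s y * ·) h4
      _ = c * f y := by group
  rw [← h5]
  group

/-- **Averaging in a filtered normal subgroup.**  `N 0 ⊇ N 1 ⊇ …` normal subgroups of `G` with
abelian quotients, uniquely divisible by `|F|`, and eventually trivial.  Two homomorphisms
`s f : F →* G` from a finite group which agree modulo `N 0` are conjugate under `N 0`. -/
theorem exists_conj_of_filtration {G F : Type*} [Group G] [Group F] [Finite F]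
    (N : ℕ → Subgroup G) (hN : ∀ k, (N k).Normal) (hanti : ∀ k, N (k + 1) ≤ N k)
    (r : ℕ) (hr : N r = ⊥)
    (hcomm : ∀ k, ∀ x ∈ N k, ∀ y ∈ N k, x * y * x⁻¹ * y⁻¹ ∈ N (k + 1))
    (hdiv : ∀ k, ∀ x ∈ N k, ∃ y ∈ N k, x⁻¹ * y ^ Nat.card F ∈ N (k + 1))
    (huniq : ∀ k, ∀ x ∈ N k, x ^ Nat.card F ∈ N (k + 1) → x ∈ N (k + 1))
    (s f : F →* G) (hsf : ∀ x, (s x)⁻¹ * f x ∈ N 0) :
    ∃ c ∈ N 0, ∀ x, c * f x * c⁻¹ = s x := by
  have main : ∀ k, ∃ c ∈ N 0, ∀ x, (s x)⁻¹ * (c * f x * c⁻¹) ∈ N k := by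
    intro k
    induction k with
    | zero => exact ⟨1, one_mem _, fun x => by simpa using hsf x⟩
    | succ k ih =>
      obtain ⟨c, hc, h⟩ := ih
      have := hN (k + 1)
      have := hN k
      have hle : ∀ j, N j ≤ N 0 := by
        intro j
        induction j with
        | zero => exact le_rfl
        | succ j ih => exact (hanti j).trans ih
      let π := QuotientGroup.mk' (N (k + 1))
      have hπ : ∀ x, π x = 1 ↔ x ∈ N (k + 1) := fun x => by
        rw [← MonoidHom.mem_ker, QuotientGroup.ker_mk']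
      let f' : F →* G := (MulAut.conj c).toMonoidHom.comp f
      have hf' : ∀ x, f' x = c * f x * c⁻¹ := fun x => rfl
      obtain ⟨d, hd, hd'⟩ := exists_conj_of_abelian (G := G ⧸ N (k + 1)) ((N k).map π)
        ((hN k).map π (QuotientGroup.mk'_surjective _)) (by
          rintro _ ⟨x, hx, rfl⟩ _ ⟨y, hy, rfl⟩
          have h1 := (hπ _).mpr (hcomm k x hx y hy)
          rw [map_mul, map_mul, map_mul, map_inv, map_inv] at h1
          rw [← mul_inv_eq_one, mul_inv_rev, ← mul_assoc]
          exact h1) (by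
          rintro _ ⟨x, hx, rfl⟩
          obtain ⟨y, hy, h1⟩ := hdiv k x hx
          refine ⟨π y, ⟨y, hy, rfl⟩, ?_⟩
          have h2 := (hπ _).mpr h1
          rw [map_mul, map_inv, map_pow, inv_mul_eq_one] at h2
          exact h2.symm) (by
          rintro _ ⟨x, hx, rfl⟩ h1
          rw [← map_pow, hπ] at h1
          exact (hπ _).mpr (huniq k x hx h1))
        (π.comp s) (π.comp f') (fun x => ⟨_, h x, by simp [hf']⟩)
      obtain ⟨e, he, rfl⟩ := hd
      refine ⟨e * c, mul_mem (hle k he) hc, fun x => ?_⟩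
      rw [← hπ]
      have h1 := hd' x
      simp only [MonoidHom.comp_apply, hf'] at h1
      rw [← map_mul, ← map_inv, ← map_mul] at h1
      rw [map_mul, map_inv, ← h1, ← map_inv, ← map_mul]
      rw [show (e * (c * f x * c⁻¹) * e⁻¹)⁻¹ * (e * c * f x * (e * c)⁻¹) = 1 by group]
      exact map_one _
  obtain ⟨c, hc, h⟩ := main r
  refine ⟨c, hc, fun x => ?_⟩
  have := h x
  rw [hr, Subgroup.mem_bot, inv_mul_eq_one] at this
  exact this.symm

end Groth.Agent.Sga3B.RG
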