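import Groth.Agent.Sga3B.RG.TorAvg
import Mathlib.Algebra.Algebra.Basic
import Mathlib.Algebra.CharP.Lemmas
import Mathlib.LinearAlgebra.Span.Basic
import Mathlib.Algebra.Module.Submodule.Basic
import Mathlib.Tactic.NoncommRing

/-!
# Averaging for groups acting unipotently along a filtration
-/

set_option autoImplicit false

namespace Groth.Agent.Sga3B.RG

section Ring

variable {K R G : Type*} [Field K] [Ring R] [Algebra K R] [Group G]

/-- The filtration of a subgroup `N` acting unipotently, induced by a filtration by ideals. -/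
def unipFilt (N : Subgroup G) (ρ : G →* R) (J : ℕ → Submodule K R)
    (hleft : ∀ (g : G) (k : ℕ), ∀ x ∈ J k, ρ g * x ∈ J k) (k : ℕ) : Subgroup G where
  carrier := {g | g ∈ N ∧ ρ g - 1 ∈ J k}
  mul_mem' := by
    rintro a b ⟨ha, ha'⟩ ⟨hb, hb'⟩
    refine ⟨mul_mem ha hb, ?_⟩
    have h := (J k).add_mem (hleft a k _ hb') ha'
    rwa [show ρ a * (ρ b - 1) + (ρ a - 1) = ρ (a * b) - 1 by rw [map_mul]; noncomm_ring] at h
  one_mem' := ⟨one_mem _, by rw [map_one, sub_self]; exact zero_mem _⟩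
  inv_mem' := by
    rintro a ⟨ha, ha'⟩
    refine ⟨inv_mem ha, ?_⟩
    have h := (J k).neg_mem (hleft a⁻¹ k _ ha')
    rwa [mul_sub, ← map_mul, inv_mul_cancel, map_one, mul_one, neg_sub] at h

lemma mem_unipFilt {N : Subgroup G} {ρ : G →* R} {J : ℕ → Submodule K R}
    {hleft : ∀ (g : G) (k : ℕ), ∀ x ∈ J k, ρ g * x ∈ J k} {k : ℕ} {g : G} :
    g ∈ unipFilt N ρ J hleft k ↔ g ∈ N ∧ ρ g - 1 ∈ J k := Iff.rfl

lemma pow_sub_one_mem {J : Submodule K R} {y : R} (hleft : ∀ x ∈ J, y * x ∈ J)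
    (hsq : (y - 1) * (y - 1) ∈ J) (m : ℕ) : y ^ m - 1 - (m : K) • (y - 1) ∈ J := by
  induction m with
  | zero => simp
  | succ m ih =>
    have h := J.add_mem (hleft _ ih) (J.smul_mem (m : K) hsq)
    have e : (m : K) • ((y - 1) * (y - 1)) = (m : K) • (y * (y - 1)) - (m : K) • (y - 1) := by
      rw [← smul_sub]; congr 1; noncomm_ring
    convert h using 1
    rw [e, Nat.cast_succ, add_smul, one_smul, mul_sub y (_ - _), mul_sub y (_ ^ _), mul_smul_comm,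
      ← pow_succ', mul_one]
    abel

/-- **Averaging for a group acting along a filtration**. -/
theorem exists_conj_of_ring {F : Type*} [Group F] [Finite F] (N : Subgroup G) (hNn : N.Normal)
    (ρ : G →* R) (hρ : Function.Injective ρ) (J : ℕ → Submodule K R)
    (hleft : ∀ (g : G) (k : ℕ), ∀ x ∈ J k, ρ g * x ∈ J k)
    (hright : ∀ (g : G) (k : ℕ), ∀ x ∈ J k, x * ρ g ∈ J k)
    (hanti : ∀ k, J (k + 1) ≤ J k)
    (hsq : ∀ k, ∀ x ∈ J k, ∀ y ∈ J k, x * y ∈ J (k + 1))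
    (r : ℕ) (hr : J r = ⊥) (hNJ : ∀ g ∈ N, ρ g - 1 ∈ J 0)
    (hm : (Nat.card F : K) ≠ 0)
    (hroot : ∀ g ∈ N, ∃ h ∈ N, h ^ Nat.card F = g ∧ ∀ k, ρ g - 1 ∈ J k → ρ h - 1 ∈ J k)
    (s f : F →* G) (hsf : ∀ x, (s x)⁻¹ * f x ∈ N) :
    ∃ c ∈ N, ∀ x, c * f x * c⁻¹ = s x := by
  obtain ⟨c, hc, h⟩ := exists_conj_of_filtration (unipFilt N ρ J hleft)
    (fun k => ⟨fun n hn g => ⟨hNn.conj_mem n hn.1 g, by
      have h := hright g⁻¹ k _ (hleft g k _ hn.2)
      rwa [mul_sub, mul_one, sub_mul, ← map_mul, ← map_mul, ← map_mul, mul_inv_cancel, map_one]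
        at h⟩⟩)
    (fun k g hg => ⟨hg.1, hanti k hg.2⟩) r (by
      rw [eq_bot_iff]
      intro g hg
      have h1 := hg.2
      rw [hr, Submodule.mem_bot, sub_eq_zero] at h1
      exact hρ (by rw [h1, map_one]))
    (fun k x hx y hy => ⟨mul_mem (mul_mem (mul_mem hx.1 hy.1) (inv_mem hx.1)) (inv_mem hy.1), by
      have h1 := (J (k + 1)).sub_mem (hsq k _ hx.2 _ hy.2) (hsq k _ hy.2 _ hx.2)
      have h2 := hright (y⁻¹) (k + 1) _ (hright (x⁻¹) (k + 1) _ h1)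
      have h3 : ((ρ x - 1) * (ρ y - 1) - (ρ y - 1) * (ρ x - 1)) * ρ x⁻¹ * ρ y⁻¹ =
          ρ (x * y * x⁻¹ * y⁻¹) - 1 := by
        have h4 : (ρ x - 1) * (ρ y - 1) - (ρ y - 1) * (ρ x - 1) = ρ (x * y) - ρ (y * x) := by
          rw [map_mul, map_mul]; noncomm_ring
        rw [h4, sub_mul, sub_mul, ← map_mul, ← map_mul, ← map_mul, ← map_mul]
        rw [show y * x * x⁻¹ * y⁻¹ = 1 by group, map_one]
      rwa [h3] at h2⟩)
    (fun k x hx => by
      obtain ⟨y, hy, h1, h2⟩ := hroot x hx.1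
      exact ⟨y, ⟨hy, h2 k hx.2⟩, by rw [h1, inv_mul_cancel]; exact one_mem _⟩)
    (fun k x hx hx' => ⟨hx.1, by
      have h1 := pow_sub_one_mem (J := J (k + 1)) (y := ρ x) (hleft x (k + 1))
        (hsq k _ hx.2 _ hx.2) (Nat.card F)
      have h2 := hx'.2
      rw [map_pow] at h2
      have h3 := (J (k + 1)).sub_mem h2 h1
      rw [sub_sub_cancel] at h3
      rwa [Submodule.smul_mem_iff _ hm] at h3⟩)
    s f (fun x => ⟨hsf x, hNJ _ (hsf x)⟩)
  exact ⟨c, hc.1, h⟩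

end Ring

end Groth.Agent.Sga3B.RG
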